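import Mathlib

/-!
# Central simple algebras: `A ⊗ Aᵐᵒᵖ ≃ End A` and the Skolem–Noether theorem
(helper library of seat helper17)
-/

set_option autoImplicit false

namespace Groth.Agent.Lib.helper17.CSA

open TensorProduct

section

variable (K : Type*) [Field K] (A : Type*) [Ring A] [Algebra K A]

/-- The range of `mulLeftRight`, as a subalgebra of `End K A`. -/
noncomputable abbrev S : Subalgebra K (Module.End K A) := (AlgHom.mulLeftRight K A).range

lemma mulLeft_mulRight_mem (a b : A) :
    (LinearMap.mulLeft K a) ∘ₗ (LinearMap.mulRight K b) ∈ S K A :=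
  ⟨a ⊗ₜ MulOpposite.op b, by ext x; simp [mul_assoc]⟩

/-- the element `x ↦ a * x * b` of `S`. -/
noncomputable def lr (a b : A) : S K A :=
  ⟨(LinearMap.mulLeft K a) ∘ₗ (LinearMap.mulRight K b), mulLeft_mulRight_mem K A a b⟩

@[simp] lemma lr_smul (a b x : A) : lr K A a b • x = a * (x * b) := rfl

theorem isSimpleModule [IsSimpleRing A] : IsSimpleModule (S K A) A := by
  rw [isSimpleModule_iff_toSpanSingleton_surjective]
  refine ⟨inferInstance, fun x hx y => ?_⟩
  obtain ⟨I, hIdef⟩ : ∃ I : TwoSidedIdeal A, ∀ z, z ∈ I ↔ ∃ s : S K A, s • x = z :=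
    ⟨TwoSidedIdeal.mk' {z | ∃ s : S K A, s • x = z}
      (Set.mem_ofPred.mpr ⟨0, by simp⟩)
      (by
        intro y z hy hz
        obtain ⟨s, rfl⟩ := Set.mem_ofPred.mp hy
        obtain ⟨t, rfl⟩ := Set.mem_ofPred.mp hz
        exact Set.mem_ofPred.mpr ⟨s + t, add_smul s t x⟩)
      (by
        intro y hy
        obtain ⟨s, rfl⟩ := Set.mem_ofPred.mp hy
        exact Set.mem_ofPred.mpr ⟨-s, neg_smul s x⟩)
      (by
        intro a y hy
        obtain ⟨s, rfl⟩ := Set.mem_ofPred.mp hy
        refine Set.mem_ofPred.mpr ⟨lr K A a 1 * s, ?_⟩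
        simp [mul_smul])
      (by
        intro y b hy
        obtain ⟨s, rfl⟩ := Set.mem_ofPred.mp hy
        refine Set.mem_ofPred.mpr ⟨lr K A 1 b * s, ?_⟩
        simp [mul_smul]),
    fun z => by rw [TwoSidedIdeal.mem_mk', Set.mem_ofPred]⟩
  have hxI : x ∈ I := (hIdef x).mpr ⟨1, by simp⟩
  have hI : I = ⊤ := by
    rcases eq_bot_or_eq_top I with h | h
    · exfalso
      rw [h] at hxI
      exact hx ((TwoSidedIdeal.mem_bot A).mp hxI)
    · exact h
  have hy : y ∈ I := by rw [hI]; trivial
  obtain ⟨s, hs⟩ := (hIdef y).mp hy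
  exact ⟨s, hs⟩

theorem end_eq_scalar [Algebra.IsCentral K A] (f : Module.End (S K A) A) :
    ∃ c : K, ∀ x, f x = c • x := by
  have h1 : ∀ a b x : A, f (a * (x * b)) = a * (f x * b) := by
    intro a b x
    have := f.map_smul (lr K A a b) x
    simpa using this
  have hc : f 1 ∈ Subalgebra.center K A := by
    rw [Subalgebra.mem_center_iff]
    intro a
    have e1 := h1 a 1 1
    have e2 := h1 1 a 1
    simp only [mul_one, one_mul] at e1 e2
    rw [← e1, e2]
  obtain ⟨c, hc'⟩ := (Algebra.IsCentral.mem_center_iff K).mp hc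
  refine ⟨c, fun x => ?_⟩
  have e1 := h1 x 1 1
  simp only [mul_one] at e1
  rw [e1, hc', Algebra.smul_def, Algebra.commutes]

theorem mulLeftRight_surjective [Algebra.IsCentral K A] [IsSimpleRing A] [FiniteDimensional K A] :
    Function.Surjective (AlgHom.mulLeftRight K A) := by
  classical
  intro g
  have := isSimpleModule K A
  let F : Module.End (Module.End (S K A) A) A :=
    { toFun := g
      map_add' := g.map_add
      map_smul' := fun φ m => by
        obtain ⟨c, hc⟩ := end_eq_scalar K A φ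
        simp [Module.End.smul_def, hc] }
  let b := Module.finBasis K A
  obtain ⟨r, hr⟩ := jacobson_density (R := S K A) F (Finset.univ.image b)
  obtain ⟨t, ht⟩ := r.2
  refine ⟨t, ?_⟩
  have ht' : (AlgHom.mulLeftRight K A) t = (r : Module.End K A) := ht
  rw [ht']
  apply b.ext
  intro i
  have := hr (b i) (Finset.mem_image_of_mem _ (Finset.mem_univ i))
  exact this.symm

theorem mulLeftRight_bijective [Algebra.IsCentral K A] [IsSimpleRing A] [FiniteDimensional K A] :
    Function.Bijective (AlgHom.mulLeftRight K A) := by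
  have hs := mulLeftRight_surjective K A
  refine ⟨?_, hs⟩
  have hfr : Module.finrank K (A ⊗[K] Aᵐᵒᵖ) = Module.finrank K (Module.End K A) := by
    rw [Module.finrank_tensorProduct, Module.finrank_linearMap,
      (MulOpposite.opLinearEquiv K : A ≃ₗ[K] Aᵐᵒᵖ).finrank_eq]
  exact (LinearMap.injective_iff_surjective_of_finrank_eq_finrank
    (f := (AlgHom.mulLeftRight K A).toLinearMap) hfr).mpr hs

/-- **Skolem–Noether** for automorphisms of a finite-dimensional central simple algebra. -/
theorem skolemNoether [Algebra.IsCentral K A] [IsSimpleRing A] [FiniteDimensional K A]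
    (φ : A ≃ₐ[K] A) : ∃ u : Aˣ, ∀ x, φ x = u * x * ((u⁻¹ : Aˣ) : A) := by
  let μ : (A ⊗[K] Aᵐᵒᵖ) ≃ₐ[K] Module.End K A :=
    AlgEquiv.ofBijective (AlgHom.mulLeftRight K A) (mulLeftRight_bijective K A)
  let τ : (A ⊗[K] Aᵐᵒᵖ) ≃ₐ[K] (A ⊗[K] Aᵐᵒᵖ) := Algebra.TensorProduct.congr φ AlgEquiv.refl
  let Φ : Module.End K A ≃ₐ[K] Module.End K A := μ.symm.trans (τ.trans μ)
  obtain ⟨T, hT⟩ := Φ.eq_linearEquivConjAlgEquiv
  have key : ∀ a b y : A, T (a * y * b) = φ a * T y * b := by
    intro a b y
    have h1 : Φ (μ (a ⊗ₜ MulOpposite.op b)) = μ (φ a ⊗ₜ MulOpposite.op b) := by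
      simp [Φ, τ]
    rw [hT, LinearEquiv.conjAlgEquiv_apply] at h1
    have h2 := congrArg (fun f : Module.End K A => f (T y)) h1
    simpa [μ] using h2
  set u := T 1 with hu
  have hTb : ∀ b, T b = u * b := by
    intro b
    have := key 1 b 1
    simpa using this
  have hTa : ∀ a, T a = φ a * u := by
    intro a
    have := key a 1 1
    simpa using this
  obtain ⟨v, hv⟩ := T.surjective 1
  have huv : u * v = 1 := by rw [← hTb]; exact hv
  have hvu : v * u = 1 := by
    apply T.injective
    rw [hTb, hTb, ← mul_assoc, huv, one_mul, mul_one]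
  refine ⟨⟨u, v, huv, hvu⟩, fun x => ?_⟩
  show φ x = u * x * v
  rw [← hTb, hTa, mul_assoc, huv, mul_one]

end

section

/-- **Skolem–Noether** for ring automorphisms of a finite-dimensional simple algebra which fix the
centre pointwise. -/
theorem skolemNoether_of_fix_center (k : Type*) [Field k] (A : Type*) [Ring A] [Algebra k A]
    [IsSimpleRing A] [FiniteDimensional k A] (φ : A ≃+* A)
    (hφ : ∀ c ∈ Subring.center A, φ c = c) :
    ∃ u : Aˣ, ∀ x, φ x = u * x * ((u⁻¹ : Aˣ) : A) := by
  let _ : Field (Subring.center A) := (IsSimpleRing.isField_center A).toField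
  let _ : Algebra k (Subring.center A) :=
    ((algebraMap k A).codRestrict (Subring.center A) (fun c => by
      rw [Subring.mem_center_iff]; intro a; exact (Algebra.commutes c a).symm)).toAlgebra
  have : IsScalarTower k (Subring.center A) A := IsScalarTower.of_algebraMap_eq (fun _ => rfl)
  have : FiniteDimensional (Subring.center A) A := Module.Finite.of_restrictScalars_finite k _ _
  have : Algebra.IsCentral (Subring.center A) A := ⟨fun x hx => by
      rw [Algebra.mem_bot]
      exact ⟨⟨x, by
        rw [Subring.mem_center_iff]; intro a; exact (Subalgebra.mem_center_iff.mp hx a)⟩, rfl⟩⟩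
  let φ' : A ≃ₐ[Subring.center A] A := AlgEquiv.ofRingEquiv (f := φ) (fun z => hφ z.1 z.2)
  exact skolemNoether (Subring.center A) A φ'

end

end Groth.Agent.Lib.helper17.CSA
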