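import Mathlib
import Groth.Agent.Lib.helper17.CSA

/-!
# Tensor products with central simple algebras
(helper library of seat helper17)
-/

set_option autoImplicit false

namespace Groth.Agent.Lib.helper17.CSA

open TensorProduct

section simple

variable (K : Type*) [Field K] (A : Type*) [Ring A] [Algebra K A]
  (B : Type*) [Ring B] [Algebra K B]

/-- `id ⊗ (x ↦ a x d)` is `y ↦ (1 ⊗ a) y (1 ⊗ d)`. -/
lemma lTensor_mulLeftRight_tmul (a : A) (d : A) (y : B ⊗[K] A) :
    LinearMap.lTensor B (AlgHom.mulLeftRight K A (a ⊗ₜ MulOpposite.op d)) y =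
      ((1 : B) ⊗ₜ[K] a) * y * ((1 : B) ⊗ₜ[K] d) := by
  induction y using TensorProduct.induction_on with
  | zero => simp
  | tmul b x => simp
  | add y z hy hz => simp [hy, hz, mul_add, add_mul]

lemma lTensor_mulLeftRight_mem (I : TwoSidedIdeal (B ⊗[K] A)) (r : A ⊗[K] Aᵐᵒᵖ)
    (y : B ⊗[K] A) (hy : y ∈ I) :
    LinearMap.lTensor B (AlgHom.mulLeftRight K A r) y ∈ I := by
  induction r using TensorProduct.induction_on with
  | zero => simp
  | tmul a d =>
    have := lTensor_mulLeftRight_tmul K A B a d.unop y
    rw [MulOpposite.op_unop] at this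
    rw [this]
    exact I.mul_mem_right _ _ (I.mul_mem_left _ _ hy)
  | add r r' hr hr' =>
    rw [map_add]
    have : LinearMap.lTensor B
        ((AlgHom.mulLeftRight K A r) + (AlgHom.mulLeftRight K A r')) y =
        LinearMap.lTensor B (AlgHom.mulLeftRight K A r) y +
        LinearMap.lTensor B (AlgHom.mulLeftRight K A r') y := by
      rw [LinearMap.lTensor_add]; rfl
    exact this ▸ I.add_mem hr hr'

/-- The tensor product of a simple algebra with a finite-dimensional central simple algebra is
simple. -/
theorem isSimpleRing_tensor [Algebra.IsCentral K A] [IsSimpleRing A] [FiniteDimensional K A]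
    [IsSimpleRing B] : IsSimpleRing (B ⊗[K] A) := by
  classical
  apply IsSimpleRing.of_eq_bot_or_eq_top
  intro I
  by_cases hI : I = ⊥
  · exact Or.inl hI
  right
  obtain ⟨x, hxI, hx0⟩ : ∃ x ∈ I, x ≠ 0 := by
    by_contra h
    push Not at h
    apply hI
    rw [eq_bot_iff]
    intro x hx
    rw [TwoSidedIdeal.mem_bot]
    exact h x hx
  let e := Module.finBasis K A
  obtain ⟨c, hc⟩ := TensorProduct.eq_repr_basis_right (M := B) e x
  have hc0 : c ≠ 0 := by
    rintro rfl
    apply hx0
    rw [← hc]
    simp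
  obtain ⟨j, hj⟩ : ∃ j, c j ≠ 0 := by
    by_contra h
    push Not at h
    exact hc0 (Finsupp.ext h)
  let f : A →ₗ[K] A := e.constr K (fun i => if i = j then (1 : A) else 0)
  obtain ⟨r, hr⟩ := mulLeftRight_surjective K A f
  have hmem := lTensor_mulLeftRight_mem K A B I r x hxI
  rw [hr] at hmem
  have hval : LinearMap.lTensor B f x = c j ⊗ₜ[K] (1 : A) := by
    rw [← hc, Finsupp.sum, map_sum]
    simp only [LinearMap.lTensor_tmul, f, Module.Basis.constr_basis]
    rw [Finset.sum_eq_single j]
    · simp
    · intro i _ hij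
      simp [hij]
    · intro hjs
      simp only [Finsupp.mem_support_iff, not_not] at hjs
      simp [hjs]
  rw [hval] at hmem
  have h1 : (1 : B) ∈ TwoSidedIdeal.comap (Algebra.TensorProduct.includeLeft : B →ₐ[K] B ⊗[K] A) I :=
    IsSimpleRing.one_mem_of_ne_zero_mem _ hj (by
      rw [TwoSidedIdeal.mem_comap]
      exact hmem)
  rw [TwoSidedIdeal.mem_comap, map_one] at h1
  exact (TwoSidedIdeal.one_mem_iff I).mp h1

end simple

section central

variable (k : Type*) [Field k] (A : Type*) [Ring A] [Algebra k A]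
  (L : Type*) [CommRing L] [Algebra k L]

/-- The base change of a central algebra over a field is central. -/
theorem isCentral_baseChange [Algebra.IsCentral k A] : Algebra.IsCentral L (L ⊗[k] A) := by
  classical
  constructor
  intro z hz
  rw [Subalgebra.mem_center_iff] at hz
  let β := Module.Free.chooseBasis k L
  let c := TensorProduct.equivFinsuppOfBasisLeft (N := A) β z
  -- each coordinate is central
  have hcoord : ∀ j, c j ∈ Subalgebra.center k A := by
    intro j
    rw [Subalgebra.mem_center_iff]
    intro a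
    have h1 : ∀ y : L ⊗[k] A, TensorProduct.equivFinsuppOfBasisLeft (N := A) β (((1 : L) ⊗ₜ[k] a) * y) j
        = a * TensorProduct.equivFinsuppOfBasisLeft (N := A) β y j := by
      intro y
      induction y using TensorProduct.induction_on with
      | zero => simp
      | tmul l x =>
        simp
      | add y y' hy hy' => simp [mul_add, hy, hy']
    have h2 : ∀ y : L ⊗[k] A, TensorProduct.equivFinsuppOfBasisLeft (N := A) β (y * ((1 : L) ⊗ₜ[k] a)) j
        = TensorProduct.equivFinsuppOfBasisLeft (N := A) β y j * a := by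
      intro y
      induction y using TensorProduct.induction_on with
      | zero => simp
      | tmul l x =>
        simp
      | add y y' hy hy' => simp [add_mul, hy, hy']
    rw [← h1 z, ← h2 z, hz]
  have hz' : z = c.sum (fun j n => β j ⊗ₜ[k] n) := by
    rw [← TensorProduct.equivFinsuppOfBasisLeft_symm_apply]
    exact ((TensorProduct.equivFinsuppOfBasisLeft (N := A) β).symm_apply_apply z).symm
  choose r hr using fun j => (Algebra.IsCentral.mem_center_iff k).mp (hcoord j)
  rw [Algebra.mem_bot]
  refine ⟨∑ j ∈ c.support, r j • β j, ?_⟩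
  rw [hz', Finsupp.sum, map_sum]
  apply Finset.sum_congr rfl
  intro j _
  rw [hr j, Algebra.TensorProduct.algebraMap_apply, Algebra.algebraMap_eq_smul_one (r j),
    TensorProduct.tmul_smul, TensorProduct.smul_tmul']
  simp

end central

section semisimple

variable (K : Type*) [Field K] (A : Type*) [Ring A] [Algebra K A]
  (B : Type*) [Ring B] [Algebra K B]

/-- the coordinates (with respect to a basis of `A`) of an element of a two-sided ideal of
`B ⊗ A` lie in the ideal -/
theorem tmul_one_mem_of_sum_mem [Algebra.IsCentral K A] [IsSimpleRing A] [FiniteDimensional K A]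
    (I : TwoSidedIdeal (B ⊗[K] A)) {ι : Type*} [Fintype ι] [DecidableEq ι]
    (e : Module.Basis ι K A) (c : ι →₀ B) (hc : (c.sum fun i m => m ⊗ₜ[K] e i) ∈ I) (j : ι) :
    c j ⊗ₜ[K] (1 : A) ∈ I := by
  let f : A →ₗ[K] A := e.constr K (fun i => if i = j then (1 : A) else 0)
  obtain ⟨r, hr⟩ := mulLeftRight_surjective K A f
  have hmem := lTensor_mulLeftRight_mem K A B I r _ hc
  rw [hr] at hmem
  have hval : LinearMap.lTensor B f (c.sum fun i m => m ⊗ₜ[K] e i) = c j ⊗ₜ[K] (1 : A) := by
    rw [Finsupp.sum, map_sum]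
    simp only [LinearMap.lTensor_tmul, f, Module.Basis.constr_basis]
    rw [Finset.sum_eq_single j]
    · simp
    · intro i _ hij
      simp [hij]
    · intro hjs
      simp only [Finsupp.mem_support_iff, not_not] at hjs
      simp [hjs]
  rwa [hval] at hmem

/-- The tensor product of a semisimple algebra with a finite-dimensional central simple algebra is
semisimple. -/
theorem isSemisimpleRing_tensor [Algebra.IsCentral K A] [IsSimpleRing A] [FiniteDimensional K A]
    [IsSemisimpleRing B] : IsSemisimpleRing (B ⊗[K] A) := by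
  classical
  have hart : IsArtinianRing (B ⊗[K] A) := IsArtinianRing.of_finite B (B ⊗[K] A)
  rw [IsArtinianRing.isSemisimpleRing_iff_jacobson]
  obtain ⟨n, hn⟩ := IsSemiprimaryRing.isNilpotent (R := B ⊗[K] A)
  set J := Ring.jacobson (B ⊗[K] A) with hJ
  have hnil : ∀ y ∈ J, y ^ n = 0 := by
    intro y hy
    have := Ideal.pow_mem_pow hy n
    rw [hn] at this
    exact this
  -- the ideal of B
  let J' : TwoSidedIdeal B :=
    TwoSidedIdeal.comap (Algebra.TensorProduct.includeLeft : B →ₐ[K] B ⊗[K] A) J.toTwoSided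
  have hJ' : ∀ b : B, b ∈ J' ↔ b ⊗ₜ[K] (1 : A) ∈ J := by
    intro b
    rw [TwoSidedIdeal.mem_comap, Ideal.mem_toTwoSided]
    rfl
  obtain ⟨f, hf, hfspan⟩ := IsSemisimpleRing.ideal_eq_span_idempotent (TwoSidedIdeal.asIdeal J')
  have hfmem : f ∈ J' := by
    have : f ∈ TwoSidedIdeal.asIdeal J' := by
      rw [hfspan]; exact Ideal.mem_span_singleton_self f
    exact (TwoSidedIdeal.mem_asIdeal).mp this
  have hinj : Function.Injective (Algebra.TensorProduct.includeLeft : B →ₐ[K] B ⊗[K] A) :=
    Algebra.TensorProduct.includeLeft_injective (FaithfulSMul.algebraMap_injective K A)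
  have hf0 : f = 0 := by
    have h1 := hnil _ ((hJ' f).mp hfmem)
    rcases Nat.eq_zero_or_pos n with h0 | hpos
    · -- n = 0 : the ring is trivial
      rw [h0, pow_zero] at h1
      apply hinj
      have : (1 : B ⊗[K] A) = 0 := h1
      calc (Algebra.TensorProduct.includeLeft : B →ₐ[K] B ⊗[K] A) f
          = (Algebra.TensorProduct.includeLeft : B →ₐ[K] B ⊗[K] A) f * 1 := (mul_one _).symm
        _ = 0 := by rw [this, mul_zero]
        _ = (Algebra.TensorProduct.includeLeft : B →ₐ[K] B ⊗[K] A) 0 := (map_zero _).symm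
    · apply hinj
      rw [map_zero]
      obtain ⟨m, rfl⟩ := Nat.exists_eq_succ_of_ne_zero hpos.ne'
      have h2 : (f ⊗ₜ[K] (1 : A)) ^ (m + 1) = f ⊗ₜ[K] (1 : A) := by
        rw [Algebra.TensorProduct.tmul_pow, one_pow, hf.pow_succ_eq]
      rw [h2] at h1
      exact h1
  have hJ'bot : ∀ b : B, b ⊗ₜ[K] (1 : A) ∈ J → b = 0 := by
    intro b hb
    have : b ∈ TwoSidedIdeal.asIdeal J' := (TwoSidedIdeal.mem_asIdeal).mpr ((hJ' b).mpr hb)
    rw [hfspan, hf0] at this
    simpa using this
  rw [eq_bot_iff]
  intro x hx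
  let e := Module.finBasis K A
  obtain ⟨c, hc⟩ := TensorProduct.eq_repr_basis_right (M := B) e x
  have hc0 : c = 0 := by
    ext j
    apply hJ'bot
    have := tmul_one_mem_of_sum_mem K A B J.toTwoSided e c (by
      rw [hc, Ideal.mem_toTwoSided]; exact hx) j
    exact Ideal.mem_toTwoSided.mp this
  rw [← hc, hc0]
  simp

end semisimple

end Groth.Agent.Lib.helper17.CSA
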