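import Groth.Statements.S7835
import Mathlib.RingTheory.Ideal.AssociatedPrime.Localization

/-!
# Noetherian one-dimensional schemes with reduced ring of global sections have no embedded points
-/

set_option autoImplicit false
set_option linter.style.haveILetI false
universe u
open CategoryTheory CategoryTheory.Limits AlgebraicGeometry TopologicalSpace Opposite

namespace Groth.Agent.Lib.helper17.NoEmb

variable (C : Scheme.{u})




/-- B0: closedness of x -/
theorem isClosed_of_dim_one (hdim : topologicalKrullDim C = 1) (x y : C) (hyx : y ⤳ x) (hne : x ≠ y) :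
    IsClosed ({x} : Set C) := by
  rw [← closure_eq_iff_isClosed]
  apply Set.Subset.antisymm _ subset_closure
  intro z hz
  rw [← specializes_iff_mem_closure] at hz
  by_contra hzx
  have hzx' : z ≠ x := hzx
  let cz : IrreducibleCloseds C := ⟨closure {z}, isIrreducible_singleton.closure, isClosed_closure⟩
  let cx : IrreducibleCloseds C := ⟨closure {x}, isIrreducible_singleton.closure, isClosed_closure⟩
  let cy : IrreducibleCloseds C := ⟨closure {y}, isIrreducible_singleton.closure, isClosed_closure⟩
  have h1 : cz < cx := by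
    refine lt_of_le_of_ne ?_ ?_
    · show closure {z} ⊆ closure {x}
      exact hz.closure_subset  
    · intro h
      have h' : closure {z} = closure ({x} : Set C) := congrArg IrreducibleCloseds.carrier h
      have : Inseparable z x := by
        rw [inseparable_iff_closure_eq]; exact h'
      exact hzx' this.eq
  have h2 : cx < cy := by
    refine lt_of_le_of_ne ?_ ?_
    · show closure {x} ⊆ closure {y}
      exact hyx.closure_subset  
    · intro h
      have h' : closure {x} = closure ({y} : Set C) := congrArg IrreducibleCloseds.carrier h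
      have : Inseparable x y := by
        rw [inseparable_iff_closure_eq]; exact h'
      exact hne this.eq
  let l : LTSeries (IrreducibleCloseds C) := LTSeries.mk 2 ![cz, cx, cy] (by
    rw [Fin.strictMono_iff_lt_succ]
    intro i
    fin_cases i
    · exact h1
    · exact h2)
  have hl : l.length = 2 := rfl
  have := Order.LTSeries.length_le_krullDim l
  rw [hl] at this
  have h3 : Order.krullDim (IrreducibleCloseds C) = 1 := hdim
  rw [h3] at this
  exact absurd this (by decide)





noncomputable def toF (U : C.Opens) (a : Γ(C, U)) :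
    (Coh.structureModule C).presheaf.obj (op U) := a

lemma toF_map {U V : C.Opens} (i : V ⟶ U) (a : Γ(C, U)) :
    (Coh.structureModule C).presheaf.map i.op (toF C U a) = toF C V (C.presheaf.map i.op a) := rfl

lemma toF_zero (U : C.Opens) : toF C U 0 = 0 := rfl

lemma germF_smul (U : C.Opens) (x : C) (hx : x ∈ U) (r a : Γ(C, U)) :
    TopCat.Presheaf.germ (Coh.structureModule C).presheaf U x hx (toF C U (r * a)) =
      (C.presheaf.germ U x hx r) •
        TopCat.Presheaf.germ (Coh.structureModule C).presheaf U x hx (toF C U a) :=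
  PresheafOfModules.germ_smul (R := C.presheaf) (M := (Coh.structureModule C).val) x U hx r
    (toF C U a)

lemma germF_eq_zero_iff (U : C.Opens) (x : C) (hx : x ∈ U) (c : Γ(C, U)) :
    TopCat.Presheaf.germ (Coh.structureModule C).presheaf U x hx (toF C U c) = 0 ↔
      C.presheaf.germ U x hx c = 0 := by
  constructor
  · intro h
    obtain ⟨W, hxW, iU, iV, hW⟩ := TopCat.Presheaf.germ_eq (Coh.structureModule C).presheaf x hx hx
      (toF C U c) (toF C U 0) (by rw [h, toF_zero, map_zero])
    rw [toF_map, toF_map] at hW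
    have hW' : C.presheaf.map iU.op c = C.presheaf.map iV.op 0 := hW
    rw [map_zero] at hW'
    rw [← TopCat.Presheaf.germ_res_apply C.presheaf iU x hxW c, hW', map_zero]
  · intro h
    obtain ⟨W, hxW, iU, iV, hW⟩ := TopCat.Presheaf.germ_eq C.presheaf x hx hx
      c 0 (by rw [h, map_zero])
    rw [map_zero] at hW
    rw [← TopCat.Presheaf.germ_res_apply (Coh.structureModule C).presheaf iU x hxW (toF C U c),
      toF_map, hW, toF_zero, map_zero]


lemma colon_eq (x : C) (W : C.Opens) (hxW : x ∈ W) (a : Γ(C, W)) :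
    (Submodule.colon (⊥ : Submodule (C.presheaf.stalk x) ((Coh.structureModule C).presheaf.stalk x))
      {TopCat.Presheaf.germ (Coh.structureModule C).presheaf W x hxW (toF C W a)}) =
    (Submodule.colon (⊥ : Submodule (C.presheaf.stalk x) (C.presheaf.stalk x))
      {C.presheaf.germ W x hxW a}) := by
  ext r
  rw [Submodule.mem_colon_singleton, Submodule.mem_colon_singleton, Submodule.mem_bot,
    Submodule.mem_bot]
  obtain ⟨V, hxV, t, rfl⟩ := TopCat.Presheaf.exists_germ_eq C.presheaf r
  let W' : C.Opens := V ⊓ W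
  have hxW' : x ∈ W' := ⟨hxV, hxW⟩
  let iV : W' ⟶ V := homOfLE inf_le_left
  let iW : W' ⟶ W := homOfLE inf_le_right
  have e1 : C.presheaf.germ V x hxV t = C.presheaf.germ W' x hxW' (C.presheaf.map iV.op t) :=
    (TopCat.Presheaf.germ_res_apply C.presheaf iV x hxW' t).symm
  have e2 : C.presheaf.germ W x hxW a = C.presheaf.germ W' x hxW' (C.presheaf.map iW.op a) :=
    (TopCat.Presheaf.germ_res_apply C.presheaf iW x hxW' a).symm
  have e3 : TopCat.Presheaf.germ (Coh.structureModule C).presheaf W x hxW (toF C W a) =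
      TopCat.Presheaf.germ (Coh.structureModule C).presheaf W' x hxW'
        (toF C W' (C.presheaf.map iW.op a)) := by
    rw [← toF_map]
    exact (TopCat.Presheaf.germ_res_apply (Coh.structureModule C).presheaf iW x hxW' _).symm
  rw [e1, e2, e3, ← germF_smul, germF_eq_zero_iff, smul_eq_mul, ← map_mul]

theorem isAssociatedPrime_stalk (x : C) (h : Curv2.IsAssPoint (Coh.structureModule C) x) :
    IsAssociatedPrime (IsLocalRing.maximalIdeal (C.presheaf.stalk x)) (C.presheaf.stalk x) := by
  obtain ⟨hprime, m, hm⟩ := h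
  obtain ⟨W, hxW, a, rfl⟩ := TopCat.Presheaf.exists_germ_eq (Coh.structureModule C).presheaf m
  refine ⟨hprime, C.presheaf.germ W x hxW (show Γ(C, W) from a), ?_⟩
  rw [hm]
  congr 1
  exact colon_eq C x W hxW (show Γ(C, W) from a)




theorem main (C : Scheme.{u}) [IsNoetherian C] (hred : IsReduced Γ(C, ⊤)) (x y : C)
    (hcl : IsClosed ({x} : Set C)) (hyx : y ⤳ x) (hne : x ≠ y)
    (hass : IsAssociatedPrime (IsLocalRing.maximalIdeal (C.presheaf.stalk x))
      (C.presheaf.stalk x)) : False := by
  obtain ⟨W0, hW0, hxW0, -⟩ := (Opens.isBasis_iff_nbhd.mp C.isBasis_affineOpens)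
    (show x ∈ (⊤ : C.Opens) from trivial)
  have hW0 : IsAffineOpen W0 := hW0
  haveI : IsNoetherianRing Γ(C, W0) := IsLocallyNoetherian.component_noetherian ⟨W0, hW0⟩
  letI alg : Algebra Γ(C, W0) (C.presheaf.stalk x) :=
    TopCat.Presheaf.algebra_section_stalk C.presheaf ⟨x, hxW0⟩
  haveI loc : IsLocalization.AtPrime (C.presheaf.stalk x) (hW0.primeIdealOf ⟨x, hxW0⟩).asIdeal :=
    hW0.isLocalization_stalk ⟨x, hxW0⟩
  have hA := Module.associatedPrimes.comap_mem_associatedPrimes_of_mem_associatedPrimes_of_isLocalizedModule_of_fg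
    (hW0.primeIdealOf ⟨x, hxW0⟩).asIdeal.primeCompl
    (Algebra.linearMap Γ(C, W0) (C.presheaf.stalk x))
    (IsLocalRing.maximalIdeal (C.presheaf.stalk x)) hass
    ((isNoetherianRing_iff_ideal_fg Γ(C, W0)).mp inferInstance _)
  obtain ⟨hIprime, a', ha'⟩ := hA
  -- membership
  have hmem : ∀ t : Γ(C, W0), x ∉ C.basicOpen t → ∃ n : ℕ, t ^ n * a' = 0 := by
    intro t ht
    have h1 : t ∈ (IsLocalRing.maximalIdeal (C.presheaf.stalk x)).comap
        (algebraMap Γ(C, W0) (C.presheaf.stalk x)) := by
      rw [Ideal.mem_comap, IsLocalRing.mem_maximalIdeal, mem_nonunits_iff]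
      intro hu
      exact ht ((C.mem_basicOpen t x hxW0).mpr hu)
    rw [ha'] at h1
    obtain ⟨n, hn⟩ := h1
    rw [Submodule.mem_colon_singleton, Submodule.mem_bot, smul_eq_mul] at hn
    exact ⟨n, hn⟩
  let Uc : C.Opens := ⟨({x} : Set C)ᶜ, hcl.isOpen_compl⟩
  have hxUc : x ∉ Uc := fun h => h rfl
  -- vanishing of germs away from x
  have hzero : ∀ (w : C) (hw : w ∈ W0), w ≠ x → C.presheaf.germ W0 w hw a' = 0 := by
    intro w hw hwx
    have hwV : w ∈ W0 ⊓ Uc := ⟨hw, hwx⟩
    obtain ⟨t, htV, hwt⟩ := hW0.exists_basicOpen_le (V := W0 ⊓ Uc) ⟨w, hwV⟩ hw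
    have hxt : x ∉ C.basicOpen t := fun h => hxUc (htV h).2
    obtain ⟨n, hn⟩ := hmem t hxt
    have hu : IsUnit (C.presheaf.germ W0 w hw t) := (C.mem_basicOpen t w hw).mp hwt
    have h2 : (C.presheaf.germ W0 w hw t) ^ n * C.presheaf.germ W0 w hw a' = 0 := by
      rw [← map_pow, ← map_mul, hn, map_zero]
    exact (hu.pow n).mul_right_eq_zero.mp h2
  have hyW0 : y ∈ W0 := hyx.mem_open W0.2 hxW0
  have hyzero := hzero y hyW0 (Ne.symm hne)
  have hxa : x ∉ C.basicOpen a' := by
    intro h
    have hy : y ∈ C.basicOpen a' := hyx.mem_open (C.basicOpen a').2 h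
    have hu := (C.mem_basicOpen a' y hyW0).mp hy
    rw [hyzero] at hu
    exact not_isUnit_zero hu
  obtain ⟨n, hn⟩ := hmem a' hxa
  have hpow : a' ^ (n + 1) = 0 := by rw [pow_succ]; exact hn
  have ha0 : a' ≠ 0 := by
    intro h0
    apply hIprime.ne_top
    rw [ha', h0]
    rw [Ideal.eq_top_iff_one]
    apply Ideal.le_radical
    rw [Submodule.mem_colon_singleton, smul_zero]
    exact Submodule.zero_mem _
  -- gluing
  let U : Bool → C.Opens := fun b => cond b W0 Uc
  let sf : ∀ b : Bool, Γ(C, U b) := fun b => match b with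
    | true => a'
    | false => 0
  have key : ∀ (b : Bool) (w : C) (hw : w ∈ U b), w ≠ x → C.presheaf.germ (U b) w hw (sf b) = 0 := by
    intro b w hw hwx
    cases b
    · exact map_zero _
    · exact hzero w hw hwx
  have hcover : (⊤ : C.Opens) ≤ iSup U := by
    intro w _
    rw [Opens.mem_iSup]
    by_cases hwx : w = x
    · exact ⟨true, hwx ▸ hxW0⟩
    · exact ⟨false, hwx⟩
  have hcompat : TopCat.Presheaf.IsCompatible C.sheaf.obj U sf := by
    intro i j
    apply TopCat.Presheaf.section_ext C.sheaf (U i ⊓ U j)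
    intro w hw
    show C.presheaf.germ (U i ⊓ U j) w hw (C.presheaf.map (Opens.infLELeft (U i) (U j)).op (sf i)) =
      C.presheaf.germ (U i ⊓ U j) w hw (C.presheaf.map (Opens.infLERight (U i) (U j)).op (sf j))
    rw [TopCat.Presheaf.germ_res_apply, TopCat.Presheaf.germ_res_apply]
    by_cases hwx : w = x
    · subst hwx
      cases i
      · exact absurd hw.1 hxUc
      · cases j
        · exact absurd hw.2 hxUc
        · rfl
    · exact (key i w hw.1 hwx).trans (key j w hw.2 hwx).symm
  obtain ⟨s, hs⟩ : ∃ s : Γ(C, ⊤),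
      ∀ b, C.presheaf.map (homOfLE le_top : U b ⟶ ⊤).op s = sf b := by
    obtain ⟨s, hs, -⟩ :=
      C.sheaf.existsUnique_gluing' U ⊤ (fun b => homOfLE le_top) hcover sf hcompat
    exact ⟨s, hs⟩
  have hspow : s ^ (n + 1) = 0 := by
    apply C.sheaf.eq_of_locally_eq' U ⊤ (fun b => homOfLE le_top) hcover
    intro b
    show C.presheaf.map (homOfLE le_top : U b ⟶ ⊤).op (s ^ (n + 1)) =
      C.presheaf.map (homOfLE le_top : U b ⟶ ⊤).op 0
    rw [map_pow, hs b, map_zero]
    cases b
    · exact zero_pow (Nat.succ_ne_zero n)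
    · exact hpow
  have hs0 : s = 0 := IsReduced.eq_zero s ⟨n + 1, hspow⟩
  have := hs true
  rw [hs0, map_zero] at this
  exact ha0 this.symm


theorem noEmbedded (C : Scheme.{u}) [IsNoetherian C]
    (hdim : topologicalKrullDim C = 1) (hred : IsReduced Γ(C, ⊤)) :
    AssSch.NoEmbedded (Coh.structureModule C) := by
  intro x hx y _ hyx
  by_contra hne
  have hcl := isClosed_of_dim_one C hdim x y hyx hne
  exact main C hred x y hcl hyx hne (isAssociatedPrime_stalk C x hx)

end Groth.Agent.Lib.helper17.NoEmb
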