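import Mathlib

/-!
# Noetherian objects in abelian categories: quotients and extensions

* `factors_of_epi_comp`
* `isNoetherianObject_of_epi`: a quotient of a noetherian object is noetherian
* `isNoetherianObject_of_exact`: extension-closedness (left exact version)
* `isNoetherianObject_biprod`
-/

open CategoryTheory CategoryTheory.Limits

namespace Groth.Agent.Lib.helper17.NoethObj

universe v u

variable {C : Type u} [Category.{v} C] [Abelian C]

/-- In an abelian category, if `e ≫ f` factors through a subobject `S` and `e` is epi,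
then `f` factors through `S`. -/
lemma factors_of_epi_comp {X W W' : C} (S : Subobject X) (e : W' ⟶ W) [Epi e] (f : W ⟶ X)
    (h : S.Factors (e ≫ f)) : S.Factors f := by
  have h0 : f ≫ cokernel.π S.arrow = 0 := by
    rw [← cancel_epi e, comp_zero, ← Category.assoc, ← Subobject.factorThru_arrow S _ h,
      Category.assoc, cokernel.condition, comp_zero]
  have := Subobject.factors_comp_arrow (P := S) (Abelian.monoLift S.arrow f h0)
  rwa [Abelian.monoLift_comp] at this

omit [Abelian C] in
lemma le_of_factors_arrow {X : C} {S T : Subobject X} (h : T.Factors S.arrow) : S ≤ T :=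
  Subobject.le_of_factors h

omit [Abelian C] in
lemma factors_arrow_of_le {X : C} {S T : Subobject X} (h : S ≤ T) : T.Factors S.arrow := by
  have := Subobject.factors_comp_arrow (P := T) (Subobject.ofLE S T h)
  rwa [Subobject.ofLE_arrow] at this

/-- Pullback of subobjects along an epimorphism reflects the order. -/
lemma le_of_pullback_le_of_epi {X Y : C} (p : X ⟶ Y) [Epi p] {S T : Subobject Y}
    (h : (Subobject.pullback p).obj S ≤ (Subobject.pullback p).obj T) : S ≤ T := by
  apply le_of_factors_arrow
  have hpb := Subobject.isPullback p S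
  have : Epi (Subobject.pullbackπ p S) :=
    Abelian.epi_fst_of_isLimit S.arrow p hpb.isLimit
  apply factors_of_epi_comp T (Subobject.pullbackπ p S)
  rw [hpb.w]
  exact (pullback_factors_iff p T _).1 (factors_arrow_of_le h)

lemma pullback_strictMono_of_epi {X Y : C} (p : X ⟶ Y) [Epi p] :
    StrictMono (Subobject.pullback p).obj := by
  intro S T hST
  refine lt_of_le_not_ge ((Subobject.pullback p).monotone hST.le) ?_
  intro h
  exact not_le_of_gt hST (le_of_pullback_le_of_epi p h)

omit [Abelian C] in
lemma isNoetherianObject_iff_wellFoundedGT (X : C) :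
    IsNoetherianObject X ↔ WellFoundedGT (Subobject X) := by
  dsimp only [IsNoetherianObject]
  rw [ObjectProperty.is_iff, isNoetherianObject]

/-- A quotient of a noetherian object is noetherian. -/
lemma isNoetherianObject_of_epi {X Y : C} (p : X ⟶ Y) [Epi p] [IsNoetherianObject X] :
    IsNoetherianObject Y := by
  rw [isNoetherianObject_iff_wellFoundedGT]
  exact StrictMono.wellFoundedGT (pullback_strictMono_of_epi p)

lemma isNoetherianObject_of_iso {X Y : C} (e : X ≅ Y) [IsNoetherianObject X] :
    IsNoetherianObject Y :=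
  isNoetherianObject_of_epi e.hom

lemma imageSubobject_comp_mono {X X'' : C} (p : X ⟶ X'') {S T : Subobject X} (h : S ≤ T) :
    imageSubobject (S.arrow ≫ p) ≤ imageSubobject (T.arrow ≫ p) := by
  have : S.arrow ≫ p = Subobject.ofLE S T h ≫ (T.arrow ≫ p) := by
    rw [← Category.assoc, Subobject.ofLE_arrow]
  calc imageSubobject (S.arrow ≫ p)
      = imageSubobject (Subobject.ofLE S T h ≫ (T.arrow ≫ p)) := by
        congr 1
    _ ≤ imageSubobject (T.arrow ≫ p) := imageSubobject_comp_le _ _

/-- The "five lemma" for subobjects: if `X' ⟶ X ⟶ X''` is left exact, a subobject `T` of `X`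
whose trace on `X'` and image in `X''` are contained in those of `S ≤ T` is contained in `S`. -/
lemma le_of_pullback_le_of_image_le {X' X X'' : C} (i : X' ⟶ X) (p : X ⟶ X'')
    (hex : ∀ {W : C} (d : W ⟶ X), d ≫ p = 0 → ∃ d', d' ≫ i = d)
    {S T : Subobject X} (hST : S ≤ T)
    (h₁ : (Subobject.pullback i).obj T ≤ (Subobject.pullback i).obj S)
    (h₂ : imageSubobject (T.arrow ≫ p) ≤ imageSubobject (S.arrow ≫ p)) : T ≤ S := by
  apply le_of_factors_arrow
  -- refine the generalized element `𝟙 T`
  obtain ⟨W', e, he, s, hs⟩ := surjective_up_to_refinements_of_epi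
    (factorThruImageSubobject (S.arrow ≫ p))
    (factorThruImageSubobject (T.arrow ≫ p) ≫ Subobject.ofLE _ _ h₂)
  have hs' : e ≫ T.arrow ≫ p = s ≫ S.arrow ≫ p := by
    have := congrArg (fun f => f ≫ (imageSubobject (S.arrow ≫ p)).arrow) hs
    simpa using this
  have := he
  apply factors_of_epi_comp S e
  -- the difference
  obtain ⟨d', hd'⟩ := hex (e ≫ T.arrow - s ≫ S.arrow) (by
    rw [Preadditive.sub_comp, Category.assoc, Category.assoc, hs', sub_self])
  have hT : T.Factors (d' ≫ i) := by
    rw [hd']
    have : e ≫ T.arrow - s ≫ S.arrow = (e - s ≫ Subobject.ofLE S T hST) ≫ T.arrow := by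
      simp [Preadditive.sub_comp]
    rw [this]
    exact Subobject.factors_comp_arrow _
  have hS : S.Factors (d' ≫ i) :=
    (pullback_factors_iff i S d').1
      (Subobject.factors_of_le _ h₁ ((pullback_factors_iff i T d').2 hT))
  have : e ≫ T.arrow = d' ≫ i + s ≫ S.arrow := by
    rw [hd']; abel
  rw [this]
  exact Subobject.factors_add _ _ hS (Subobject.factors_comp_arrow _)

/-- Extension-closedness of noetherian objects (left exact version). -/
lemma isNoetherianObject_of_exact {X' X X'' : C} (i : X' ⟶ X) (p : X ⟶ X'')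
    (hex : ∀ {W : C} (d : W ⟶ X), d ≫ p = 0 → ∃ d', d' ≫ i = d)
    [IsNoetherianObject X'] [IsNoetherianObject X''] : IsNoetherianObject X := by
  rw [isNoetherianObject_iff_wellFoundedGT]
  let φ : Subobject X → Subobject X' × Subobject X'' :=
    fun S => ((Subobject.pullback i).obj S, imageSubobject (S.arrow ≫ p))
  have hmono : Monotone φ := fun S T h =>
    ⟨(Subobject.pullback i).monotone h, imageSubobject_comp_mono p h⟩
  have hφ : StrictMono φ := by
    intro S T hST
    refine lt_of_le_not_ge (hmono hST.le) ?_
    intro h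
    exact not_le_of_gt hST (le_of_pullback_le_of_image_le i p hex hST.le h.1 h.2)
  exact StrictMono.wellFoundedGT hφ

lemma isNoetherianObject_biprod (X Y : C) [IsNoetherianObject X] [IsNoetherianObject Y] :
    IsNoetherianObject (X ⊞ Y) := by
  refine isNoetherianObject_of_exact (biprod.inl : X ⟶ X ⊞ Y) (biprod.snd : X ⊞ Y ⟶ Y) ?_
  intro W d hd
  refine ⟨d ≫ biprod.fst, ?_⟩
  apply biprod.hom_ext
  · simp
  · simp [hd]

/-! ### Artinian analogues -/

omit [Abelian C] in
lemma isArtinianObject_iff_wellFoundedLT (X : C) :
    IsArtinianObject X ↔ WellFoundedLT (Subobject X) := by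
  dsimp only [IsArtinianObject]
  rw [ObjectProperty.is_iff, isArtinianObject]

/-- A quotient of an artinian object is artinian. -/
lemma isArtinianObject_of_epi {X Y : C} (p : X ⟶ Y) [Epi p] [IsArtinianObject X] :
    IsArtinianObject Y := by
  rw [isArtinianObject_iff_wellFoundedLT]
  exact StrictMono.wellFoundedLT (pullback_strictMono_of_epi p)

lemma isArtinianObject_of_iso {X Y : C} (e : X ≅ Y) [IsArtinianObject X] :
    IsArtinianObject Y :=
  isArtinianObject_of_epi e.hom

/-- Extension-closedness of artinian objects (left exact version). -/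
lemma isArtinianObject_of_exact {X' X X'' : C} (i : X' ⟶ X) (p : X ⟶ X'')
    (hex : ∀ {W : C} (d : W ⟶ X), d ≫ p = 0 → ∃ d', d' ≫ i = d)
    [IsArtinianObject X'] [IsArtinianObject X''] : IsArtinianObject X := by
  rw [isArtinianObject_iff_wellFoundedLT]
  let φ : Subobject X → Subobject X' × Subobject X'' :=
    fun S => ((Subobject.pullback i).obj S, imageSubobject (S.arrow ≫ p))
  have hmono : Monotone φ := fun S T h =>
    ⟨(Subobject.pullback i).monotone h, imageSubobject_comp_mono p h⟩
  have hφ : StrictMono φ := by
    intro S T hST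
    refine lt_of_le_not_ge (hmono hST.le) ?_
    intro h
    exact not_le_of_gt hST (le_of_pullback_le_of_image_le i p hex hST.le h.1 h.2)
  exact StrictMono.wellFoundedLT hφ

lemma isArtinianObject_biprod (X Y : C) [IsArtinianObject X] [IsArtinianObject Y] :
    IsArtinianObject (X ⊞ Y) := by
  refine isArtinianObject_of_exact (biprod.inl : X ⟶ X ⊞ Y) (biprod.snd : X ⊞ Y ⟶ Y) ?_
  intro W d hd
  refine ⟨d ≫ biprod.fst, ?_⟩
  apply biprod.hom_ext
  · simp
  · simp [hd]

end Groth.Agent.Lib.helper17.NoethObj
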