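import Mathlib
import Groth.Prelude.Def_ARSys
import Groth.Agent.Lib.helper17.NoethObj

/-!
# `J`-adic projective systems: terms inherit properties of the degree-zero term

For an object property `P` of an `A`-linear abelian category closed under zero objects,
quotients and (left exact) extensions, every term of a `J`-adic system with `P (X 0)` has `P`
(`A` noetherian).  Applied to noetherian and artinian objects.
-/

open CategoryTheory CategoryTheory.Limits Opposite

namespace Groth.Agent.Lib.helper17.ARSysAdic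

universe w v u

variable {C : Type u} [Category.{v} C] [Abelian C]

attribute [local instance] Abelian.hasFiniteBiproducts

/-- Closure of a property under finite biproducts, from zero objects and left-exact extensions. -/
lemma prop_biproduct_fin (P : ObjectProperty C) (hz : ∀ X : C, IsZero X → P X)
    (he : ∀ {X' X X'' : C} (i : X' ⟶ X) (p : X ⟶ X''),
      (∀ {W : C} (d : W ⟶ X), d ≫ p = 0 → ∃ d', d' ≫ i = d) → P X' → P X'' → P X) :
    ∀ (r : ℕ) (f : Fin r → C), (∀ i, P (f i)) → P (⨁ f) := by
  intro r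
  induction r with
  | zero =>
    intro f _
    apply hz
    rw [IsZero.iff_id_eq_zero]
    apply biproduct.hom_ext
    intro j
    exact Fin.elim0 j
  | succ r ih =>
    intro f hf
    refine he (biproduct.ι f 0)
      (biproduct.lift (fun k : Fin r => biproduct.π f k.succ) :
        ⨁ f ⟶ ⨁ (fun k : Fin r => f k.succ)) ?_ (hf 0) (ih _ (fun k => hf k.succ))
    intro W d hd
    refine ⟨d ≫ biproduct.π f 0, ?_⟩
    apply biproduct.hom_ext
    intro j
    refine Fin.cases ?_ (fun k => ?_) j
    · simp
    · have h1 : d ≫ biproduct.π f k.succ = 0 := by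
        have := congrArg (fun g => g ≫ biproduct.π (fun k : Fin r => f k.succ) k) hd
        simpa using this
      rw [h1, Category.assoc, Category.assoc, biproduct.ι_π_ne _ (Fin.succ_ne_zero k).symm,
        comp_zero, comp_zero]

variable {A : Type w} [CommRing A] [Linear A C]

lemma IsQuot.epi {I : Ideal A} {X Q : C} {p : X ⟶ Q} (hp : ARSys.IsQuot I p) : Epi p := by
  constructor
  intro Z u v huv
  have hk : ARSys.HomKilledBy I (p ≫ u) := by
    intro a ha
    have h1 : a • (p ≫ u) = p ≫ ((a • 𝟙 Q) ≫ u) := by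
      rw [Linear.smul_comp, Category.id_comp, Linear.comp_smul]
    rw [h1, hp.1 a ha, zero_comp, comp_zero]
  obtain ⟨ψ, _, hψ⟩ := hp.2 Z (p ≫ u) hk
  rw [hψ u rfl, hψ v huv.symm]

/-- Main lemma: the terms of a `J`-adic system inherit from the degree-zero term any property
closed under zero objects, quotients and left exact extensions. -/
lemma prop_adic [IsNoetherianRing A] (P : ObjectProperty C) (hz : ∀ X : C, IsZero X → P X)
    (he : ∀ {X' X X'' : C} (i : X' ⟶ X) (p : X ⟶ X''),
      (∀ {W : C} (d : W ⟶ X), d ≫ p = 0 → ∃ d', d' ≫ i = d) → P X' → P X'' → P X)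
    (hq : ∀ {X Y : C} (p : X ⟶ Y), Epi p → P X → P Y)
    (J : Ideal A) (X : ARSys.PS C) (hX : ARSys.IsAdic J X) (h0 : P (X.obj (op 0))) (n : ℕ) :
    P (X.obj (op n)) := by
  induction n with
  | zero => exact h0
  | succ n ih =>
    obtain ⟨t, ht⟩ : ∃ t, t = ARSys.tr X (Nat.le_succ n) := ⟨_, rfl⟩
    obtain ⟨p₀, hp₀⟩ : ∃ p₀, p₀ = ARSys.tr X (Nat.zero_le (n + 1)) := ⟨_, rfl⟩
    have htq : ARSys.IsQuot (J ^ (n + 1)) t := ht ▸ hX.2 n (n + 1) (Nat.le_succ n)
    have hp₀q : ARSys.IsQuot (J ^ (0 + 1)) p₀ := hp₀ ▸ hX.2 0 (n + 1) (Nat.zero_le _)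
    have hp₀epi : Epi p₀ := IsQuot.epi hp₀q
    have hkill : ARSys.KilledBy (J ^ (n + 1 + 1)) (X.obj (op (n + 1))) := hX.1 (n + 1)
    have hkill' : ARSys.KilledBy (J ^ (n + 1)) (X.obj (op n)) := hX.1 n
    -- generators of `J ^ (n + 1)`
    obtain ⟨r, b, hb⟩ := Submodule.fg_iff_exists_fin_generating_family.1
      (IsNoetherian.noetherian (J ^ (n + 1)))
    have hbmem : ∀ j, b j ∈ J ^ (n + 1) := fun j => hb ▸ Submodule.subset_span ⟨j, rfl⟩
    -- the maps `ψ j : X 0 ⟶ X (n+1)` induced by multiplication by `b j`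
    have hψ : ∀ j, ∃ ψ : X.obj (op 0) ⟶ X.obj (op (n + 1)),
        p₀ ≫ ψ = b j • 𝟙 (X.obj (op (n + 1))) := by
      intro j
      have hk : ARSys.HomKilledBy (J ^ (0 + 1)) (b j • 𝟙 (X.obj (op (n + 1)))) := by
        intro a ha
        rw [smul_smul]
        apply hkill
        rw [pow_succ' J (n + 1)]
        exact Ideal.mul_mem_mul (by simpa using ha) (hbmem j)
      obtain ⟨ψ, hψ, _⟩ := hp₀q.2 _ _ hk
      exact ⟨ψ, hψ⟩
    choose ψ hψ using hψ
    have hψt : ∀ j, ψ j ≫ t = 0 := by
      intro j
      rw [← cancel_epi p₀, ← Category.assoc, hψ, comp_zero, Linear.smul_comp, Category.id_comp]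
      have : b j • t = t ≫ (b j • 𝟙 (X.obj (op n))) := by
        rw [Linear.comp_smul, Category.comp_id]
      rw [this, hkill' _ (hbmem j), comp_zero]
    obtain ⟨D, hD⟩ : ∃ D : (⨁ fun _ : Fin r => X.obj (op 0)) ⟶ X.obj (op (n + 1)),
        D = biproduct.desc ψ := ⟨_, rfl⟩
    have hDt : D ≫ t = 0 := by
      rw [hD]
      apply biproduct.hom_ext'
      intro j
      rw [← Category.assoc, biproduct.ι_desc, hψt, comp_zero]
    -- the cokernel projection of `D` is killed by `J ^ (n + 1)`
    have hc : ARSys.HomKilledBy (J ^ (n + 1)) (cokernel.π D) := by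
      intro a ha
      rw [← hb] at ha
      induction ha using Submodule.span_induction with
      | mem x hx =>
        obtain ⟨j, rfl⟩ := hx
        have h1 : b j • cokernel.π D = (b j • 𝟙 _) ≫ cokernel.π D := by
          rw [Linear.smul_comp, Category.id_comp]
        have h2 : ψ j = biproduct.ι (fun _ : Fin r => X.obj (op 0)) j ≫ D := by
          rw [hD, biproduct.ι_desc]
        rw [h1, ← hψ, h2, Category.assoc, Category.assoc, cokernel.condition, comp_zero,
          comp_zero]
      | zero => exact zero_smul _ _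
      | add x y _ _ hx hy => rw [add_smul, hx, hy, add_zero]
      | smul a x _ hx => rw [smul_eq_mul, mul_smul, hx, smul_zero]
    obtain ⟨ψc, hψc, _⟩ := htq.2 _ _ hc
    -- `D` maps onto the kernel of `t`
    have hepi : Epi (kernel.lift t D hDt) := by
      rw [epi_iff_surjective_up_to_refinements]
      intro W z
      obtain ⟨W', π, hπ, x, hx⟩ : ∃ (W' : C) (π : W' ⟶ W) (_ : Epi π)
          (x : W' ⟶ ⨁ fun _ : Fin r => X.obj (op 0)), π ≫ z ≫ kernel.ι t = x ≫ D :=
        (ShortComplex.cokernelSequence_exact D).exact_up_to_refinements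
        (z ≫ kernel.ι t) (by
          change (z ≫ kernel.ι t) ≫ cokernel.π D = 0
          rw [← hψc, Category.assoc, ← Category.assoc (kernel.ι t), kernel.condition,
            zero_comp, comp_zero])
      refine ⟨W', π, hπ, x, ?_⟩
      rw [← cancel_mono (kernel.ι t)]
      simp only [Category.assoc, kernel.lift_ι]
      exact hx
    have hPb : P (⨁ fun _ : Fin r => X.obj (op 0)) :=
      prop_biproduct_fin P hz he r _ (fun _ => h0)
    have hPk : P (kernel t) := hq _ hepi hPb
    refine he (kernel.ι t) t ?_ hPk ih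
    intro W d hd
    exact ⟨kernel.lift t d hd, kernel.lift_ι _ _ _⟩

end Groth.Agent.Lib.helper17.ARSysAdic
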