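import Mathlib
import Groth.Prelude.Def_ARSys
import Groth.Agent.Lib.helper17.NoethObj

/-!
# Basic API for projective systems indexed by `ℕ` (`ARSys`)
-/

open CategoryTheory CategoryTheory.Limits Opposite
open Groth.Agent.Lib.helper17.NoethObj

namespace Groth.Agent.Lib.helper17.ARSysBasic

universe v u

section General
variable {C : Type u} [Category.{v} C]

lemma tr_comp (X : ARSys.PS C) {n m k : ℕ} (h : n ≤ m) (h' : m ≤ k) :
    ARSys.tr X h' ≫ ARSys.tr X h = ARSys.tr X (h.trans h') := by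
  unfold ARSys.tr
  rw [← X.map_comp]
  rfl

lemma tr_refl (X : ARSys.PS C) (n : ℕ) : ARSys.tr X (le_refl n) = 𝟙 _ := by
  unfold ARSys.tr
  have : (homOfLE (le_refl n)).op = 𝟙 (op n) := rfl
  rw [this, X.map_id]

lemma tr_naturality {X Y : ARSys.PS C} (f : X ⟶ Y) {n m : ℕ} (h : n ≤ m) :
    ARSys.tr X h ≫ f.app (op n) = f.app (op m) ≫ ARSys.tr Y h :=
  f.naturality _

lemma tr_congr (X : ARSys.PS C) {n m m' : ℕ} (h : n ≤ m) (e : m = m') :
    ARSys.tr X h = eqToHom (by rw [e]) ≫ ARSys.tr X (e ▸ h) := by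
  subst e
  simp

end General

section Abelian
variable {C : Type u} [Category.{v} C] [Abelian C]

lemma isARNull_iff (X : ARSys.PS C) :
    ARSys.IsARNull X ↔ ∃ r : ℕ, ∀ n : ℕ, ARSys.tr X (Nat.le_add_right n r) = 0 :=
  Iff.rfl

lemma isARNull_iff' (X : ARSys.PS C) :
    ARSys.IsARNull X ↔ ∃ r : ℕ, ∀ (n m : ℕ) (h : n + r ≤ m),
      ARSys.tr X ((Nat.le_add_right n r).trans h) = 0 := by
  rw [isARNull_iff]
  constructor
  · rintro ⟨r, hr⟩
    refine ⟨r, fun n m h => ?_⟩
    rw [← tr_comp X (Nat.le_add_right n r) h, hr, comp_zero]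
  · rintro ⟨r, hr⟩
    exact ⟨r, fun n => hr n (n + r) le_rfl⟩

/-- Membership in an image, in terms of refinements. -/
lemma imageSubobject_factors_iff {X Y W : C} (f : X ⟶ Y) (y : W ⟶ Y) :
    (imageSubobject f).Factors y ↔
      ∃ (W' : C) (π : W' ⟶ W) (_ : Epi π) (x : W' ⟶ X), π ≫ y = x ≫ f := by
  constructor
  · intro h
    obtain ⟨W', π, hπ, x, hx⟩ := surjective_up_to_refinements_of_epi
      (factorThruImageSubobject f) ((imageSubobject f).factorThru y h)
    refine ⟨W', π, hπ, x, ?_⟩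
    have := congrArg (fun k => k ≫ (imageSubobject f).arrow) hx
    simpa using this
  · rintro ⟨W', π, hπ, x, hx⟩
    apply factors_of_epi_comp _ π
    have : x ≫ f = (x ≫ factorThruImageSubobject f) ≫ (imageSubobject f).arrow := by
      rw [Category.assoc, imageSubobject_arrow_comp]
    rw [hx, this]
    exact Subobject.factors_comp_arrow _

lemma imageSubobject_le_iff {X X' Y : C} (f : X ⟶ Y) (f' : X' ⟶ Y) :
    imageSubobject f ≤ imageSubobject f' ↔
      ∃ (W' : C) (π : W' ⟶ X) (_ : Epi π) (x : W' ⟶ X'), π ≫ f = x ≫ f' := by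
  rw [← imageSubobject_factors_iff]
  constructor
  · intro h
    have : f = factorThruImageSubobject f ≫ (imageSubobject f).arrow :=
      (imageSubobject_arrow_comp f).symm
    rw [this]
    exact Subobject.factors_of_factors_right _ (factors_arrow_of_le h)
  · intro h
    apply le_of_factors_arrow
    have : Epi (factorThruImageSubobject f) := inferInstance
    apply factors_of_epi_comp _ (factorThruImageSubobject f)
    rw [imageSubobject_arrow_comp]
    exact h

lemma imageSubobject_epi_comp {W X Y : C} (e : W ⟶ X) [Epi e] (f : X ⟶ Y) :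
    imageSubobject (e ≫ f) = imageSubobject f := by
  apply le_antisymm (imageSubobject_comp_le e f)
  rw [imageSubobject_le_iff]
  exact ⟨W, e, inferInstance, 𝟙 _, by simp⟩

/-- `imageSubobject (f ≫ g)` only depends on `imageSubobject f`. -/
lemma imageSubobject_comp_le_of_le {X X' Y Z : C} (f : X ⟶ Y) (f' : X' ⟶ Y) (g : Y ⟶ Z)
    (h : imageSubobject f ≤ imageSubobject f') :
    imageSubobject (f ≫ g) ≤ imageSubobject (f' ≫ g) := by
  rw [imageSubobject_le_iff] at h ⊢
  obtain ⟨W', π, hπ, x, hx⟩ := h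
  exact ⟨W', π, hπ, x, by rw [← Category.assoc, hx, Category.assoc]⟩

lemma imageSubobject_comp_eq_of_eq {X X' Y Z : C} (f : X ⟶ Y) (f' : X' ⟶ Y) (g : Y ⟶ Z)
    (h : imageSubobject f = imageSubobject f') :
    imageSubobject (f ≫ g) = imageSubobject (f' ≫ g) :=
  le_antisymm (imageSubobject_comp_le_of_le f f' g h.le)
    (imageSubobject_comp_le_of_le f' f g h.ge)

lemma imageSubobject_tr_le (X : ARSys.PS C) {n m k : ℕ} (h : n ≤ m) (h' : m ≤ k) :
    imageSubobject (ARSys.tr X (h.trans h')) ≤ imageSubobject (ARSys.tr X h) := by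
  rw [← tr_comp X h h']
  exact imageSubobject_comp_le _ _

/-- Cast-free form of the uniform Mittag-Leffler condition. -/
lemma isMLAR_iff' (X : ARSys.PS C) :
    ARSys.IsMLAR X ↔ ∃ r : ℕ, ∀ (n M : ℕ) (h : n + r ≤ M),
      imageSubobject (ARSys.tr X ((Nat.le_add_right n r).trans h)) =
        imageSubobject (ARSys.tr X (Nat.le_add_right n r)) := by
  constructor
  · rintro ⟨r, hr⟩
    refine ⟨r, fun n M h => ?_⟩
    obtain ⟨s, rfl⟩ : ∃ s, M = n + s := ⟨M - n, by omega⟩
    exact hr s (by omega) n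
  · rintro ⟨r, hr⟩
    exact ⟨r, fun s hs n => hr n (n + s) (by omega)⟩

/-- Evaluation of a short exact sequence of systems is short exact. -/
lemma shortExact_eval {J : Type*} [Category J] {S : ShortComplex (J ⥤ C)} (hS : S.ShortExact)
    (j : J) : (S.map ((evaluation J C).obj j)).ShortExact :=
  hS.map_of_exact _

end Abelian

end Groth.Agent.Lib.helper17.ARSysBasic
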