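import Mathlib
import Groth.Prelude.Def_ARSys
import Groth.Agent.Lib.helper17.ARSysBasic

/-!
# Isomorphisms up to translation have inverses up to translation

For `u : X ⟶ Y` whose kernel is killed by translation by `a` and whose cokernel is killed by
translation by `b`, we construct `shiftInv : Y (n + a + b) ⟶ X n`, natural in `n`, with
`shiftInv ≫ u = tr Y` and `u ≫ shiftInv = tr X`.
-/

open CategoryTheory CategoryTheory.Limits Opposite
open Groth.Agent.Lib.helper17.NoethObj Groth.Agent.Lib.helper17.ARSysBasic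

namespace Groth.Agent.Lib.helper17.ARSysIso

universe v u

variable {C : Type u} [Category.{v} C] [Abelian C] {X Y : ARSys.PS C} (u : X ⟶ Y)

/-- The kernel of `u` is killed by translation by `a`, in elementwise form. -/
def KerCond (a : ℕ) : Prop :=
  ∀ (n : ℕ) (W : C) (k : W ⟶ X.obj (op (n + a))), k ≫ u.app (op (n + a)) = 0 →
    k ≫ ARSys.tr X (Nat.le_add_right n a) = 0

/-- The cokernel of `u` is killed by translation by `b`, in elementwise form. -/
def CokCond (b : ℕ) : Prop :=
  ∀ (n : ℕ) (W : C) (c : Y.obj (op n) ⟶ W), u.app (op n) ≫ c = 0 →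
    ARSys.tr Y (Nat.le_add_right n b) ≫ c = 0

lemma kerCond_of_isARNull {a : ℕ}
    (h : ∀ n : ℕ, ARSys.tr (kernel u) (Nat.le_add_right n a) = 0) : KerCond u a := by
  intro n W k hk
  have hex := (ShortComplex.kernelSequence_exact u).map ((evaluation ℕᵒᵖ C).obj (op (n + a)))
  have hmono : Mono ((kernel.ι u).app (op (n + a))) := by
    have : Mono (kernel.ι u) := inferInstance
    exact (NatTrans.mono_iff_mono_app (kernel.ι u)).1 this _
  have : Mono (((ShortComplex.kernelSequence u).map ((evaluation ℕᵒᵖ C).obj (op (n + a)))).f) :=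
    hmono
  obtain ⟨k', hk'⟩ : ∃ k' : W ⟶ (kernel u).obj (op (n + a)),
      k' ≫ (kernel.ι u).app (op (n + a)) = k := ⟨hex.lift k hk, hex.lift_f k hk⟩
  rw [← hk', Category.assoc, ← tr_naturality (kernel.ι u), ← Category.assoc, h, comp_zero,
    zero_comp]

lemma cokCond_of_isARNull {b : ℕ}
    (h : ∀ n : ℕ, ARSys.tr (cokernel u) (Nat.le_add_right n b) = 0) : CokCond u b := by
  intro n W c hc
  have hex := (ShortComplex.cokernelSequence_exact u).map ((evaluation ℕᵒᵖ C).obj (op n))
  have hepi : Epi ((cokernel.π u).app (op n)) := by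
    have : Epi (cokernel.π u) := inferInstance
    exact (NatTrans.epi_iff_epi_app (cokernel.π u)).1 this _
  have : Epi (((ShortComplex.cokernelSequence u).map ((evaluation ℕᵒᵖ C).obj (op n))).g) := hepi
  obtain ⟨c', hc'⟩ : ∃ c' : (cokernel u).obj (op n) ⟶ W,
      (cokernel.π u).app (op n) ≫ c' = c := ⟨hex.desc c hc, hex.g_desc c hc⟩
  rw [← hc', ← Category.assoc, tr_naturality (cokernel.π u), Category.assoc, h, zero_comp,
    comp_zero]

lemma exists_conds_of_isARIso (hu : ARSys.IsARIso u) : ∃ a b, KerCond u a ∧ CokCond u b := by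
  obtain ⟨⟨a, ha⟩, ⟨b, hb⟩⟩ := hu
  exact ⟨a, b, kerCond_of_isARNull u ha, cokCond_of_isARNull u hb⟩

variable {u}

/-- Existence of the inverse up to translation, with its characterizing property. -/
lemma exists_shiftInv {a b : ℕ} (ha : KerCond u a) (hb : CokCond u b) (n : ℕ) :
    ∃ v : Y.obj (op (n + a + b)) ⟶ X.obj (op n),
      ∀ (W : C) (y : W ⟶ Y.obj (op (n + a + b))) (x : W ⟶ X.obj (op (n + a))),
        y ≫ ARSys.tr Y (Nat.le_add_right (n + a) b) = x ≫ u.app (op (n + a)) →
        y ≫ v = x ≫ ARSys.tr X (Nat.le_add_right n a) := by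
  obtain ⟨um, hum⟩ : ∃ um, um = u.app (op (n + a)) := ⟨_, rfl⟩
  -- Step A
  have hA : ARSys.tr Y (Nat.le_add_right (n + a) b) ≫ cokernel.π um = 0 :=
    hb (n + a) _ _ (by rw [hum]; exact cokernel.condition _)
  obtain ⟨l, hl⟩ : ∃ l : Y.obj (op (n + a + b)) ⟶ Abelian.image um,
      l ≫ Abelian.image.ι um = ARSys.tr Y (Nat.le_add_right (n + a) b) :=
    ⟨kernel.lift _ _ hA, kernel.lift_ι _ _ _⟩
  -- Step B
  have hB : kernel.ι (Abelian.factorThruImage um) ≫ ARSys.tr X (Nat.le_add_right n a) = 0 := by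
    apply ha n
    calc kernel.ι (Abelian.factorThruImage um) ≫ u.app (op (n + a))
        = (kernel.ι (Abelian.factorThruImage um) ≫ Abelian.factorThruImage um) ≫
            Abelian.image.ι um := by rw [Category.assoc, Abelian.image.fac, hum]
      _ = 0 := by rw [kernel.condition, zero_comp]
  refine ⟨l ≫ Abelian.epiDesc (Abelian.factorThruImage um) _ hB, ?_⟩
  intro W y x hxy
  have h1 : y ≫ l = x ≫ Abelian.factorThruImage um := by
    rw [← cancel_mono (Abelian.image.ι um), Category.assoc, Category.assoc, hl,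
      Abelian.image.fac, hum]
    exact hxy
  rw [← Category.assoc, h1, Category.assoc, Abelian.comp_epiDesc]

/-- The inverse up to translation. -/
noncomputable def shiftInv {a b : ℕ} (ha : KerCond u a) (hb : CokCond u b) (n : ℕ) :
    Y.obj (op (n + a + b)) ⟶ X.obj (op n) :=
  (exists_shiftInv ha hb n).choose

lemma shiftInv_spec {a b : ℕ} (ha : KerCond u a) (hb : CokCond u b) (n : ℕ)
    {W : C} (y : W ⟶ Y.obj (op (n + a + b))) (x : W ⟶ X.obj (op (n + a)))
    (h : y ≫ ARSys.tr Y (Nat.le_add_right (n + a) b) = x ≫ u.app (op (n + a))) :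
    y ≫ shiftInv ha hb n = x ≫ ARSys.tr X (Nat.le_add_right n a) :=
  (exists_shiftInv ha hb n).choose_spec W y x h

/-- Every generalized element of `Y (n + a + b)` has, up to refinement, a lift of its image in
`Y (n + a)` to `X (n + a)`. -/
lemma exists_refinement_lift {a b : ℕ} (hb : CokCond u b) (n : ℕ) {W : C}
    (y : W ⟶ Y.obj (op (n + a + b))) :
    ∃ (W' : C) (π : W' ⟶ W) (_ : Epi π) (x : W' ⟶ X.obj (op (n + a))),
      (π ≫ y) ≫ ARSys.tr Y (Nat.le_add_right (n + a) b) = x ≫ u.app (op (n + a)) := by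
  have hA : ARSys.tr Y (Nat.le_add_right (n + a) b) ≫ cokernel.π (u.app (op (n + a))) = 0 :=
    hb (n + a) _ _ (cokernel.condition _)
  obtain ⟨W', π, hπ, x, hx⟩ :=
    (ShortComplex.cokernelSequence_exact (u.app (op (n + a)))).exact_up_to_refinements
      (y ≫ ARSys.tr Y (Nat.le_add_right (n + a) b)) (by
        change (y ≫ ARSys.tr Y (Nat.le_add_right (n + a) b)) ≫ cokernel.π _ = 0
        rw [Category.assoc, hA, comp_zero])
  exact ⟨W', π, hπ, x, by rw [Category.assoc]; exact hx⟩

lemma shiftInv_comp {a b : ℕ} (ha : KerCond u a) (hb : CokCond u b) (n : ℕ) :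
    shiftInv ha hb n ≫ u.app (op n) =
      ARSys.tr Y ((Nat.le_add_right n a).trans (Nat.le_add_right (n + a) b)) := by
  obtain ⟨W', π, hπ, x, hx⟩ := exists_refinement_lift (a := a) hb n (𝟙 (Y.obj (op (n + a + b))))
  have := hπ
  rw [← cancel_epi π, ← Category.assoc, ← Category.comp_id π, shiftInv_spec ha hb n _ x hx,
    Category.assoc, tr_naturality, ← Category.assoc, ← hx, Category.assoc, tr_comp]

lemma comp_shiftInv {a b : ℕ} (ha : KerCond u a) (hb : CokCond u b) (n : ℕ) :
    u.app (op (n + a + b)) ≫ shiftInv ha hb n =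
      ARSys.tr X ((Nat.le_add_right n a).trans (Nat.le_add_right (n + a) b)) := by
  rw [shiftInv_spec ha hb n (u.app (op (n + a + b))) (ARSys.tr X (Nat.le_add_right (n + a) b))
    (tr_naturality u _).symm, tr_comp]

lemma shiftInv_naturality {a b : ℕ} (ha : KerCond u a) (hb : CokCond u b) {n n' : ℕ}
    (h : n ≤ n') :
    ARSys.tr Y (show n + a + b ≤ n' + a + b by omega) ≫ shiftInv ha hb n =
      shiftInv ha hb n' ≫ ARSys.tr X h := by
  obtain ⟨W', π, hπ, x', hx'⟩ :=
    exists_refinement_lift (a := a) hb n' (𝟙 (Y.obj (op (n' + a + b))))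
  have := hπ
  rw [Category.comp_id] at hx'
  rw [← cancel_epi π]
  have h1 : π ≫ shiftInv ha hb n' = x' ≫ ARSys.tr X (Nat.le_add_right n' a) :=
    shiftInv_spec ha hb n' π x' hx'
  have h2 : (π ≫ ARSys.tr Y (show n + a + b ≤ n' + a + b by omega)) ≫ shiftInv ha hb n =
      (x' ≫ ARSys.tr X (show n + a ≤ n' + a by omega)) ≫ ARSys.tr X (Nat.le_add_right n a) := by
    apply shiftInv_spec ha hb n
    rw [Category.assoc, Category.assoc, tr_comp, tr_naturality, ← Category.assoc x', ← hx',
      Category.assoc, tr_comp]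
  rw [← Category.assoc, h2, ← Category.assoc, h1, Category.assoc, Category.assoc, tr_comp, tr_comp]

lemma limit_π_tr [HasLimitsOfShape ℕᵒᵖ C] (X : ARSys.PS C) {n m : ℕ} (h : n ≤ m) :
    limit.π X (op m) ≫ ARSys.tr X h = limit.π X (op n) :=
  limit.w X (homOfLE h).op

/-- A morphism of systems which is an isomorphism up to translation induces an isomorphism
on limits. -/
theorem isIso_limMap [HasLimitsOfShape ℕᵒᵖ C] (u : X ⟶ Y) (hu : ARSys.IsARIso u) :
    IsIso (limMap u) := by
  obtain ⟨a, b, ha, hb⟩ := exists_conds_of_isARIso u hu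
  let c : Cone X :=
    { pt := limit Y
      π :=
        { app := fun j => limit.π Y (op (j.unop + a + b)) ≫ shiftInv ha hb j.unop
          naturality := by
            intro j j' f
            have h : j'.unop ≤ j.unop := leOfHom f.unop
            have hf : X.map f = ARSys.tr X h := by
              unfold ARSys.tr
              congr 1
            dsimp
            rw [Category.id_comp, hf, Category.assoc, ← shiftInv_naturality ha hb h,
              ← Category.assoc, limit_π_tr] } }
  refine ⟨limit.lift X c, ?_, ?_⟩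
  · apply limit.hom_ext
    intro j
    obtain ⟨n⟩ := j
    rw [Category.assoc, limit.lift_π, Category.id_comp]
    change limMap u ≫ limit.π Y (op (n + a + b)) ≫ shiftInv ha hb n = _
    rw [← Category.assoc, limMap_π, Category.assoc, comp_shiftInv, limit_π_tr]
  · apply limit.hom_ext
    intro j
    obtain ⟨n⟩ := j
    rw [Category.assoc, limMap_π, ← Category.assoc, limit.lift_π, Category.id_comp]
    change (limit.π Y (op (n + a + b)) ≫ shiftInv ha hb n) ≫ u.app (op n) = _
    rw [Category.assoc, shiftInv_comp, limit_π_tr]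

end Groth.Agent.Lib.helper17.ARSysIso
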