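import Groth.Agent.Lib.helper17.AnClosedImm
import Mathlib.AlgebraicGeometry.AffineScheme
import Mathlib.AlgebraicGeometry.Morphisms.FiniteType
import Mathlib.Topology.Algebra.MvPolynomial

/-! ℂ-points of an affine scheme of finite type: closed embedding into ℂⁿ. -/

set_option autoImplicit false
open CategoryTheory AlgebraicGeometry Topology TopologicalSpace

namespace Groth.Agent.Lib.helper17.AnAffine

open An Groth.Agent.Lib.helper17.AnPts Groth.Agent.Lib.helper17.AnOpenImm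
  Groth.Agent.Lib.helper17.AnClosedImm

variable {X : Scheme.{0}} [X.Over An.SC]

/-- evaluation at a ℂ-point on sections over `U` as a ring hom. -/
noncomputable def evHom (x : An.Pts X) (U : X.Opens) (h : x.pt ∈ U) : Γ(X, U) →+* ℂ :=
  (Scheme.ΓSpecIso (CommRingCat.of ℂ)).hom.hom.comp
    (x.1.appLE U ⊤ (An.Pts.top_le_preimage x h)).hom

lemma evHom_apply (x : An.Pts X) (U : X.Opens) (h : x.pt ∈ U) (t : Γ(X, U)) :
    evHom x U h t = x.ev U h t := rfl

lemma evTop_strHom (x : An.Pts X) (c : ℂ) : x.evTop (An.strHom X c) = c := by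
  have h2 : (X ↘ An.SC).appTop ≫ x.1.appTop = 𝟙 _ := by
    rw [← Scheme.Hom.comp_appTop, x.2, Scheme.Hom.id_appTop]
  change (Scheme.ΓSpecIso (CommRingCat.of ℂ)).hom (x.1.appLE ⊤ ⊤ _
    ((X ↘ An.SC).appTop ((Scheme.ΓSpecIso (CommRingCat.of ℂ)).inv c))) = c
  have h3 : x.1.appLE ⊤ ⊤ (An.Pts.top_le_preimage x (Opens.mem_top _)) = x.1.appTop := by
    exact (x.1.app_eq_appLE (U := ⊤)).symm
  rw [h3]
  have h4 : x.1.appTop ((X ↘ An.SC).appTop ((Scheme.ΓSpecIso (CommRingCat.of ℂ)).inv c)) =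
      (Scheme.ΓSpecIso (CommRingCat.of ℂ)).inv c := by
    rw [← CommRingCat.comp_apply, h2]
    rfl
  rw [h4]
  exact (Scheme.ΓSpecIso (CommRingCat.of ℂ)).inv_hom_id_apply c


lemma appLE_top_top (x : An.Pts X) :
    x.1.appLE ⊤ ⊤ (An.Pts.top_le_preimage x (Opens.mem_top _)) = x.1.appTop :=
  (x.1.app_eq_appLE (U := ⊤)).symm

lemma evTop_eq (x : An.Pts X) (a : Γ(X, ⊤)) :
    x.evTop a = (Scheme.ΓSpecIso (CommRingCat.of ℂ)).hom (x.1.appTop a) := by
  change (Scheme.ΓSpecIso (CommRingCat.of ℂ)).hom (x.1.appLE ⊤ ⊤ _ a) = _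
  rw [appLE_top_top]

section gens

variable {n : ℕ} (s : Fin n → Γ(X, ⊤))

/-- the coordinate map. -/
noncomputable def Ψ (x : An.Pts X) : Fin n → ℂ := fun i => x.evTop (s i)

lemma evTop_eval₂ (x : An.Pts X) (P : MvPolynomial (Fin n) ℂ) :
    x.evTop (MvPolynomial.eval₂Hom (An.strHom X) s P) = MvPolynomial.eval (Ψ s x) P := by
  have : (evHom x ⊤ (Opens.mem_top _)).comp (MvPolynomial.eval₂Hom (An.strHom X) s) =
      MvPolynomial.eval (Ψ s x) := by
    apply MvPolynomial.ringHom_ext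
    · intro c
      simp only [RingHom.comp_apply, MvPolynomial.eval₂Hom_C, MvPolynomial.eval_C, evHom_apply]
      exact evTop_strHom x c
    · intro i
      simp only [RingHom.comp_apply, MvPolynomial.eval₂Hom_X', MvPolynomial.eval_X, evHom_apply]
      rfl
  exact congr($this P)

lemma continuous_Ψ : Continuous (Ψ s : An.Pts X → Fin n → ℂ) := by
  refine continuous_pi fun i => ?_
  refine continuous_def.2 fun V hV => ?_
  have : (fun x : An.Pts X => Ψ s x i) ⁻¹' V = An.Pts.basicSet ⊤ (s i) V := by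
    ext x
    constructor
    · intro hx
      exact ⟨Opens.mem_top _, hx⟩
    · rintro ⟨_, hx⟩
      exact hx
  rw [this]
  exact An.Pts.isOpen_basicSet _ _ hV

lemma mem_basicOpen_iff (x : An.Pts X) (h : Γ(X, ⊤)) :
    x.pt ∈ X.basicOpen h ↔ x.evTop h ≠ 0 := by
  have h1 : x.pt ∈ X.basicOpen h ↔ An.cpt ∈ x.1 ⁻¹ᵁ X.basicOpen h := Iff.rfl
  rw [h1, Scheme.preimage_basicOpen_top, basicOpen_eq_of_affine', evTop_eq]
  change _ ∉ (An.cpt : PrimeSpectrum ℂ).asIdeal ↔ _
  have : (An.cpt : PrimeSpectrum ℂ).asIdeal = ⊥ :=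
    Ideal.eq_bot_of_prime _
  rw [this, Ideal.mem_bot]

variable (hs : Function.Surjective (MvPolynomial.eval₂Hom (An.strHom X) s))

include hs in
lemma Ψ_injective [IsAffine X] : Function.Injective (Ψ s : An.Pts X → Fin n → ℂ) := by
  intro x y hxy
  apply Subtype.ext
  apply ext_of_isAffine
  apply CommRingCat.hom_ext
  apply RingHom.ext
  intro a
  obtain ⟨P, rfl⟩ := hs a
  have h1 := evTop_eval₂ s x P
  have h2 := evTop_eval₂ s y P
  rw [hxy, ← h2, evTop_eq, evTop_eq] at h1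
  exact (ConcreteCategory.bijective_of_isIso (Scheme.ΓSpecIso (CommRingCat.of ℂ)).hom).injective h1


lemma isoSpec_inv_appTop' [IsAffine X] :
    X.isoSpec.inv.appTop = (Scheme.ΓSpecIso Γ(X, ⊤)).inv := by
  have h2 := congrArg Scheme.Hom.appTop X.isoSpec.inv_hom_id
  rw [Scheme.Hom.comp_appTop, Scheme.Hom.id_appTop] at h2
  have h3 : X.isoSpec.hom.appTop = (Scheme.ΓSpecIso Γ(X, ⊤)).hom := X.toSpecΓ_appTop
  rw [h3] at h2
  rw [← cancel_epi (Scheme.ΓSpecIso Γ(X, ⊤)).hom, h2, Iso.hom_inv_id]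

/-- the ℂ-point of an affine scheme attached to a ring hom `χ : Γ(X, ⊤) →+* ℂ` -/
noncomputable def ptOfHom' [IsAffine X] (χ : Γ(X, ⊤) ⟶ CommRingCat.of ℂ) : An.SC ⟶ X :=
  Spec.map χ ≫ X.isoSpec.inv

lemma ptOfHom'_appTop [IsAffine X] (χ : Γ(X, ⊤) ⟶ CommRingCat.of ℂ) :
    (ptOfHom' χ).appTop ≫ (Scheme.ΓSpecIso (CommRingCat.of ℂ)).hom = χ := by
  unfold ptOfHom'
  rw [Scheme.Hom.comp_appTop, isoSpec_inv_appTop', Category.assoc,
    Scheme.ΓSpecIso_naturality, Iso.inv_hom_id_assoc]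

noncomputable def ptOfHom [IsAffine X] (χ : Γ(X, ⊤) →+* ℂ) : An.SC ⟶ X :=
  ptOfHom' (CommRingCat.ofHom χ)

lemma ptOfHom_appTop [IsAffine X] (χ : Γ(X, ⊤) →+* ℂ) (a : Γ(X, ⊤)) :
    (Scheme.ΓSpecIso (CommRingCat.of ℂ)).hom ((ptOfHom χ).appTop a) = χ a := by
  have h1 : (ptOfHom χ).appTop ≫ (Scheme.ΓSpecIso (CommRingCat.of ℂ)).hom =
      CommRingCat.ofHom χ := by
    exact ptOfHom'_appTop (CommRingCat.ofHom χ)
  exact congr($h1 a)

lemma ptOfHom_comp [IsAffine X] (χ : Γ(X, ⊤) →+* ℂ) (hχ : ∀ c, χ (An.strHom X c) = c) :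
    ptOfHom χ ≫ (X ↘ An.SC) = 𝟙 An.SC := by
  apply ext_of_isAffine
  rw [Scheme.Hom.comp_appTop, Scheme.Hom.id_appTop]
  apply CommRingCat.hom_ext
  apply RingHom.ext
  intro c'
  obtain ⟨c, rfl⟩ : ∃ c, (Scheme.ΓSpecIso (CommRingCat.of ℂ)).inv c = c' :=
    ⟨(Scheme.ΓSpecIso (CommRingCat.of ℂ)).hom c', Iso.hom_inv_id_apply _ _⟩
  apply (ConcreteCategory.bijective_of_isIso (Scheme.ΓSpecIso (CommRingCat.of ℂ)).hom).injective
  change (Scheme.ΓSpecIso (CommRingCat.of ℂ)).hom ((ptOfHom χ).appTop (An.strHom X c)) = _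
  rw [ptOfHom_appTop, hχ]
  exact (Iso.inv_hom_id_apply _ _).symm

include hs in
lemma range_Ψ [IsAffine X] : Set.range (Ψ s : An.Pts X → Fin n → ℂ) =
    ⋂ P ∈ (RingHom.ker (MvPolynomial.eval₂Hom (An.strHom X) s) : Set (MvPolynomial (Fin n) ℂ)),
      {v | MvPolynomial.eval v P = 0} := by
  ext v
  simp only [Set.mem_iInter, Set.mem_ofPred_eq]
  constructor
  · rintro ⟨x, rfl⟩ P hP
    rw [← evTop_eval₂, (RingHom.mem_ker).1 hP]
    exact map_zero (evHom x ⊤ (Opens.mem_top _))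
  · intro hv
    let g : {g : MvPolynomial (Fin n) ℂ →+* ℂ //
        RingHom.ker (MvPolynomial.eval₂Hom (An.strHom X) s) ≤ RingHom.ker g} :=
      ⟨MvPolynomial.eval v, fun P hP => (RingHom.mem_ker).2 (hv P hP)⟩
    let χ : Γ(X, ⊤) →+* ℂ := (MvPolynomial.eval₂Hom (An.strHom X) s).liftOfSurjective hs g
    have hχ : ∀ P, χ (MvPolynomial.eval₂Hom (An.strHom X) s P) = MvPolynomial.eval v P :=
      fun P => RingHom.liftOfSurjective_comp_apply _ hs g P
    have hχ' : ∀ c, χ (An.strHom X c) = c := by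
      intro c
      have := hχ (MvPolynomial.C c)
      rwa [MvPolynomial.eval₂Hom_C, MvPolynomial.eval_C] at this
    refine ⟨⟨ptOfHom χ, ptOfHom_comp χ hχ'⟩, ?_⟩
    funext i
    change An.Pts.evTop _ (s i) = v i
    rw [evTop_eq]
    change (Scheme.ΓSpecIso (CommRingCat.of ℂ)).hom ((ptOfHom χ).appTop (s i)) = v i
    rw [ptOfHom_appTop]
    have := hχ (MvPolynomial.X i)
    rwa [MvPolynomial.eval₂Hom_X', MvPolynomial.eval_X] at this

include hs in
lemma isClosed_range_Ψ [IsAffine X] : IsClosed (Set.range (Ψ s : An.Pts X → Fin n → ℂ)) := by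
  rw [range_Ψ s hs]
  refine isClosed_biInter fun P _ => ?_
  exact isClosed_eq (MvPolynomial.continuous_eval P) continuous_const


lemma ev_algebraMap (x' : An.Pts X) (h : Γ(X, ⊤)) (hx' : x'.pt ∈ X.basicOpen h) (r : Γ(X, ⊤)) :
    evHom x' (X.basicOpen h) hx' (algebraMap Γ(X, ⊤) Γ(X, X.basicOpen h) r) = x'.evTop r := by
  change x'.ev _ hx' (X.presheaf.map (homOfLE (X.basicOpen_le h)).op r) = _
  exact ev_restrict x' _ hx' r

include hs in
lemma isInducing_Ψ [IsAffine X] : Topology.IsInducing (Ψ s : An.Pts X → Fin n → ℂ) := by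
  constructor
  apply le_antisymm
  · exact (continuous_Ψ s).le_induced
  · change _ ≤ TopologicalSpace.generateFrom _
    rw [le_generateFrom_iff_subset_isOpen]
    rintro _ ⟨U, t, V, hV, rfl⟩
    change IsOpen[TopologicalSpace.induced _ _] _
    rw [isOpen_induced_iff]
    refine ⟨⋃₀ {O | IsOpen O ∧ Ψ s ⁻¹' O ⊆ An.Pts.basicSet U t V},
      isOpen_sUnion fun O hO => hO.1, ?_⟩
    apply Set.Subset.antisymm
    · rintro x ⟨O, ⟨_, hO⟩, hx⟩
      exact hO hx
    · rintro x ⟨hxU, hxV⟩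
      obtain ⟨_, ⟨_, ⟨h, rfl⟩, rfl⟩, hxh, hle⟩ :=
        (isBasis_basicOpen X).exists_subset_of_mem_open hxU U.2
      have hle' : X.basicOpen h ≤ U := hle
      haveI := (isAffineOpen_top X).isLocalization_basicOpen h
      obtain ⟨⟨a, ⟨_, m, rfl⟩⟩, eq⟩ := IsLocalization.surj (Submonoid.powers h)
        (X.presheaf.map (homOfLE hle').op t)
      obtain ⟨P, hP⟩ := hs a
      obtain ⟨Q, hQ⟩ := hs h
      have key : ∀ (x' : An.Pts X) (hx' : x'.pt ∈ X.basicOpen h),
          x'.ev U (hle' hx') t * (MvPolynomial.eval (Ψ s x') Q) ^ m =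
            MvPolynomial.eval (Ψ s x') P := by
        intro x' hx'
        have e1 := congrArg (evHom x' (X.basicOpen h) hx') eq
        rw [map_mul, ev_algebraMap, ev_algebraMap, evHom_apply, ev_restrict] at e1
        change _ * x'.evTop (h ^ m) = _ at e1
        have e2 : x'.evTop (h ^ m) = (x'.evTop h) ^ m :=
          map_pow (evHom x' ⊤ (Opens.mem_top _)) h m
        rw [e2, ← hQ, ← hP, evTop_eval₂, evTop_eval₂] at e1
        exact e1
      set O : Set (Fin n → ℂ) := {v | MvPolynomial.eval v Q ≠ 0} ∩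
        (fun v => MvPolynomial.eval v P / (MvPolynomial.eval v Q) ^ m) ⁻¹' V with hO
      have hOopen : IsOpen O := by
        refine ContinuousOn.isOpen_inter_preimage ?_ ?_ hV
        · refine ContinuousOn.div (MvPolynomial.continuous_eval P).continuousOn
            ((MvPolynomial.continuous_eval Q).pow m).continuousOn ?_
          intro v hv
          exact pow_ne_zero m hv
        · exact isOpen_ne_fun (MvPolynomial.continuous_eval Q) continuous_const
      have hOsub : Ψ s ⁻¹' O ⊆ An.Pts.basicSet U t V := by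
        rintro x' ⟨h1, h2⟩
        have h1' : MvPolynomial.eval (Ψ s x') Q ≠ 0 := h1
        have hx' : x'.pt ∈ X.basicOpen h := by
          rw [mem_basicOpen_iff, ← hQ, evTop_eval₂]
          exact h1'
        refine ⟨hle' hx', ?_⟩
        have := key x' hx'
        rw [eq_div_of_mul_eq (pow_ne_zero m h1') this]
        exact h2
      refine ⟨O, ⟨hOopen, hOsub⟩, ?_⟩
      have h1' : MvPolynomial.eval (Ψ s x) Q ≠ 0 := by
        have := (mem_basicOpen_iff x h).1 hxh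
        rwa [← hQ, evTop_eval₂] at this
      refine ⟨h1', ?_⟩
      change MvPolynomial.eval (Ψ s x) P / (MvPolynomial.eval (Ψ s x) Q) ^ m ∈ V
      rw [← eq_div_of_mul_eq (pow_ne_zero m h1') (key x hxh)]
      exact hxV

include hs in
theorem isClosedEmbedding_Ψ [IsAffine X] :
    Topology.IsClosedEmbedding (Ψ s : An.Pts X → Fin n → ℂ) :=
  ⟨⟨isInducing_Ψ s hs, Ψ_injective s hs⟩, isClosed_range_Ψ s hs⟩

end gens

end Groth.Agent.Lib.helper17.AnAffine
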