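import Groth.Agent.Lib.helper17.AnAffine
import Mathlib.AlgebraicGeometry.AffineSpace
import Mathlib.Topology.Homeomorph.Defs

/-! 𝔸ⁿ(ℂ) ≅ ℂⁿ. -/

set_option autoImplicit false
open CategoryTheory AlgebraicGeometry Topology TopologicalSpace

namespace Groth.Agent.Lib.helper17.AnAffineSpace

open An Groth.Agent.Lib.helper17.AnAffine

lemma bijective_eval₂Hom (n : ℕ) :
    Function.Bijective (MvPolynomial.eval₂Hom (An.strHom 𝔸(Fin n; An.SC))
      (AffineSpace.coord An.SC)) := by
  have hiso : IsIso ((AffineSpace.SpecIso (Fin n) (CommRingCat.of ℂ)).hom.appTop) := by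
    refine ⟨(AffineSpace.SpecIso (Fin n) (CommRingCat.of ℂ)).inv.appTop, ?_, ?_⟩
    · rw [← Scheme.Hom.comp_appTop, Iso.inv_hom_id, Scheme.Hom.id_appTop]
    · rw [← Scheme.Hom.comp_appTop, Iso.hom_inv_id, Scheme.Hom.id_appTop]
  rw [AffineSpace.SpecIso_hom_appTop] at hiso
  haveI := hiso
  have h2 := IsIso.of_isIso_comp_left
    (Scheme.ΓSpecIso (CommRingCat.of (MvPolynomial (Fin n) ↑(CommRingCat.of ℂ)))).hom
    (CommRingCat.ofHom
        (MvPolynomial.eval₂Hom
          (CommRingCat.Hom.hom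
            ((Scheme.ΓSpecIso (CommRingCat.of ℂ)).inv ≫
              Scheme.Hom.appTop (𝔸(Fin n; Spec (CommRingCat.of ℂ)) ↘ Spec (CommRingCat.of ℂ))))
          (AffineSpace.coord (Spec (CommRingCat.of ℂ)))))
  haveI := h2
  exact ConcreteCategory.bijective_of_isIso (CommRingCat.ofHom
        (MvPolynomial.eval₂Hom
          (CommRingCat.Hom.hom
            ((Scheme.ΓSpecIso (CommRingCat.of ℂ)).inv ≫
              Scheme.Hom.appTop (𝔸(Fin n; Spec (CommRingCat.of ℂ)) ↘ Spec (CommRingCat.of ℂ))))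
          (AffineSpace.coord (Spec (CommRingCat.of ℂ)))))

theorem isHomeomorph (n : ℕ) :
    IsHomeomorph (fun (x : An.Pts (𝔸(Fin n; An.SC))) (i : Fin n) =>
      x.evTop (AffineSpace.coord An.SC i)) := by
  have hbij := bijective_eval₂Hom n
  have hemb := isClosedEmbedding_Ψ (AffineSpace.coord An.SC) hbij.surjective
  rw [isHomeomorph_iff_isEmbedding_surjective]
  refine ⟨hemb.isEmbedding, ?_⟩
  have hr := range_Ψ (AffineSpace.coord An.SC) hbij.surjective
  rw [← Set.range_eq_univ]
  refine Eq.trans hr ?_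
  ext v
  simp only [Set.mem_iInter, Set.mem_univ, iff_true]
  intro P hP
  have : P = 0 := hbij.injective (by rw [map_zero]; exact hP)
  rw [this]
  simp

end Groth.Agent.Lib.helper17.AnAffineSpace
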