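import Groth.Agent.Lib.helper17.AnOpenImm
import Mathlib.AlgebraicGeometry.Morphisms.ClosedImmersion

/-! Closed immersions induce closed embeddings on ℂ-points. -/

set_option autoImplicit false
open CategoryTheory AlgebraicGeometry Topology TopologicalSpace

namespace Groth.Agent.Lib.helper17.AnClosedImm

open An Groth.Agent.Lib.helper17.AnPts Groth.Agent.Lib.helper17.AnOpenImm

variable {X Y : Scheme.{0}} [X.Over An.SC] [Y.Over An.SC]

lemma ev_restrict (x : An.Pts X) {U U' : X.Opens} (hle : U' ≤ U) (h' : x.pt ∈ U') (s : Γ(X, U)) :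
    x.ev U' h' (X.presheaf.map (homOfLE hle).op s) = x.ev U (hle h') s := by
  unfold An.Pts.ev
  congr 1
  have := x.1.map_appLE (e := An.Pts.top_le_preimage x h') (homOfLE hle).op
  exact congr($this s)

lemma basicSet_restrict {U U' : X.Opens} (hle : U' ≤ U) (s : Γ(X, U)) (V : Set ℂ) :
    An.Pts.basicSet U' (X.presheaf.map (homOfLE hle).op s) V =
      An.Pts.basicSet U s V ∩ An.Pts.pt ⁻¹' (U' : Set X) := by
  ext x
  constructor
  · rintro ⟨h', hv⟩
    refine ⟨⟨hle h', ?_⟩, h'⟩
    rwa [ev_restrict] at hv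
  · rintro ⟨⟨h, hv⟩, h'⟩
    refine ⟨h', ?_⟩
    rw [ev_restrict]
    exact hv

variable [LocallyOfFiniteType (X ↘ An.SC)] [LocallyOfFiniteType (Y ↘ An.SC)]
  (f : X ⟶ Y) [f.IsOver An.SC] [IsClosedImmersion f]

lemma range_map : Set.range (An.Pts.map f) = An.Pts.pt ⁻¹' (Set.range f) := by
  ext y
  constructor
  · rintro ⟨x, rfl⟩
    change (An.Pts.map f x).pt ∈ Set.range f
    rw [An.Pts.pt_map]
    exact ⟨_, rfl⟩
  · rintro ⟨x, hx⟩
    have hxc : x ∈ closedPoints X := by
      have := f.isClosedEmbedding.preimage_closedPoints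
      rw [← this]
      change f x ∈ closedPoints Y
      rw [hx]
      exact pt_mem_closedPoints y
    refine ⟨ofClosed x hxc, ext_of_pt_eq ?_⟩
    rw [An.Pts.pt_map, pt_ofClosed]
    exact hx

theorem isClosedEmbedding_map : Topology.IsClosedEmbedding (An.Pts.map f) := by
  refine ⟨⟨⟨?_⟩, map_injective_of_mono f⟩, ?_⟩
  · apply le_antisymm
    · exact (An.Pts.continuous_map f).le_induced
    · change _ ≤ TopologicalSpace.generateFrom _
      rw [le_generateFrom_iff_subset_isOpen]
      rintro _ ⟨U, s, V, hV, rfl⟩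
      change IsOpen[TopologicalSpace.induced _ _] _
      rw [isOpen_induced_iff]
      -- the good pairs
      let good : Set (Σ W : Y.Opens, Γ(Y, W)) :=
        {p | ∃ hle : f ⁻¹ᵁ p.1 ≤ U, f.app p.1 p.2 = X.presheaf.map (homOfLE hle).op s}
      refine ⟨⋃ p ∈ good, An.Pts.basicSet p.1 p.2 V,
        isOpen_biUnion fun p _ => An.Pts.isOpen_basicSet _ _ hV, ?_⟩
      rw [Set.preimage_iUnion₂]
      ext x
      simp only [Set.mem_iUnion]
      constructor
      · rintro ⟨p, ⟨hle, hp⟩, hx⟩
        rw [An.Pts.preimage_basicSet, hp, basicSet_restrict] at hx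
        exact hx.1
      · intro hx
        obtain ⟨hxU, hxv⟩ := hx
        obtain ⟨U', hU', hUU'⟩ := f.isEmbedding.isInducing.isOpen_iff.1 U.2
        have hy : f x.pt ∈ U' := by
          have : x.pt ∈ f ⁻¹' U' := by rw [hUU']; exact hxU
          exact this
        obtain ⟨_, ⟨W, hW, rfl⟩, hyW, hWU'⟩ :=
          Y.isBasis_affineOpens.exists_subset_of_mem_open hy hU'
        have hle : f ⁻¹ᵁ W ≤ U := by
          intro z hz
          have : z ∈ f ⁻¹' U' := hWU' hz
          rw [hUU'] at this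
          exact this
        obtain ⟨t, ht⟩ := f.app_surjective W hW (X.presheaf.map (homOfLE hle).op s)
        refine ⟨⟨W, t⟩, ⟨hle, ht⟩, ?_⟩
        rw [An.Pts.preimage_basicSet]
        change x ∈ An.Pts.basicSet (f ⁻¹ᵁ W) (f.app W t) V
        rw [ht, basicSet_restrict]
        exact ⟨⟨hxU, hxv⟩, hyW⟩
  · rw [range_map]
    exact f.isClosedEmbedding.isClosed_range.preimage An.Pts.continuous_pt

end Groth.Agent.Lib.helper17.AnClosedImm
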