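import Mathlib.RingTheory.NoetherNormalization
import Mathlib.RingTheory.Ideal.GoingUp
import Mathlib.RingTheory.Spectrum.Maximal.Basic
import Mathlib.RingTheory.FiniteType

/-! A finitely generated algebra over a field `k` with a non-maximal prime has at least `#k`
maximal ideals. -/

set_option autoImplicit false

namespace Groth.Agent.Lib.helper17.AnDiscreteRing

theorem exists_injective_of_not_isMaximal {k A : Type*} [Field k] [CommRing A] [Algebra k A]
    [Algebra.FiniteType k A] (p : Ideal A) [hp : p.IsPrime] (hpm : ¬ p.IsMaximal) :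
    ∃ φ : k → MaximalSpectrum A, Function.Injective φ := by
  haveI : Algebra.FiniteType k (A ⧸ p) :=
    Algebra.FiniteType.of_surjective (Ideal.Quotient.mkₐ k p) (Ideal.Quotient.mkₐ_surjective k p)
  obtain ⟨s, g, hinj, hint⟩ := exists_integral_inj_algHom_of_fg k (A ⧸ p)
  have hs : s ≠ 0 := by
    rintro rfl
    apply hpm
    rw [Ideal.Quotient.maximal_ideal_iff_isField_quotient]
    have h1 : (algebraMap k (A ⧸ p)) = g.toRingHom.comp MvPolynomial.C := by
      ext c
      exact (g.commutes c).symm
    have h2 : (algebraMap k (A ⧸ p)).IsIntegral := by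
      rw [h1]
      exact RingHom.IsIntegral.trans _ _
        (RingHom.isIntegral_of_surjective _ (MvPolynomial.C_surjective (Fin 0))) hint
    haveI : Algebra.IsIntegral k (A ⧸ p) := ⟨h2⟩
    exact isField_of_isIntegral_of_isField' (Field.toIsField k)
  have hs' : 0 < s := Nat.pos_of_ne_zero hs
  let i0 : Fin s := ⟨0, hs'⟩
  let v : k → Fin s → k := fun c _ => c
  let n : k → Ideal (MvPolynomial (Fin s) k) := fun c => RingHom.ker (MvPolynomial.eval (v c))
  have hnmax : ∀ c, (n c).IsMaximal := fun c =>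
    RingHom.ker_isMaximal_of_surjective _ (fun a => ⟨MvPolynomial.C a, by simp⟩)
  letI : Algebra (MvPolynomial (Fin s) k) (A ⧸ p) := g.toRingHom.toAlgebra
  haveI : Algebra.IsIntegral (MvPolynomial (Fin s) k) (A ⧸ p) := ⟨hint⟩
  have hker : ∀ c, RingHom.ker (algebraMap (MvPolynomial (Fin s) k) (A ⧸ p)) ≤ n c := by
    intro c
    have : RingHom.ker (algebraMap (MvPolynomial (Fin s) k) (A ⧸ p)) = ⊥ :=
      (RingHom.injective_iff_ker_eq_bot _).1 hinj
    rw [this]
    exact bot_le
  choose M hMmax hMcomap using fun c =>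
    @Ideal.exists_ideal_over_maximal_of_isIntegral _ _ _ _ _ _ (n c) (hnmax c) (hker c)
  refine ⟨fun c => ⟨(M c).comap (Ideal.Quotient.mk p),
    @Ideal.comap_isMaximal_of_surjective _ _ _ _ _ _ _ (Ideal.Quotient.mk p)
      Ideal.Quotient.mk_surjective (M c) (hMmax c)⟩, ?_⟩
  intro c c' hcc'
  have h1 : (M c).comap (Ideal.Quotient.mk p) = (M c').comap (Ideal.Quotient.mk p) :=
    congrArg MaximalSpectrum.asIdeal hcc'
  have h2 : M c = M c' :=
    Ideal.comap_injective_of_surjective _ Ideal.Quotient.mk_surjective h1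
  have h3 : n c = n c' := by rw [← hMcomap c, ← hMcomap c', h2]
  have h4 : (MvPolynomial.X i0 - MvPolynomial.C c : MvPolynomial (Fin s) k) ∈ n c := by
    change MvPolynomial.eval (v c) _ = 0
    simp [v]
  rw [h3] at h4
  have h5 : MvPolynomial.eval (v c') (MvPolynomial.X i0 - MvPolynomial.C c) = 0 := h4
  simp only [map_sub, MvPolynomial.eval_X, MvPolynomial.eval_C, v] at h5
  exact (sub_eq_zero.1 h5).symm

end Groth.Agent.Lib.helper17.AnDiscreteRing
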