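import Groth.Agent.Lib.helper17.AnLocCompact
import Groth.Agent.Lib.helper17.AnDiscreteRing
import Mathlib.AlgebraicGeometry.Artinian
import Mathlib.Analysis.Complex.Cardinality
import Mathlib.Topology.Bases

/-! X discrete iff X(ℂ) discrete. -/

set_option autoImplicit false
open CategoryTheory AlgebraicGeometry Topology TopologicalSpace

namespace Groth.Agent.Lib.helper17.AnDiscrete

open An Groth.Agent.Lib.helper17.AnPts Groth.Agent.Lib.helper17.AnOpenImm
  Groth.Agent.Lib.helper17.AnClosedImm Groth.Agent.Lib.helper17.AnAffine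
  Groth.Agent.Lib.helper17.AnLocCompact Groth.Agent.Lib.helper17.AnDiscreteRing

variable {X : Scheme.{0}} [X.Over An.SC] [LocallyOfFiniteType (X ↘ An.SC)]

lemma discrete_pts_of_discrete [DiscreteTopology X] : DiscreteTopology (An.Pts X) := by
  rw [discreteTopology_iff_isOpen_singleton]
  intro x
  have h1 : IsOpen (An.Pts.pt ⁻¹' {x.pt}) := (isOpen_discrete _).preimage An.Pts.continuous_pt
  have h2 : An.Pts.pt ⁻¹' {x.pt} = {x} := by
    ext y
    simp only [Set.mem_preimage, Set.mem_singleton_iff]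
    exact ⟨ext_of_pt_eq, fun h => h ▸ rfl⟩
  rwa [h2] at h1

lemma strHom_finiteType (X : Scheme.{0}) [X.Over An.SC] [LocallyOfFiniteType (X ↘ An.SC)]
    [IsAffine X] : (An.strHom X).FiniteType := by
  have h1 : ((X ↘ An.SC).appLE ⊤ ⊤ le_top).hom.FiniteType :=
    (X ↘ An.SC).finiteType_appLE (isAffineOpen_top _) (isAffineOpen_top _) _
  have : An.strHom X = ((X ↘ An.SC).appLE ⊤ ⊤ le_top).hom.comp
      (Scheme.ΓSpecIso (CommRingCat.of ℂ)).inv.hom := by
    unfold An.strHom
    congr 2
    exact (X ↘ An.SC).app_eq_appLE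
  rw [this]
  exact h1.comp (RingHom.FiniteType.of_surjective _
    (ConcreteCategory.bijective_of_isIso (Scheme.ΓSpecIso (CommRingCat.of ℂ)).inv).surjective)

lemma isLocallyNoetherian : IsLocallyNoetherian X :=
  LocallyOfFiniteType.isLocallyNoetherian (X ↘ An.SC)

lemma isArtinianRing_of_discrete_pts [IsAffine X] [DiscreteTopology (An.Pts X)] :
    IsArtinianRing Γ(X, ⊤) := by
  obtain ⟨n, s, hs⟩ := exists_gens X
  have hemb := isClosedEmbedding_Ψ s hs
  haveI : SecondCountableTopology (An.Pts X) := hemb.isEmbedding.secondCountableTopology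
  haveI : Countable (An.Pts X) := separableSpace_iff_countable.1 inferInstance
  haveI : IsLocallyNoetherian X := isLocallyNoetherian
  haveI : IsNoetherianRing Γ(X, ⊤) :=
    IsLocallyNoetherian.component_noetherian ⟨⊤, isAffineOpen_top X⟩
  rw [isArtinianRing_iff_isNoetherianRing_krullDimLE_zero]
  refine ⟨inferInstance, ?_⟩
  rw [Ring.krullDimLE_zero_iff]
  intro p hp
  by_contra hpm
  letI : Algebra ℂ Γ(X, ⊤) := (An.strHom X).toAlgebra
  haveI : Algebra.FiniteType ℂ Γ(X, ⊤) := strHom_finiteType X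
  obtain ⟨φ, hφ⟩ := exists_injective_of_not_isMaximal (k := ℂ) p hpm
  have hcl : ∀ m : MaximalSpectrum Γ(X, ⊤),
      X.isoSpec.inv (⟨m.asIdeal, m.isMaximal.isPrime⟩ : PrimeSpectrum Γ(X, ⊤)) ∈
        closedPoints X := by
    intro m
    have h1 : IsClosed ({⟨m.asIdeal, m.isMaximal.isPrime⟩} : Set (PrimeSpectrum Γ(X, ⊤))) :=
      (PrimeSpectrum.isClosed_singleton_iff_isMaximal _).2 m.isMaximal
    have h2 := X.isoSpec.inv.homeomorph.isClosedMap _ h1
    have h3 : (X.isoSpec.inv.homeomorph '' {(⟨m.asIdeal, m.isMaximal.isPrime⟩ :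
        PrimeSpectrum Γ(X, ⊤))}) =
        {X.isoSpec.inv (⟨m.asIdeal, m.isMaximal.isPrime⟩ : PrimeSpectrum Γ(X, ⊤))} :=
      Set.image_singleton
    change IsClosed ({X.isoSpec.inv (⟨m.asIdeal, m.isMaximal.isPrime⟩ :
      PrimeSpectrum Γ(X, ⊤))} : Set X)
    convert h2 using 1
    exact h3.symm
  let ψ : MaximalSpectrum Γ(X, ⊤) → An.Pts X := fun m => ofClosed _ (hcl m)
  have hψ : Function.Injective ψ := by
    intro m m' h
    have h1 : (ψ m).pt = (ψ m').pt := congrArg An.Pts.pt h
    rw [pt_ofClosed, pt_ofClosed] at h1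
    have h2 := X.isoSpec.inv.homeomorph.injective h1
    have h3 : m.asIdeal = m'.asIdeal := congrArg PrimeSpectrum.asIdeal h2
    exact MaximalSpectrum.ext h3
  have hc : Countable ℂ := (hψ.comp hφ).countable
  exact not_countable_complex (Set.countable_univ_iff.2 hc)

theorem discrete_iff : DiscreteTopology X ↔ DiscreteTopology (An.Pts X) := by
  constructor
  · intro h
    exact discrete_pts_of_discrete
  · intro h
    haveI : IsLocallyNoetherian X := isLocallyNoetherian
    haveI : IsLocallyArtinian X := by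
      rw [isLocallyArtinian_iff_of_isOpenCover (U := fun U : X.affineOpens => (U : X.Opens))
        (iSup_affineOpens_eq_top X) (fun U => U.2)]
      intro U
      haveI : IsAffine (U : X.Opens).toScheme := U.2
      haveI : LocallyOfFiniteType ((U : X.Opens).toScheme ↘ An.SC) := by
        change LocallyOfFiniteType ((U : X.Opens).ι ≫ X ↘ An.SC)
        infer_instance
      haveI : DiscreteTopology (An.Pts (U : X.Opens).toScheme) :=
        (isOpenEmbedding_map (U : X.Opens).ι).isEmbedding.discreteTopology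
      haveI : IsArtinianRing Γ((U : X.Opens).toScheme, ⊤) :=
        isArtinianRing_of_discrete_pts (X := (U : X.Opens).toScheme)
      exact (U : X.Opens).topIso.commRingCatIsoToRingEquiv.isArtinianRing
    infer_instance

end Groth.Agent.Lib.helper17.AnDiscrete
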