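import Groth.Agent.Lib.helper17.AnAffineSpace
import Groth.Prelude.Def_AnHol
import Mathlib.Analysis.Analytic.Polynomial
import Mathlib.Analysis.Calculus.FDeriv.Analytic
import Mathlib.Analysis.Calculus.FDeriv.Mul
import Mathlib.Analysis.Calculus.Deriv.Inv
import Mathlib.Analysis.Calculus.FDeriv.Pi

/-! Holomorphic functions on 𝔸ⁿ(ℂ). -/

set_option autoImplicit false
open CategoryTheory AlgebraicGeometry Topology TopologicalSpace

namespace Groth.Agent.Lib.helper17.AnHol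

open An Groth.Agent.Lib.helper17.AnPts Groth.Agent.Lib.helper17.AnOpenImm
  Groth.Agent.Lib.helper17.AnClosedImm Groth.Agent.Lib.helper17.AnAffine

variable {X : Scheme.{0}} [X.Over An.SC] {n : ℕ} (s : Fin n → Γ(X, ⊤))
  (hs : Function.Surjective (MvPolynomial.eval₂Hom (An.strHom X) s))

include hs in
lemma exists_rational [IsAffine X] (W : X.Opens) (t : Γ(X, W)) (x : An.Pts X) (hx : x.pt ∈ W) :
    ∃ (P Q : MvPolynomial (Fin n) ℂ) (m : ℕ), MvPolynomial.eval (Ψ s x) Q ≠ 0 ∧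
      ∀ x' : An.Pts X, MvPolynomial.eval (Ψ s x') Q ≠ 0 → ∃ h : x'.pt ∈ W,
        x'.ev W h t = MvPolynomial.eval (Ψ s x') P / (MvPolynomial.eval (Ψ s x') Q) ^ m := by
  obtain ⟨_, ⟨_, ⟨h, rfl⟩, rfl⟩, hxh, hle⟩ :=
    (isBasis_basicOpen X).exists_subset_of_mem_open hx W.2
  have hle' : X.basicOpen h ≤ W := hle
  haveI := (isAffineOpen_top X).isLocalization_basicOpen h
  obtain ⟨⟨a, ⟨_, m, rfl⟩⟩, eq⟩ := IsLocalization.surj (Submonoid.powers h)
    (X.presheaf.map (homOfLE hle').op t)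
  obtain ⟨P, hP⟩ := hs a
  obtain ⟨Q, hQ⟩ := hs h
  have key : ∀ (x' : An.Pts X) (hx' : x'.pt ∈ X.basicOpen h),
      x'.ev W (hle' hx') t * (MvPolynomial.eval (Ψ s x') Q) ^ m =
        MvPolynomial.eval (Ψ s x') P := by
    intro x' hx'
    have e1 := congrArg (evHom x' (X.basicOpen h) hx') eq
    rw [map_mul, ev_algebraMap, ev_algebraMap, evHom_apply, ev_restrict] at e1
    change _ * x'.evTop (h ^ m) = _ at e1
    have e2 : x'.evTop (h ^ m) = (x'.evTop h) ^ m :=
      map_pow (evHom x' ⊤ (Opens.mem_top _)) h m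
    rw [e2, ← hQ, ← hP, evTop_eval₂, evTop_eval₂] at e1
    exact e1
  refine ⟨P, Q, m, ?_, ?_⟩
  · have := (mem_basicOpen_iff x h).1 hxh
    rwa [← hQ, evTop_eval₂] at this
  · intro x' h1'
    have hx' : x'.pt ∈ X.basicOpen h := by
      rw [mem_basicOpen_iff, ← hQ, evTop_eval₂]
      exact h1'
    exact ⟨hle' hx', eq_div_of_mul_eq (pow_ne_zero m h1') (key x' hx')⟩


section diff

variable [IsAffine X] (e : An.Pts X ≃ₜ (Fin n → ℂ)) (he : ∀ x, e x = Ψ s x)

open Classical in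
/-- extension by zero of a function on an open `V` of `X(ℂ)`, transported to `ℂⁿ`. -/
noncomputable def ext (V : Opens (An.top X)) (φ : V → ℂ) : (Fin n → ℂ) → ℂ :=
  fun v => if h : (e.symm v : An.top X) ∈ V then φ ⟨e.symm v, h⟩ else 0

lemma ext_apply (V : Opens (An.top X)) (φ : V → ℂ) (y : An.Pts X) (hy : (y : An.top X) ∈ V) :
    ext e V φ (e y) = φ ⟨y, hy⟩ := by
  unfold ext
  have h : (e.symm (e y) : An.top X) ∈ V := by rw [e.symm_apply_apply]; exact hy
  rw [dif_pos h]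
  congr 1
  exact Subtype.ext (e.symm_apply_apply y)

lemma image_mem_nhds (V : Opens (An.top X)) (y : An.Pts X) (hy : (y : An.top X) ∈ V) :
    e '' (V : Set (An.top X)) ∈ 𝓝 (e y) :=
  (e.isOpenMap _ V.2).mem_nhds ⟨y, hy, rfl⟩

lemma differentiableAt_eval (P : MvPolynomial (Fin n) ℂ) (v : Fin n → ℂ) :
    DifferentiableAt ℂ (fun v : Fin n → ℂ => MvPolynomial.eval v P) v :=
  (AnalyticOnNhd.eval_mvPolynomial P v (Set.mem_univ v)).differentiableAt

include hs he in
lemma differentiableAt_ext_of_isChartFun (V : Opens (An.top X)) (φ : V → ℂ)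
    (hφ : An.IsChartFun V φ) (y₀ : An.Pts X) (hy₀ : (y₀ : An.top X) ∈ V) :
    DifferentiableAt ℂ (ext e V φ) (e y₀) := by
  obtain ⟨W, hW, k, s', V', H, hV', hH, hφ'⟩ := hφ
  have hy₀W : y₀.pt ∈ W := hW ⟨y₀, hy₀⟩
  choose P Q m hQ0 hform using fun i => exists_rational s hs W (s' i) y₀ hy₀W
  let R : (Fin n → ℂ) → (Fin k → ℂ) := fun v i =>
    MvPolynomial.eval v (P i) / (MvPolynomial.eval v (Q i)) ^ (m i)
  have hQ0' : ∀ i, MvPolynomial.eval (e y₀) (Q i) ≠ 0 := fun i => by rw [he]; exact hQ0 i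
  have hR : DifferentiableAt ℂ R (e y₀) := by
    rw [differentiableAt_pi]
    intro i
    have hpow : DifferentiableAt ℂ
        (fun v : Fin n → ℂ => (MvPolynomial.eval v (Q i)) ^ (m i)) (e y₀) :=
      (differentiableAt_eval (Q i) (e y₀)).pow (m i)
    change DifferentiableAt ℂ (fun v : Fin n → ℂ =>
      MvPolynomial.eval v (P i) / (MvPolynomial.eval v (Q i)) ^ (m i)) (e y₀)
    have hinv : DifferentiableAt ℂ
        (fun v : Fin n → ℂ => ((MvPolynomial.eval v (Q i)) ^ (m i))⁻¹) (e y₀) :=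
      DifferentiableAt.fun_inv hpow (pow_ne_zero _ (hQ0' i))
    have hmul := (differentiableAt_eval (P i) (e y₀)).fun_mul hinv
    refine hmul.congr_of_eventuallyEq (Filter.Eventually.of_forall fun v => ?_)
    exact div_eq_mul_inv _ _
  have hRy : R (e y₀) = fun i => An.Pts.ev y₀ W hy₀W (s' i) := by
    funext i
    obtain ⟨_, h2⟩ := hform i y₀ (hQ0 i)
    change MvPolynomial.eval (e y₀) (P i) / (MvPolynomial.eval (e y₀) (Q i)) ^ (m i) = _
    rw [he, ← h2]
  have hHd : DifferentiableAt ℂ H (R (e y₀)) := by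
    refine hH.differentiableAt (hV'.mem_nhds ?_)
    rw [hRy]
    exact (hφ' ⟨y₀, hy₀⟩).1
  have hcomp : DifferentiableAt ℂ (H ∘ R) (e y₀) := hHd.comp _ hR
  refine hcomp.congr_of_eventuallyEq ?_
  have h1 : ∀ᶠ v in 𝓝 (e y₀), v ∈ e '' (V : Set (An.top X)) := image_mem_nhds e V y₀ hy₀
  have h2 : ∀ᶠ v in 𝓝 (e y₀), ∀ i, MvPolynomial.eval v (Q i) ≠ 0 := by
    rw [Filter.eventually_all]
    intro i
    exact (isOpen_ne_fun (MvPolynomial.continuous_eval (Q i)) continuous_const).mem_nhds (hQ0' i)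
  filter_upwards [h1, h2] with v hv1 hv2
  obtain ⟨y, hy, rfl⟩ := hv1
  rw [ext_apply e V φ y hy]
  rw [(hφ' ⟨y, hy⟩).2]
  change _ = H (R (e y))
  congr 1
  funext i
  have hq : MvPolynomial.eval (Ψ s y) (Q i) ≠ 0 := by rw [← he]; exact hv2 i
  obtain ⟨_, h3⟩ := hform i y hq
  change _ = MvPolynomial.eval (e y) (P i) / (MvPolynomial.eval (e y) (Q i)) ^ (m i)
  rw [he, ← h3]

include hs he in
lemma differentiableAt_ext_of_mem_chartAlg (V : Opens (An.top X)) (φ : V → ℂ)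
    (hφ : φ ∈ An.chartAlg V) (y₀ : An.Pts X) (hy₀ : (y₀ : An.top X) ∈ V) :
    DifferentiableAt ℂ (ext e V φ) (e y₀) := by
  unfold An.chartAlg at hφ
  induction hφ using Algebra.adjoin_induction with
  | mem φ hφ => exact differentiableAt_ext_of_isChartFun s hs e he V φ hφ y₀ hy₀
  | algebraMap c =>
    refine (differentiableAt_const c).congr_of_eventuallyEq ?_
    filter_upwards [image_mem_nhds e V y₀ hy₀] with v hv
    obtain ⟨y, hy, rfl⟩ := hv
    rw [ext_apply e V _ y hy]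
    rfl
  | add φ ψ _ _ h1 h2 =>
    have : ext e V (φ + ψ) = ext e V φ + ext e V ψ := by
      funext v
      unfold ext
      by_cases h : (e.symm v : An.top X) ∈ V
      · simp only [Pi.add_apply, dif_pos h]
      · simp only [Pi.add_apply, dif_neg h, add_zero]
    rw [this]
    exact h1.add h2
  | mul φ ψ _ _ h1 h2 =>
    have : ext e V (φ * ψ) = ext e V φ * ext e V ψ := by
      funext v
      unfold ext
      by_cases h : (e.symm v : An.top X) ∈ V
      · simp only [Pi.mul_apply, dif_pos h]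
      · simp only [Pi.mul_apply, dif_neg h, mul_zero]
    rw [this]
    exact h1.mul h2

include hs he in
theorem exists_of_holPred (U : Opens (An.top X)) (g : U → ℂ) (hg : (An.holPred X).pred g) :
    ∃ G : (Fin n → ℂ) → ℂ, DifferentiableOn ℂ G (e '' (U : Set (An.top X))) ∧
      ∀ x : U, g x = G (e x.1) := by
  refine ⟨ext e U g, ?_, fun x => (ext_apply e U g x.1 x.2).symm⟩
  rintro _ ⟨y₀, hy₀, rfl⟩
  apply DifferentiableAt.differentiableWithinAt
  obtain ⟨V, hyV, i, hpred⟩ := hg ⟨y₀, hy₀⟩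
  have hd := differentiableAt_ext_of_mem_chartAlg s hs e he V _ hpred y₀ hyV
  refine hd.congr_of_eventuallyEq ?_
  filter_upwards [image_mem_nhds e V y₀ hyV] with v hv
  obtain ⟨y, hy, rfl⟩ := hv
  rw [ext_apply e V _ y hy, ext_apply e U g y (i.le hy)]
  rfl

include he in
theorem holPred_of_exists (U : Opens (An.top X)) (g : U → ℂ) (G : (Fin n → ℂ) → ℂ)
    (hG : DifferentiableOn ℂ G (e '' (U : Set (An.top X)))) (hgG : ∀ x : U, g x = G (e x.1)) :
    (An.holPred X).pred g := by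
  apply An.holPred_of_chartAlg
  apply Algebra.subset_adjoin
  refine ⟨⊤, fun _ => Opens.mem_top _, n, s, e '' (U : Set (An.top X)), G, e.isOpenMap _ U.2, hG,
    fun x => ?_⟩
  have hx : (fun i => An.Pts.ev x.1 ⊤ (Opens.mem_top _) (s i)) = e x.1 := (he x.1).symm
  rw [hx]
  exact ⟨⟨x.1, x.2, rfl⟩, hgG x⟩

end diff

end Groth.Agent.Lib.helper17.AnHol
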