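import Groth.Agent.Lib.helper17.AnClosedImm
import Mathlib.AlgebraicGeometry.Morphisms.Immersion

/-! Immersions induce embeddings on ℂ-points with locally closed range. -/

set_option autoImplicit false
open CategoryTheory AlgebraicGeometry Topology TopologicalSpace

namespace Groth.Agent.Lib.helper17.AnImm

open An Groth.Agent.Lib.helper17.AnPts Groth.Agent.Lib.helper17.AnOpenImm
  Groth.Agent.Lib.helper17.AnClosedImm

variable {X Y : Scheme.{0}} [X.Over An.SC] [Y.Over An.SC]
  [LocallyOfFiniteType (X ↘ An.SC)] [LocallyOfFiniteType (Y ↘ An.SC)]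
  (f : X ⟶ Y) [f.IsOver An.SC] [IsImmersion f]

lemma range_map : Set.range (An.Pts.map f) = An.Pts.pt ⁻¹' (Set.range f) := by
  ext y
  constructor
  · rintro ⟨x, rfl⟩
    change (An.Pts.map f x).pt ∈ Set.range f
    rw [An.Pts.pt_map]
    exact ⟨_, rfl⟩
  · rintro ⟨x, hx⟩
    have hxc : x ∈ closedPoints X := by
      have hcl : IsClosed (f ⁻¹' {y.pt}) := (pt_mem_closedPoints y).preimage f.continuous
      have : f ⁻¹' {y.pt} = {x} := by
        ext z
        simp only [Set.mem_preimage, Set.mem_singleton_iff]
        constructor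
        · intro hz
          exact f.isEmbedding.injective (hz.trans hx.symm)
        · rintro rfl
          exact hx
      rw [this] at hcl
      exact hcl
    refine ⟨ofClosed x hxc, ext_of_pt_eq ?_⟩
    rw [An.Pts.pt_map, pt_ofClosed]
    exact hx

theorem isEmbedding_map :
    Topology.IsEmbedding (An.Pts.map f) ∧ IsLocallyClosed (Set.range (An.Pts.map f)) := by
  refine ⟨?_, ?_⟩
  · let Z : Scheme.{0} := f.coborderRange.toScheme
    letI : Z.Over An.SC := ⟨f.coborderRange.ι ≫ (Y ↘ An.SC)⟩
    haveI : f.coborderRange.ι.IsOver An.SC := ⟨rfl⟩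
    haveI : f.liftCoborder.IsOver An.SC := ⟨by
      change f.liftCoborder ≫ f.coborderRange.ι ≫ (Y ↘ An.SC) = X ↘ An.SC
      rw [← Category.assoc, f.liftCoborder_ι]
      exact comp_over f An.SC⟩
    haveI : LocallyOfFiniteType (Z ↘ An.SC) := by
      change LocallyOfFiniteType (f.coborderRange.ι ≫ (Y ↘ An.SC))
      infer_instance
    have h1 : Topology.IsEmbedding (An.Pts.map f.liftCoborder) :=
      (isClosedEmbedding_map f.liftCoborder).isEmbedding
    have h2 : Topology.IsEmbedding (An.Pts.map f.coborderRange.ι) :=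
      (isOpenEmbedding_map f.coborderRange.ι).isEmbedding
    have h3 : An.Pts.map f = An.Pts.map f.coborderRange.ι ∘ An.Pts.map f.liftCoborder := by
      funext x
      apply Subtype.ext
      change x.1 ≫ f = (x.1 ≫ f.liftCoborder) ≫ f.coborderRange.ι
      rw [Category.assoc, f.liftCoborder_ι]
    rw [h3]
    exact h2.comp h1
  · rw [range_map]
    exact f.isLocallyClosed_range.preimage An.Pts.continuous_pt

end Groth.Agent.Lib.helper17.AnImm
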