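import Groth.Agent.Lib.helper17.AnImm
import Mathlib.AlgebraicGeometry.PullbackCarrier

/-! Injectivity of a morphism vs injectivity on ℂ-points. -/

set_option autoImplicit false
open CategoryTheory AlgebraicGeometry Topology TopologicalSpace

namespace Groth.Agent.Lib.helper17.AnInj

open An Groth.Agent.Lib.helper17.AnPts

variable {X Y : Scheme.{0}} [X.Over An.SC] [Y.Over An.SC]
  [LocallyOfFiniteType (X ↘ An.SC)] [LocallyOfFiniteType (Y ↘ An.SC)]
  (f : X ⟶ Y) [f.IsOver An.SC]

instance pullback_lft {S : Scheme.{0}} [S.Over An.SC] (f : X ⟶ S) (g : Y ⟶ S) [f.IsOver An.SC]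
    [g.IsOver An.SC] [LocallyOfFiniteType (S ↘ An.SC)] :
    LocallyOfFiniteType ((Limits.pullback f g) ↘ An.SC) := by
  haveI : LocallyOfFiniteType g := locallyOfFiniteType_of_isOver g
  change LocallyOfFiniteType (Limits.pullback.fst f g ≫ (X ↘ An.SC))
  infer_instance

theorem injective_iff :
    Function.Injective f.base ↔ Function.Injective (An.Pts.map f) := by
  constructor
  · intro hf a b hab
    apply ext_of_pt_eq
    apply hf
    have := congrArg An.Pts.pt hab
    rwa [An.Pts.pt_map, An.Pts.pt_map] at this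
  · intro hf x1 x2 h12
    by_contra hne
    obtain ⟨z, hz1, hz2⟩ := Scheme.Pullback.exists_preimage_pullback (f := f) (g := f) x1 x2 h12
    set Δ := Limits.pullback.diagonal f with hΔ
    have hD : IsLocallyClosed (Set.range Δ) := Δ.isLocallyClosed_range
    have hzD : z ∉ Set.range Δ := by
      rintro ⟨x, rfl⟩
      apply hne
      rw [← hz1, ← hz2, ← Scheme.Hom.comp_apply, ← Scheme.Hom.comp_apply]
      simp [hΔ]
    obtain ⟨O, C, hO, hC, hOC⟩ := hD
    -- a closed point outside the diagonal
    have key : ∃ w ∈ closedPoints (Limits.pullback f f : Scheme.{0}), w ∉ Set.range Δ := by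
      by_cases hzO : z ∈ O
      · have hzC : z ∉ C := fun hzC => hzD (by rw [hOC]; exact ⟨hzO, hzC⟩)
        obtain ⟨w, hw, hwc⟩ := nonempty_inter_closedPoints ⟨z, hzC⟩ hC.isOpen_compl.isLocallyClosed
        refine ⟨w, hwc, fun hwD => hw ?_⟩
        rw [hOC] at hwD
        exact hwD.2
      · obtain ⟨w, hw, hwc⟩ := nonempty_inter_closedPoints ⟨z, hzO⟩ hO.isClosed_compl.isLocallyClosed
        refine ⟨w, hwc, fun hwD => hw ?_⟩
        rw [hOC] at hwD
        exact hwD.1
    obtain ⟨w, hwc, hwD⟩ := key
    apply hwD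
    set w' := ofClosed w hwc with hw'
    have hab := hf (An.Pts.map_pullback_condition f f w')
    have e1 : w'.1 ≫ Limits.pullback.fst f f = w'.1 ≫ Limits.pullback.snd f f :=
      congrArg Subtype.val hab
    have e2 : w'.1 = (w'.1 ≫ Limits.pullback.fst f f) ≫ Δ := by
      apply Limits.pullback.hom_ext
      · simp [hΔ]
      · rw [Category.assoc]
        simp only [hΔ, Limits.pullback.diagonal_snd, Category.comp_id]
        exact e1.symm
    refine ⟨(w'.1 ≫ Limits.pullback.fst f f) An.cpt, ?_⟩
    rw [← Scheme.Hom.comp_apply, ← e2]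
    exact pt_ofClosed w hwc

end Groth.Agent.Lib.helper17.AnInj
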