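import Groth.Agent.Lib.helper17.AnAffine
import Mathlib.RingTheory.FiniteType

/-! X(ℂ) is locally compact. -/

set_option autoImplicit false
open CategoryTheory AlgebraicGeometry Topology TopologicalSpace

namespace Groth.Agent.Lib.helper17.AnLocCompact

open An Groth.Agent.Lib.helper17.AnPts Groth.Agent.Lib.helper17.AnOpenImm
  Groth.Agent.Lib.helper17.AnClosedImm Groth.Agent.Lib.helper17.AnAffine

lemma exists_gens (X : Scheme.{0}) [X.Over An.SC] [LocallyOfFiniteType (X ↘ An.SC)] [IsAffine X] :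
    ∃ (n : ℕ) (s : Fin n → Γ(X, ⊤)),
      Function.Surjective (MvPolynomial.eval₂Hom (An.strHom X) s) := by
  have h1 : ((X ↘ An.SC).appLE ⊤ ⊤ le_top).hom.FiniteType :=
    (X ↘ An.SC).finiteType_appLE (isAffineOpen_top _) (isAffineOpen_top _) _
  have h2 : (An.strHom X).FiniteType := by
    have : An.strHom X = ((X ↘ An.SC).appLE ⊤ ⊤ le_top).hom.comp
        (Scheme.ΓSpecIso (CommRingCat.of ℂ)).inv.hom := by
      unfold An.strHom
      congr 2
      exact (X ↘ An.SC).app_eq_appLE
    rw [this]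
    exact h1.comp (RingHom.FiniteType.of_surjective _
      (ConcreteCategory.bijective_of_isIso (Scheme.ΓSpecIso (CommRingCat.of ℂ)).inv).surjective)
  letI : Algebra ℂ Γ(X, ⊤) := (An.strHom X).toAlgebra
  have h3 : Algebra.FiniteType ℂ Γ(X, ⊤) := h2
  obtain ⟨n, f, hf⟩ := Algebra.FiniteType.iff_quotient_mvPolynomial''.1 h3
  refine ⟨n, fun i => f (MvPolynomial.X i), ?_⟩
  have : (MvPolynomial.eval₂Hom (An.strHom X) fun i => f (MvPolynomial.X i)) =
      (f : MvPolynomial (Fin n) ℂ →+* Γ(X, ⊤)) := by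
    apply MvPolynomial.ringHom_ext
    · intro c
      simp only [MvPolynomial.eval₂Hom_C, RingHom.coe_coe]
      exact (f.commutes c).symm
    · intro i
      simp
  rw [this]
  exact hf

variable {X : Scheme.{0}} [X.Over An.SC] [LocallyOfFiniteType (X ↘ An.SC)]

theorem locallyCompactSpace : LocallyCompactSpace (An.Pts X) := by
  constructor
  intro x N hN
  obtain ⟨_, ⟨(U : X.Opens), hU, rfl⟩, hxU, -⟩ :=
    X.isBasis_affineOpens.exists_subset_of_mem_open (Set.mem_univ x.pt) isOpen_univ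
  haveI : IsAffine U.toScheme := hU
  haveI : LocallyOfFiniteType (U.toScheme ↘ An.SC) := by
    change LocallyOfFiniteType (U.ι ≫ X ↘ An.SC)
    infer_instance
  haveI : LocallyCompactSpace (An.Pts U.toScheme) := by
    obtain ⟨n, s, hs⟩ := exists_gens U.toScheme
    exact (isClosedEmbedding_Ψ s hs).locallyCompactSpace
  have hj := AnOpenImm.isOpenEmbedding_map U.ι
  have hxr : x ∈ Set.range (An.Pts.map U.ι) := by
    rw [AnOpenImm.range_map]
    change x.pt ∈ Set.range U.ι
    rw [Scheme.Opens.range_ι]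
    exact hxU
  obtain ⟨u, rfl⟩ := hxr
  obtain ⟨K, hK, hKN, hKc⟩ := local_compact_nhds (hj.continuous.continuousAt hN)
  exact ⟨An.Pts.map U.ι '' K, hj.isOpenMap.image_mem_nhds hK, Set.image_subset_iff.2 hKN,
    hKc.image hj.continuous⟩

end Groth.Agent.Lib.helper17.AnLocCompact
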