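import Groth.Agent.Lib.helper17.AnPts
import Mathlib.AlgebraicGeometry.OpenImmersion

/-! Open immersions induce open embeddings on ℂ-points. -/

set_option autoImplicit false
open CategoryTheory AlgebraicGeometry Topology TopologicalSpace

namespace Groth.Agent.Lib.helper17.AnOpenImm

open An

variable {X Y : Scheme.{0}} [X.Over An.SC] [Y.Over An.SC]

lemma basicSet_congr {U U' : X.Opens} (h : U' = U) (s : Γ(X, U)) (V : Set ℂ) :
    An.Pts.basicSet U' (X.presheaf.map (eqToHom h).op s) V = An.Pts.basicSet U s V := by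
  subst h
  simp

lemma map_injective_of_mono (f : X ⟶ Y) [f.IsOver An.SC] [Mono f] :
    Function.Injective (An.Pts.map f) := by
  intro x y h
  apply Subtype.ext
  have : x.1 ≫ f = y.1 ≫ f := congrArg Subtype.val h
  exact (cancel_mono f).1 this

variable (f : X ⟶ Y) [f.IsOver An.SC] [IsOpenImmersion f]

lemma range_map : Set.range (An.Pts.map f) = An.Pts.pt ⁻¹' (f.opensRange : Set Y) := by
  ext y
  constructor
  · rintro ⟨x, rfl⟩
    change (An.Pts.map f x).pt ∈ Set.range f
    rw [An.Pts.pt_map]
    exact ⟨_, rfl⟩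
  · intro hy
    have hr : Set.range y.1 ⊆ Set.range f := by
      rintro _ ⟨p, rfl⟩
      rw [An.eq_cpt p]
      exact hy
    refine ⟨⟨IsOpenImmersion.lift f y.1 hr, ?_⟩, ?_⟩
    · rw [← comp_over f An.SC, ← Category.assoc, IsOpenImmersion.lift_fac]
      exact y.2
    · apply Subtype.ext
      exact IsOpenImmersion.lift_fac f y.1 hr

theorem isOpenEmbedding_map : Topology.IsOpenEmbedding (An.Pts.map f) := by
  refine ⟨⟨⟨?_⟩, map_injective_of_mono f⟩, ?_⟩
  · apply le_antisymm
    · exact (An.Pts.continuous_map f).le_induced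
    · change _ ≤ TopologicalSpace.generateFrom _
      rw [le_generateFrom_iff_subset_isOpen]
      rintro _ ⟨U, s, V, hV, rfl⟩
      refine ⟨An.Pts.basicSet (f ''ᵁ U) ((f.appIso U).inv s) V,
        An.Pts.isOpen_basicSet _ _ hV, ?_⟩
      rw [An.Pts.preimage_basicSet]
      have h := f.appIso_inv_app U
      have h2 : f.app (f ''ᵁ U) ((f.appIso U).inv s) =
          X.presheaf.map (eqToHom (f.preimage_image_eq U)).op s := by
        rw [← h]
        rfl
      rw [h2, basicSet_congr]
  · rw [range_map]
    exact An.Pts.isOpen_preimage_pt _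

end Groth.Agent.Lib.helper17.AnOpenImm
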