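import Groth.Prelude.Def_AnPts
import Mathlib.AlgebraicGeometry.AlgClosed.Basic
import Mathlib.AlgebraicGeometry.Noetherian
import Mathlib.AlgebraicGeometry.Morphisms.FinitePresentation
import Mathlib.Analysis.Complex.Polynomial.Basic
import Mathlib.Topology.JacobsonSpace
import Mathlib.Topology.Constructible

/-! ℂ-points of schemes locally of finite type over ℂ vs closed points. -/

set_option autoImplicit false
open CategoryTheory AlgebraicGeometry Topology TopologicalSpace
open scoped Set.Notation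

namespace Groth.Agent.Lib.helper17.AnPts

section Top

variable {X : Type*} [TopologicalSpace X]

/-- Finite unions of locally closed sets. -/
def FULC (s : Set X) : Prop :=
  ∃ (n : ℕ) (Z : Fin n → Set X), (∀ i, IsLocallyClosed (Z i)) ∧ s = ⋃ i, Z i

lemma fulc_of_isLocallyClosed {s : Set X} (hs : IsLocallyClosed s) : FULC s :=
  ⟨1, fun _ => s, fun _ => hs, by rw [Set.iUnion_const]⟩

lemma fulc_union {s t : Set X} (hs : FULC s) (ht : FULC t) : FULC (s ∪ t) := by
  obtain ⟨n, Z, hZ, rfl⟩ := hs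
  obtain ⟨m, W, hW, rfl⟩ := ht
  refine ⟨n + m, Fin.append Z W, fun i => ?_, ?_⟩
  · refine Fin.addCases (fun j => ?_) (fun j => ?_) i
    · simpa using hZ j
    · simpa using hW j
  · ext x
    simp only [Set.mem_union, Set.mem_iUnion]
    constructor
    · rintro (⟨i, hi⟩ | ⟨j, hj⟩)
      · exact ⟨Fin.castAdd m i, by simpa using hi⟩
      · exact ⟨Fin.natAdd n j, by simpa using hj⟩
    · rintro ⟨i, hi⟩
      revert hi
      refine Fin.addCases (fun j hj => ?_) (fun j hj => ?_) i
      · exact Or.inl ⟨j, by simpa using hj⟩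
      · exact Or.inr ⟨j, by simpa using hj⟩

lemma fulc_iUnion {n : ℕ} {s : Fin n → Set X} (hs : ∀ i, FULC (s i)) : FULC (⋃ i, s i) := by
  induction n with
  | zero => exact ⟨0, fun _ => ∅, fun i => i.elim0, by simp⟩
  | succ n ih =>
    have : (⋃ i, s i) = (⋃ i : Fin n, s i.castSucc) ∪ s (Fin.last n) := by
      ext x
      simp only [Set.mem_iUnion, Set.mem_union]
      constructor
      · rintro ⟨i, hi⟩
        revert hi
        refine Fin.lastCases (fun h => Or.inr h) (fun j h => Or.inl ⟨j, h⟩) i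
      · rintro (⟨j, hj⟩ | h)
        · exact ⟨_, hj⟩
        · exact ⟨_, h⟩
    rw [this]
    exact fulc_union (ih fun i => hs _) (hs _)

lemma fulc_inter {s t : Set X} (hs : FULC s) (ht : FULC t) : FULC (s ∩ t) := by
  obtain ⟨n, Z, hZ, rfl⟩ := hs
  obtain ⟨m, W, hW, rfl⟩ := ht
  rw [Set.iUnion_inter]
  refine fulc_iUnion fun i => ?_
  rw [Set.inter_iUnion]
  exact fulc_iUnion fun j => fulc_of_isLocallyClosed ((hZ i).inter (hW j))

lemma fulc_of_isConstructible {s : Set X} (hs : IsConstructible s) : FULC s ∧ FULC sᶜ := by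
  induction hs using IsConstructible.empty_union_induction with
  | open_retrocompact U hU _ =>
    exact ⟨fulc_of_isLocallyClosed hU.isLocallyClosed,
      fulc_of_isLocallyClosed hU.isClosed_compl.isLocallyClosed⟩
  | union s hs t ht h1 h2 =>
    refine ⟨fulc_union h1.1 h2.1, ?_⟩
    rw [Set.compl_union]
    exact fulc_inter h1.2 h2.2
  | compl s hs h =>
    refine ⟨h.2, ?_⟩
    rw [compl_compl]
    exact h.1

/-- A nonempty constructible subset of a Jacobson space contains a closed point. -/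
lemma exists_closedPoint_of_isConstructible [JacobsonSpace X] {s : Set X}
    (hs : IsConstructible s) (hne : s.Nonempty) : (s ∩ closedPoints X).Nonempty := by
  obtain ⟨n, Z, hZ, rfl⟩ := (fulc_of_isConstructible hs).1
  obtain ⟨x, hx⟩ := hne
  obtain ⟨i, hi⟩ := Set.mem_iUnion.1 hx
  obtain ⟨z, hz, hzc⟩ := nonempty_inter_closedPoints ⟨x, hi⟩ (hZ i)
  exact ⟨z, Set.mem_iUnion.2 ⟨i, hz⟩, hzc⟩

/-- The complement of a locally constructible subset of a Jacobson space, if nonempty,
contains a closed point. -/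
lemma exists_closedPoint_compl_of_isLocallyConstructible [JacobsonSpace X] {s : Set X}
    (hs : IsLocallyConstructible s) {y : X} (hy : y ∉ s) : ∃ z ∈ closedPoints X, z ∉ s := by
  obtain ⟨U, hUy, hU, hUs⟩ := hs y
  have hy' : y ∈ U := mem_of_mem_nhds hUy
  have hemb : IsOpenEmbedding (Subtype.val : U → X) := hU.isOpenEmbedding_subtypeVal
  haveI : JacobsonSpace U := JacobsonSpace.of_isOpenEmbedding hemb
  have hc : IsConstructible (U ↓∩ s)ᶜ := hUs.compl
  obtain ⟨z, hz, hzc⟩ := exists_closedPoint_of_isConstructible hc ⟨⟨y, hy'⟩, hy⟩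
  refine ⟨z.1, ?_, hz⟩
  have := hemb.preimage_closedPoints
  rw [← this] at hzc
  exact hzc

end Top

section Sch

open An

variable {X : Scheme.{0}} [X.Over An.SC] [LocallyOfFiniteType (X ↘ An.SC)]

instance : JacobsonSpace X := LocallyOfFiniteType.jacobsonSpace (X ↘ An.SC)

/-- the ℂ-point attached to a closed point. -/
noncomputable def ofClosed (x : X) (hx : x ∈ closedPoints X) : An.Pts X :=
  ⟨pointOfClosedPoint (X ↘ An.SC) x hx, pointOfClosedPoint_comp _ x hx⟩

lemma pt_ofClosed (x : X) (hx : x ∈ closedPoints X) : (ofClosed x hx).pt = x :=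
  pointOfClosedPoint_apply (X ↘ An.SC) x hx _

lemma pt_mem_closedPoints (x : An.Pts X) : x.pt ∈ closedPoints X := by
  have := (pointEquivClosedPoint (X ↘ An.SC) ⟨x.1, x.2⟩).2
  convert this using 1
  change x.1 An.cpt = x.1 (IsLocalRing.closedPoint ℂ)
  congr 1
  exact Subsingleton.elim (α := PrimeSpectrum ℂ) _ _

lemma ext_of_pt_eq {x y : An.Pts X} (h : x.pt = y.pt) : x = y := by
  apply Subtype.ext
  refine ext_of_apply_closedPoint_eq (X ↘ An.SC) x.2 y.2 ?_
  have e : IsLocalRing.closedPoint ℂ = An.cpt := Subsingleton.elim (α := PrimeSpectrum ℂ) _ _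
  rw [e]
  exact h

variable {Y : Scheme.{0}} [Y.Over An.SC] [LocallyOfFiniteType (Y ↘ An.SC)]
  (f : X ⟶ Y) [f.IsOver An.SC]

include f in
lemma locallyOfFiniteType_of_isOver : LocallyOfFiniteType f := by
  have h : f ≫ (Y ↘ An.SC) = X ↘ An.SC := comp_over f An.SC
  have : LocallyOfFiniteType (f ≫ (Y ↘ An.SC)) := by rw [h]; infer_instance
  exact locallyOfFiniteType_of_comp f (Y ↘ An.SC)

theorem surjective_iff [QuasiCompact f] :
    Function.Surjective f.base ↔ Function.Surjective (An.Pts.map f) := by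
  constructor
  · intro hf y
    obtain ⟨x₀, hx₀⟩ := hf y.pt
    have hcl : IsClosed (f.base ⁻¹' {y.pt}) :=
      (pt_mem_closedPoints y).preimage f.continuous
    obtain ⟨x, hx, hxc⟩ := nonempty_inter_closedPoints (X := X) ⟨x₀, hx₀⟩ hcl.isLocallyClosed
    refine ⟨ofClosed x hxc, ext_of_pt_eq ?_⟩
    rw [An.Pts.pt_map, pt_ofClosed]
    exact hx
  · intro hf y
    by_contra hy
    haveI : LocallyOfFiniteType f := locallyOfFiniteType_of_isOver f
    haveI : IsLocallyNoetherian Y := LocallyOfFiniteType.isLocallyNoetherian (Y ↘ An.SC)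
    have hlc : IsLocallyConstructible (f.base '' Set.univ) :=
      f.isLocallyConstructible_image IsLocallyConstructible.univ
    have hy' : y ∉ f.base '' Set.univ := by
      rintro ⟨x, -, hx⟩
      exact hy ⟨x, hx⟩
    obtain ⟨z, hz, hzs⟩ := exists_closedPoint_compl_of_isLocallyConstructible hlc hy'
    obtain ⟨x, hx⟩ := hf (ofClosed z hz)
    apply hzs
    refine ⟨x.pt, Set.mem_univ _, ?_⟩
    rw [← An.Pts.pt_map, hx, pt_ofClosed]

end Sch

end Groth.Agent.Lib.helper17.AnPts
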