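import Mathlib

/-!
# Colimits of eventually constant sequences (helper17)
-/

namespace Groth.Agent.Lib.helper17.EvConst

open CategoryTheory Limits

universe v u

variable {D : Type u} [Category.{v} D] (H : ℕ ⥤ D) (K : ℕ)

section

variable (hiso : ∀ k, K ≤ k → IsIso (H.map (homOfLE (Nat.le_succ k))))

include hiso

lemma isIso_map_of_le (k l : ℕ) (hk : K ≤ k) (hkl : k ≤ l) : IsIso (H.map (homOfLE hkl)) := by
  obtain ⟨d, rfl⟩ := Nat.exists_eq_add_of_le hkl
  induction d with
  | zero =>
    have : homOfLE hkl = 𝟙 k := Subsingleton.elim _ _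
    rw [this, H.map_id]; infer_instance
  | succ d ih =>
    have h1 : k ≤ k + d := Nat.le_add_right _ _
    have : homOfLE hkl = homOfLE h1 ≫ homOfLE (Nat.le_succ (k + d)) := Subsingleton.elim _ _
    rw [this, H.map_comp]
    have := ih h1
    have := hiso (k + d) (by lia)
    infer_instance

/-- `H K ≅ H l` for `l ≥ K`. -/
noncomputable def backIso (l : ℕ) (hl : K ≤ l) : H.obj K ≅ H.obj l :=
  @asIso _ _ _ _ (H.map (homOfLE hl)) (isIso_map_of_le H K hiso K l le_rfl hl)

lemma backIso_hom (l : ℕ) (hl : K ≤ l) : (backIso H K hiso l hl).hom = H.map (homOfLE hl) := rfl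

/-- The colimit cocone with point `H K`. -/
noncomputable def cocone : Cocone H where
  pt := H.obj K
  ι :=
    { app := fun k => H.map (homOfLE (le_max_left k K)) ≫
        (backIso H K hiso (max k K) (le_max_right k K)).inv
      naturality := by
        intro k l f
        simp only [Functor.const_obj_obj, Functor.const_obj_map, Category.comp_id]
        rw [← Category.assoc, Iso.comp_inv_eq, Category.assoc]
        have hkl : k ≤ l := leOfHom f
        have h1 : max k K ≤ max l K := max_le_max hkl le_rfl
        have e1 : (backIso H K hiso (max l K) (le_max_right l K)).hom =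
            (backIso H K hiso (max k K) (le_max_right k K)).hom ≫ H.map (homOfLE h1) := by
          rw [backIso_hom, backIso_hom, ← H.map_comp]
          congr 1
        rw [e1, Iso.inv_hom_id_assoc, ← H.map_comp, ← H.map_comp]
        congr 1 }

lemma cocone_ι_app (k : ℕ) : (cocone H K hiso).ι.app k =
    H.map (homOfLE (le_max_left k K)) ≫ (backIso H K hiso (max k K) (le_max_right k K)).inv :=
  rfl

lemma isIso_cocone_ι_app (k : ℕ) (hk : K ≤ k) : IsIso ((cocone H K hiso).ι.app k) := by
  have := isIso_map_of_le H K hiso k (max k K) hk (le_max_left k K)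
  change IsIso (H.map (homOfLE (le_max_left k K)) ≫
    (backIso H K hiso (max k K) (le_max_right k K)).inv)
  infer_instance

/-- The cocone is a colimit. -/
noncomputable def isColimitCocone : IsColimit (cocone H K hiso) where
  desc s := s.ι.app K
  fac s k := by
    change (H.map (homOfLE (le_max_left k K)) ≫
      (backIso H K hiso (max k K) (le_max_right k K)).inv) ≫ s.ι.app K = s.ι.app k
    rw [← s.w (homOfLE (le_max_right k K)), ← backIso_hom H K hiso, Category.assoc,
      Iso.inv_hom_id_assoc, s.w]
  uniq s m hm := by
    change H.obj K ⟶ s.pt at m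
    have h : (H.map (homOfLE (le_max_left K K)) ≫
      (backIso H K hiso (max K K) (le_max_right K K)).inv) ≫ m = s.ι.app K := hm K
    have h3 : H.map (homOfLE (le_max_left K K)) ≫
        (backIso H K hiso (max K K) (le_max_right K K)).inv = 𝟙 _ :=
      (backIso H K hiso (max K K) (le_max_right K K)).hom_inv_id
    rw [h3, Category.id_comp] at h
    exact h

lemma hasColimit : HasColimit H := ⟨⟨⟨_, isColimitCocone H K hiso⟩⟩⟩

lemma isIso_ι_app_of_isColimit {c : Cocone H} (hc : IsColimit c) (k : ℕ) (hk : K ≤ k) :
    IsIso (c.ι.app k) := by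
  have h := IsColimit.comp_coconePointUniqueUpToIso_hom (isColimitCocone H K hiso) hc k
  rw [← h]
  have := isIso_cocone_ι_app H K hiso k hk
  infer_instance

end

end Groth.Agent.Lib.helper17.EvConst
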