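import Mathlib

/-!
# Strictly perfect complexes relative to a liftable subcategory (helper17)

`P` is an object property of an abelian category `C` such that every epimorphism onto an object
of `P` splits.  Then objects of `P` are projective and bounded-above complexes with terms in `P`
are K-projective.
-/

namespace Groth.Agent.Lib.helper17.PerfLift

open CategoryTheory Limits DerivedCategory Pretriangulated

set_option linter.unusedSectionVars false

universe w v u

variable {C : Type u} [Category.{v} C] [Abelian C]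

section Basic

variable (P : ObjectProperty C)

lemma projective_of_lift (hlift : ∀ (E F : C) (u : E ⟶ F), Epi u → P F → IsSplitEpi u)
    {F : C} (hF : P F) : Projective F := by
  constructor
  intro E X f e he
  have h1 : Epi (pullback.snd e f) := inferInstance
  have h2 : IsSplitEpi (pullback.snd e f) := hlift _ _ _ h1 hF
  refine ⟨section_ (pullback.snd e f) ≫ pullback.fst e f, ?_⟩
  rw [Category.assoc, pullback.condition, ← Category.assoc, IsSplitEpi.id, Category.id_comp]

lemma prop_biprod [P.IsClosedUnderIsomorphisms] (hsum : ∀ X Y : C, P X → P Y → P (X ⨯ Y))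
    {X Y : C} (hX : P X) (hY : P Y) : P (X ⊞ Y) :=
  P.prop_of_iso (biprod.isoProd X Y).symm (hsum _ _ hX hY)

lemma isKProjective_of_bounded (E : CochainComplex C ℤ) (b : ℤ)
    (hb : ∀ i : ℤ, b < i → IsZero (E.X i)) (hP : ∀ i, Projective (E.X i)) :
    E.IsKProjective := by
  have : E.IsStrictlyLE b := (CochainComplex.isStrictlyLE_iff E b).2 hb
  exact CochainComplex.isKProjective_of_projective E b

variable [HasDerivedCategory.{w} C]

lemma exists_Q_map_eq (K L : CochainComplex C ℤ) [K.IsKProjective]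
    (α : Q.obj K ⟶ Q.obj L) : ∃ φ : K ⟶ L, Q.map φ = α := by
  obtain ⟨g, hg⟩ := (CochainComplex.IsKProjective.Qh_map_bijective K
    ((HomotopyCategory.quotient _ _).obj L)).surjective
      ((quotientCompQhIso C).hom.app K ≫ α ≫ (quotientCompQhIso C).inv.app L)
  obtain ⟨φ, rfl⟩ := (HomotopyCategory.quotient _ _).map_surjective g
  refine ⟨φ, ?_⟩
  have h := quotientCompQhIso_hom_naturality φ
  rw [hg] at h
  simp only [Category.assoc, Iso.inv_hom_id_app, Category.comp_id] at h
  have h' : (quotientCompQhIso C).hom.app K ≫ α = (quotientCompQhIso C).hom.app K ≫ Q.map φ := h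
  exact ((cancel_epi _).1 h').symm

end Basic

section Cone

variable (P : ObjectProperty C) [P.IsClosedUnderIsomorphisms] [P.ContainsZero]

lemma prop_mappingCone_X (hsum : ∀ X Y : C, P X → P Y → P (X ⨯ Y))
    {E₁ E₂ : CochainComplex C ℤ} (φ : E₁ ⟶ E₂) (h₁ : ∀ i, P (E₁.X i)) (h₂ : ∀ i, P (E₂.X i))
    (i : ℤ) : P ((CochainComplex.mappingCone φ).X i) :=
  P.prop_of_iso (HomologicalComplex.homotopyCofiber.XIsoBiprod φ i (i + 1) rfl).symm
    (prop_biprod P hsum (h₁ _) (h₂ _))

lemma isZero_mappingCone_X {E₁ E₂ : CochainComplex C ℤ} (φ : E₁ ⟶ E₂) (i : ℤ)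
    (h₁ : IsZero (E₁.X (i + 1))) (h₂ : IsZero (E₂.X i)) :
    IsZero ((CochainComplex.mappingCone φ).X i) := by
  refine HomologicalComplex.homotopyCofiber.isZero_X φ i h₂ ?_
  intro j hj
  obtain rfl : i + 1 = j := hj
  exact h₁

variable [HasDerivedCategory.{w} C]

theorem cone_perfect (hsum : ∀ X Y : C, P X → P Y → P (X ⨯ Y))
    (hlift : ∀ (E F : C) (u : E ⟶ F), Epi u → P F → IsSplitEpi u)
    (T : Triangle (DerivedCategory C)) (hT : T ∈ distinguishedTriangles)
    (h₁ : (∃ (E : CochainComplex C ℤ) (a b : ℤ), (∀ i : ℤ, i < a ∨ b < i → IsZero (E.X i)) ∧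
      (∀ i : ℤ, P (E.X i)) ∧ Nonempty (DerivedCategory.Q.obj E ≅ T.obj₁)))
    (h₂ : (∃ (E : CochainComplex C ℤ) (a b : ℤ), (∀ i : ℤ, i < a ∨ b < i → IsZero (E.X i)) ∧
      (∀ i : ℤ, P (E.X i)) ∧ Nonempty (DerivedCategory.Q.obj E ≅ T.obj₂))) :
    (∃ (E : CochainComplex C ℤ) (a b : ℤ), (∀ i : ℤ, i < a ∨ b < i → IsZero (E.X i)) ∧
      (∀ i : ℤ, P (E.X i)) ∧ Nonempty (DerivedCategory.Q.obj E ≅ T.obj₃)) := by
  obtain ⟨E₁, a₁, b₁, hz₁, hP₁, ⟨e₁⟩⟩ := h₁
  obtain ⟨E₂, a₂, b₂, hz₂, hP₂, ⟨e₂⟩⟩ := h₂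
  have : E₁.IsKProjective := isKProjective_of_bounded E₁ b₁ (fun i hi => hz₁ i (Or.inr hi))
    (fun i => projective_of_lift P hlift (hP₁ i))
  obtain ⟨φ, hφ⟩ := exists_Q_map_eq E₁ E₂ (e₁.hom ≫ T.mor₁ ≫ e₂.inv)
  have hT' := mappingCone_triangle_distinguished φ
  have comm : (Q.mapTriangle.obj (CochainComplex.mappingCone.triangle φ)).mor₁ ≫ e₂.hom =
      e₁.hom ≫ T.mor₁ := by
    change Q.map φ ≫ e₂.hom = _
    rw [hφ]; simp
  let e := isoTriangleOfIso₁₂ _ _ hT' hT e₁ e₂ comm
  refine ⟨CochainComplex.mappingCone φ, min (a₁ - 1) a₂, max (b₁ - 1) b₂, ?_,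
    prop_mappingCone_X P hsum φ hP₁ hP₂, ⟨Triangle.π₃.mapIso e⟩⟩
  intro i hi
  apply isZero_mappingCone_X
  · apply hz₁
    rcases hi with hi | hi
    · left; have := min_le_left (a₁ - 1) a₂; lia
    · right; have := le_max_left (b₁ - 1) b₂; lia
  · apply hz₂
    rcases hi with hi | hi
    · left; have := min_le_right (a₁ - 1) a₂; lia
    · right; have := le_max_right (b₁ - 1) b₂; lia

end Cone

section Trunc

variable (P : ObjectProperty C) [P.IsClosedUnderIsomorphisms] [P.ContainsZero]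

/-- `kernel (toCycles i (i+1)) ≅ cycles i`. -/
noncomputable def kernelToCyclesIso (F : CochainComplex C ℤ) (i : ℤ) :
    kernel (F.toCycles i (i + 1)) ≅ F.cycles i where
  hom := F.liftCycles (kernel.ι _) (i + 1) (by simp) (by
    rw [← F.toCycles_i i (i + 1), ← Category.assoc, kernel.condition, zero_comp])
  inv := kernel.lift _ (F.iCycles i) (by
    rw [← cancel_mono (F.iCycles (i + 1)), Category.assoc, F.toCycles_i, zero_comp,
      F.iCycles_d])
  hom_inv_id := by
    rw [← cancel_mono (kernel.ι _)]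
    simp
  inv_hom_id := by
    rw [← cancel_mono (F.iCycles i)]
    simp

lemma epi_toCycles_of_exactAt (F : CochainComplex C ℤ) (i : ℤ) (h : F.ExactAt (i + 1)) :
    Epi (F.toCycles i (i + 1)) :=
  Preadditive.epi_of_isZero_cokernel' _ (F.homologyIsCokernel i (i + 1) (by simp))
    ((F.exactAt_iff_isZero_homology (i := i + 1)).1 h)

lemma prop_cycles (hst : ∀ (E F : C) (u : E ⟶ F), Epi u → P E → P F → P (kernel u))
    (F : CochainComplex C ℤ) (b c : ℤ) (hP : ∀ i, b ≤ i → P (F.X i))
    (hvan : ∀ i, c < i → IsZero (F.X i)) (hex : ∀ i, b < i → F.ExactAt i) :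
    ∀ i, b ≤ i → P (F.cycles i) := by
  suffices ∀ (k : ℕ) (i : ℤ), b ≤ i → c + 1 ≤ i + k → P (F.cycles i) by
    intro i hi
    exact this (c + 1 - i).toNat i hi (by have := Int.self_le_toNat (c + 1 - i); lia)
  intro k
  induction k with
  | zero =>
    intro i hi hc
    have hz : IsZero (F.cycles i) := IsZero.of_mono (F.iCycles i) (hvan i (by lia))
    exact P.prop_of_isZero hz
  | succ k ih =>
    intro i hi hc
    have h1 : P (F.cycles (i + 1)) := ih (i + 1) (by lia) (by push_cast at hc ⊢; lia)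
    have hepi : Epi (F.toCycles i (i + 1)) := epi_toCycles_of_exactAt F i (hex _ (by lia))
    exact P.prop_of_iso (kernelToCyclesIso F i)
      (hst _ _ (F.toCycles i (i + 1)) hepi (hP i hi) h1)

variable [HasDerivedCategory.{w} C]

theorem truncated_perfect
    (hst : ∀ (E F : C) (u : E ⟶ F), Epi u → P E → P F → P (kernel u))
    (a b c : ℤ) (F : CochainComplex C ℤ)
    (hP : ∀ i : ℤ, P (F.X i)) (hvan : ∀ i : ℤ, i < a ∨ c < i → IsZero (F.X i))
    (hcoh : ∀ i : ℤ, b < i → IsZero (F.homology i)) :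
    ∃ F' : CochainComplex C ℤ, (∀ i : ℤ, P (F'.X i)) ∧
      (∀ i : ℤ, i < a ∨ min b c < i → IsZero (F'.X i)) ∧
      Nonempty (DerivedCategory.Q.obj F' ≅ DerivedCategory.Q.obj F) := by
  by_cases hcb : c ≤ b
  · refine ⟨F, hP, ?_, ⟨Iso.refl _⟩⟩
    rw [min_eq_right hcb]
    exact hvan
  · rw [min_eq_left (by lia)]
    have hex : ∀ i, b < i → F.ExactAt i := fun i hi =>
      (F.exactAt_iff_isZero_homology (i := i)).2 (hcoh i hi)
    have hLE : F.IsLE b := (F.isLE_iff b).2 (fun i hi => hex i hi)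
    have hq : QuasiIso (F.ιTruncLE b) := (F.quasiIso_ιTruncLE_iff b).2 hLE
    have hzero : ∀ i, b < i → IsZero ((F.truncLE b).X i) := fun i hi =>
      (F.truncLE b).isZero_of_isStrictlyLE b i hi
    refine ⟨F.truncLE b, ?_, ?_, ⟨asIso (Q.map (F.ιTruncLE b))⟩⟩
    · intro i
      rcases lt_trichotomy i b with hi | rfl | hi
      · exact P.prop_of_iso (F.truncLEXIso b i hi).symm (hP i)
      · exact P.prop_of_iso (F.truncLEXIsoCycles i).symm
          (prop_cycles P hst F i c (fun j _ => hP j) (fun j hj => hvan j (Or.inr hj)) hex i le_rfl)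
      · exact P.prop_of_isZero (hzero i hi)
    · rintro i (hi | hi)
      · by_cases hib : i < b
        · exact (hvan i (Or.inl hi)).of_iso (F.truncLEXIso b i hib)
        · rcases (not_lt.1 hib).eq_or_lt with rfl | hib'
          · exact IsZero.of_mono ((F.truncLEXIsoCycles b).hom ≫ F.iCycles b) (hvan b (Or.inl hi))
          · exact hzero i hib'
      · exact hzero i hi

lemma prop_of_splitEpi (hsum : ∀ X Y : C, P X → P Y → P (X ⨯ Y))
    {X Y : C} (f : X ⟶ Y) [IsSplitEpi f] (hK : P (kernel f)) (hY : P Y) : P X := by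
  have hb := isBilimitBinaryBiconeOfIsSplitEpiOfKernel (kernelIsKernel f)
  have e : X ≅ kernel f ⊞ Y := biprod.uniqueUpToIso (kernel f) Y hb
  exact P.prop_of_iso e.symm (prop_biprod P hsum hK hY)

lemma isIso_toCycles_of_exact (K : CochainComplex C ℤ) (i j : ℤ) (hij : i + 1 = j)
    (h0 : ∀ k, k < i → IsZero (K.X k)) (hi : K.ExactAt i) (hj : K.ExactAt j) :
    IsIso (K.toCycles i j) := by
  subst hij
  have hepi : Epi (K.toCycles i (i + 1)) := epi_toCycles_of_exactAt K i hj
  have hex := (K.exactAt_iff' (i - 1) i (i + 1) (by simp) (by simp)).1 hi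
  have hmono : Mono (K.d i (i + 1)) :=
    hex.mono_g ((h0 (i - 1) (by lia)).eq_of_src _ _)
  have : Mono (K.toCycles i (i + 1) ≫ K.iCycles (i + 1)) := by
    rw [K.toCycles_i]; exact hmono
  have : Mono (K.toCycles i (i + 1)) := mono_of_mono _ (K.iCycles (i + 1))
  exact isIso_of_mono_of_epi _

theorem first_term_perfect (hsum : ∀ X Y : C, P X → P Y → P (X ⨯ Y))
    (hlift : ∀ (E F : C) (u : E ⟶ F), Epi u → P F → IsSplitEpi u)
    (hst : ∀ (E F : C) (u : E ⟶ F), Epi u → P E → P F → P (kernel u))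
    (a b : ℤ) (F : CochainComplex C ℤ)
    (hvan : ∀ i : ℤ, i < a ∨ b < i → IsZero (F.X i)) (hP : ∀ i : ℤ, a < i → P (F.X i))
    (hamp : (∃ E : CochainComplex C ℤ, (∀ i : ℤ, P (E.X i)) ∧
      (∀ i : ℤ, i < a ∨ b < i → IsZero (E.X i)) ∧
      Nonempty (DerivedCategory.Q.obj E ≅ DerivedCategory.Q.obj F))) :
    P (F.X a) := by
  obtain ⟨E, hPE, hzE, ⟨e⟩⟩ := hamp
  have : E.IsKProjective := isKProjective_of_bounded E b (fun i hi => hzE i (Or.inr hi))
    (fun i => projective_of_lift P hlift (hPE i))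
  obtain ⟨φ, hφ⟩ := exists_Q_map_eq E F e.hom
  have hKz : IsZero (Q.obj (CochainComplex.mappingCone φ)) := by
    have hT' := mappingCone_triangle_distinguished φ
    have : IsIso (Q.mapTriangle.obj (CochainComplex.mappingCone.triangle φ)).mor₁ := by
      change IsIso (Q.map φ); rw [hφ]; infer_instance
    exact (Triangle.isZero₃_iff_isIso₁ _ hT').2 this
  have hKex : ∀ i, (CochainComplex.mappingCone φ).ExactAt i := by
    intro i
    rw [HomologicalComplex.exactAt_iff_isZero_homology]
    exact ((homologyFunctor C i).map_isZero hKz).of_iso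
      ((homologyFunctorFactors C i).app (CochainComplex.mappingCone φ)).symm
  have hKP : ∀ i, i ≠ a → P ((CochainComplex.mappingCone φ).X i) := by
    intro i hi
    refine P.prop_of_iso (HomologicalComplex.homotopyCofiber.XIsoBiprod φ i (i + 1) rfl).symm
      (prop_biprod P hsum (hPE _) ?_)
    rcases lt_or_gt_of_ne hi with h | h
    · exact P.prop_of_isZero (hvan i (Or.inl h))
    · exact hP i h
  have hKzero : ∀ i, i < a - 1 ∨ b < i → IsZero ((CochainComplex.mappingCone φ).X i) := by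
    intro i hi
    apply isZero_mappingCone_X
    · apply hzE; rcases hi with h | h
      · left; lia
      · right; lia
    · apply hvan; rcases hi with h | h
      · left; lia
      · right; lia
  have h1 : P ((CochainComplex.mappingCone φ).cycles (a + 1)) :=
    prop_cycles P hst _ (a + 1) b (fun i hi => hKP i (by lia))
      (fun i hi => hKzero i (Or.inr hi)) (fun i _ => hKex i) (a + 1) le_rfl
  have h2 : P ((CochainComplex.mappingCone φ).cycles a) := by
    have := isIso_toCycles_of_exact (CochainComplex.mappingCone φ) (a - 1) a (by lia)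
      (fun k hk => hKzero k (Or.inl hk)) (hKex _) (hKex _)
    exact P.prop_of_iso (asIso ((CochainComplex.mappingCone φ).toCycles (a - 1) a))
      (hKP (a - 1) (by lia))
  have hepi : Epi ((CochainComplex.mappingCone φ).toCycles a (a + 1)) :=
    epi_toCycles_of_exactAt _ a (hKex _)
  have hsplit : IsSplitEpi ((CochainComplex.mappingCone φ).toCycles a (a + 1)) :=
    hlift _ _ _ hepi h1
  have h3 : P ((CochainComplex.mappingCone φ).X a) :=
    prop_of_splitEpi P hsum ((CochainComplex.mappingCone φ).toCycles a (a + 1))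
      (P.prop_of_iso (kernelToCyclesIso _ a).symm h2) h1
  have h4 : P (E.X (a + 1) ⊞ F.X a) :=
    P.prop_of_iso (HomologicalComplex.homotopyCofiber.XIsoBiprod φ a (a + 1) rfl) h3
  have h5 : P (kernel (biprod.fst : E.X (a + 1) ⊞ F.X a ⟶ E.X (a + 1))) :=
    hst _ _ _ inferInstance h4 (hPE _)
  exact P.prop_of_iso kernelBiprodFstIso h5

end Trunc

end Groth.Agent.Lib.helper17.PerfLift
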