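import Mathlib
import Groth.Prelude.Def_PCoh
import Groth.Agent.Lib.helper17.PerfLift

/-!
# Pseudo-coherence over an abelian category: basics (helper17)
-/

namespace Groth.Agent.Lib.helper17.PCohBasic

open CategoryTheory Limits DerivedCategory Pretriangulated

set_option linter.unusedSectionVars false

universe w v u

variable {C : Type u} [Category.{v} C] [Abelian C]
variable (P : ObjectProperty C)

/-- `X ∈ D(C)` is `n`-pseudo-coherent. -/
def NPC [HasDerivedCategory.{w} C] (n : ℤ) (X : DerivedCategory C) : Prop :=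
  ∃ E : CochainComplex C ℤ, PCoh.IsStrictPC P n E ∧ Nonempty (DerivedCategory.Q.obj E ≅ X)

lemma isStrictPC_shift {n : ℤ} {E : CochainComplex C ℤ} (hE : PCoh.IsStrictPC P n E) (m : ℤ) :
    PCoh.IsStrictPC P (n - m) (E⟦m⟧) := by
  obtain ⟨⟨b, hb⟩, hP⟩ := hE
  refine ⟨⟨b - m, fun i hi => ?_⟩, fun i hi => ?_⟩
  · exact hb (i + m) (by lia)
  · exact hP (i + m) (by lia)

lemma isStrictPC_of_le {n n' : ℤ} (h : n ≤ n') {E : CochainComplex C ℤ}
    (hE : PCoh.IsStrictPC P n E) : PCoh.IsStrictPC P n' E :=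
  ⟨hE.1, fun i hi => hE.2 i (by lia)⟩

variable [HasDerivedCategory.{w} C]

lemma NPC.of_iso {n : ℤ} {X Y : DerivedCategory C} (h : NPC P n X) (e : X ≅ Y) : NPC P n Y := by
  obtain ⟨E, hE, ⟨e'⟩⟩ := h
  exact ⟨E, hE, ⟨e' ≪≫ e⟩⟩

lemma NPC.of_le {n n' : ℤ} (hn : n ≤ n') {X : DerivedCategory C} (h : NPC P n X) :
    NPC P n' X := by
  obtain ⟨E, hE, ⟨e'⟩⟩ := h
  exact ⟨E, isStrictPC_of_le P hn hE, ⟨e'⟩⟩

lemma NPC.shift {n : ℤ} {X : DerivedCategory C} (h : NPC P n X) (m : ℤ) :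
    NPC P (n - m) (X⟦m⟧) := by
  obtain ⟨E, hE, ⟨e⟩⟩ := h
  exact ⟨E⟦m⟧, isStrictPC_shift P hE m,
    ⟨(Q.commShiftIso m).app E ≪≫ (shiftFunctor (DerivedCategory C) m).mapIso e⟩⟩

end Groth.Agent.Lib.helper17.PCohBasic
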