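import Mathlib
import Groth.Prelude.Def_PCoh
import Groth.Agent.Lib.helper17.PerfLift

/-!
# Finite type lemmas for pseudo-coherence (helper17)
-/

namespace Groth.Agent.Lib.helper17.PCohFT

open CategoryTheory Limits

set_option linter.unusedSectionVars false

universe v u

variable {C : Type u} [Category.{v} C] [Abelian C]

section Of

variable (X : ℕ → C) (d : ∀ n, X n ⟶ X (n + 1)) (sq : ∀ n, d n ≫ d (n + 1) = 0)

lemma of_exactAt_zero (h : Mono (d 0)) : (CochainComplex.of X d sq).ExactAt 0 := by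
  rw [HomologicalComplex.exactAt_iff' _ 0 0 1 (by simp) (by simp)]
  have hf : ((CochainComplex.of X d sq).sc' 0 0 1).f = 0 :=
    (CochainComplex.of X d sq).shape 0 0 (by simp)
  rw [ShortComplex.exact_iff_mono _ hf]
  change Mono (CochainComplex.of.d X d 0 (0 + 1))
  rw [CochainComplex.of_d]
  exact h

lemma of_exactAt_succ (k : ℕ) (h : (ShortComplex.mk (d k) (d (k + 1)) (sq k)).Exact) :
    (CochainComplex.of X d sq).ExactAt (k + 1) := by
  rw [HomologicalComplex.exactAt_iff' _ k (k + 1) (k + 1 + 1) (by simp) (by simp)]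
  have e : (CochainComplex.of X d sq).sc' k (k + 1) (k + 1 + 1) ≅
      ShortComplex.mk (d k) (d (k + 1)) (sq k) :=
    ShortComplex.isoMk (Iso.refl _) (Iso.refl _) (Iso.refl _)
      (by
        change 𝟙 _ ≫ d k = CochainComplex.of.d X d k (k + 1) ≫ 𝟙 _
        rw [CochainComplex.of_d]; simp)
      (by
        change 𝟙 _ ≫ d (k + 1) = CochainComplex.of.d X d (k + 1) (k + 1 + 1) ≫ 𝟙 _
        rw [CochainComplex.of_d]; simp)
  exact (ShortComplex.exact_iff_of_iso e).2 h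

end Of

section FT

variable (P : ObjectProperty C)

lemma isOfFiniteType_of_epi {X Y : C} (f : X ⟶ Y) [Epi f] (hX : PCoh.IsOfFiniteType P X) :
    PCoh.IsOfFiniteType P Y := by
  obtain ⟨E, π, hE, hπ⟩ := hX
  exact ⟨E, π ≫ f, hE, epi_comp _ _⟩

lemma isOfFiniteType_of_iso {X Y : C} (e : X ≅ Y) (hX : PCoh.IsOfFiniteType P X) :
    PCoh.IsOfFiniteType P Y :=
  isOfFiniteType_of_epi P e.hom hX

lemma isOfFiniteType_of_prop {X : C} (hX : P X) : PCoh.IsOfFiniteType P X :=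
  ⟨X, 𝟙 X, hX, inferInstance⟩

end FT

section Core

variable (E : CochainComplex C ℤ) (n : ℤ)

/-- The objects of the augmented complex `0 → Zⁿ → Eⁿ → Eⁿ⁺¹ → ⋯`. -/
noncomputable def augX : ℕ → C
  | 0 => E.cycles (n + ((0 : ℕ) : ℤ))
  | (k + 1) => E.X (n + (k : ℤ))

/-- The differentials of the augmented complex. -/
noncomputable def augD : ∀ k, augX E n k ⟶ augX E n (k + 1)
  | 0 => E.iCycles (n + ((0 : ℕ) : ℤ))
  | (k + 1) => E.d (n + (k : ℤ)) (n + ((k + 1 : ℕ) : ℤ))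

lemma augD_sq : ∀ k, augD E n k ≫ augD E n (k + 1) = 0
  | 0 => E.iCycles_d _ _
  | (k + 1) => E.d_comp_d _ _ _

/-- The augmented complex. -/
noncomputable def aug : CochainComplex C ℕ :=
  CochainComplex.of (augX E n) (augD E n) (augD_sq E n)

lemma aug_exactAt (hex : ∀ i : ℤ, n < i → E.ExactAt i) (i : ℕ) : (aug E n).ExactAt i := by
  unfold aug
  rcases i with _ | _ | k
  · exact of_exactAt_zero _ _ _ (inferInstanceAs (Mono (E.iCycles (n + ((0 : ℕ) : ℤ)))))
  · refine of_exactAt_succ _ _ _ 0 ?_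
    exact ShortComplex.exact_of_f_is_kernel _
      (E.cyclesIsKernel (n + ((0 : ℕ) : ℤ)) (n + ((0 + 1 : ℕ) : ℤ)) (by simp))
  · refine of_exactAt_succ _ _ _ (k + 1) ?_
    have h := hex (n + ((k + 1 : ℕ) : ℤ)) (by push_cast; lia)
    rw [E.exactAt_iff' (n + (k : ℤ)) (n + ((k + 1 : ℕ) : ℤ)) (n + ((k + 1 + 1 : ℕ) : ℤ))
      (by simp; ring) (by simp; ring)] at h
    exact h

variable (P : ObjectProperty C)

theorem isOfFiniteType_cycles (hqs : PCoh.IsQuasiStableUnderKernels P)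
    (hb : ∃ b : ℤ, ∀ i : ℤ, b < i → IsZero (E.X i)) (hP : ∀ i : ℤ, n ≤ i → P (E.X i))
    (hex : ∀ i : ℤ, n < i → E.ExactAt i) :
    PCoh.IsOfFiniteType P (E.cycles n) := by
  have h := hqs (aug E n) (aug_exactAt E n hex) (by
    obtain ⟨b, hb⟩ := hb
    refine ⟨(b - n).toNat + 1, fun i hi => ?_⟩
    obtain ⟨k, rfl⟩ : ∃ k, i = k + 1 := ⟨i - 1, by lia⟩
    change IsZero (E.X (n + (k : ℤ)))
    apply hb
    have := Int.self_le_toNat (b - n)
    lia) (by
    intro i hi
    obtain ⟨k, rfl⟩ : ∃ k, i = k + 1 := ⟨i - 1, by lia⟩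
    change P (E.X (n + (k : ℤ)))
    exact hP _ (by lia))
  have h' : PCoh.IsOfFiniteType P (E.cycles (n + ((0 : ℕ) : ℤ))) := h
  simpa using h'

theorem isOfFiniteType_homology [P.IsClosedUnderIsomorphisms]
    (hqs : PCoh.IsQuasiStableUnderKernels P)
    (hE : PCoh.IsStrictPC P n E) (hac : ∀ i : ℤ, n < i → IsZero (E.homology i)) :
    PCoh.IsOfFiniteType P (E.homology n) :=
  isOfFiniteType_of_epi P (E.homologyπ n)
    (isOfFiniteType_cycles E n P hqs hE.1 hE.2
      (fun i hi => (E.exactAt_iff_isZero_homology (i := i)).2 (hac i hi)))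

end Core

end Groth.Agent.Lib.helper17.PCohFT
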