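import Mathlib
import Groth.Prelude.Def_PCoh
import Groth.Agent.Lib.helper17.PerfLift
import Groth.Agent.Lib.helper17.PCohFT

/-!
# Core factorization lemmas for pseudo-coherence (helper17)
-/

namespace Groth.Agent.Lib.helper17.PCohCore

open CategoryTheory Limits Pretriangulated

set_option linter.unusedSectionVars false

universe v u

section General

variable {D D' : Type*} [Category D] [Category D']

lemma epi_map_iff_of_natIso {G₁ G₂ : D ⥤ D'} (e : G₁ ≅ G₂) {X Y : D} (f : X ⟶ Y) :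
    Epi (G₁.map f) ↔ Epi (G₂.map f) := by
  constructor
  · intro h
    rw [← NatIso.naturality_1 e f]
    infer_instance
  · intro h
    rw [← NatIso.naturality_1 e.symm f]
    infer_instance

lemma mono_map_iff_of_natIso {G₁ G₂ : D ⥤ D'} (e : G₁ ≅ G₂) {X Y : D} (f : X ⟶ Y) :
    Mono (G₁.map f) ↔ Mono (G₂.map f) := by
  constructor
  · intro h
    rw [← NatIso.naturality_1 e f]
    infer_instance
  · intro h
    rw [← NatIso.naturality_1 e.symm f]
    infer_instance

end General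

section Four

variable {𝒜 : Type*} [Category 𝒜] [Abelian 𝒜]
  {A₁ A₂ A₃ A₄ B₁ B₂ B₃ B₄ : 𝒜}
  (f₁ : A₁ ⟶ A₂) (f₂ : A₂ ⟶ A₃) (f₃ : A₃ ⟶ A₄)
  (g₁ : B₁ ⟶ B₂) (g₂ : B₂ ⟶ B₃) (g₃ : B₃ ⟶ B₄)
  (α₁ : A₁ ⟶ B₁) (α₂ : A₂ ⟶ B₂) (α₃ : A₃ ⟶ B₃) (α₄ : A₄ ⟶ B₄)
  (c₁ : f₁ ≫ α₂ = α₁ ≫ g₁) (c₂ : f₂ ≫ α₃ = α₂ ≫ g₂) (c₃ : f₃ ≫ α₄ = α₃ ≫ g₃)
  (wf₁ : f₁ ≫ f₂ = 0) (wf₂ : f₂ ≫ f₃ = 0) (wg₁ : g₁ ≫ g₂ = 0) (wg₂ : g₂ ≫ g₃ = 0)
  (hf₁ : (ShortComplex.mk f₁ f₂ wf₁).Exact) (hf₂ : (ShortComplex.mk f₂ f₃ wf₂).Exact)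
  (hg₁ : (ShortComplex.mk g₁ g₂ wg₁).Exact) (hg₂ : (ShortComplex.mk g₂ g₃ wg₂).Exact)

include c₁ c₂ c₃ hf₁ hf₂ hg₁ hg₂

open ComposableArrows in
lemma four_mono (h₁ : Epi α₁) (h₂ : Mono α₂) (h₄ : Mono α₄) : Mono α₃ := by
  let R₁ := ComposableArrows.mk₃ f₁ f₂ f₃
  let R₂ := ComposableArrows.mk₃ g₁ g₂ g₃
  let φ : R₁ ⟶ R₂ := ComposableArrows.homMk₃ α₁ α₂ α₃ α₄ c₁ c₂ c₃
  have hR₁ : R₁.Exact :=
    exact_of_δ₀ hf₁.exact_toComposableArrows hf₂.exact_toComposableArrows
  have hR₂ : R₂.Exact :=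
    exact_of_δ₀ hg₁.exact_toComposableArrows hg₂.exact_toComposableArrows
  exact Abelian.mono_of_epi_of_mono_of_mono φ hR₁ hR₂ h₁ h₂ h₄

open ComposableArrows in
lemma four_epi (h₁ : Epi α₁) (h₃ : Epi α₃) (h₄ : Mono α₄) : Epi α₂ := by
  let R₁ := ComposableArrows.mk₃ f₁ f₂ f₃
  let R₂ := ComposableArrows.mk₃ g₁ g₂ g₃
  let φ : R₁ ⟶ R₂ := ComposableArrows.homMk₃ α₁ α₂ α₃ α₄ c₁ c₂ c₃
  have hR₁ : R₁.Exact :=
    exact_of_δ₀ hf₁.exact_toComposableArrows hf₂.exact_toComposableArrows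
  have hR₂ : R₂.Exact :=
    exact_of_δ₀ hg₁.exact_toComposableArrows hg₂.exact_toComposableArrows
  exact Abelian.epi_of_epi_of_epi_of_mono φ hR₁ hR₂ h₁ h₃ h₄

end Four

section HEP

variable {C : Type u} [Category.{v} C] [Preadditive C]

/-- Homotopy extension property for degreewise split monomorphisms. -/
lemma exists_strict_of_homotopy {E E' F : CochainComplex C ℤ} (v : E ⟶ E')
    (ρ : ∀ i, E'.X i ⟶ E.X i) (hρ : ∀ i, v.f i ≫ ρ i = 𝟙 _)
    (w : E' ⟶ F) (u : E ⟶ F) (h : Homotopy (v ≫ w) u) :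
    ∃ w' : E' ⟶ F, v ≫ w' = u ∧ Nonempty (Homotopy w' w) := by
  refine ⟨w + Homotopy.nullHomotopicMap (fun i j => -(ρ i ≫ h.hom i j)), ?_, ⟨?_⟩⟩
  · rw [Preadditive.comp_add, Homotopy.comp_nullHomotopicMap]
    have : (fun i j => v.f i ≫ (-(ρ i ≫ h.hom i j))) = -h.hom := by
      funext i j
      rw [Preadditive.comp_neg, ← Category.assoc, hρ, Category.id_comp]
      rfl
    rw [this]
    ext i
    have := h.comm i
    simp only [HomologicalComplex.comp_f] at this
    simp only [HomologicalComplex.add_f_apply, HomologicalComplex.comp_f,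
      Homotopy.nullHomotopicMap, map_neg]
    rw [this]
    abel
  · have h0 : Homotopy (Homotopy.nullHomotopicMap (fun i j => -(ρ i ≫ h.hom i j))) 0 :=
      Homotopy.nullHomotopy _ (fun i j hij => by rw [h.zero i j hij, comp_zero, neg_zero])
    exact ((Homotopy.refl w).add h0).trans (Homotopy.ofEq (add_zero w))

end HEP

section TriangleMorphism

variable {𝒯 : Type*} [Category 𝒯] [HasZeroObject 𝒯] [HasShift 𝒯 ℤ] [Preadditive 𝒯]
  [∀ n : ℤ, (shiftFunctor 𝒯 n).Additive] [Pretriangulated 𝒯]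
  {𝒜 : Type*} [Category 𝒜] [Abelian 𝒜]
  (G : 𝒯 ⥤ 𝒜) [G.IsHomological] [G.ShiftSequence ℤ]
  {T T' : Triangle 𝒯} (hT : T ∈ distTriang 𝒯) (hT' : T' ∈ distTriang 𝒯) (φ : T ⟶ T')

include hT hT'

lemma epi_hom₃_of_morphism (m m' : ℤ) (h : m + 1 = m')
    (h₁ : Epi ((G.shift m').map φ.hom₁)) (h₂ : Epi ((G.shift m).map φ.hom₂))
    (h₂' : Mono ((G.shift m').map φ.hom₂)) : Epi ((G.shift m).map φ.hom₃) := by
  refine four_epi ((G.shift m).map T.mor₂) (G.homologySequenceδ T m m' h)
    ((G.shift m').map T.mor₁) ((G.shift m).map T'.mor₂) (G.homologySequenceδ T' m m' h)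
    ((G.shift m').map T'.mor₁) ((G.shift m).map φ.hom₂) ((G.shift m).map φ.hom₃)
    ((G.shift m').map φ.hom₁) ((G.shift m').map φ.hom₂) ?_ ?_ ?_
    (G.comp_homologySequenceδ T hT m m' h) (G.homologySequenceδ_comp T hT m m' h)
    (G.comp_homologySequenceδ T' hT' m m' h) (G.homologySequenceδ_comp T' hT' m m' h)
    (G.homologySequence_exact₃ T hT m m' h) (G.homologySequence_exact₁ T hT m m' h)
    (G.homologySequence_exact₃ T' hT' m m' h) (G.homologySequence_exact₁ T' hT' m m' h)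
    h₂ h₁ h₂'
  · rw [← Functor.map_comp, ← Functor.map_comp, φ.comm₂]
  · exact (G.homologySequenceδ_naturality T T' φ m m' h).symm
  · rw [← Functor.map_comp, ← Functor.map_comp, φ.comm₁]

lemma mono_hom₃_of_morphism (m m' : ℤ) (h : m + 1 = m')
    (h₁ : Epi ((G.shift m).map φ.hom₁)) (h₁' : Mono ((G.shift m').map φ.hom₁))
    (h₂ : Mono ((G.shift m).map φ.hom₂)) :
    Mono ((G.shift m).map φ.hom₃) := by
  refine four_mono ((G.shift m).map T.mor₁) ((G.shift m).map T.mor₂)
    (G.homologySequenceδ T m m' h) ((G.shift m).map T'.mor₁) ((G.shift m).map T'.mor₂)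
    (G.homologySequenceδ T' m m' h) ((G.shift m).map φ.hom₁) ((G.shift m).map φ.hom₂)
    ((G.shift m).map φ.hom₃) ((G.shift m').map φ.hom₁) ?_ ?_ ?_
    (G.homologySequence_comp T hT m) (G.comp_homologySequenceδ T hT m m' h)
    (G.homologySequence_comp T' hT' m) (G.comp_homologySequenceδ T' hT' m m' h)
    (G.homologySequence_exact₂ T hT m) (G.homologySequence_exact₃ T hT m m' h)
    (G.homologySequence_exact₂ T' hT' m) (G.homologySequence_exact₃ T' hT' m m' h)
    h₁ h₂ h₁'
  · rw [← Functor.map_comp, ← Functor.map_comp, φ.comm₁]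
  · rw [← Functor.map_comp, ← Functor.map_comp, φ.comm₂]
  · exact (G.homologySequenceδ_naturality T T' φ m m' h).symm

end TriangleMorphism

section GenLemma

open CochainComplex HomologicalComplex

variable {C : Type u} [Category.{v} C] [Abelian C]

lemma mappingCocone_triangleh_distinguished {K L : CochainComplex C ℤ} (φ : K ⟶ L) :
    (HomotopyCategory.quotient C (ComplexShape.up ℤ)).mapTriangle.obj
      (mappingCocone.triangle φ) ∈ distTriang _ := by
  rw [rotate_distinguished_triangle]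
  exact isomorphic_distinguished _ (HomotopyCategory.mappingCone_triangleh_distinguished φ) _
    ((HomotopyCategory.quotient _ _).mapTriangleRotateIso.app _ ≪≫
    (HomotopyCategory.quotient _ _).mapTriangle.mapIso (mappingCocone.rotateTriangleIso φ))

variable {E F A : CochainComplex C ℤ} (u : E ⟶ F) (θ : A ⟶ mappingCone u)

/-- The morphism `A⟦-1⟧ ⟶ E` induced by `θ : A ⟶ mappingCone u`. -/
noncomputable def glψ : A⟦(-1 : ℤ)⟧ ⟶ E :=
  (θ⟦(-1 : ℤ)⟧' : A⟦(-1 : ℤ)⟧ ⟶ mappingCocone u) ≫ mappingCocone.fst u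

/-- The modified complex `E'`. -/
noncomputable abbrev glE : CochainComplex C ℤ := mappingCone (glψ u θ)

/-- The inclusion `E ⟶ E'`. -/
noncomputable abbrev glv : E ⟶ glE u θ := mappingCone.inr (glψ u θ)

theorem exists_factor : ∃ (u' : glE u θ ⟶ F)
    (φ : mappingCone.triangleh (glψ u θ) ⟶
      (HomotopyCategory.quotient C (ComplexShape.up ℤ)).mapTriangle.obj
        (mappingCocone.triangle u)),
    glv u θ ≫ u' = u ∧
    φ.hom₁ = (HomotopyCategory.quotient C (ComplexShape.up ℤ)).map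
      (θ⟦(-1 : ℤ)⟧' : A⟦(-1 : ℤ)⟧ ⟶ mappingCocone u) ∧
    IsIso φ.hom₂ ∧
    φ.hom₃ = (HomotopyCategory.quotient C (ComplexShape.up ℤ)).map u' := by
  have hT₁ := HomotopyCategory.mappingCone_triangleh_distinguished (glψ u θ)
  have hT₂ := mappingCocone_triangleh_distinguished u
  let a : (mappingCone.triangleh (glψ u θ)).obj₁ ⟶
      ((HomotopyCategory.quotient C (ComplexShape.up ℤ)).mapTriangle.obj
        (mappingCocone.triangle u)).obj₁ :=
    (HomotopyCategory.quotient C (ComplexShape.up ℤ)).map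
      (θ⟦(-1 : ℤ)⟧' : A⟦(-1 : ℤ)⟧ ⟶ mappingCocone u)
  let b : (mappingCone.triangleh (glψ u θ)).obj₂ ⟶
      ((HomotopyCategory.quotient C (ComplexShape.up ℤ)).mapTriangle.obj
        (mappingCocone.triangle u)).obj₂ :=
    𝟙 ((HomotopyCategory.quotient C (ComplexShape.up ℤ)).obj E)
  have hb : IsIso b := IsIso.id _
  have fac : (mappingCone.triangleh (glψ u θ)).mor₁ ≫ b = a ≫
      ((HomotopyCategory.quotient C (ComplexShape.up ℤ)).mapTriangle.obj
        (mappingCocone.triangle u)).mor₁ := by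
    change (HomotopyCategory.quotient C (ComplexShape.up ℤ)).map (glψ u θ) ≫ 𝟙 _ =
      (HomotopyCategory.quotient C (ComplexShape.up ℤ)).map _ ≫
        (HomotopyCategory.quotient C (ComplexShape.up ℤ)).map (mappingCocone.fst u)
    rw [Category.comp_id, ← Functor.map_comp]
    rfl
  obtain ⟨c, hc₁, hc₂⟩ := complete_distinguished_triangle_morphism _ _ hT₁ hT₂ a b fac
  obtain ⟨w, hw'⟩ : ∃ w : glE u θ ⟶ F,
      (HomotopyCategory.quotient C (ComplexShape.up ℤ)).map w = c :=
    (HomotopyCategory.quotient C (ComplexShape.up ℤ)).map_surjective c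
  have hc₁' : (HomotopyCategory.quotient C (ComplexShape.up ℤ)).map (glv u θ) ≫
      (HomotopyCategory.quotient C (ComplexShape.up ℤ)).map w =
      (HomotopyCategory.quotient C (ComplexShape.up ℤ)).map u := by
    rw [hw']
    exact hc₁.trans (Category.id_comp _)
  have hw : Homotopy (glv u θ ≫ w) u := HomotopyCategory.homotopyOfEq _ _ (by
    rw [Functor.map_comp, hc₁'])
  obtain ⟨u', hu', ⟨hh⟩⟩ := exists_strict_of_homotopy (glv u θ)
    (fun i => (mappingCone.snd (glψ u θ)).v i i (add_zero i))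
    (fun i => mappingCone.inr_f_snd_v _ i) w u hw
  have e : (HomotopyCategory.quotient C (ComplexShape.up ℤ)).map u' = c := by
    rw [← hw']
    exact HomotopyCategory.eq_of_homotopy _ _ hh
  exact ⟨u', { hom₁ := a, hom₂ := b, hom₃ := c, comm₁ := fac, comm₂ := hc₁, comm₃ := hc₂ },
    hu', rfl, hb, e.symm⟩

lemma epi_homologyFunctor_quotient_map_iff {K L : CochainComplex C ℤ} (f : K ⟶ L) (m : ℤ) :
    Epi ((HomotopyCategory.homologyFunctor C (ComplexShape.up ℤ) m).map
      ((HomotopyCategory.quotient C (ComplexShape.up ℤ)).map f)) ↔ Epi (homologyMap f m) :=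
  epi_map_iff_of_natIso (HomotopyCategory.homologyFunctorFactors C (ComplexShape.up ℤ) m) f

lemma mono_homologyFunctor_quotient_map_iff {K L : CochainComplex C ℤ} (f : K ⟶ L) (m : ℤ) :
    Mono ((HomotopyCategory.homologyFunctor C (ComplexShape.up ℤ) m).map
      ((HomotopyCategory.quotient C (ComplexShape.up ℤ)).map f)) ↔ Mono (homologyMap f m) :=
  mono_map_iff_of_natIso (HomotopyCategory.homologyFunctorFactors C (ComplexShape.up ℤ) m) f

lemma epi_homologyMap_shift_iff {K L : CochainComplex C ℤ} (f : K ⟶ L) (n i j : ℤ)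
    (h : n + i = j) : Epi (homologyMap (f⟦n⟧') i) ↔ Epi (homologyMap f j) :=
  epi_map_iff_of_natIso ((homologyFunctor C (ComplexShape.up ℤ) 0).shiftIso n i j h) f

lemma mono_homologyMap_shift_iff {K L : CochainComplex C ℤ} (f : K ⟶ L) (n i j : ℤ)
    (h : n + i = j) : Mono (homologyMap (f⟦n⟧') i) ↔ Mono (homologyMap f j) :=
  mono_map_iff_of_natIso ((homologyFunctor C (ComplexShape.up ℤ) 0).shiftIso n i j h) f

theorem exists_factor_homology : ∃ (u' : glE u θ ⟶ F), glv u θ ≫ u' = u ∧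
    (∀ m : ℤ, Epi (homologyMap θ m) → Epi (homologyMap u' m)) ∧
    (∀ m m' : ℤ, m' + 1 = m → Epi (homologyMap θ m') → Mono (homologyMap θ m) →
      Mono (homologyMap u' m)) := by
  obtain ⟨u', φ, hu', h₁, h₂, h₃⟩ := exists_factor u θ
  have hT₁ := HomotopyCategory.mappingCone_triangleh_distinguished (glψ u θ)
  have hT₂ := mappingCocone_triangleh_distinguished u
  refine ⟨u', hu', fun m hm => ?_, fun m m' hmm' hm' hm => ?_⟩
  · rw [← epi_homologyFunctor_quotient_map_iff, ← h₃]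
    refine epi_hom₃_of_morphism (HomotopyCategory.homologyFunctor C (ComplexShape.up ℤ) 0)
      hT₁ hT₂ φ m (m + 1) rfl ?_ inferInstance inferInstance
    rw [h₁]
    erw [epi_homologyFunctor_quotient_map_iff]
    exact (epi_homologyMap_shift_iff θ (-1) (m + 1) m (by lia)).2 hm
  · rw [← mono_homologyFunctor_quotient_map_iff, ← h₃]
    refine mono_hom₃_of_morphism (HomotopyCategory.homologyFunctor C (ComplexShape.up ℤ) 0)
      hT₁ hT₂ φ m (m + 1) rfl ?_ ?_ inferInstance
    · rw [h₁]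
      erw [epi_homologyFunctor_quotient_map_iff]
      exact (epi_homologyMap_shift_iff θ (-1) m m' (by lia)).2 hm'
    · rw [h₁]
      erw [mono_homologyFunctor_quotient_map_iff]
      exact (mono_homologyMap_shift_iff θ (-1) (m + 1) m (by lia)).2 hm

/-- `H^i(cone u) = 0` when `H^i(u)` is epi and `H^{i+1}(u)` is mono. -/
lemma isZero_homology_mappingCone (i : ℤ) (h₁ : Epi (homologyMap u i))
    (h₂ : Mono (homologyMap u (i + 1))) : IsZero ((mappingCone u).homology i) := by
  have hT := HomotopyCategory.mappingCone_triangleh_distinguished u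
  let G := HomotopyCategory.homologyFunctor C (ComplexShape.up ℤ) 0
  have e₁ : (G.shift i).map (mappingCone.triangleh u).mor₂ = 0 := by
    rw [← G.homologySequence_epi_shift_map_mor₁_iff _ hT i]
    exact (epi_homologyFunctor_quotient_map_iff u i).2 h₁
  have e₂ : G.homologySequenceδ (mappingCone.triangleh u) i (i + 1) rfl = 0 := by
    rw [← G.homologySequence_mono_shift_map_mor₁_iff _ hT i (i + 1) rfl]
    exact (mono_homologyFunctor_quotient_map_iff u (i + 1)).2 h₂
  have hz := (G.homologySequence_exact₃ _ hT i (i + 1) rfl).isZero_X₂ e₁ e₂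
  exact hz.of_iso ((HomotopyCategory.homologyFunctorFactors C (ComplexShape.up ℤ) i).app
    (mappingCone u)).symm

/-- Converse: if `H^i(cone u) = 0` then `H^i(u)` is epi and `H^{i+1}(u)` is mono. -/
lemma epi_mono_of_isZero_homology_mappingCone (i : ℤ)
    (h : IsZero ((mappingCone u).homology i)) :
    Epi (homologyMap u i) ∧ Mono (homologyMap u (i + 1)) := by
  have hT := HomotopyCategory.mappingCone_triangleh_distinguished u
  let G := HomotopyCategory.homologyFunctor C (ComplexShape.up ℤ) 0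
  have hz : IsZero ((G.shift i).obj (mappingCone.triangleh u).obj₃) :=
    h.of_iso ((HomotopyCategory.homologyFunctorFactors C (ComplexShape.up ℤ) i).app
      (mappingCone u))
  constructor
  · rw [← epi_homologyFunctor_quotient_map_iff]
    exact (G.homologySequence_epi_shift_map_mor₁_iff _ hT i).2 (hz.eq_of_tgt _ _)
  · rw [← mono_homologyFunctor_quotient_map_iff]
    exact (G.homologySequence_mono_shift_map_mor₁_iff _ hT i (i + 1) rfl).2
      (hz.eq_of_src _ _)

lemma mono_glv_f (i : ℤ) : Mono ((glv u θ).f i) :=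
  mono_of_mono_fac (mappingCone.inr_f_snd_v (glψ u θ) i)

lemma isIso_glv_f (i : ℤ) (hA : IsZero (A.X i)) : IsIso ((glv u θ).f i) := by
  have hz : IsZero ((A⟦(-1 : ℤ)⟧).X (i + 1)) := by
    change IsZero (A.X (i + 1 + -1))
    exact hA.of_iso (A.XIsoOfEq (by lia))
  refine ⟨(mappingCone.snd (glψ u θ)).v i i (add_zero i), mappingCone.inr_f_snd_v _ i, ?_⟩
  have := mappingCone.id_X (glψ u θ) i (i + 1) rfl
  rw [hz.eq_of_tgt ((mappingCone.fst (glψ u θ)).1.v i (i + 1) rfl) 0, zero_comp,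
    zero_add] at this
  exact this

end GenLemma

section M1

open CochainComplex HomologicalComplex

variable {C : Type u} [Category.{v} C] [Abelian C]

/-- Factorisation of an `n`-quasi-isomorphism (SGA 6 I 1.?). -/
theorem exists_quasiIso_factorisation (n : ℤ) (E F : CochainComplex C ℤ) (u : E ⟶ F)
    (hiso : ∀ i : ℤ, n < i → IsIso (homologyMap u i))
    (hepi : Epi (homologyMap u n)) :
    ∃ (E' : CochainComplex C ℤ) (v : E ⟶ E') (u' : E' ⟶ F), v ≫ u' = u ∧ QuasiIso u' ∧
      (∀ i : ℤ, Mono (v.f i)) ∧ (∀ i : ℤ, n ≤ i → IsIso (v.f i)) := by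
  have hK : (mappingCone u).IsLE (n - 1) := by
    rw [isLE_iff]
    intro i hi
    rw [exactAt_iff_isZero_homology]
    have h₂ := hiso (i + 1) (by lia)
    refine isZero_homology_mappingCone u i ?_ inferInstance
    rcases (show n ≤ i by lia).eq_or_lt with rfl | h
    · exact hepi
    · have := hiso i h
      infer_instance
  have hq : QuasiIso ((mappingCone u).ιTruncLE (n - 1)) :=
    ((mappingCone u).quasiIso_ιTruncLE_iff (n - 1)).2 hK
  have hθ : ∀ m, IsIso (homologyMap ((mappingCone u).ιTruncLE (n - 1)) m) := fun m =>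
    (quasiIsoAt_iff_isIso_homologyMap _ m).1 inferInstance
  obtain ⟨u', hu', h₁, h₂⟩ := exists_factor_homology u ((mappingCone u).ιTruncLE (n - 1))
  refine ⟨_, glv u _, u', hu', ?_, fun i => mono_glv_f u _ i, fun i hi => ?_⟩
  · rw [quasiIso_iff]
    intro m
    rw [quasiIsoAt_iff_isIso_homologyMap]
    have := hθ m
    have := hθ (m - 1)
    have := h₁ m inferInstance
    have := h₂ m (m - 1) (by lia) inferInstance inferInstance
    exact isIso_of_mono_of_epi _
  · exact isIso_glv_f u _ i (((mappingCone u).truncLE (n - 1)).isZero_of_isStrictlyLE (n - 1) i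
      (by lia))

end M1

section M2

open CochainComplex HomologicalComplex

variable {C : Type u} [Category.{v} C] [Abelian C]

/-- The cokernel of `(glv u θ).f i` is `A.X i`. -/
noncomputable def cokernelGlvIso {E F A : CochainComplex C ℤ} (u : E ⟶ F)
    (θ : A ⟶ mappingCone u) (i : ℤ) : cokernel ((glv u θ).f i) ≅ A.X i := by
  let S : ShortComplex C := ShortComplex.mk ((glv u θ).f i)
    ((mappingCone.fst (glψ u θ)).1.v i (i + 1) rfl) (mappingCone.inr_f_fst_v _ _ _ _)
  let sp : S.Splitting :=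
    { r := (mappingCone.snd (glψ u θ)).v i i (add_zero i)
      s := (mappingCone.inl (glψ u θ)).v (i + 1) i (by lia)
      f_r := mappingCone.inr_f_snd_v _ i
      s_g := mappingCone.inl_v_fst_v _ _ _ rfl
      id := by
        have := mappingCone.id_X (glψ u θ) i (i + 1) rfl
        rw [add_comm] at this
        exact this }
  exact (cokernelIsCokernel _).coconePointUniqueUpToIso sp.gIsCokernel ≪≫
    (A.XIsoOfEq (show i + 1 + -1 = i by lia))

variable (P : ObjectProperty C) [P.IsClosedUnderIsomorphisms]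

lemma prop_glE_X (hsum : ∀ X Y : C, P X → P Y → P (X ⨯ Y))
    {E F A : CochainComplex C ℤ} (u : E ⟶ F)
    (θ : A ⟶ mappingCone u) (i : ℤ) (hE : P (E.X i)) (hA : P (A.X i)) :
    P ((glE u θ).X i) := by
  have hA' : P ((A⟦(-1 : ℤ)⟧).X (i + 1)) := by
    change P (A.X (i + 1 + -1))
    exact P.prop_of_iso (A.XIsoOfEq (show i + 1 + -1 = i by lia)).symm hA
  exact P.prop_of_iso
    (HomologicalComplex.homotopyCofiber.XIsoBiprod (glψ u θ) i (i + 1) rfl).symm
    (Groth.Agent.Lib.helper17.PerfLift.prop_biprod P hsum hA' hE)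

theorem exists_modification' (hql : PCoh.IsQuasiLiftable P)
    (n : ℤ) (E F : CochainComplex C ℤ) (u : E ⟶ F)
    (hiso : ∀ i : ℤ, n + 1 < i → IsIso (homologyMap u i))
    (hepi : Epi (homologyMap u (n + 1)))
    (hcone : PCoh.IsOfFiniteType P ((mappingCone u).homology n)) :
    ∃ (E' : CochainComplex C ℤ) (v : E ⟶ E') (u' : E' ⟶ F), v ≫ u' = u ∧
      (∀ i : ℤ, Mono (v.f i)) ∧
      (∀ i : ℤ, i ≠ n → IsIso (v.f i)) ∧ P (cokernel (v.f n)) ∧
      (∀ i : ℤ, n < i → IsIso (homologyMap u' i)) ∧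
      Epi (homologyMap u' n) ∧
      ((∀ X Y : C, P X → P Y → P (X ⨯ Y)) → P (E.X n) → P (E'.X n)) := by
  obtain ⟨L₀, π₀, hL₀, hπ₀⟩ := hcone
  obtain ⟨L, t, hL, ht⟩ := hql _ _ (pullback.fst π₀ ((mappingCone u).homologyπ n))
    inferInstance hL₀
  let g : L ⟶ (mappingCone u).cycles n := t ≫ pullback.snd _ _
  have hg : Epi (g ≫ (mappingCone u).homologyπ n) := by
    have : g ≫ (mappingCone u).homologyπ n =
        (t ≫ pullback.fst π₀ ((mappingCone u).homologyπ n)) ≫ π₀ := by
      simp only [g, Category.assoc, pullback.condition]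
    rw [this]
    exact epi_comp _ _
  let A : CochainComplex C ℤ := (single C (ComplexShape.up ℤ) n).obj L
  let θ : A ⟶ mappingCone u := mkHomFromSingle (g ≫ (mappingCone u).iCycles n)
    (fun k _ => by simp)
  have hzK : ∀ m, n < m → IsZero ((mappingCone u).homology m) := by
    intro m hm
    have h₂ := hiso (m + 1) (by lia)
    refine isZero_homology_mappingCone u m ?_ inferInstance
    rcases (show n + 1 ≤ m by lia).eq_or_lt with rfl | h
    · exact hepi
    · have := hiso m h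
      infer_instance
  have hzA : ∀ m, m ≠ n → IsZero (A.homology m) := fun m hm =>
    isZero_single_obj_homology _ _ _ _ hm
  have hθn : Epi (homologyMap θ n) := by
    have h1 : (singleObjCyclesSelfIso (ComplexShape.up ℤ) n L).inv ≫ cyclesMap θ n = g := by
      rw [← cancel_mono ((mappingCone u).iCycles n), Category.assoc, cyclesMap_i,
        singleObjCyclesSelfIso_inv_iCycles_assoc, mkHomFromSingle_f, Iso.inv_hom_id_assoc]
    have h2 : Epi (cyclesMap θ n ≫ (mappingCone u).homologyπ n) := by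
      have : Epi ((singleObjCyclesSelfIso (ComplexShape.up ℤ) n L).inv ≫
          cyclesMap θ n ≫ (mappingCone u).homologyπ n) := by
        rw [← Category.assoc, h1]; exact hg
      exact epi_of_epi (singleObjCyclesSelfIso (ComplexShape.up ℤ) n L).inv _
    rw [← homologyπ_naturality] at h2
    exact epi_of_epi (A.homologyπ n) _
  obtain ⟨u', hu', h₁, h₂⟩ := exists_factor_homology u θ
  refine ⟨_, glv u θ, u', hu', fun i => mono_glv_f u θ i, fun i hi => ?_, ?_,
    fun i hi => ?_, h₁ n hθn, fun hsum hE => ?_⟩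
  · exact isIso_glv_f u θ i (isZero_single_obj_X _ _ _ _ hi)
  · exact P.prop_of_iso ((cokernelGlvIso u θ n).trans (singleObjXSelf _ n L)).symm hL
  rotate_left
  · exact prop_glE_X P hsum u θ n hE
      (P.prop_of_iso (singleObjXSelf (ComplexShape.up ℤ) n L).symm hL)
  · have e1 : Epi (homologyMap u' i) := h₁ i ((hzK i hi).epi _)
    have e2 : Mono (homologyMap u' i) := by
      refine h₂ i (i - 1) (by lia) ?_ ((hzA i (by lia)).mono _)
      rcases (show n ≤ i - 1 by lia).eq_or_lt with h | h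
      · rw [← h]; exact hθn
      · exact (hzK _ h).epi _
    exact isIso_of_mono_of_epi _

theorem exists_modification (hql : PCoh.IsQuasiLiftable P)
    (n : ℤ) (E F : CochainComplex C ℤ) (u : E ⟶ F)
    (hiso : ∀ i : ℤ, n + 1 < i → IsIso (homologyMap u i))
    (hepi : Epi (homologyMap u (n + 1)))
    (hcone : PCoh.IsOfFiniteType P ((mappingCone u).homology n)) :
    ∃ (E' : CochainComplex C ℤ) (v : E ⟶ E') (u' : E' ⟶ F), v ≫ u' = u ∧
      (∀ i : ℤ, Mono (v.f i)) ∧
      (∀ i : ℤ, i ≠ n → IsIso (v.f i)) ∧ P (cokernel (v.f n)) ∧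
      (∀ i : ℤ, n < i → IsIso (homologyMap u' i)) ∧
      Epi (homologyMap u' n) := by
  obtain ⟨E', v, u', h1, h2, h3, h4, h5, h6, _⟩ :=
    exists_modification' P hql n E F u hiso hepi hcone
  exact ⟨E', v, u', h1, h2, h3, h4, h5, h6⟩

end M2

end Groth.Agent.Lib.helper17.PCohCore
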