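import Mathlib
import Groth.Prelude.Def_PCoh
import Groth.Agent.Lib.helper17.PerfLift
import Groth.Agent.Lib.helper17.PCohFT
import Groth.Agent.Lib.helper17.PCohCore
import Groth.Agent.Lib.helper17.PCohBasic

/-!
# Strictly pseudo-coherent replacements (helper17)
-/

namespace Groth.Agent.Lib.helper17.PCohT1

open CategoryTheory Limits Pretriangulated CochainComplex HomologicalComplex
open Groth.Agent.Lib.helper17.PCohCore Groth.Agent.Lib.helper17.PCohFT
open Groth.Agent.Lib.helper17.PerfLift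

set_option linter.unusedSectionVars false

universe v u

variable {C : Type u} [Category.{v} C] [Abelian C]

section ConeMap

variable {K₁ L₁ K₂ L₂ : CochainComplex C ℤ} (φ₁ : K₁ ⟶ L₁) (φ₂ : K₂ ⟶ L₂)
  (a : K₁ ⟶ K₂) (b : L₁ ⟶ L₂) (comm : φ₁ ≫ b = a ≫ φ₂)

lemma quasiIso_mappingCone_map [QuasiIso a] [QuasiIso b] :
    QuasiIso (mappingCone.map φ₁ φ₂ a b comm) := by
  have hT₁ := HomotopyCategory.mappingCone_triangleh_distinguished φ₁
  have hT₂ := HomotopyCategory.mappingCone_triangleh_distinguished φ₂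
  let φ : mappingCone.triangleh φ₁ ⟶ mappingCone.triangleh φ₂ :=
    (HomotopyCategory.quotient C (ComplexShape.up ℤ)).mapTriangle.map
      (mappingCone.triangleMap φ₁ φ₂ a b comm)
  have ha : ∀ m, IsIso (homologyMap a m) := fun m =>
    (quasiIsoAt_iff_isIso_homologyMap _ m).1 inferInstance
  have hb : ∀ m, IsIso (homologyMap b m) := fun m =>
    (quasiIsoAt_iff_isIso_homologyMap _ m).1 inferInstance
  rw [quasiIso_iff]
  intro m
  rw [quasiIsoAt_iff_isIso_homologyMap]
  have := ha m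
  have := ha (m + 1)
  have := hb m
  have := hb (m + 1)
  have e : Epi (homologyMap (mappingCone.map φ₁ φ₂ a b comm) m) := by
    rw [← epi_homologyFunctor_quotient_map_iff]
    exact epi_hom₃_of_morphism (HomotopyCategory.homologyFunctor C (ComplexShape.up ℤ) 0)
      hT₁ hT₂ φ m (m + 1) rfl
      ((epi_homologyFunctor_quotient_map_iff a (m + 1)).2 inferInstance)
      ((epi_homologyFunctor_quotient_map_iff b m).2 inferInstance)
      ((mono_homologyFunctor_quotient_map_iff b (m + 1)).2 inferInstance)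
  have e' : Mono (homologyMap (mappingCone.map φ₁ φ₂ a b comm) m) := by
    rw [← mono_homologyFunctor_quotient_map_iff]
    exact mono_hom₃_of_morphism (HomotopyCategory.homologyFunctor C (ComplexShape.up ℤ) 0)
      hT₁ hT₂ φ m (m + 1) rfl
      ((epi_homologyFunctor_quotient_map_iff a m).2 inferInstance)
      ((mono_homologyFunctor_quotient_map_iff a (m + 1)).2 inferInstance)
      ((mono_homologyFunctor_quotient_map_iff b m).2 inferInstance)
  exact isIso_of_mono_of_epi _

end ConeMap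

section T1

variable (P : ObjectProperty C)

/-- `S` is strictly perfect with terms in degrees `[k, b]`. -/
def IsPerfIn (k b : ℤ) (S : CochainComplex C ℤ) : Prop :=
  (∀ i, P (S.X i)) ∧ ∀ i, i < k ∨ b < i → IsZero (S.X i)

/-- `f` is a `k`-quasi-isomorphism. -/
def IsNQis (k : ℤ) {S X : CochainComplex C ℤ} (f : S ⟶ X) : Prop :=
  (∀ i, k < i → IsIso (homologyMap f i)) ∧ Epi (homologyMap f k)

variable [P.IsClosedUnderIsomorphisms] [P.ContainsZero]

lemma isOfFiniteType_homology_cone (hsum : ∀ X Y : C, P X → P Y → P (X ⨯ Y))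
    (hqs : PCoh.IsQuasiStableUnderKernels P) (n k b b' : ℤ) (hnk : n ≤ k)
    {S X F : CochainComplex C ℤ} (σ : S ⟶ X) (w : X ⟶ F) [QuasiIso w]
    (hS : ∀ i, n < i → P (S.X i)) (hSb : ∀ i, b < i → IsZero (S.X i))
    (hF : ∀ i, n ≤ i → P (F.X i)) (hFb : ∀ i, b' < i → IsZero (F.X i))
    (hσ : IsNQis (k + 1) σ) : PCoh.IsOfFiniteType P ((mappingCone σ).homology k) := by
  have hw : ∀ m, IsIso (homologyMap w m) := fun m =>
    (quasiIsoAt_iff_isIso_homologyMap _ m).1 inferInstance
  have : QuasiIso (𝟙 S) := inferInstance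
  have comm : σ ≫ w = 𝟙 S ≫ σ ≫ w := by simp
  have hq := quasiIso_mappingCone_map σ (σ ≫ w) (𝟙 S) w comm
  have hq' : IsIso (homologyMap (mappingCone.map σ (σ ≫ w) (𝟙 S) w comm) k) :=
    (quasiIsoAt_iff_isIso_homologyMap _ k).1 inferInstance
  refine isOfFiniteType_of_iso P (asIso (homologyMap
    (mappingCone.map σ (σ ≫ w) (𝟙 S) w comm) k)).symm ?_
  refine isOfFiniteType_homology (mappingCone (σ ≫ w)) k P hqs ⟨⟨max b b', fun i hi => ?_⟩,
    fun i hi => ?_⟩ (fun i hi => ?_)
  · exact isZero_mappingCone_X _ i (hSb _ (by have := le_max_left b b'; lia))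
      (hFb _ (by have := le_max_right b b'; lia))
  · exact P.prop_of_iso (HomologicalComplex.homotopyCofiber.XIsoBiprod (σ ≫ w) i (i + 1) rfl).symm
      (prop_biprod P hsum (hS _ (by lia)) (hF _ (by lia)))
  · have := hw i
    have := hw (i + 1)
    have h1 : Epi (homologyMap σ i) := by
      rcases (show k + 1 ≤ i by lia).eq_or_lt with h | h
      · rw [← h]; exact hσ.2
      · have := hσ.1 i h; infer_instance
    have h2 : IsIso (homologyMap σ (i + 1)) := hσ.1 (i + 1) (by lia)
    refine isZero_homology_mappingCone (σ ≫ w) i ?_ ?_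
    · rw [homologyMap_comp]; infer_instance
    · rw [homologyMap_comp]; infer_instance

lemma exists_perf_nqis (hsum : ∀ X Y : C, P X → P Y → P (X ⨯ Y))
    (hqs : PCoh.IsQuasiStableUnderKernels P) (hql : PCoh.IsQuasiLiftable P)
    (n b b' : ℤ) {X F : CochainComplex C ℤ} (w : X ⟶ F) [QuasiIso w]
    (hF : ∀ i, n ≤ i → P (F.X i)) (hFb : ∀ i, b' < i → IsZero (F.X i))
    (hXz : ∀ i, b < i → IsZero (X.homology i)) :
    ∀ (j : ℕ) (k : ℤ), k + j = b + 1 → n ≤ k →
      ∃ (S : CochainComplex C ℤ) (σ : S ⟶ X), IsPerfIn P k b S ∧ IsNQis k σ := by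
  intro j
  induction j with
  | zero =>
    intro k hk hnk
    refine ⟨HomologicalComplex.zero, 0, ⟨fun i => P.prop_of_isZero (Limits.isZero_zero C),
      fun i _ => Limits.isZero_zero C⟩, fun i hi => ?_, ?_⟩
    · have hz : IsZero ((HomologicalComplex.zero : CochainComplex C ℤ).homology i) := by
        rw [← exactAt_iff_isZero_homology]
        exact ShortComplex.exact_of_isZero_X₂ _ (Limits.isZero_zero C)
      exact ⟨0, hz.eq_of_src _ _, (hXz i (by lia)).eq_of_src _ _⟩
    · exact (hXz k (by lia)).epi _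
  | succ j ih =>
    intro k hk hnk
    obtain ⟨S, σ, hS, hσ⟩ := ih (k + 1) (by push_cast at hk ⊢; lia) (by lia)
    have hft := isOfFiniteType_homology_cone P hsum hqs n k b b' hnk σ w (fun i _ => hS.1 i)
      (fun i hi => hS.2 i (Or.inr hi)) hF hFb hσ
    obtain ⟨S', v, σ', hvσ, hmono, hiso, hcok, hσ'iso, hσ'epi⟩ :=
      exists_modification P hql k S X σ hσ.1 hσ.2 hft
    have hSk : IsZero (S.X k) := hS.2 k (Or.inl (by lia))
    have hPk : P (S'.X k) := by
      have h0 : v.f k = 0 := hSk.eq_of_src _ _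
      exact P.prop_of_iso (cokernelIsoOfEq h0 ≪≫ cokernelZeroIsoTarget) hcok
    refine ⟨S', σ', ⟨fun i => ?_, fun i hi => ?_⟩, hσ'iso, hσ'epi⟩
    · by_cases hik : i = k
      · rw [hik]; exact hPk
      · have := hiso i hik
        exact P.prop_of_iso (asIso (v.f i)) (hS.1 i)
    · have hik : i ≠ k := by
        rcases hi with hi | hi
        · lia
        · push_cast at hk; lia
      have := hiso i hik
      refine (hS.2 i ?_).of_iso (asIso (v.f i)).symm
      rcases hi with hi | hi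
      · left; lia
      · right; exact hi

theorem exists_strictPC_quasiIso (hsum : ∀ X Y : C, P X → P Y → P (X ⨯ Y))
    (hqs : PCoh.IsQuasiStableUnderKernels P) (hql : PCoh.IsQuasiLiftable P)
    (n : ℤ) (X F : CochainComplex C ℤ) (hF : PCoh.IsStrictPC P n F) (w : X ⟶ F)
    (hw : QuasiIso w) :
    ∃ (F' : CochainComplex C ℤ) (v : F' ⟶ X), PCoh.IsStrictPC P n F' ∧ QuasiIso v := by
  obtain ⟨⟨b₀, hb₀⟩, hFP⟩ := hF
  have hw' : ∀ m, IsIso (homologyMap w m) := fun m =>
    (quasiIsoAt_iff_isIso_homologyMap _ m).1 inferInstance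
  have hXz : ∀ i, max b₀ n < i → IsZero (X.homology i) := by
    intro i hi
    have := hw' i
    have hz : IsZero (F.homology i) := by
      rw [← exactAt_iff_isZero_homology]
      exact ShortComplex.exact_of_isZero_X₂ _ (hb₀ i (lt_of_le_of_lt (le_max_left _ _) hi))
    exact hz.of_iso (asIso (homologyMap w i))
  obtain ⟨S, σ, hS, hσ⟩ := exists_perf_nqis P hsum hqs hql n (max b₀ n) b₀ w hFP
    hb₀ hXz
    (max b₀ n + 1 - n).toNat n (by
      have := le_max_right b₀ n
      rw [Int.toNat_of_nonneg (by lia)]; ring) le_rfl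
  obtain ⟨E', v, u', hvu, hq, hmono, hiso⟩ :=
    exists_quasiIso_factorisation n S X σ hσ.1 hσ.2
  refine ⟨E', u', ⟨⟨max b₀ n, fun i hi => ?_⟩, fun i hi => ?_⟩, hq⟩
  · have := hiso i (lt_of_le_of_lt (le_max_right _ _) hi).le
    exact (hS.2 i (Or.inr hi)).of_iso (asIso (v.f i)).symm
  · have := hiso i hi
    exact P.prop_of_iso (asIso (v.f i)) (hS.1 i)

/-- An `n`-quasi-isomorphism from a strictly `n`-pseudo-coherent complex can be completed
to a quasi-isomorphism from a strictly `n`-pseudo-coherent complex. -/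
lemma exists_strictPC_of_nqis (n : ℤ) {S K : CochainComplex C ℤ} (hS : PCoh.IsStrictPC P n S)
    (θ : S ⟶ K) (hθ : IsNQis n θ) :
    ∃ (E' : CochainComplex C ℤ) (v : S ⟶ E') (u' : E' ⟶ K), v ≫ u' = θ ∧
      PCoh.IsStrictPC P n E' ∧ QuasiIso u' ∧ (∀ i, Mono (v.f i)) ∧
      (∀ i, n ≤ i → IsIso (v.f i)) := by
  obtain ⟨⟨b, hb⟩, hP⟩ := hS
  obtain ⟨E', v, u', hvu, hq, hmono, hiso⟩ :=
    exists_quasiIso_factorisation n S K θ hθ.1 hθ.2
  refine ⟨E', v, u', hvu, ⟨⟨max b n, fun i hi => ?_⟩, fun i hi => ?_⟩, hq, hmono, hiso⟩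
  · have := hiso i (lt_of_le_of_lt (le_max_right _ _) hi).le
    exact (hb i (lt_of_le_of_lt (le_max_left _ _) hi)).of_iso (asIso (v.f i)).symm
  · have := hiso i hi
    exact P.prop_of_iso (asIso (v.f i)) (hP i hi)

/-- Lifting a finite type generator of `Hⁿ(K)` to a chain map from a single complex. -/
lemma exists_single_map (hql : PCoh.IsQuasiLiftable P) (K : CochainComplex C ℤ) (n : ℤ)
    (hft : PCoh.IsOfFiniteType P (K.homology n)) :
    ∃ (L : C) (_ : P L) (θ : (single C (ComplexShape.up ℤ) n).obj L ⟶ K),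
      Epi (homologyMap θ n) := by
  obtain ⟨L₀, π₀, hL₀, hπ₀⟩ := hft
  obtain ⟨L, t, hL, ht⟩ := hql _ _ (pullback.fst π₀ (K.homologyπ n)) inferInstance hL₀
  let g : L ⟶ K.cycles n := t ≫ pullback.snd _ _
  have hg : Epi (g ≫ K.homologyπ n) := by
    have : g ≫ K.homologyπ n = (t ≫ pullback.fst π₀ (K.homologyπ n)) ≫ π₀ := by
      simp only [g, Category.assoc, pullback.condition]
    rw [this]
    exact epi_comp _ _
  let θ : (single C (ComplexShape.up ℤ) n).obj L ⟶ K := mkHomFromSingle (g ≫ K.iCycles n)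
    (fun k _ => by simp)
  refine ⟨L, hL, θ, ?_⟩
  have h1 : (singleObjCyclesSelfIso (ComplexShape.up ℤ) n L).inv ≫ cyclesMap θ n = g := by
    rw [← cancel_mono (K.iCycles n), Category.assoc, cyclesMap_i,
      singleObjCyclesSelfIso_inv_iCycles_assoc, mkHomFromSingle_f, Iso.inv_hom_id_assoc]
  have h2 : Epi (cyclesMap θ n ≫ K.homologyπ n) := by
    have : Epi ((singleObjCyclesSelfIso (ComplexShape.up ℤ) n L).inv ≫
        cyclesMap θ n ≫ K.homologyπ n) := by
      rw [← Category.assoc, h1]; exact hg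
    exact epi_of_epi (singleObjCyclesSelfIso (ComplexShape.up ℤ) n L).inv _
  rw [← homologyπ_naturality] at h2
  exact epi_of_epi (((single C (ComplexShape.up ℤ) n).obj L).homologyπ n) _

lemma isStrictPC_single (n k : ℤ) {L : C} (hL : P L) :
    PCoh.IsStrictPC P k ((single C (ComplexShape.up ℤ) n).obj L) := by
  refine ⟨⟨n, fun i hi => isZero_single_obj_X _ _ _ _ (by lia)⟩, fun i _ => ?_⟩
  by_cases h : i = n
  · subst h
    exact P.prop_of_iso (singleObjXSelf (ComplexShape.up ℤ) i L).symm hL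
  · exact P.prop_of_isZero (isZero_single_obj_X _ _ _ _ h)

end T1

end Groth.Agent.Lib.helper17.PCohT1
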