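import Mathlib
import Groth.Prelude.Def_PCoh
import Groth.Agent.Lib.helper17.PerfLift
import Groth.Agent.Lib.helper17.PCohFT
import Groth.Agent.Lib.helper17.PCohCore
import Groth.Agent.Lib.helper17.PCohBasic
import Groth.Agent.Lib.helper17.PCohT1

/-!
# Pseudo-coherence in distinguished triangles (helper17)
-/

namespace Groth.Agent.Lib.helper17.PCohTri

open CategoryTheory Limits Pretriangulated CochainComplex HomologicalComplex DerivedCategory
open Groth.Agent.Lib.helper17.PCohCore Groth.Agent.Lib.helper17.PCohFT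
open Groth.Agent.Lib.helper17.PerfLift Groth.Agent.Lib.helper17.PCohT1
open Groth.Agent.Lib.helper17.PCohBasic

set_option linter.unusedSectionVars false

universe w v u

variable {C : Type u} [Category.{v} C] [Abelian C] [HasDerivedCategory.{w} C]
variable (P : ObjectProperty C) [P.IsClosedUnderIsomorphisms] [P.ContainsZero]

lemma exists_roof (hsum : ∀ X Y : C, P X → P Y → P (X ⨯ Y))
    (hqs : PCoh.IsQuasiStableUnderKernels P) (hql : PCoh.IsQuasiLiftable P)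
    (k : ℤ) (E₁ E₂ : CochainComplex C ℤ) (hE₁ : PCoh.IsStrictPC P k E₁)
    (α : Q.obj E₁ ⟶ Q.obj E₂) :
    ∃ (E₁' : CochainComplex C ℤ) (s : E₁' ⟶ E₁) (g : E₁' ⟶ E₂),
      PCoh.IsStrictPC P k E₁' ∧ QuasiIso s ∧ Q.map s ≫ α = Q.map g := by
  obtain ⟨X', s₀, hs₀, g₀, hα⟩ := right_fac α
  have hs₀' : QuasiIso s₀ := (isIso_Q_map_iff_quasiIso (φ := s₀)).1 hs₀
  obtain ⟨F', v, hF', hv⟩ := exists_strictPC_quasiIso P hsum hqs hql k X' E₁ hE₁ s₀ hs₀'
  refine ⟨F', v ≫ s₀, v ≫ g₀, hF', inferInstance, ?_⟩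
  rw [hα, Functor.map_comp, Functor.map_comp, Category.assoc, IsIso.hom_inv_id_assoc]

lemma isStrictPC_mappingCone (hsum : ∀ X Y : C, P X → P Y → P (X ⨯ Y)) {k₁ k₂ : ℤ}
    {E₁ E₂ : CochainComplex C ℤ} (h₁ : PCoh.IsStrictPC P k₁ E₁) (h₂ : PCoh.IsStrictPC P k₂ E₂)
    (φ : E₁ ⟶ E₂) : PCoh.IsStrictPC P (max (k₁ - 1) k₂) (mappingCone φ) := by
  obtain ⟨⟨b₁, hb₁⟩, hP₁⟩ := h₁
  obtain ⟨⟨b₂, hb₂⟩, hP₂⟩ := h₂
  refine ⟨⟨max b₁ b₂, fun i hi => ?_⟩, fun i hi => ?_⟩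
  · exact isZero_mappingCone_X _ i
      (hb₁ _ (by have := le_max_left b₁ b₂; lia)) (hb₂ _ (by have := le_max_right b₁ b₂; lia))
  · exact P.prop_of_iso (HomologicalComplex.homotopyCofiber.XIsoBiprod φ i (i + 1) rfl).symm
      (prop_biprod P hsum (hP₁ _ (by have := le_max_left (k₁ - 1) k₂; lia))
        (hP₂ _ (by have := le_max_right (k₁ - 1) k₂; lia)))

theorem NPC_cone (hsum : ∀ X Y : C, P X → P Y → P (X ⨯ Y))
    (hqs : PCoh.IsQuasiStableUnderKernels P) (hql : PCoh.IsQuasiLiftable P)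
    (T : Triangle (DerivedCategory C)) (hT : T ∈ distTriang _) (k₁ k₂ : ℤ)
    (h₁ : NPC P k₁ T.obj₁) (h₂ : NPC P k₂ T.obj₂) : NPC P (max (k₁ - 1) k₂) T.obj₃ := by
  obtain ⟨E₁, hE₁, ⟨e₁⟩⟩ := h₁
  obtain ⟨E₂, hE₂, ⟨e₂⟩⟩ := h₂
  obtain ⟨E₁', s, g, hE₁', hs, hg⟩ := exists_roof P hsum hqs hql k₁ E₁ E₂ hE₁
    (e₁.hom ≫ T.mor₁ ≫ e₂.inv)
  have hT' := mappingCone_triangle_distinguished g
  have hQs : IsIso (Q.map s) := (isIso_Q_map_iff_quasiIso (φ := s)).2 hs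
  let e₁' : Q.obj E₁' ≅ T.obj₁ := asIso (Q.map s) ≪≫ e₁
  have comm : (Q.mapTriangle.obj (CochainComplex.mappingCone.triangle g)).mor₁ ≫ e₂.hom =
      e₁'.hom ≫ T.mor₁ := by
    change Q.map g ≫ e₂.hom = _
    rw [← hg]; simp [e₁']
  let e := isoTriangleOfIso₁₂ _ _ hT' hT e₁' e₂ comm
  exact ⟨mappingCone g, isStrictPC_mappingCone P hsum hE₁' hE₂ g, ⟨Triangle.π₃.mapIso e⟩⟩

theorem NPC_triangle (hsum : ∀ X Y : C, P X → P Y → P (X ⨯ Y))
    (hqs : PCoh.IsQuasiStableUnderKernels P) (hql : PCoh.IsQuasiLiftable P)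
    (n : ℤ) (T : Triangle (DerivedCategory C)) (hT : T ∈ distTriang _) :
    (NPC P (n + 1) T.obj₁ → NPC P n T.obj₂ → NPC P n T.obj₃) ∧
    (NPC P n T.obj₁ → NPC P n T.obj₃ → NPC P n T.obj₂) ∧
    (NPC P (n + 1) T.obj₂ → NPC P n T.obj₃ → NPC P (n + 1) T.obj₁) := by
  refine ⟨fun h₁ h₂ => ?_, fun h₁ h₃ => ?_, fun h₂ h₃ => ?_⟩
  · have := NPC_cone P hsum hqs hql T hT (n + 1) n h₁ h₂
    simpa using this
  · have h := NPC_cone P hsum hqs hql T.invRotate (inv_rot_of_distTriang _ hT) (n + 1) n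
      (by simpa using h₃.shift P (-1)) h₁
    simpa using h
  · have h := NPC_cone P hsum hqs hql T.invRotate.invRotate
      (inv_rot_of_distTriang _ (inv_rot_of_distTriang _ hT)) (n + 1 + 1) (n + 1)
      (by
        have := h₂.shift P (-1)
        simpa using this)
      (by
        have := h₃.shift P (-1)
        simpa using this)
    simpa using h

end Groth.Agent.Lib.helper17.PCohTri
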