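import Mathlib
import Groth.Prelude.Def_PCoh
import Groth.Agent.Lib.helper17.PerfLift
import Groth.Agent.Lib.helper17.PCohFT
import Groth.Agent.Lib.helper17.PCohCore
import Groth.Agent.Lib.helper17.PCohBasic
import Groth.Agent.Lib.helper17.PCohT1
import Groth.Agent.Lib.helper17.PCohTri

/-!
# Pseudo-coherence in the derived category: cohomological criteria (helper17)
-/

namespace Groth.Agent.Lib.helper17.PCohD

open CategoryTheory Limits Pretriangulated CochainComplex HomologicalComplex DerivedCategory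
open Groth.Agent.Lib.helper17.PCohCore Groth.Agent.Lib.helper17.PCohFT
open Groth.Agent.Lib.helper17.PerfLift Groth.Agent.Lib.helper17.PCohT1
open Groth.Agent.Lib.helper17.PCohBasic Groth.Agent.Lib.helper17.PCohTri

set_option linter.unusedSectionVars false

universe w v u

variable {C : Type u} [Category.{v} C] [Abelian C] [HasDerivedCategory.{w} C]
variable (P : ObjectProperty C) [P.IsClosedUnderIsomorphisms] [P.ContainsZero]

/-- `Hⁱ(Q K) ≅ Hⁱ(K)`. -/
noncomputable def homologyQIso (K : CochainComplex C ℤ) (i : ℤ) :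
    (DerivedCategory.homologyFunctor C i).obj (Q.obj K) ≅ K.homology i :=
  (DerivedCategory.homologyFunctorFactors C i).app K

lemma isZero_homology_of_iso {K : CochainComplex C ℤ} {F : DerivedCategory C}
    (e : Q.obj K ≅ F) (i : ℤ) (h : IsZero ((DerivedCategory.homologyFunctor C i).obj F)) :
    IsZero (K.homology i) :=
  h.of_iso ((homologyQIso K i).symm ≪≫ (DerivedCategory.homologyFunctor C i).mapIso e)

theorem NPC_iff_isOfFiniteType
    (hqs : PCoh.IsQuasiStableUnderKernels P) (hql : PCoh.IsQuasiLiftable P)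
    (n : ℤ) (F : DerivedCategory C)
    (hac : ∀ i : ℤ, n < i → IsZero ((DerivedCategory.homologyFunctor C i).obj F)) :
    NPC P n F ↔ PCoh.IsOfFiniteType P ((DerivedCategory.homologyFunctor C n).obj F) := by
  constructor
  · rintro ⟨E, hE, ⟨e⟩⟩
    have h := isOfFiniteType_homology E n P hqs hE
      (fun i hi => isZero_homology_of_iso e i (hac i hi))
    exact isOfFiniteType_of_iso P
      ((homologyQIso E n).symm ≪≫ (DerivedCategory.homologyFunctor C n).mapIso e) h
  · intro hft
    have hLE : F.IsLE n := by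
      rw [DerivedCategory.isLE_iff]
      exact fun i hi => hac i hi
    obtain ⟨K, hK, ⟨e⟩⟩ := F.exists_iso_Q_obj_of_isLE n
    have hft' : PCoh.IsOfFiniteType P (K.homology n) :=
      isOfFiniteType_of_iso P
        ((DerivedCategory.homologyFunctor C n).mapIso e ≪≫ homologyQIso K n) hft
    obtain ⟨L, hL, θ, hθ⟩ := exists_single_map P hql K n hft'
    have hnq : IsNQis n θ := by
      refine ⟨fun i hi => ?_, hθ⟩
      have h1 : IsZero (((single C (ComplexShape.up ℤ) n).obj L).homology i) :=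
        isZero_single_obj_homology _ _ _ _ (by lia)
      have h2 : IsZero (K.homology i) := by
        rw [← exactAt_iff_isZero_homology]
        exact ShortComplex.exact_of_isZero_X₂ _ (K.isZero_of_isStrictlyLE n i hi)
      exact ⟨0, h1.eq_of_src _ _, h2.eq_of_src _ _⟩
    obtain ⟨E', v, u', _, hE', hq, _, _⟩ :=
      exists_strictPC_of_nqis P n (isStrictPC_single P n n hL) θ hnq
    exact ⟨E', hE', ⟨asIso (Q.map u') ≪≫ e.symm⟩⟩

theorem exists_strictPC_vanishing (hsum : ∀ X Y : C, P X → P Y → P (X ⨯ Y))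
    (hqs : PCoh.IsQuasiStableUnderKernels P) (hql : PCoh.IsQuasiLiftable P)
    (n m : ℤ) (hnm : n < m) (F : DerivedCategory C) (hF : NPC P n F)
    (hac : ∀ i : ℤ, m ≤ i → IsZero ((DerivedCategory.homologyFunctor C i).obj F)) :
    ∃ E : CochainComplex C ℤ, PCoh.IsStrictPC P n E ∧ (∀ i : ℤ, m ≤ i → IsZero (E.X i)) ∧
      Nonempty (DerivedCategory.Q.obj E ≅ F) := by
  obtain ⟨E₀, ⟨⟨b₀, hb₀⟩, hP₀⟩, ⟨e₀⟩⟩ := hF
  have : QuasiIso (𝟙 E₀) := inferInstance
  obtain ⟨S, σ, hS, hσ⟩ := exists_perf_nqis P hsum hqs hql n (m - 1) b₀ (𝟙 E₀) hP₀ hb₀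
    (fun i hi => isZero_homology_of_iso e₀ i (hac i (by lia)))
    (m - n).toNat n (by rw [Int.toNat_of_nonneg (by lia)]; ring) le_rfl
  have hS' : PCoh.IsStrictPC P n S :=
    ⟨⟨m - 1, fun i hi => hS.2 i (Or.inr hi)⟩, fun i _ => hS.1 i⟩
  obtain ⟨E', v, u', _, hE', hq, _, hiso⟩ := exists_strictPC_of_nqis P n hS' σ hσ
  refine ⟨E', hE', fun i hi => ?_, ⟨asIso (Q.map u') ≪≫ e₀⟩⟩
  have := hiso i (by lia)
  exact (hS.2 i (Or.inr (by lia))).of_iso (asIso (v.f i)).symm

/-- An object of `D(C)` with cohomology vanishing above `b` is `k`-pseudo-coherent for `k > b`. -/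
lemma NPC_of_isLE (F : DerivedCategory C) (b k : ℤ) (hbk : b < k)
    (hac : ∀ i : ℤ, b < i → IsZero ((DerivedCategory.homologyFunctor C i).obj F)) :
    NPC P k F := by
  have hLE : F.IsLE b := by
    rw [DerivedCategory.isLE_iff]
    exact fun i hi => hac i hi
  obtain ⟨K, hK, ⟨e⟩⟩ := F.exists_iso_Q_obj_of_isLE b
  exact ⟨K, ⟨⟨b, fun i hi => K.isZero_of_isStrictlyLE b i hi⟩,
    fun i hi => P.prop_of_isZero (K.isZero_of_isStrictlyLE b i (by lia))⟩, ⟨e.symm⟩⟩

lemma isZero_homology_of_NPC_bound {F : DerivedCategory C} {E : CochainComplex C ℤ}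
    (e : Q.obj E ≅ F) (b : ℤ) (hb : ∀ i : ℤ, b < i → IsZero (E.X i)) (i : ℤ) (hi : b < i) :
    IsZero ((DerivedCategory.homologyFunctor C i).obj F) := by
  have h2 : IsZero (E.homology i) := by
    rw [← exactAt_iff_isZero_homology]
    exact ShortComplex.exact_of_isZero_X₂ _ (hb i hi)
  exact h2.of_iso ((DerivedCategory.homologyFunctor C i).mapIso e.symm ≪≫ homologyQIso E i)

theorem NPC_biprod_iff (hsum : ∀ X Y : C, P X → P Y → P (X ⨯ Y))
    (hqs : PCoh.IsQuasiStableUnderKernels P) (hql : PCoh.IsQuasiLiftable P)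
    (n : ℤ) (F' F'' : DerivedCategory C) [HasBinaryBiproduct F' F''] :
    NPC P n (F' ⊞ F'') ↔ NPC P n F' ∧ NPC P n F'' := by
  constructor
  · intro hX
    obtain ⟨E, ⟨⟨b, hb⟩, hP⟩, ⟨e⟩⟩ := hX
    have hX : NPC P n (F' ⊞ F'') := ⟨E, ⟨⟨b, hb⟩, hP⟩, ⟨e⟩⟩
    have hXz := isZero_homology_of_NPC_bound e b hb
    have hz' : ∀ i : ℤ, b < i → IsZero ((DerivedCategory.homologyFunctor C i).obj F') := by
      intro i hi
      have w : (DerivedCategory.homologyFunctor C i).map (biprod.inl : F' ⟶ F' ⊞ F'') ≫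
          (DerivedCategory.homologyFunctor C i).map biprod.fst = 𝟙 _ := by
        rw [← Functor.map_comp, biprod.inl_fst, CategoryTheory.Functor.map_id]
      have : Mono ((DerivedCategory.homologyFunctor C i).map (biprod.inl : F' ⟶ F' ⊞ F'')) :=
        mono_of_mono_fac w
      exact IsZero.of_mono ((DerivedCategory.homologyFunctor C i).map
        (biprod.inl : F' ⟶ F' ⊞ F'')) (hXz i hi)
    have hz'' : ∀ i : ℤ, b < i → IsZero ((DerivedCategory.homologyFunctor C i).obj F'') := by
      intro i hi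
      have w : (DerivedCategory.homologyFunctor C i).map (biprod.inr : F'' ⟶ F' ⊞ F'') ≫
          (DerivedCategory.homologyFunctor C i).map biprod.snd = 𝟙 _ := by
        rw [← Functor.map_comp, biprod.inr_snd, CategoryTheory.Functor.map_id]
      have : Mono ((DerivedCategory.homologyFunctor C i).map (biprod.inr : F'' ⟶ F' ⊞ F'')) :=
        mono_of_mono_fac w
      exact IsZero.of_mono ((DerivedCategory.homologyFunctor C i).map
        (biprod.inr : F'' ⟶ F' ⊞ F'')) (hXz i hi)
    suffices ∀ (j : ℕ) (k : ℤ), k + j = max (b + 1) n → n ≤ k → NPC P k F' ∧ NPC P k F'' by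
      exact this (max (b + 1) n - n).toNat n (by
        have := le_max_right (b + 1) n
        rw [Int.toNat_of_nonneg (by lia)]; ring) le_rfl
    intro j
    induction j with
    | zero =>
      intro k hk _
      have : b < k := by have := le_max_left (b + 1) n; simp at hk; lia
      exact ⟨NPC_of_isLE P F' b k this hz', NPC_of_isLE P F'' b k this hz''⟩
    | succ j ih =>
      intro k hk hnk
      obtain ⟨h', h''⟩ := ih (k + 1) (by push_cast at hk ⊢; lia) (by lia)
      have hXk : NPC P k (F' ⊞ F'') := hX.of_le P hnk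
      constructor
      · have hT := binaryBiproductTriangle_distinguished F'' F'
        have hXk' : NPC P k (F'' ⊞ F') := hXk.of_iso P (biprod.braiding F' F'')
        exact (NPC_triangle P hsum hqs hql k _ hT).1 h'' hXk'
      · have hT := binaryBiproductTriangle_distinguished F' F''
        exact (NPC_triangle P hsum hqs hql k _ hT).1 h' hXk
  · rintro ⟨h', h''⟩
    have hT := binaryBiproductTriangle_distinguished F' F''
    exact (NPC_triangle P hsum hqs hql n _ hT).2.1 h' h''

lemma isIso_homologyFunctor_map_Q_iff {K L : CochainComplex C ℤ} (f : K ⟶ L) (i : ℤ) :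
    IsIso ((DerivedCategory.homologyFunctor C i).map (Q.map f)) ↔ IsIso (homologyMap f i) :=
  NatIso.isIso_map_iff (DerivedCategory.homologyFunctorFactors C i) f

lemma epi_homologyFunctor_map_Q_iff {K L : CochainComplex C ℤ} (f : K ⟶ L) (i : ℤ) :
    Epi ((DerivedCategory.homologyFunctor C i).map (Q.map f)) ↔ Epi (homologyMap f i) :=
  epi_map_iff_of_natIso (DerivedCategory.homologyFunctorFactors C i) f

lemma mono_homologyFunctor_map_Q_iff {K L : CochainComplex C ℤ} (f : K ⟶ L) (i : ℤ) :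
    Mono ((DerivedCategory.homologyFunctor C i).map (Q.map f)) ↔ Mono (homologyMap f i) :=
  mono_map_iff_of_natIso (DerivedCategory.homologyFunctorFactors C i) f

theorem NPC_iff_exists_perfect_nIso (hsum : ∀ X Y : C, P X → P Y → P (X ⨯ Y))
    (hqs : PCoh.IsQuasiStableUnderKernels P) (hql : PCoh.IsQuasiLiftable P)
    (n : ℤ) (F : DerivedCategory C) :
    NPC P n F ↔
      ∃ (E : CochainComplex C ℤ) (a b : ℤ) (α : DerivedCategory.Q.obj E ⟶ F),
        (∀ i : ℤ, i < a ∨ b < i → IsZero (E.X i)) ∧ (∀ i : ℤ, P (E.X i)) ∧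
        (∀ i : ℤ, n < i → IsIso ((DerivedCategory.homologyFunctor C i).map α)) ∧
        Epi ((DerivedCategory.homologyFunctor C n).map α) := by
  constructor
  · rintro ⟨E₀, ⟨⟨b₀, hb₀⟩, hP₀⟩, ⟨e₀⟩⟩
    have : QuasiIso (𝟙 E₀) := inferInstance
    have hXz : ∀ i, max b₀ n < i → IsZero (E₀.homology i) := by
      intro i hi
      rw [← exactAt_iff_isZero_homology]
      exact ShortComplex.exact_of_isZero_X₂ _ (hb₀ i (lt_of_le_of_lt (le_max_left _ _) hi))
    obtain ⟨S, σ, hS, hσ⟩ := exists_perf_nqis P hsum hqs hql n (max b₀ n) b₀ (𝟙 E₀) hP₀ hb₀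
      hXz (max b₀ n + 1 - n).toNat n (by
        have := le_max_right b₀ n
        rw [Int.toNat_of_nonneg (by lia)]; ring) le_rfl
    refine ⟨S, n, max b₀ n, Q.map σ ≫ e₀.hom, hS.2, hS.1, fun i hi => ?_, ?_⟩
    · rw [Functor.map_comp]
      have := (isIso_homologyFunctor_map_Q_iff σ i).2 (hσ.1 i hi)
      infer_instance
    · rw [Functor.map_comp]
      have := (epi_homologyFunctor_map_Q_iff σ n).2 hσ.2
      exact epi_comp _ _
  · rintro ⟨E, a, b, α, hz, hP, hiso, hepi⟩
    have hE : PCoh.IsStrictPC P n E := ⟨⟨b, fun i hi => hz i (Or.inr hi)⟩, fun i _ => hP i⟩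
    let K := Q.objPreimage F
    let eK : Q.obj K ≅ F := Q.objObjPreimageIso F
    obtain ⟨E', s, g, hE', hs, hg⟩ := exists_roof P hsum hqs hql n E K hE (α ≫ eK.inv)
    have hQs : IsIso (Q.map s) := (isIso_Q_map_iff_quasiIso (φ := s)).2 hs
    have hg' : Q.map g = Q.map s ≫ α ≫ eK.inv := hg.symm
    have hnq : IsNQis n g := by
      refine ⟨fun i hi => ?_, ?_⟩
      · rw [← isIso_homologyFunctor_map_Q_iff, hg', Functor.map_comp, Functor.map_comp]
        have := hiso i hi
        infer_instance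
      · rw [← epi_homologyFunctor_map_Q_iff, hg', Functor.map_comp, Functor.map_comp]
        have : Epi ((DerivedCategory.homologyFunctor C n).map α ≫
            (DerivedCategory.homologyFunctor C n).map eK.inv) := epi_comp _ _
        exact epi_comp _ _
    obtain ⟨E'', v, u', _, hE'', hq, _, _⟩ := exists_strictPC_of_nqis P n hE' g hnq
    exact ⟨E'', hE'', ⟨asIso (Q.map u') ≪≫ eK⟩⟩

end Groth.Agent.Lib.helper17.PCohD
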