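import Mathlib
import Groth.Prelude.Def_PCoh
import Groth.Agent.Lib.helper17.PCohD

/-!
# SGA 6 I Lemma 2.2: factorisation of `i`-quasi-isomorphisms between pseudo-coherent complexes
(helper17)
-/

namespace Groth.Agent.Lib.helper17.PCohLem22

open CategoryTheory Limits Pretriangulated CochainComplex HomologicalComplex DerivedCategory
open Groth.Agent.Lib.helper17.PCohCore Groth.Agent.Lib.helper17.PCohFT
open Groth.Agent.Lib.helper17.PerfLift Groth.Agent.Lib.helper17.PCohT1
open Groth.Agent.Lib.helper17.PCohBasic Groth.Agent.Lib.helper17.PCohTri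
open Groth.Agent.Lib.helper17.PCohD

set_option linter.unusedSectionVars false

universe w v u

variable {C : Type u} [Category.{v} C] [Abelian C]
variable (P : ObjectProperty C) [P.IsClosedUnderIsomorphisms] [P.ContainsZero]

/-- Variant of `exists_strictPC_of_nqis` for a `k`-quasi-isomorphism with `k ≤ n`. -/
lemma exists_strictPC_of_nqis_le (n k : ℤ) (hk : k ≤ n) {S K : CochainComplex C ℤ}
    (hS : PCoh.IsStrictPC P n S) (θ : S ⟶ K) (hθ : IsNQis k θ) :
    ∃ (E' : CochainComplex C ℤ) (v : S ⟶ E') (u' : E' ⟶ K), v ≫ u' = θ ∧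
      PCoh.IsStrictPC P n E' ∧ QuasiIso u' ∧ (∀ i, Mono (v.f i)) ∧
      (∀ i, k ≤ i → IsIso (v.f i)) := by
  obtain ⟨⟨b, hb⟩, hP⟩ := hS
  obtain ⟨E', v, u', hvu, hq, hmono, hiso⟩ :=
    exists_quasiIso_factorisation k S K θ hθ.1 hθ.2
  refine ⟨E', v, u', hvu, ⟨⟨max b n, fun i hi => ?_⟩, fun i hi => ?_⟩, hq, hmono, hiso⟩
  · have := hiso i (by have := le_max_right b n; lia)
    exact (hb i (lt_of_le_of_lt (le_max_left _ _) hi)).of_iso (asIso (v.f i)).symm
  · have := hiso i (by lia)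
    exact P.prop_of_iso (asIso (v.f i)) (hP i hi)

variable [HasDerivedCategory.{w} C]

/-- `H^k(cone u)` is of finite type when `u : E ⟶ F` is a `(k+1)`-quasi-isomorphism between
`n`-pseudo-coherent complexes, `n ≤ k`. -/
lemma isOfFiniteType_homology_cone_of_NPC (hsum : ∀ X Y : C, P X → P Y → P (X ⨯ Y))
    (hqs : PCoh.IsQuasiStableUnderKernels P) (hql : PCoh.IsQuasiLiftable P)
    (n k : ℤ) (hnk : n ≤ k) {E F : CochainComplex C ℤ} (hE : NPC P n (Q.obj E))
    (hF : NPC P n (Q.obj F)) (u : E ⟶ F) (hu : IsNQis (k + 1) u) :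
    PCoh.IsOfFiniteType P ((mappingCone u).homology k) := by
  have hT := mappingCone_triangle_distinguished u
  have h := NPC_cone P hsum hqs hql _ hT (n + 1) n (hE.of_le P (by lia)) hF
  have h' : NPC P k (Q.obj (mappingCone u)) := by
    refine NPC.of_le P ?_ h
    simp only [add_sub_cancel_right, max_self]
    exact hnk
  have hz : ∀ j : ℤ, k < j →
      IsZero ((DerivedCategory.homologyFunctor C j).obj (Q.obj (mappingCone u))) := by
    intro j hj
    have h1 : Epi (homologyMap u j) := by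
      rcases (show k + 1 ≤ j by lia).eq_or_lt with h | h
      · rw [← h]; exact hu.2
      · have := hu.1 j h; infer_instance
    have h2 : IsIso (homologyMap u (j + 1)) := hu.1 (j + 1) (by lia)
    exact (isZero_homology_mappingCone u j h1 inferInstance).of_iso (homologyQIso _ j)
  exact isOfFiniteType_of_iso P (homologyQIso _ k)
    ((NPC_iff_isOfFiniteType P hqs hql k _ hz).1 h')

theorem exists_strictPC_factorisation (hsum : ∀ X Y : C, P X → P Y → P (X ⨯ Y))
    (hqs : PCoh.IsQuasiStableUnderKernels P) (hql : PCoh.IsQuasiLiftable P)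
    (n i : ℤ) (E F : CochainComplex C ℤ) (hE : PCoh.IsStrictPC P n E)
    (hF : NPC P n (Q.obj F))
    (u : E ⟶ F) (hiso : ∀ j : ℤ, i < j → IsIso (homologyMap u j))
    (hepi : Epi (homologyMap u i)) :
    ∃ (E' : CochainComplex C ℤ) (v : E ⟶ E') (u' : E' ⟶ F), v ≫ u' = u ∧
      PCoh.IsStrictPC P n E' ∧ QuasiIso u' ∧
      (∀ j : ℤ, Mono (v.f j)) ∧ (∀ j : ℤ, i ≤ j → IsIso (v.f j)) := by
  -- descending induction
  have key : ∀ (d : ℕ) (k : ℤ), k + d = i → n ≤ k →
      ∃ (E₁ : CochainComplex C ℤ) (v₁ : E ⟶ E₁) (u₁ : E₁ ⟶ F), v₁ ≫ u₁ = u ∧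
        PCoh.IsStrictPC P n E₁ ∧ IsNQis k u₁ ∧ (∀ j : ℤ, Mono (v₁.f j)) ∧
        (∀ j : ℤ, i ≤ j → IsIso (v₁.f j)) := by
    intro d
    induction d with
    | zero =>
      intro k hk _
      obtain rfl : k = i := by simpa using hk
      exact ⟨E, 𝟙 E, u, Category.id_comp _, hE, ⟨hiso, hepi⟩, fun j => inferInstance,
        fun j _ => inferInstance⟩
    | succ d ih =>
      intro k hk hnk
      obtain ⟨E₁, v₁, u₁, h1, hE₁, hu₁, hm₁, hi₁⟩ :=
        ih (k + 1) (by push_cast at hk ⊢; lia) (by lia)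
      have hft := isOfFiniteType_homology_cone_of_NPC P hsum hqs hql n k hnk
        ⟨E₁, hE₁, ⟨Iso.refl _⟩⟩ hF u₁ hu₁
      obtain ⟨E₂, v₂, u₂, h2, hm₂, hi₂, _, hu₂iso, hu₂epi, hPk⟩ :=
        exists_modification' P hql k E₁ F u₁ hu₁.1 hu₁.2 hft
      obtain ⟨⟨b₁, hb₁⟩, hP₁⟩ := hE₁
      refine ⟨E₂, v₁ ≫ v₂, u₂, by rw [Category.assoc, h2, h1], ⟨⟨max b₁ k, fun j hj => ?_⟩,
        fun j hj => ?_⟩, ⟨hu₂iso, hu₂epi⟩, fun j => ?_, fun j hj => ?_⟩
      · have := hi₂ j (by have := le_max_right b₁ k; lia)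
        exact (hb₁ j (lt_of_le_of_lt (le_max_left _ _) hj)).of_iso (asIso (v₂.f j)).symm
      · by_cases hjk : j = k
        · rw [hjk]; exact hPk hsum (hP₁ k hnk)
        · have := hi₂ j hjk
          exact P.prop_of_iso (asIso (v₂.f j)) (hP₁ j hj)
      · have := hm₁ j
        have := hm₂ j
        rw [HomologicalComplex.comp_f]
        exact mono_comp _ _
      · have := hi₁ j hj
        have := hi₂ j (by push_cast at hk; lia)
        rw [HomologicalComplex.comp_f]
        infer_instance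
  by_cases hin : i ≤ n
  · obtain ⟨E', v, u', h1, h2, h3, h4, h5⟩ :=
      exists_strictPC_of_nqis_le P n i hin hE u ⟨hiso, hepi⟩
    exact ⟨E', v, u', h1, h2, h3, h4, h5⟩
  · obtain ⟨E₁, v₁, u₁, h1, hE₁, hu₁, hm₁, hi₁⟩ :=
      key (i - n).toNat n (by rw [Int.toNat_of_nonneg (by lia)]; ring) le_rfl
    obtain ⟨E', v, u', g1, g2, g3, g4, g5⟩ :=
      exists_strictPC_of_nqis_le P n n le_rfl hE₁ u₁ hu₁
    refine ⟨E', v₁ ≫ v, u', by rw [Category.assoc, g1, h1], g2, g3, fun j => ?_, fun j hj => ?_⟩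
    · have := hm₁ j
      have := g4 j
      rw [HomologicalComplex.comp_f]
      exact mono_comp _ _
    · have := hi₁ j hj
      have := g5 j (by lia)
      rw [HomologicalComplex.comp_f]
      infer_instance

end Groth.Agent.Lib.helper17.PCohLem22
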