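import Mathlib
import Groth.Prelude.Def_PCoh
import Groth.Agent.Lib.helper17.PCohLem22
import Groth.Agent.Lib.helper17.EvConst

/-!
# Strictly pseudo-coherent replacements: the infinite construction (helper17)
-/

namespace Groth.Agent.Lib.helper17.PCohSeq

open CategoryTheory Limits Pretriangulated CochainComplex HomologicalComplex DerivedCategory
open Groth.Agent.Lib.helper17.PCohCore Groth.Agent.Lib.helper17.PCohFT
open Groth.Agent.Lib.helper17.PerfLift Groth.Agent.Lib.helper17.PCohT1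
open Groth.Agent.Lib.helper17.PCohBasic Groth.Agent.Lib.helper17.PCohTri
open Groth.Agent.Lib.helper17.PCohD Groth.Agent.Lib.helper17.PCohLem22

set_option linter.unusedSectionVars false

universe w v u

variable {C : Type u} [Category.{v} C] [Abelian C]

lemma isIso_homologyMap_of_isIso_f {K L : CochainComplex C ℤ} (φ : K ⟶ L) (j : ℤ)
    (h0 : IsIso (φ.f (j - 1))) (h1 : IsIso (φ.f j)) (h2 : IsIso (φ.f (j + 1))) :
    IsIso (homologyMap φ j) := by
  have h0' : IsIso (φ.f ((ComplexShape.up ℤ).prev j)) := by rw [CochainComplex.prev]; exact h0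
  have h2' : IsIso (φ.f ((ComplexShape.up ℤ).next j)) := by rw [CochainComplex.next]; exact h2
  rw [← quasiIsoAt_iff_isIso_homologyMap, quasiIsoAt_iff]
  have i1 : IsIso ((HomologicalComplex.shortComplexFunctor C (ComplexShape.up ℤ) j).map φ).τ₁ := h0'
  have i2 : IsIso ((HomologicalComplex.shortComplexFunctor C (ComplexShape.up ℤ) j).map φ).τ₂ := h1
  have i3 : IsIso ((HomologicalComplex.shortComplexFunctor C (ComplexShape.up ℤ) j).map φ).τ₃ := h2'
  exact ShortComplex.quasiIso_of_epi_of_isIso_of_mono _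

variable [HasDerivedCategory.{w} C]
variable (P : ObjectProperty C) [P.IsClosedUnderIsomorphisms] [P.ContainsZero]
variable (n : ℤ) (F : CochainComplex C ℤ) (B : ℤ)

/-- A stage of the construction. -/
structure Stage (k : ℕ) where
  E : CochainComplex C ℤ
  u : E ⟶ F
  hP : ∀ i, P (E.X i)
  hb : ∀ i, B < i → IsZero (E.X i)
  hq : IsNQis (n - k) u

variable (hsum : ∀ X Y : C, P X → P Y → P (X ⨯ Y))
  (hqs : PCoh.IsQuasiStableUnderKernels P) (hql : PCoh.IsQuasiLiftable P)
  (hF : PCoh.IsPC P (Q.obj F)) (hnB : n ≤ B)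

include hsum hqs hql hF hnB

lemma exists_step (k : ℕ) (s : Stage P n F B k) :
    ∃ (s' : Stage P n F B (k + 1)) (v : s.E ⟶ s'.E), v ≫ s'.u = s.u ∧
      (∀ i, Mono (v.f i)) ∧ (∀ i, i ≠ n - k - 1 → IsIso (v.f i)) := by
  have hu : IsNQis (n - k - 1 + 1) s.u := by
    have : n - (k : ℤ) - 1 + 1 = n - k := by ring
    rw [this]; exact s.hq
  have hft := isOfFiniteType_homology_cone_of_NPC P hsum hqs hql (n - k - 1) (n - k - 1) le_rfl
    ⟨s.E, ⟨⟨B, s.hb⟩, fun i _ => s.hP i⟩, ⟨Iso.refl _⟩⟩ (hF _) s.u hu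
  obtain ⟨E₂, v₂, u₂, h2, hm₂, hi₂, _, hu₂iso, hu₂epi, hPk⟩ :=
    exists_modification' P hql (n - k - 1) s.E F s.u hu.1 hu.2 hft
  refine ⟨⟨E₂, u₂, fun i => ?_, fun i hi => ?_, ?_⟩, v₂, h2, hm₂, hi₂⟩
  · by_cases hik : i = n - k - 1
    · rw [hik]; exact hPk hsum (s.hP _)
    · have := hi₂ i hik
      exact P.prop_of_iso (asIso (v₂.f i)) (s.hP i)
  · have := hi₂ i (by lia)
    exact (s.hb i hi).of_iso (asIso (v₂.f i)).symm
  · have : n - ((k + 1 : ℕ) : ℤ) = n - k - 1 := by push_cast; ring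
    rw [this]
    exact ⟨hu₂iso, hu₂epi⟩

variable (s₀ : Stage P n F B 0)

/-- The sequence of stages. -/
noncomputable def stage : ∀ k, Stage P n F B k
  | 0 => s₀
  | k + 1 => (exists_step P n F B hsum hqs hql hF hnB k (stage k)).choose

/-- The transition maps. -/
noncomputable def stageMap (k : ℕ) :
    (stage P n F B hsum hqs hql hF hnB s₀ k).E ⟶ (stage P n F B hsum hqs hql hF hnB s₀ (k + 1)).E :=
  (exists_step P n F B hsum hqs hql hF hnB k (stage P n F B hsum hqs hql hF hnB s₀ k)).choose_spec.choose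

lemma stageMap_u (k : ℕ) : stageMap P n F B hsum hqs hql hF hnB s₀ k ≫
    (stage P n F B hsum hqs hql hF hnB s₀ (k + 1)).u =
    (stage P n F B hsum hqs hql hF hnB s₀ k).u :=
  (exists_step P n F B hsum hqs hql hF hnB k
    (stage P n F B hsum hqs hql hF hnB s₀ k)).choose_spec.choose_spec.1

lemma stageMap_mono (k : ℕ) (i : ℤ) : Mono ((stageMap P n F B hsum hqs hql hF hnB s₀ k).f i) :=
  (exists_step P n F B hsum hqs hql hF hnB k
    (stage P n F B hsum hqs hql hF hnB s₀ k)).choose_spec.choose_spec.2.1 i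

lemma stageMap_iso (k : ℕ) (i : ℤ) (hi : i ≠ n - k - 1) :
    IsIso ((stageMap P n F B hsum hqs hql hF hnB s₀ k).f i) :=
  (exists_step P n F B hsum hqs hql hF hnB k
    (stage P n F B hsum hqs hql hF hnB s₀ k)).choose_spec.choose_spec.2.2 i hi

/-- The sequence as a functor. -/
noncomputable def G : ℕ ⥤ CochainComplex C ℤ :=
  Functor.ofSequence (X := fun k => (stage P n F B hsum hqs hql hF hnB s₀ k).E)
    (stageMap P n F B hsum hqs hql hF hnB s₀)

lemma G_map_succ (k : ℕ) : (G P n F B hsum hqs hql hF hnB s₀).map (homOfLE (Nat.le_succ k)) =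
    stageMap P n F B hsum hqs hql hF hnB s₀ k :=
  Functor.ofSequence_map_homOfLE_succ _ k

lemma G_eval_iso (j : ℤ) (k : ℕ) (hk : (n - j).toNat ≤ k) :
    IsIso ((G P n F B hsum hqs hql hF hnB s₀ ⋙ HomologicalComplex.eval C (ComplexShape.up ℤ) j).map
      (homOfLE (Nat.le_succ k))) := by
  change IsIso (((G P n F B hsum hqs hql hF hnB s₀).map (homOfLE (Nat.le_succ k))).f j)
  rw [G_map_succ]
  apply stageMap_iso
  have := Int.self_le_toNat (n - j)
  lia

lemma G_map_mono (j : ℤ) (k l : ℕ) (hkl : k ≤ l) :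
    Mono (((G P n F B hsum hqs hql hF hnB s₀).map (homOfLE hkl)).f j) := by
  obtain ⟨d, rfl⟩ := Nat.exists_eq_add_of_le hkl
  induction d with
  | zero =>
    have : homOfLE hkl = 𝟙 k := Subsingleton.elim _ _
    rw [this, CategoryTheory.Functor.map_id]
    change Mono (𝟙 _)
    infer_instance
  | succ d ih =>
    have h1 : k ≤ k + d := Nat.le_add_right _ _
    have : homOfLE hkl = homOfLE h1 ≫ homOfLE (Nat.le_succ (k + d)) := Subsingleton.elim _ _
    rw [this, Functor.map_comp, HomologicalComplex.comp_f, G_map_succ]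
    have m1 := ih h1
    have m2 := stageMap_mono P n F B hsum hqs hql hF hnB s₀ (k + d) j
    exact @mono_comp _ _ _ _ _ _ m1 _ m2

/-- The main existence statement. -/
theorem exists_limit :
    ∃ (E' : CochainComplex C ℤ) (v : s₀.E ⟶ E') (u' : E' ⟶ F), v ≫ u' = s₀.u ∧
      (∀ i, P (E'.X i)) ∧ (∀ i, B < i → IsZero (E'.X i)) ∧ QuasiIso u' ∧
      (∀ j : ℤ, Mono (v.f j)) ∧ (∀ j : ℤ, n ≤ j → IsIso (v.f j)) := by
  let G' := G P n F B hsum hqs hql hF hnB s₀
  let st := stage P n F B hsum hqs hql hF hnB s₀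
  have hiso := G_eval_iso P n F B hsum hqs hql hF hnB s₀
  have : ∀ j, HasColimit (G' ⋙ HomologicalComplex.eval C (ComplexShape.up ℤ) j) :=
    fun j => EvConst.hasColimit _ (n - j).toNat (hiso j)
  let ι : ∀ k, (st k).E ⟶ colimit G' := fun k => colimit.ι G' k
  have hι : ∀ (j : ℤ) (k : ℕ), (n - j).toNat ≤ k → IsIso ((ι k).f j) := by
    intro j k hk
    exact EvConst.isIso_ι_app_of_isColimit
      (G' ⋙ HomologicalComplex.eval C (ComplexShape.up ℤ) j) (n - j).toNat (hiso j)
      (isColimitOfPreserves (HomologicalComplex.eval C (ComplexShape.up ℤ) j)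
        (colimit.isColimit G')) k hk
  let α : G' ⟶ (Functor.const ℕ).obj F := NatTrans.ofSequence (fun k => (st k).u) (by
    intro k
    have h1 : G'.map (homOfLE (Nat.le_add_right k 1)) =
      stageMap P n F B hsum hqs hql hF hnB s₀ k := G_map_succ P n F B hsum hqs hql hF hnB s₀ k
    have h2 := stageMap_u P n F B hsum hqs hql hF hnB s₀ k
    simp only [Functor.const_obj_obj, Functor.const_obj_map, Category.comp_id]
    exact (congrArg (fun f => f ≫ (st (k + 1)).u) h1).trans h2)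
  let u' : colimit G' ⟶ F := colimit.desc G' ⟨F, α⟩
  have hu' : ∀ k, ι k ≫ u' = (st k).u := fun k => colimit.ι_desc _ k
  refine ⟨colimit G', ι 0, u', hu' 0, fun i => ?_, fun i hi => ?_, ?_, fun j => ?_,
    fun j hj => ?_⟩
  · have := hι i (n - i).toNat le_rfl
    exact P.prop_of_iso (asIso ((ι (n - i).toNat).f i)) ((st _).hP i)
  · have := hι i (n - i).toNat le_rfl
    exact ((st _).hb i hi).of_iso (asIso ((ι (n - i).toNat).f i)).symm
  · rw [quasiIso_iff]
    intro j
    rw [quasiIsoAt_iff_isIso_homologyMap]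
    let k := (n - j + 1).toNat
    have hk := Int.self_le_toNat (n - j + 1)
    have hk0 : (n - (j - 1)).toNat ≤ k := by
      apply Int.toNat_le_toNat; lia
    have hk1 : (n - j).toNat ≤ k := by
      apply Int.toNat_le_toNat; lia
    have hk2 : (n - (j + 1)).toNat ≤ k := by
      apply Int.toNat_le_toNat; lia
    have h1 : IsIso (homologyMap (ι k) j) :=
      isIso_homologyMap_of_isIso_f _ j (hι _ k hk0) (hι _ k hk1) (hι _ k hk2)
    have h2 : IsIso (homologyMap (st k).u j) := (st k).hq.1 j (by lia)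
    have h3 : homologyMap (ι k) j ≫ homologyMap u' j = homologyMap (st k).u j := by
      rw [← homologyMap_comp]
      exact congrArg (fun f => homologyMap f j) (hu' k)
    exact @IsIso.of_isIso_fac_left _ _ _ _ _ _ _ _ h1 h2 h3
  · have h1 : ι 0 = G'.map (homOfLE (Nat.zero_le (n - j).toNat)) ≫ ι (n - j).toNat :=
      (colimit.w G' _).symm
    rw [h1, HomologicalComplex.comp_f]
    have m1 := G_map_mono P n F B hsum hqs hql hF hnB s₀ j 0 (n - j).toNat (Nat.zero_le _)
    have m2 := hι j (n - j).toNat le_rfl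
    have m3 : Mono ((ι (n - j).toNat).f j) := inferInstance
    exact @mono_comp _ _ _ _ _ _ m1 _ m3
  · exact hι j 0 (by
      have : (n - j).toNat = 0 := Int.toNat_eq_zero.2 (by lia)
      lia)

omit hnB s₀ in
/-- SGA 6 I 2.2 for strictly pseudo-coherent complexes (all terms in `C₀`). -/
theorem exists_strictPCAll_factorisation (E : CochainComplex C ℤ) (hE : PCoh.IsStrictPCAll P E)
    (u : E ⟶ F) (hiso : ∀ j : ℤ, n < j → IsIso (HomologicalComplex.homologyMap u j))
    (hepi : Epi (HomologicalComplex.homologyMap u n)) :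
    ∃ (E' : CochainComplex C ℤ) (v : E ⟶ E') (u' : E' ⟶ F), v ≫ u' = u ∧
      PCoh.IsStrictPCAll P E' ∧ QuasiIso u' ∧
      (∀ j : ℤ, Mono (v.f j)) ∧ (∀ j : ℤ, n ≤ j → IsIso (v.f j)) := by
  obtain ⟨⟨b₀, hb₀⟩, hP⟩ := hE
  let s₀ : Stage P n F (max b₀ n) 0 :=
    ⟨E, u, hP, fun i hi => hb₀ i (lt_of_le_of_lt (le_max_left _ _) hi), by
      have : n - ((0 : ℕ) : ℤ) = n := by simp
      rw [this]
      exact ⟨hiso, hepi⟩⟩
  obtain ⟨E', v, u', h1, h2, h3, h4, h5, h6⟩ :=
    exists_limit P n F (max b₀ n) hsum hqs hql hF (le_max_right _ _) s₀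
  exact ⟨E', v, u', h1, ⟨⟨_, h3⟩, h2⟩, h4, h5, h6⟩

end Groth.Agent.Lib.helper17.PCohSeq
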