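import Mathlib
import Groth.Prelude.Def_PCoh
import Groth.Agent.Lib.helper17.PCohSeq

/-!
# Strictly pseudo-coherent representatives (helper17)
-/

namespace Groth.Agent.Lib.helper17.PCohAll

open CategoryTheory Limits Pretriangulated CochainComplex HomologicalComplex DerivedCategory
open Groth.Agent.Lib.helper17.PCohCore Groth.Agent.Lib.helper17.PCohFT
open Groth.Agent.Lib.helper17.PerfLift Groth.Agent.Lib.helper17.PCohT1
open Groth.Agent.Lib.helper17.PCohBasic Groth.Agent.Lib.helper17.PCohTri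
open Groth.Agent.Lib.helper17.PCohD Groth.Agent.Lib.helper17.PCohLem22
open Groth.Agent.Lib.helper17.PCohSeq

set_option linter.unusedSectionVars false

universe w v u

variable {C : Type u} [Category.{v} C] [Abelian C] [HasDerivedCategory.{w} C]
variable (P : ObjectProperty C) [P.IsClosedUnderIsomorphisms] [P.ContainsZero]
variable (hsum : ∀ X Y : C, P X → P Y → P (X ⨯ Y))
  (hqs : PCoh.IsQuasiStableUnderKernels P) (hql : PCoh.IsQuasiLiftable P)

include hsum hqs hql

/-- A complex whose image in `D(C)` is pseudo-coherent and which is acyclic in degrees `≥ m`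
receives a quasi-isomorphism from a strictly pseudo-coherent complex vanishing in degrees `≥ m`. -/
theorem exists_strictPCAll_quasiIso (m : ℤ) (X : CochainComplex C ℤ)
    (hX : PCoh.IsPC P (Q.obj X)) (hac : ∀ i : ℤ, m ≤ i → IsZero (X.homology i)) :
    ∃ (E : CochainComplex C ℤ) (s : E ⟶ X), (∀ i : ℤ, P (E.X i)) ∧
      (∀ i : ℤ, m ≤ i → IsZero (E.X i)) ∧ QuasiIso s := by
  have hz : ∀ j, IsZero ((HomologicalComplex.zero : CochainComplex C ℤ).homology j) := fun j => by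
    rw [← HomologicalComplex.exactAt_iff_isZero_homology]
    exact ShortComplex.exact_of_isZero_X₂ _ (Limits.isZero_zero C)
  obtain ⟨E', v, u', _, ⟨_, hP⟩, hq, _, hiso⟩ :=
    exists_strictPCAll_factorisation P m X hsum hqs hql hX (HomologicalComplex.zero : CochainComplex C ℤ)
      ⟨⟨0, fun i _ => Limits.isZero_zero C⟩, fun i => P.prop_of_isZero (Limits.isZero_zero C)⟩
      (0 : (HomologicalComplex.zero : CochainComplex C ℤ) ⟶ X)
      (fun j hj => ⟨0, (hz j).eq_of_src _ _, (hac j hj.le).eq_of_src _ _⟩)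
      ⟨fun g h _ => (hac m le_rfl).eq_of_src g h⟩
  refine ⟨E', u', hP, fun i hi => ?_, hq⟩
  have := hiso i hi
  exact (Limits.isZero_zero C).of_iso (asIso (v.f i)).symm

theorem exists_strictPCAll_vanishing (m : ℤ) (F : DerivedCategory C) (hF : PCoh.IsPC P F)
    (hac : ∀ i : ℤ, m ≤ i → IsZero ((DerivedCategory.homologyFunctor C i).obj F)) :
    ∃ E : CochainComplex C ℤ, (∀ i : ℤ, P (E.X i)) ∧ (∀ i : ℤ, m ≤ i → IsZero (E.X i)) ∧
      Nonempty (DerivedCategory.Q.obj E ≅ F) := by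
  obtain ⟨X, _, ⟨e⟩⟩ := hF 0
  have hX : PCoh.IsPC P (Q.obj X) := fun n => NPC.of_iso P (hF n) e.symm
  obtain ⟨E, s, hP, hz, hs⟩ := exists_strictPCAll_quasiIso P hsum hqs hql m X hX
    (fun i hi => isZero_homology_of_iso e i (hac i hi))
  have : IsIso (Q.map s) := (isIso_Q_map_iff_quasiIso (φ := s)).2 hs
  exact ⟨E, hP, hz, ⟨asIso (Q.map s) ≪≫ e⟩⟩

theorem exists_strictPCAll (F : DerivedCategory C) (hF : PCoh.IsPC P F) :
    ∃ E : CochainComplex C ℤ, PCoh.IsStrictPCAll P E ∧ Nonempty (DerivedCategory.Q.obj E ≅ F) := by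
  obtain ⟨X, ⟨⟨b, hb⟩, _⟩, ⟨e⟩⟩ := hF 0
  obtain ⟨E, hP, hz, he⟩ := exists_strictPCAll_vanishing P hsum hqs hql (b + 1) F hF
    (fun i hi => isZero_homology_of_NPC_bound e b hb i (by lia))
  exact ⟨E, ⟨⟨b, fun i hi => hz i (by lia)⟩, hP⟩, he⟩

lemma isPC_of_strictPCAll {E : CochainComplex C ℤ} (hE : PCoh.IsStrictPCAll P E) :
    PCoh.IsPC P (Q.obj E) :=
  fun n => ⟨E, ⟨hE.1, fun i _ => hE.2 i⟩, ⟨Iso.refl _⟩⟩

/-- Replace a complex quasi-isomorphic to a strictly pseudo-coherent one. -/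
lemma exists_strictPCAll_over {E X : CochainComplex C ℤ} (hE : PCoh.IsStrictPCAll P E)
    (s : X ⟶ E) (hs : QuasiIso s) :
    ∃ (E'' : CochainComplex C ℤ) (t : E'' ⟶ X), PCoh.IsStrictPCAll P E'' ∧ QuasiIso t := by
  have : IsIso (Q.map s) := (isIso_Q_map_iff_quasiIso (φ := s)).2 hs
  have hX : PCoh.IsPC P (Q.obj X) := fun n =>
    NPC.of_iso P (isPC_of_strictPCAll P hsum hqs hql hE n) (asIso (Q.map s)).symm
  obtain ⟨⟨b, hb⟩, hP⟩ := hE
  have hac : ∀ i : ℤ, b + 1 ≤ i → IsZero (X.homology i) := by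
    intro i hi
    have h1 : IsZero (E.homology i) := by
      rw [← HomologicalComplex.exactAt_iff_isZero_homology]
      exact ShortComplex.exact_of_isZero_X₂ _ (hb i (by lia))
    have : IsIso (homologyMap s i) := (quasiIsoAt_iff_isIso_homologyMap s i).1 inferInstance
    exact h1.of_iso (asIso (homologyMap s i))
  obtain ⟨E'', t, hP'', hz'', ht⟩ := exists_strictPCAll_quasiIso P hsum hqs hql (b + 1) X hX hac
  exact ⟨E'', t, ⟨⟨b, fun i hi => hz'' i (by lia)⟩, hP''⟩, ht⟩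

/-- Fullness. -/
theorem exists_roof_all (E E' : CochainComplex C ℤ) (hE : PCoh.IsStrictPCAll P E)
    (α : DerivedCategory.Q.obj E ⟶ DerivedCategory.Q.obj E') :
    ∃ (E'' : CochainComplex C ℤ) (s : E'' ⟶ E) (f : E'' ⟶ E'), PCoh.IsStrictPCAll P E'' ∧
      QuasiIso s ∧ DerivedCategory.Q.map s ≫ α = DerivedCategory.Q.map f := by
  obtain ⟨X', s₀, hs₀, g₀, hα⟩ := right_fac α
  have hs₀' : QuasiIso s₀ := (isIso_Q_map_iff_quasiIso (φ := s₀)).1 hs₀
  obtain ⟨E'', t, hE'', ht⟩ := exists_strictPCAll_over P hsum hqs hql hE s₀ hs₀'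
  refine ⟨E'', t ≫ s₀, t ≫ g₀, hE'', inferInstance, ?_⟩
  rw [hα, Functor.map_comp, Functor.map_comp, Category.assoc, IsIso.hom_inv_id_assoc]

/-- Faithfulness. -/
theorem exists_homotopy_all (E E' : CochainComplex C ℤ) (hE : PCoh.IsStrictPCAll P E)
    (f g : E ⟶ E') (hfg : DerivedCategory.Q.map f = DerivedCategory.Q.map g) :
    ∃ (E'' : CochainComplex C ℤ) (s : E'' ⟶ E), PCoh.IsStrictPCAll P E'' ∧ QuasiIso s ∧
      Nonempty (Homotopy (s ≫ f) (s ≫ g)) := by
  have h1 : Qh.map ((HomotopyCategory.quotient C (ComplexShape.up ℤ)).map f) =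
      Qh.map ((HomotopyCategory.quotient C (ComplexShape.up ℤ)).map g) := by
    have hf := quotientCompQhIso_hom_naturality f
    have hg := quotientCompQhIso_hom_naturality g
    rw [← cancel_mono ((quotientCompQhIso C).hom.app E'), hf, hg, hfg]
  rw [MorphismProperty.map_eq_iff_precomp Qh (HomotopyCategory.quasiIso C (ComplexShape.up ℤ))] at h1
  obtain ⟨Z, s, hs, hsfg⟩ := h1
  obtain ⟨X, rfl⟩ := HomotopyCategory.quotient_obj_surjective Z
  obtain ⟨s, rfl⟩ := (HomotopyCategory.quotient _ _).map_surjective s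
  rw [HomotopyCategory.quotient_map_mem_quasiIso_iff] at hs
  have hs' : QuasiIso s := hs
  obtain ⟨E'', t, hE'', ht⟩ := exists_strictPCAll_over P hsum hqs hql hE s hs'
  refine ⟨E'', t ≫ s, hE'', inferInstance, ⟨HomotopyCategory.homotopyOfEq _ _ ?_⟩⟩
  simp only [Category.assoc, Functor.map_comp]
  rw [hsfg]

end Groth.Agent.Lib.helper17.PCohAll
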