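import Mathlib
import Groth.Prelude.Def_PCoh
import Groth.Agent.Lib.helper17.PCohLem22

/-!
# Pseudo-coherence: short exact sequences, brutal truncation, bounded above complexes (helper17)
-/

namespace Groth.Agent.Lib.helper17.PCohLES

open CategoryTheory Limits Pretriangulated CochainComplex HomologicalComplex DerivedCategory
open Groth.Agent.Lib.helper17.PCohCore Groth.Agent.Lib.helper17.PCohFT
open Groth.Agent.Lib.helper17.PerfLift Groth.Agent.Lib.helper17.PCohT1
open Groth.Agent.Lib.helper17.PCohBasic Groth.Agent.Lib.helper17.PCohTri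
open Groth.Agent.Lib.helper17.PCohD

set_option linter.unusedSectionVars false

universe w v u

variable {C : Type u} [Category.{v} C] [Abelian C] [HasDerivedCategory.{w} C]
variable (P : ObjectProperty C) [P.IsClosedUnderIsomorphisms] [P.ContainsZero]

lemma NPC_single_of_zero {X : C} {k : ℤ} (i : ℤ)
    (h : NPC P k ((DerivedCategory.singleFunctor C 0).obj X)) :
    NPC P (k + i) ((DerivedCategory.singleFunctor C i).obj X) := by
  have h1 := NPC.of_iso P (NPC.shift P h (-i))
    (((DerivedCategory.singleFunctors C).shiftIso (-i) i 0 (by simp)).app X)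
  have : k - -i = k + i := by ring
  rw [this] at h1
  exact h1

lemma NPC_single_to_zero {X : C} {k : ℤ} (i : ℤ)
    (h : NPC P (k + i) ((DerivedCategory.singleFunctor C i).obj X)) :
    NPC P k ((DerivedCategory.singleFunctor C 0).obj X) := by
  have h1 := NPC.of_iso P (NPC.shift P h i)
    (((DerivedCategory.singleFunctors C).shiftIso i 0 i (by simp)).app X)
  have : k + i - i = k := by ring
  rw [this] at h1
  exact h1

/-- `Q` of the single complex is the single functor of the derived category. -/
noncomputable def QSingleIso (X : C) (i : ℤ) :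
    Q.obj ((HomologicalComplex.single C (ComplexShape.up ℤ) i).obj X) ≅
      (DerivedCategory.singleFunctor C i).obj X :=
  ((DerivedCategory.singleFunctorIsoCompQ C i).app X).symm

section SES

variable (hsum : ∀ X Y : C, P X → P Y → P (X ⨯ Y))
  (hqs : PCoh.IsQuasiStableUnderKernels P) (hql : PCoh.IsQuasiLiftable P)

include hsum hqs hql

/-- 2-out-of-3 for a short exact sequence in `C`. -/
theorem NPC_shortExact {S : ShortComplex C} (hS : S.ShortExact) (n : ℤ) :
    (NPC P (n + 1) ((DerivedCategory.singleFunctor C 0).obj S.X₁) →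
      NPC P n ((DerivedCategory.singleFunctor C 0).obj S.X₂) →
      NPC P n ((DerivedCategory.singleFunctor C 0).obj S.X₃)) ∧
    (NPC P n ((DerivedCategory.singleFunctor C 0).obj S.X₁) →
      NPC P n ((DerivedCategory.singleFunctor C 0).obj S.X₃) →
      NPC P n ((DerivedCategory.singleFunctor C 0).obj S.X₂)) ∧
    (NPC P (n + 1) ((DerivedCategory.singleFunctor C 0).obj S.X₂) →
      NPC P n ((DerivedCategory.singleFunctor C 0).obj S.X₃) →
      NPC P (n + 1) ((DerivedCategory.singleFunctor C 0).obj S.X₁)) :=
  NPC_triangle P hsum hqs hql n _ hS.singleTriangle_distinguished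

/-- 2-out-of-3 for a short exact sequence of cochain complexes. -/
theorem NPC_shortExact_complex {S : ShortComplex (CochainComplex C ℤ)} (hS : S.ShortExact)
    (n : ℤ) :
    (NPC P (n + 1) (Q.obj S.X₁) → NPC P n (Q.obj S.X₂) → NPC P n (Q.obj S.X₃)) ∧
    (NPC P n (Q.obj S.X₁) → NPC P n (Q.obj S.X₃) → NPC P n (Q.obj S.X₂)) ∧
    (NPC P (n + 1) (Q.obj S.X₂) → NPC P n (Q.obj S.X₃) → NPC P (n + 1) (Q.obj S.X₁)) :=
  NPC_triangle P hsum hqs hql n _ (DerivedCategory.triangleOfSES_distinguished hS)

end SES

section Brutal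

omit [HasDerivedCategory.{w} C] in
/-- Brutal truncation: the top term of a bounded above complex is a subcomplex, with quotient
the brutal truncation. -/
theorem exists_brutal_truncation (F : CochainComplex C ℤ) (b : ℤ)
    (hb : ∀ i, b < i → IsZero (F.X i)) :
    ∃ (G : CochainComplex C ℤ)
      (φ : (HomologicalComplex.single C (ComplexShape.up ℤ) b).obj (F.X b) ⟶ F) (π : F ⟶ G)
      (w : φ ≫ π = 0), (ShortComplex.mk φ π w).ShortExact ∧
      (∀ i, b ≤ i → IsZero (G.X i)) ∧ (∀ i, i < b → Nonempty (F.X i ≅ G.X i)) := by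
  let φ : (HomologicalComplex.single C (ComplexShape.up ℤ) b).obj (F.X b) ⟶ F :=
    HomologicalComplex.mkHomFromSingle (𝟙 (F.X b)) (by
      intro k hk
      simp only [ComplexShape.up_Rel] at hk
      exact (hb k (by lia)).eq_of_tgt _ _)
  have hφb : IsIso (φ.f b) := by
    have : φ.f b = (HomologicalComplex.singleObjXSelf (ComplexShape.up ℤ) b (F.X b)).hom ≫
        𝟙 (F.X b) := HomologicalComplex.mkHomFromSingle_f _ _
    rw [this]
    infer_instance
  have hsrc : ∀ i, i ≠ b →
      IsZero (((HomologicalComplex.single C (ComplexShape.up ℤ) b).obj (F.X b)).X i) :=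
    fun i hi => HomologicalComplex.isZero_single_obj_X _ _ _ _ hi
  have hmono : Mono φ := by
    apply HomologicalComplex.mono_of_mono_f
    intro i
    by_cases hi : i = b
    · subst hi; infer_instance
    · exact ⟨fun g h _ => (hsrc i hi).eq_of_tgt g h⟩
  let S : ShortComplex (CochainComplex C ℤ) :=
    ShortComplex.mk φ (cokernel.π φ) (cokernel.condition φ)
  have hS : S.ShortExact :=
    { exact := S.exact_of_g_is_cokernel (cokernelIsCokernel φ)
      mono_f := hmono
      epi_g := inferInstanceAs (Epi (cokernel.π φ)) }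
  have hSi : ∀ i, (S.map (HomologicalComplex.eval C (ComplexShape.up ℤ) i)).ShortExact :=
    (HomologicalComplex.shortExact_iff_degreewise_shortExact S).1 hS
  refine ⟨cokernel φ, φ, cokernel.π φ, cokernel.condition φ, hS, fun i hi => ?_, fun i hi => ?_⟩
  · by_cases hib : i = b
    · subst hib
      exact ((hSi i).isIso_f_iff).1 hφb
    · have h1 : IsZero (F.X i) := hb i (by lia)
      have : Epi ((cokernel.π φ).f i) := (hSi i).epi_g
      exact IsZero.of_epi ((cokernel.π φ).f i) h1
  · have h1 : IsIso ((cokernel.π φ).f i) := ((hSi i).isIso_g_iff).2 (hsrc i (by lia))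
    exact ⟨asIso ((cokernel.π φ).f i)⟩

end Brutal

section Terms

lemma NPC_of_isZero (X : DerivedCategory C) (hX : IsZero X) (k : ℤ) : NPC P k X :=
  NPC_of_isLE P X (k - 1) k (by lia)
    (fun i _ => (DerivedCategory.homologyFunctor C i).map_isZero hX)

lemma NPC_single_of_isZero (X : C) (hX : IsZero X) (k i : ℤ) :
    NPC P k ((DerivedCategory.singleFunctor C i).obj X) :=
  NPC_of_isZero P _ ((DerivedCategory.singleFunctor C i).map_isZero hX) k

variable (hsum : ∀ X Y : C, P X → P Y → P (X ⨯ Y))
  (hqs : PCoh.IsQuasiStableUnderKernels P) (hql : PCoh.IsQuasiLiftable P)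

include hsum hqs hql

/-- SGA 6 I 2.?: a bounded above complex whose terms `Fⁱ` (for `i ≥ n`) are
`(n - i)`-pseudo-coherent is `n`-pseudo-coherent. -/
theorem NPC_of_terms (n : ℤ) : ∀ (j : ℕ) (F : CochainComplex C ℤ) (b : ℤ), b - n < j →
    (∀ i, b < i → IsZero (F.X i)) →
    (∀ i, n ≤ i → NPC P (n - i) ((DerivedCategory.singleFunctor C 0).obj (F.X i))) →
    NPC P n (Q.obj F) := by
  intro j
  induction j with
  | zero =>
    intro F b hbn hb _
    exact NPC_of_isLE P _ b n (by simpa using hbn)
      (fun i hi => isZero_homology_of_NPC_bound (Iso.refl _) b hb i hi)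
  | succ j ih =>
    intro F b hbn hb hF
    by_cases hbn' : b < n
    · exact NPC_of_isLE P _ b n hbn'
        (fun i hi => isZero_homology_of_NPC_bound (Iso.refl _) b hb i hi)
    · obtain ⟨G, φ, π, w, hS, hG0, hGi⟩ := exists_brutal_truncation F b hb
      have hG : NPC P n (Q.obj G) := by
        refine ih G (b - 1) (by push_cast at hbn; lia) (fun i hi => hG0 i (by lia))
          (fun i hi => ?_)
        by_cases hib : i < b
        · obtain ⟨e⟩ := hGi i hib
          exact NPC.of_iso P (hF i hi) ((DerivedCategory.singleFunctor C 0).mapIso e)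
        · exact NPC_single_of_isZero P _ (hG0 i (by lia)) _ _
      have h1 : NPC P n (Q.obj ((HomologicalComplex.single C (ComplexShape.up ℤ) b).obj (F.X b))) := by
        have h2 := NPC_single_of_zero P b (hF b (by lia))
        have : n - b + b = n := by ring
        rw [this] at h2
        exact NPC.of_iso P h2 (QSingleIso (F.X b) b).symm
      exact (NPC_shortExact_complex P hsum hqs hql hS n).2.1 h1 hG

end Terms

section SingleHomology

lemma isZero_homology_single (X : C) (j i : ℤ) (h : i ≠ j) :
    IsZero ((DerivedCategory.homologyFunctor C i).obj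
      ((DerivedCategory.singleFunctor C j).obj X)) :=
  (HomologicalComplex.isZero_single_obj_homology (ComplexShape.up ℤ) j X i h).of_iso
    ((DerivedCategory.homologyFunctor C i).mapIso (QSingleIso X j).symm ≪≫ homologyQIso _ i)

/-- `Hʲ(X[-j]) ≅ X`. -/
noncomputable def homologySingleIso (X : C) (j : ℤ) :
    (DerivedCategory.homologyFunctor C j).obj ((DerivedCategory.singleFunctor C j).obj X) ≅ X :=
  (DerivedCategory.homologyFunctor C j).mapIso (QSingleIso X j).symm ≪≫ homologyQIso _ j ≪≫
    HomologicalComplex.singleObjHomologySelfIso (ComplexShape.up ℤ) j X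

theorem NPC_single_zero_iff_isOfFiniteType
    (hqs : PCoh.IsQuasiStableUnderKernels P) (hql : PCoh.IsQuasiLiftable P) (X : C) :
    NPC P 0 ((DerivedCategory.singleFunctor C 0).obj X) ↔ PCoh.IsOfFiniteType P X := by
  rw [NPC_iff_isOfFiniteType P hqs hql 0 _
    (fun i hi => isZero_homology_single X 0 i (by lia))]
  exact ⟨fun h => isOfFiniteType_of_iso P (homologySingleIso X 0) h,
    fun h => isOfFiniteType_of_iso P (homologySingleIso X 0).symm h⟩

end SingleHomology

section Cycles

variable {ι : Type*} {c : ComplexShape ι} (K : HomologicalComplex C c)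

omit [HasDerivedCategory.{w} C] in
lemma epi_toCycles_of_exactAt' (i j : ι) (hij : c.Rel i j) (h : K.ExactAt j) :
    Epi (K.toCycles i j) :=
  Preadditive.epi_of_isZero_cokernel' _ (K.homologyIsCokernel i j (c.prev_eq' hij))
    ((K.exactAt_iff_isZero_homology (i := j)).1 h)

omit [HasDerivedCategory.{w} C] in
lemma iCycles_toCycles (i j : ι) : K.iCycles i ≫ K.toCycles i j = 0 := by
  rw [← cancel_mono (K.iCycles j), Category.assoc, K.toCycles_i, K.iCycles_d, zero_comp]

omit [HasDerivedCategory.{w} C] in
/-- `0 → Zⁱ → Kⁱ → Zʲ → 0` when `K` is exact at `j`. -/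
lemma cycles_shortExact (i j : ι) (hij : c.Rel i j) (h : K.ExactAt j) :
    (ShortComplex.mk (K.iCycles i) (K.toCycles i j) (iCycles_toCycles K i j)).ShortExact :=
  { exact := ShortComplex.exact_of_f_is_kernel _
      (isKernelOfComp (K.iCycles j) (K.d i j) (K.cyclesIsKernel i j (c.next_eq' hij))
        (iCycles_toCycles K i j) (K.toCycles_i i j))
    mono_f := inferInstanceAs (Mono (K.iCycles i))
    epi_g := epi_toCycles_of_exactAt' K i j hij h }

variable (hsum : ∀ X Y : C, P X → P Y → P (X ⨯ Y))
  (hqs : PCoh.IsQuasiStableUnderKernels P) (hql : PCoh.IsQuasiLiftable P)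

include hsum hqs hql

lemma NPC_cycles_next (i j : ι) (hij : c.Rel i j) (h : K.ExactAt j) (m : ℤ)
    (h1 : NPC P (m + 1) ((DerivedCategory.singleFunctor C 0).obj (K.cycles i)))
    (h2 : NPC P m ((DerivedCategory.singleFunctor C 0).obj (K.X i))) :
    NPC P m ((DerivedCategory.singleFunctor C 0).obj (K.cycles j)) :=
  (NPC_shortExact P hsum hqs hql (cycles_shortExact K i j hij h) m).1 h1 h2

lemma NPC_cycles_prev (i j : ι) (hij : c.Rel i j) (h : K.ExactAt j) (m : ℤ)
    (h2 : NPC P (m + 1) ((DerivedCategory.singleFunctor C 0).obj (K.X i)))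
    (h3 : NPC P m ((DerivedCategory.singleFunctor C 0).obj (K.cycles j))) :
    NPC P (m + 1) ((DerivedCategory.singleFunctor C 0).obj (K.cycles i)) :=
  (NPC_shortExact P hsum hqs hql (cycles_shortExact K i j hij h) m).2.2 h2 h3

end Cycles

end Groth.Agent.Lib.helper17.PCohLES
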