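import Mathlib
import Groth.Prelude.Def_PCoh
import Groth.Agent.Lib.helper17.PCohLES

/-!
# Pseudo-coherence and canonical truncations in the derived category (helper17)
-/

namespace Groth.Agent.Lib.helper17.PCohTrunc

open CategoryTheory Limits Pretriangulated CochainComplex HomologicalComplex DerivedCategory
open Groth.Agent.Lib.helper17.PCohCore Groth.Agent.Lib.helper17.PCohFT
open Groth.Agent.Lib.helper17.PerfLift Groth.Agent.Lib.helper17.PCohT1
open Groth.Agent.Lib.helper17.PCohBasic Groth.Agent.Lib.helper17.PCohTri
open Groth.Agent.Lib.helper17.PCohD Groth.Agent.Lib.helper17.PCohLES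

set_option linter.unusedSectionVars false

universe w v u

variable {C : Type u} [Category.{v} C] [Abelian C] [HasDerivedCategory.{w} C]
variable (P : ObjectProperty C) [P.IsClosedUnderIsomorphisms] [P.ContainsZero]

section LES

variable (T : Triangle (DerivedCategory C)) (hT : T ∈ distTriang _)

include hT

lemma isIso_homology_mor₁ (i : ℤ)
    (h3 : IsZero ((DerivedCategory.homologyFunctor C i).obj T.obj₃))
    (h3' : IsZero ((DerivedCategory.homologyFunctor C (i - 1)).obj T.obj₃)) :
    IsIso ((DerivedCategory.homologyFunctor C i).map T.mor₁) := by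
  let G := DerivedCategory.homologyFunctor C 0
  have hepi : Epi ((G.shift i).map T.mor₁) :=
    (G.homologySequence_epi_shift_map_mor₁_iff T hT i).2 (h3.eq_of_tgt _ _)
  have hmono : Mono ((G.shift i).map T.mor₁) :=
    (G.homologySequence_mono_shift_map_mor₁_iff T hT (i - 1) i (by lia)).2 (h3'.eq_of_src _ _)
  exact isIso_of_mono_of_epi ((G.shift i).map T.mor₁)

lemma isIso_homology_mor₂ (i : ℤ)
    (h1 : IsZero ((DerivedCategory.homologyFunctor C i).obj T.obj₁))
    (h1' : IsZero ((DerivedCategory.homologyFunctor C (i + 1)).obj T.obj₁)) :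
    IsIso ((DerivedCategory.homologyFunctor C i).map T.mor₂) := by
  let G := DerivedCategory.homologyFunctor C 0
  have hmono : Mono ((G.shift i).map T.mor₂) :=
    (G.homologySequence_mono_shift_map_mor₂_iff T hT i).2 (h1.eq_of_src _ _)
  have hepi : Epi ((G.shift i).map T.mor₂) :=
    (G.homologySequence_epi_shift_map_mor₂_iff T hT i (i + 1) rfl).2 (h1'.eq_of_tgt _ _)
  exact isIso_of_mono_of_epi ((G.shift i).map T.mor₂)

lemma isZero_homology_obj₃ (i : ℤ)
    (h2 : IsZero ((DerivedCategory.homologyFunctor C i).obj T.obj₂))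
    (h1 : IsZero ((DerivedCategory.homologyFunctor C (i + 1)).obj T.obj₁)) :
    IsZero ((DerivedCategory.homologyFunctor C i).obj T.obj₃) := by
  let G := DerivedCategory.homologyFunctor C 0
  exact (G.homologySequence_exact₃ T hT i (i + 1) rfl).isZero_X₂ (h2.eq_of_src _ _)
    (h1.eq_of_tgt _ _)

lemma isZero_homology_obj₂ (i : ℤ)
    (h1 : IsZero ((DerivedCategory.homologyFunctor C i).obj T.obj₁))
    (h3 : IsZero ((DerivedCategory.homologyFunctor C i).obj T.obj₃)) :
    IsZero ((DerivedCategory.homologyFunctor C i).obj T.obj₂) := by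
  let G := DerivedCategory.homologyFunctor C 0
  exact (G.homologySequence_exact₂ T hT i).isZero_X₂ (h1.eq_of_src _ _)
    (h3.eq_of_tgt _ _)

lemma isZero_homology_obj₁ (i : ℤ)
    (h3 : IsZero ((DerivedCategory.homologyFunctor C (i - 1)).obj T.obj₃))
    (h2 : IsZero ((DerivedCategory.homologyFunctor C i).obj T.obj₂)) :
    IsZero ((DerivedCategory.homologyFunctor C i).obj T.obj₁) := by
  let G := DerivedCategory.homologyFunctor C 0
  exact (G.homologySequence_exact₁ T hT (i - 1) i (by lia)).isZero_X₂ (h3.eq_of_src _ _)
    (h2.eq_of_tgt _ _)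

end LES

section Homology

variable (hsum : ∀ X Y : C, P X → P Y → P (X ⨯ Y))
  (hqs : PCoh.IsQuasiStableUnderKernels P) (hql : PCoh.IsQuasiLiftable P)

include hsum hqs hql

/-- SGA 6 I 2.?: if `F` has bounded above cohomology and `Hⁱ(F)` is `(n - i)`-pseudo-coherent
for `i ≥ n`, then `F` is `n`-pseudo-coherent. -/
theorem NPC_of_homology (n : ℤ) : ∀ (j : ℕ) (F : DerivedCategory C) (b : ℤ), b - n < j →
    (∀ i, b < i → IsZero ((DerivedCategory.homologyFunctor C i).obj F)) →
    (∀ i, n ≤ i → NPC P (n - i) ((DerivedCategory.singleFunctor C 0).obj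
      ((DerivedCategory.homologyFunctor C i).obj F))) →
    NPC P n F := by
  intro j
  induction j with
  | zero =>
    intro F b hbn hb _
    exact NPC_of_isLE P _ b n (by simpa using hbn) hb
  | succ j ih =>
    intro F b hbn hb hF
    by_cases hbn' : b < n
    · exact NPC_of_isLE P _ b n hbn' hb
    · let t := (DerivedCategory.TStructure.t : Triangulated.TStructure (DerivedCategory C))
      let T := (t.triangleLTGE b).obj F
      have hT : T ∈ distTriang _ := t.triangleLTGE_distinguished b F
      have hA : t.IsLE T.obj₁ (b - 1) := inferInstance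
      have hB : t.IsGE T.obj₃ b := inferInstance
      have hA0 : ∀ i, b - 1 < i → IsZero ((DerivedCategory.homologyFunctor C i).obj T.obj₁) :=
        fun i hi => DerivedCategory.isZero_of_isLE T.obj₁ (b - 1) i hi
      have hB0 : ∀ i, i < b → IsZero ((DerivedCategory.homologyFunctor C i).obj T.obj₃) :=
        fun i hi => DerivedCategory.isZero_of_isGE T.obj₃ b i hi
      have hB1 : ∀ i, b < i → IsZero ((DerivedCategory.homologyFunctor C i).obj T.obj₃) :=
        fun i hi => isZero_homology_obj₃ T hT i (hb i hi) (hA0 _ (by lia))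
      have hBle : T.obj₃.IsLE b := by
        rw [DerivedCategory.isLE_iff]
        exact hB1
      have hBge : T.obj₃.IsGE b := hB
      obtain ⟨Y, ⟨eY⟩⟩ := DerivedCategory.exists_iso_singleFunctor_obj_of_isGE_of_isLE T.obj₃ b
      -- `n`-pseudo-coherence of the truncation below
      have h1 : NPC P n T.obj₁ := by
        refine ih T.obj₁ (b - 1) (by push_cast at hbn; lia) hA0 (fun i hi => ?_)
        by_cases hib : i < b
        · have := isIso_homology_mor₁ T hT i (hB0 i hib) (hB0 _ (by lia))
          exact NPC.of_iso P (hF i hi) ((DerivedCategory.singleFunctor C 0).mapIso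
            (asIso ((DerivedCategory.homologyFunctor C i).map T.mor₁)).symm)
        · exact NPC_single_of_isZero P _ (hA0 i (by lia)) _ _
      -- `n`-pseudo-coherence of the top cohomology
      have h3 : NPC P n T.obj₃ := by
        have := isIso_homology_mor₂ T hT b (hA0 b (by lia)) (hA0 _ (by lia))
        have e0 := asIso ((DerivedCategory.homologyFunctor C b).map T.mor₂)
        have e : (DerivedCategory.homologyFunctor C b).obj F ≅ Y :=
          e0 ≪≫
            (DerivedCategory.homologyFunctor C b).mapIso eY ≪≫ homologySingleIso Y b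
        have h4 := NPC.of_iso P (hF b (by lia)) ((DerivedCategory.singleFunctor C 0).mapIso e)
        have h5 := NPC_single_of_zero P b h4
        have : n - b + b = n := by ring
        rw [this] at h5
        exact NPC.of_iso P h5 eY.symm
      exact (NPC_triangle P hsum hqs hql n T hT).2.1 h1 h3

end Homology

end Groth.Agent.Lib.helper17.PCohTrunc
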