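import Mathlib
import Groth.Prelude.Def_PCoh
import Groth.Agent.Lib.helper17.PCohTrunc

/-!
# Perfect amplitude: direct sums and direct factors (helper17)
-/

namespace Groth.Agent.Lib.helper17.PCohAmp

open CategoryTheory Limits Pretriangulated CochainComplex HomologicalComplex DerivedCategory
open Groth.Agent.Lib.helper17.PCohCore Groth.Agent.Lib.helper17.PCohFT
open Groth.Agent.Lib.helper17.PerfLift Groth.Agent.Lib.helper17.PCohT1
open Groth.Agent.Lib.helper17.PCohBasic Groth.Agent.Lib.helper17.PCohTri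
open Groth.Agent.Lib.helper17.PCohD Groth.Agent.Lib.helper17.PCohLES
open Groth.Agent.Lib.helper17.PCohTrunc

set_option linter.unusedSectionVars false

attribute [local instance] preservesBinaryBiproducts_of_preservesBiproducts

universe w v u

variable {C : Type u} [Category.{v} C] [Abelian C]
variable (P : ObjectProperty C) [P.IsClosedUnderIsomorphisms] [P.ContainsZero]

/-- `X` has perfect amplitude in `[a, b]`. -/
def PerfAmp [HasDerivedCategory.{w} C] (a b : ℤ) (X : DerivedCategory C) : Prop :=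
  ∃ E : CochainComplex C ℤ, (∀ i : ℤ, P (E.X i)) ∧ (∀ i : ℤ, i < a ∨ b < i → IsZero (E.X i)) ∧
    Nonempty (DerivedCategory.Q.obj E ≅ X)

section NoD

lemma isZero_biprod {X Y : C} (hX : IsZero X) (hY : IsZero Y) : IsZero (X ⊞ Y) := by
  rw [IsZero.iff_id_eq_zero]
  exact biprod.hom_ext _ _ (hX.eq_of_tgt _ _) (hY.eq_of_tgt _ _)

/-- terms of a biproduct of complexes -/
noncomputable def biprodXIso (F₁ F₂ : CochainComplex C ℤ) (i : ℤ) :
    (F₁ ⊞ F₂).X i ≅ F₁.X i ⊞ F₂.X i :=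
  (HomologicalComplex.eval C (ComplexShape.up ℤ) i).mapBiprod F₁ F₂

variable (hlift : ∀ (E F : C) (u : E ⟶ F), Epi u → P F → IsSplitEpi u)
  (hst : ∀ (E F : C) (u : E ⟶ F), Epi u → P E → P F → P (kernel u))

include hlift in
lemma isQuasiLiftable_of_lift : PCoh.IsQuasiLiftable P := by
  intro E F u hu hF
  have := hlift E F u hu hF
  refine ⟨F, section_ u, hF, ?_⟩
  rw [IsSplitEpi.id]
  infer_instance

include hst in
lemma isQuasiStableUnderKernels_of_stable : PCoh.IsQuasiStableUnderKernels P := by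
  rintro K hex ⟨N, hN⟩ hK
  have key : ∀ (d : ℕ) (i : ℕ), 1 ≤ i → N < i + d → P (K.cycles i) := by
    intro d
    induction d with
    | zero =>
      intro i hi hiN
      exact P.prop_of_isZero (IsZero.of_mono (K.iCycles i) (hN i (by lia)))
    | succ d ih =>
      intro i hi hiN
      have h3 := ih (i + 1) (by lia) (by lia)
      have hS := cycles_shortExact K i (i + 1) (by simp) (hex _)
      have hepi : Epi (K.toCycles i (i + 1)) := hS.epi_g
      have hk := hst _ _ (K.toCycles i (i + 1)) hepi (hK i hi) h3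
      have e : K.cycles i ≅ kernel (K.toCycles i (i + 1)) := by
        have e' := IsLimit.conePointUniqueUpToIso hS.exact.fIsKernel
          (kernelIsKernel (K.toCycles i (i + 1)))
        exact e' 
      exact P.prop_of_iso e.symm hk
  have h1 : P (K.cycles 1) := key N 1 le_rfl (by lia)
  have hepi : Epi (K.toCycles 0 1) := epi_toCycles_of_exactAt' K 0 1 (by simp) (hex 1)
  have hmono : Mono (K.d 0 1) := by
    have h0 := hex 0
    rw [HomologicalComplex.exactAt_iff' _ 0 0 1 (by simp) (by simp)] at h0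
    have hf : (K.sc' 0 0 1).f = 0 := K.shape 0 0 (by simp)
    rw [ShortComplex.exact_iff_mono _ hf] at h0
    exact h0
  have hm2 : Mono (K.toCycles 0 1 ≫ K.iCycles 1) := by
    rw [K.toCycles_i]; exact hmono
  have hm3 : Mono (K.toCycles 0 1) := mono_of_mono _ (K.iCycles 1)
  have hiso : IsIso (K.toCycles 0 1) := isIso_of_mono_of_epi _
  exact ⟨K.cycles 1, inv (K.toCycles 0 1), h1, inferInstance⟩

end NoD

section D

variable [HasDerivedCategory.{w} C]
variable (hsum : ∀ X Y : C, P X → P Y → P (X ⨯ Y))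

include hsum in
/-- Direct sums of objects of perfect amplitude in `[a, b]`. -/
theorem perfAmp_biprod (a b : ℤ) (F' F'' : DerivedCategory C) [HasBinaryBiproduct F' F'']
    (h' : PerfAmp P a b F') (h'' : PerfAmp P a b F'') : PerfAmp P a b (F' ⊞ F'') := by
  obtain ⟨E₁, hP₁, hz₁, ⟨e₁⟩⟩ := h'
  obtain ⟨E₂, hP₂, hz₂, ⟨e₂⟩⟩ := h''
  refine ⟨E₁ ⊞ E₂, fun i => ?_, fun i hi => ?_, ⟨Q.mapBiprod E₁ E₂ ≪≫ biprod.mapIso e₁ e₂⟩⟩
  · exact P.prop_of_iso (biprodXIso E₁ E₂ i).symm (prop_biprod P hsum (hP₁ i) (hP₂ i))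
  · exact (isZero_biprod (hz₁ i hi) (hz₂ i hi)).of_iso (biprodXIso E₁ E₂ i)

variable (hqs : PCoh.IsQuasiStableUnderKernels P) (hql : PCoh.IsQuasiLiftable P)

include hsum hqs hql in
/-- A representative concentrated in `[a, b]` with terms in `C₀` in degrees `> a`. -/
lemma exists_truncated_rep (a b : ℤ) (hab : a ≤ b) (X : DerivedCategory C)
    (hX : NPC P (a - 1) X)
    (hz : ∀ i : ℤ, i < a ∨ b < i → IsZero ((DerivedCategory.homologyFunctor C i).obj X)) :
    ∃ F₁ : CochainComplex C ℤ, (∀ i : ℤ, i < a ∨ b < i → IsZero (F₁.X i)) ∧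
      (∀ i : ℤ, a < i → P (F₁.X i)) ∧ Nonempty (DerivedCategory.Q.obj F₁ ≅ X) := by
  obtain ⟨E₁, hE₁, hE₁z, ⟨e⟩⟩ := exists_strictPC_vanishing P hsum hqs hql (a - 1) (b + 1)
    (by lia) X hX (fun i hi => hz i (Or.inr (by lia)))
  have hGE : E₁.IsGE a := by
    rw [CochainComplex.isGE_iff]
    intro i hi
    rw [HomologicalComplex.exactAt_iff_isZero_homology]
    exact isZero_homology_of_iso e i (hz i (Or.inl hi))
  have hq : QuasiIso (E₁.πTruncGE a) := inferInstance
  have hiso : IsIso (Q.map (E₁.πTruncGE a)) := (isIso_Q_map_iff_quasiIso (φ := E₁.πTruncGE a)).2 hq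
  have hX : ∀ i : ℤ, a < i → Nonempty ((E₁.truncGE a).X i ≅ E₁.X i) :=
    fun i hi => ⟨E₁.truncGEXIso a i hi⟩
  refine ⟨E₁.truncGE a, fun i hi => ?_, fun i hi => ?_, ⟨(asIso (Q.map (E₁.πTruncGE a))).symm ≪≫ e⟩⟩
  · rcases hi with hi | hi
    · exact CochainComplex.isZero_of_isStrictlyGE (E₁.truncGE a) a i hi
    · obtain ⟨e'⟩ := hX i (by lia)
      exact (hE₁z i (by lia)).of_iso e'
  · obtain ⟨e'⟩ := hX i hi
    exact P.prop_of_iso e'.symm (hE₁.2 i (by lia))

variable (hlift : ∀ (E F : C) (u : E ⟶ F), Epi u → P F → IsSplitEpi u)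
  (hst : ∀ (E F : C) (u : E ⟶ F), Epi u → P E → P F → P (kernel u))

include hsum hlift hst in
/-- Direct factors of objects of perfect amplitude in `[a, b]`. -/
theorem perfAmp_of_biprod
    (hdf : ∀ (E' E'' : C) [HasBinaryBiproduct E' E''], P (E' ⊞ E'') → P E' ∧ P E'')
    (a b : ℤ) (hab : a ≤ b) (F' F'' : DerivedCategory C) [HasBinaryBiproduct F' F'']
    (h : PerfAmp P a b (F' ⊞ F'')) : PerfAmp P a b F' ∧ PerfAmp P a b F'' := by
  have hql := isQuasiLiftable_of_lift P hlift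
  have hqs := isQuasiStableUnderKernels_of_stable P hst
  obtain ⟨E, hPE, hzE, ⟨e⟩⟩ := h
  have hN : NPC P (a - 1) (F' ⊞ F'') := ⟨E, ⟨⟨b, fun i hi => hzE i (Or.inr hi)⟩, fun i _ => hPE i⟩, ⟨e⟩⟩
  obtain ⟨hN', hN''⟩ := (NPC_biprod_iff P hsum hqs hql (a - 1) F' F'').1 hN
  have hzX : ∀ i : ℤ, i < a ∨ b < i →
      IsZero ((DerivedCategory.homologyFunctor C i).obj (F' ⊞ F'')) := by
    intro i hi
    refine IsZero.of_iso ?_ ((DerivedCategory.homologyFunctor C i).mapIso e.symm ≪≫ homologyQIso E i)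
    rw [← HomologicalComplex.exactAt_iff_isZero_homology]
    exact ShortComplex.exact_of_isZero_X₂ _ (hzE i hi)
  have hz' : ∀ i : ℤ, i < a ∨ b < i → IsZero ((DerivedCategory.homologyFunctor C i).obj F') := by
    intro i hi
    have w : (DerivedCategory.homologyFunctor C i).map (biprod.inl : F' ⟶ F' ⊞ F'') ≫
        (DerivedCategory.homologyFunctor C i).map biprod.fst = 𝟙 _ := by
      rw [← Functor.map_comp, biprod.inl_fst, CategoryTheory.Functor.map_id]
    have : Mono ((DerivedCategory.homologyFunctor C i).map (biprod.inl : F' ⟶ F' ⊞ F'')) :=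
      mono_of_mono_fac w
    exact IsZero.of_mono ((DerivedCategory.homologyFunctor C i).map
      (biprod.inl : F' ⟶ F' ⊞ F'')) (hzX i hi)
  have hz'' : ∀ i : ℤ, i < a ∨ b < i → IsZero ((DerivedCategory.homologyFunctor C i).obj F'') := by
    intro i hi
    have w : (DerivedCategory.homologyFunctor C i).map (biprod.inr : F'' ⟶ F' ⊞ F'') ≫
        (DerivedCategory.homologyFunctor C i).map biprod.snd = 𝟙 _ := by
      rw [← Functor.map_comp, biprod.inr_snd, CategoryTheory.Functor.map_id]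
    have : Mono ((DerivedCategory.homologyFunctor C i).map (biprod.inr : F'' ⟶ F' ⊞ F'')) :=
      mono_of_mono_fac w
    exact IsZero.of_mono ((DerivedCategory.homologyFunctor C i).map
      (biprod.inr : F'' ⟶ F' ⊞ F'')) (hzX i hi)
  obtain ⟨F₁, hz₁, hP₁, ⟨e₁⟩⟩ := exists_truncated_rep P hsum hqs hql a b hab F' hN' hz'
  obtain ⟨F₂, hz₂, hP₂, ⟨e₂⟩⟩ := exists_truncated_rep P hsum hqs hql a b hab F'' hN'' hz''
  have hPa : P ((F₁ ⊞ F₂).X a) := by
    refine first_term_perfect P hsum hlift hst a b (F₁ ⊞ F₂) (fun i hi => ?_) (fun i hi => ?_)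
      ⟨E, hPE, hzE, ⟨e ≪≫ (biprod.mapIso e₁ e₂).symm ≪≫ (Q.mapBiprod F₁ F₂).symm⟩⟩
    · exact (isZero_biprod (hz₁ i hi) (hz₂ i hi)).of_iso (biprodXIso F₁ F₂ i)
    · exact P.prop_of_iso (biprodXIso F₁ F₂ i).symm (prop_biprod P hsum (hP₁ i hi) (hP₂ i hi))
  obtain ⟨hPa₁, hPa₂⟩ := hdf _ _ (P.prop_of_iso (biprodXIso F₁ F₂ a) hPa)
  have hall : ∀ (F : CochainComplex C ℤ), (∀ i : ℤ, i < a ∨ b < i → IsZero (F.X i)) →
      (∀ i : ℤ, a < i → P (F.X i)) → P (F.X a) → ∀ i, P (F.X i) := by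
    intro F hz hP ha i
    rcases lt_trichotomy i a with h | h | h
    · exact P.prop_of_isZero (hz i (Or.inl h))
    · subst h; exact ha
    · exact hP i h
  exact ⟨⟨F₁, hall F₁ hz₁ hP₁ hPa₁, hz₁, ⟨e₁⟩⟩, ⟨F₂, hall F₂ hz₂ hP₂ hPa₂, hz₂, ⟨e₂⟩⟩⟩

end D

end Groth.Agent.Lib.helper17.PCohAmp
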