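import Mathlib
import Groth.Prelude.Def_PCoh
import Groth.Agent.Lib.helper17.PerfLift
import Groth.Agent.Lib.helper17.PCohFT

/-!
# Precoherent and coherent objects relative to a subcategory (helper17)
-/

namespace Groth.Agent.Lib.helper17.PCohCoh

open CategoryTheory Limits
open Groth.Agent.Lib.helper17.PerfLift Groth.Agent.Lib.helper17.PCohFT

set_option linter.unusedSectionVars false

universe v u

variable {C : Type u} [Category.{v} C] [Abelian C]
variable (P : ObjectProperty C) [P.IsClosedUnderIsomorphisms] [P.ContainsZero]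

/-- `X` is precoherent: every morphism from a `C₀`-object has a kernel of finite type. -/
def PreCoh (X : C) : Prop :=
  ∀ (E : C) (u : E ⟶ X), P E → PCoh.IsOfFiniteType P (kernel u)

lemma PreCoh.of_mono {X Y : C} (i : Y ⟶ X) [Mono i] (hX : PreCoh P X) : PreCoh P Y := by
  intro E u hE
  exact isOfFiniteType_of_iso P (kernelCompMono u i) (hX E (u ≫ i) hE)

variable (hsum : ∀ X Y : C, P X → P Y → P (X ⨯ Y)) (hql : PCoh.IsQuasiLiftable P)

include hsum hql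

/-- Cokernels: `F → G → H → 0` exact, `F` of finite type, `G` precoherent ⇒ `H` precoherent. -/
theorem preCoh_of_exact_epi (S : ShortComplex C) (hS : S.Exact) (hg : Epi S.g)
    (hF : PCoh.IsOfFiniteType P S.X₁) (hG : PreCoh P S.X₂) : PreCoh P S.X₃ := by
  obtain ⟨E₀, π₀, hE₀, hπ₀⟩ := hF
  intro E' u hE'
  have hsnd : Epi (pullback.snd S.g u) := inferInstance
  obtain ⟨E'', v, hE'', hv⟩ := hql _ _ (pullback.snd S.g u) hsnd hE'
  let u'' : E'' ⟶ S.X₂ := v ≫ pullback.fst S.g u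
  let p : E'' ⟶ E' := v ≫ pullback.snd S.g u
  have hp : Epi p := hv
  have comm : u'' ≫ S.g = p ≫ u := by
    simp only [u'', p, Category.assoc, pullback.condition]
  let g : E₀ ⊞ E'' ⟶ S.X₂ := biprod.desc (π₀ ≫ S.f) u''
  have hK : PCoh.IsOfFiniteType P (kernel g) := hG _ g (prop_biprod P hsum hE₀ hE'')
  have hφ : (kernel.ι g ≫ biprod.snd ≫ p) ≫ u = 0 := by
    have h1 : biprod.snd ≫ u'' = g - biprod.fst ≫ π₀ ≫ S.f := by
      apply biprod.hom_ext' <;> simp [g]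
    rw [Category.assoc, Category.assoc, ← comm, ← Category.assoc biprod.snd, h1]
    simp
  let φ : kernel g ⟶ kernel u := kernel.lift u (kernel.ι g ≫ biprod.snd ≫ p) hφ
  have hepi : Epi φ := by
    rw [epi_iff_surjective_up_to_refinements]
    intro A a
    obtain ⟨A₁, π₁, hπ₁, x₁, h₁⟩ := surjective_up_to_refinements_of_epi p (a ≫ kernel.ι u)
    have hx₁ : (x₁ ≫ u'') ≫ S.g = 0 := by
      rw [Category.assoc, comm, ← Category.assoc, ← h₁]
      simp
    obtain ⟨A₂, π₂, hπ₂, y, h₂⟩ := hS.exact_up_to_refinements (x₁ ≫ u'') hx₁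
    obtain ⟨A₃, π₃, hπ₃, z, h₃⟩ := surjective_up_to_refinements_of_epi π₀ y
    let w : A₃ ⟶ E₀ ⊞ E'' := biprod.lift (-z) (π₃ ≫ π₂ ≫ x₁)
    have hw : w ≫ g = 0 := by
      simp only [w, g, biprod.lift_desc, Preadditive.neg_comp, Category.assoc]
      rw [h₂, ← Category.assoc π₃ y, h₃]
      simp
    refine ⟨A₃, π₃ ≫ π₂ ≫ π₁, epi_comp' hπ₃ (epi_comp' hπ₂ hπ₁), kernel.lift g w hw, ?_⟩
    rw [← cancel_mono (kernel.ι u)]
    simp only [φ, Category.assoc, kernel.lift_ι, kernel.lift_ι_assoc, w, biprod.lift_snd_assoc]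
    rw [h₁]
  exact isOfFiniteType_of_epi P φ hK

omit hsum hql in
/-- Kernels: `0 → F → G → H` exact, `G` of finite type, `H` precoherent ⇒ `F` of finite type. -/
theorem isOfFiniteType_of_exact_mono (S : ShortComplex C) (hS : S.Exact) (hf : Mono S.f)
    (hG : PCoh.IsOfFiniteType P S.X₂) (hH : PreCoh P S.X₃) : PCoh.IsOfFiniteType P S.X₁ := by
  obtain ⟨E₀, π₀, hE₀, hπ₀⟩ := hG
  have hK : PCoh.IsOfFiniteType P (kernel (π₀ ≫ S.g)) := hH _ _ hE₀
  have h0 : (kernel.ι (π₀ ≫ S.g) ≫ π₀) ≫ S.g = 0 := by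
    rw [Category.assoc, kernel.condition]
  let φ : kernel (π₀ ≫ S.g) ⟶ S.X₁ := hS.lift (kernel.ι (π₀ ≫ S.g) ≫ π₀) h0
  have hφ : φ ≫ S.f = kernel.ι (π₀ ≫ S.g) ≫ π₀ := hS.lift_f _ _
  have hepi : Epi φ := by
    rw [epi_iff_surjective_up_to_refinements]
    intro A a
    obtain ⟨A₁, π₁, hπ₁, x₁, h₁⟩ := surjective_up_to_refinements_of_epi π₀ (a ≫ S.f)
    have hx₁ : x₁ ≫ π₀ ≫ S.g = 0 := by
      rw [← Category.assoc, ← h₁]
      simp
    refine ⟨A₁, π₁, hπ₁, kernel.lift _ x₁ hx₁, ?_⟩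
    rw [← cancel_mono S.f, Category.assoc, Category.assoc, hφ, kernel.lift_ι_assoc, h₁]
  exact isOfFiniteType_of_epi P φ hK

omit hsum hql in
/-- Extensions of precoherent objects are precoherent. -/
theorem preCoh_of_shortExact (S : ShortComplex C) (hS : S.ShortExact)
    (hF : PreCoh P S.X₁) (hH : PreCoh P S.X₃) : PreCoh P S.X₂ := by
  have := hS.mono_f
  intro E u hE
  obtain ⟨E₁, π₁, hE₁, hπ₁⟩ := hH E (u ≫ S.g) hE
  have h0 : (π₁ ≫ kernel.ι (u ≫ S.g) ≫ u) ≫ S.g = 0 := by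
    simp only [Category.assoc, kernel.condition, comp_zero]
  let u₁ : E₁ ⟶ S.X₁ := hS.exact.lift (π₁ ≫ kernel.ι (u ≫ S.g) ≫ u) h0
  have hu₁ : u₁ ≫ S.f = π₁ ≫ kernel.ι (u ≫ S.g) ≫ u := hS.exact.lift_f _ _
  have hK : PCoh.IsOfFiniteType P (kernel u₁) := hF _ u₁ hE₁
  have hφ : (kernel.ι u₁ ≫ π₁ ≫ kernel.ι (u ≫ S.g)) ≫ u = 0 := by
    simp only [Category.assoc]
    rw [← hu₁, kernel.condition_assoc, zero_comp]
  let φ : kernel u₁ ⟶ kernel u := kernel.lift u (kernel.ι u₁ ≫ π₁ ≫ kernel.ι (u ≫ S.g)) hφ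
  have hepi : Epi φ := by
    rw [epi_iff_surjective_up_to_refinements]
    intro A a
    have ha : (a ≫ kernel.ι u) ≫ u ≫ S.g = 0 := by simp
    obtain ⟨A', π, hπ, x₁, h₁⟩ :=
      surjective_up_to_refinements_of_epi π₁ (kernel.lift (u ≫ S.g) (a ≫ kernel.ι u) ha)
    have hx₁ : x₁ ≫ u₁ = 0 := by
      rw [← cancel_mono S.f, Category.assoc, hu₁, zero_comp, ← Category.assoc, ← h₁]
      simp
    refine ⟨A', π, hπ, kernel.lift u₁ x₁ hx₁, ?_⟩
    rw [← cancel_mono (kernel.ι u)]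
    simp only [φ, Category.assoc, kernel.lift_ι, kernel.lift_ι_assoc]
    rw [← Category.assoc x₁, ← h₁]
    simp
  exact isOfFiniteType_of_epi P φ hK

/-- Extensions of objects of finite type are of finite type. -/
theorem isOfFiniteType_of_shortExact (S : ShortComplex C) (hS : S.ShortExact)
    (hF : PCoh.IsOfFiniteType P S.X₁) (hH : PCoh.IsOfFiniteType P S.X₃) :
    PCoh.IsOfFiniteType P S.X₂ := by
  have := hS.epi_g
  obtain ⟨EF, πF, hEF, hπF⟩ := hF
  obtain ⟨EH, πH, hEH, hπH⟩ := hH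
  have hsnd : Epi (pullback.snd S.g πH) := inferInstance
  obtain ⟨E', v, hE', hv⟩ := hql _ _ (pullback.snd S.g πH) hsnd hEH
  let u' : E' ⟶ S.X₂ := v ≫ pullback.fst S.g πH
  let p : E' ⟶ EH := v ≫ pullback.snd S.g πH
  have hp : Epi p := hv
  have comm : u' ≫ S.g = p ≫ πH := by
    simp only [u', p, Category.assoc, pullback.condition]
  let ψ : EF ⊞ E' ⟶ S.X₂ := biprod.desc (πF ≫ S.f) u'
  have hepi : Epi ψ := by
    rw [epi_iff_surjective_up_to_refinements]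
    intro A a
    have : Epi (p ≫ πH) := epi_comp _ _
    obtain ⟨A₁, π₁, hπ₁, x₁, h₁⟩ := surjective_up_to_refinements_of_epi (p ≫ πH) (a ≫ S.g)
    have h0 : (π₁ ≫ a - x₁ ≫ u') ≫ S.g = 0 := by
      rw [Preadditive.sub_comp, Category.assoc, Category.assoc, comm, h₁, sub_self]
    obtain ⟨A₂, π₂, hπ₂, y, h₂⟩ := hS.exact.exact_up_to_refinements _ h0
    obtain ⟨A₃, π₃, hπ₃, z, h₃⟩ := surjective_up_to_refinements_of_epi πF y
    refine ⟨A₃, π₃ ≫ π₂ ≫ π₁, epi_comp' hπ₃ (epi_comp' hπ₂ hπ₁),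
      biprod.lift z (π₃ ≫ π₂ ≫ x₁), ?_⟩
    simp only [ψ, biprod.lift_desc, Category.assoc]
    rw [← Category.assoc z, ← h₃, Category.assoc, ← h₂]
    simp
  exact ⟨EF ⊞ E', ψ, prop_biprod P hsum hEF hE', hepi⟩

end Groth.Agent.Lib.helper17.PCohCoh
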