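import Mathlib
import Groth.Prelude.Def_PCoh
import Groth.Agent.Lib.helper17.PCohCoh
import Groth.Agent.Lib.helper17.PCohTrunc

/-!
# Pseudo-coherence when the objects of `C₀` are coherent (helper17)
-/

namespace Groth.Agent.Lib.helper17.PCohCohD

open CategoryTheory Limits Pretriangulated CochainComplex HomologicalComplex DerivedCategory
open Groth.Agent.Lib.helper17.PCohCore Groth.Agent.Lib.helper17.PCohFT
open Groth.Agent.Lib.helper17.PerfLift Groth.Agent.Lib.helper17.PCohT1
open Groth.Agent.Lib.helper17.PCohBasic Groth.Agent.Lib.helper17.PCohTri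
open Groth.Agent.Lib.helper17.PCohD Groth.Agent.Lib.helper17.PCohLES
open Groth.Agent.Lib.helper17.PCohCoh Groth.Agent.Lib.helper17.PCohTrunc

set_option linter.unusedSectionVars false

universe w v u

variable {C : Type u} [Category.{v} C] [Abelian C]
variable (P : ObjectProperty C) [P.IsClosedUnderIsomorphisms] [P.ContainsZero]

section NoD

variable {ι : Type*} {c : ComplexShape ι} (K : HomologicalComplex C c)

/-- `Zⁱ ≅ ker(dⁱ)`. -/
noncomputable def cyclesIsoKernel' (i j : ι) (hij : c.Rel i j) : K.cycles i ≅ kernel (K.d i j) := by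
  have e := IsLimit.conePointUniqueUpToIso (K.cyclesIsKernel i j (c.next_eq' hij))
    (kernelIsKernel (K.d i j))
  exact e

variable (hcoh : ∀ (X E : C) (u : E ⟶ X), P X → P E → PCoh.IsOfFiniteType P (kernel u))

include hcoh

lemma isOfFiniteType_cycles_of_coh (i j : ι) (hij : c.Rel i j) (hi : P (K.X i)) (hj : P (K.X j)) :
    PCoh.IsOfFiniteType P (K.cycles i) :=
  isOfFiniteType_of_iso P (cyclesIsoKernel' K i j hij).symm (hcoh _ _ (K.d i j) hj hi)

lemma preCoh_of_prop {X : C} (hX : P X) : PreCoh P X := fun E u hE => hcoh X E u hX hE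

theorem isQuasiStableUnderKernels_of_coh : PCoh.IsQuasiStableUnderKernels P := by
  rintro K hex ⟨N, hN⟩ hK
  have h1 : PCoh.IsOfFiniteType P (K.cycles 1) :=
    isOfFiniteType_cycles_of_coh P K hcoh 1 2 (by simp) (hK 1 le_rfl) (hK 2 (by lia))
  have hepi : Epi (K.toCycles 0 1) := epi_toCycles_of_exactAt' K 0 1 (by simp) (hex 1)
  have hmono : Mono (K.d 0 1) := by
    have h0 := hex 0
    rw [HomologicalComplex.exactAt_iff' _ 0 0 1 (by simp) (by simp)] at h0
    have hf : (K.sc' 0 0 1).f = 0 := K.shape 0 0 (by simp)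
    rw [ShortComplex.exact_iff_mono _ hf] at h0
    exact h0
  have hm2 : Mono (K.toCycles 0 1 ≫ K.iCycles 1) := by
    rw [K.toCycles_i]; exact hmono
  have hm3 : Mono (K.toCycles 0 1) := mono_of_mono _ (K.iCycles 1)
  have hiso : IsIso (K.toCycles 0 1) := isIso_of_mono_of_epi _
  obtain ⟨L, π, hL, hπ⟩ := h1
  exact ⟨L, π ≫ inv (K.toCycles 0 1), hL, epi_comp _ _⟩

variable (hsum : ∀ X Y : C, P X → P Y → P (X ⨯ Y)) (hql : PCoh.IsQuasiLiftable P)

include hsum hql

/-- The cohomology of a complex with coherent terms in degrees `i - 1, i, i + 1` is coherent. -/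
lemma preCoh_homology (E : CochainComplex C ℤ) (i : ℤ) (h0 : P (E.X (i - 1))) (h1 : P (E.X i)) :
    PreCoh P (E.homology i) := by
  let S : ShortComplex C := ShortComplex.mk (E.toCycles (i - 1) i) (E.homologyπ i) (by simp)
  have hS : S.Exact := S.exact_of_g_is_cokernel (E.homologyIsCokernel (i - 1) i (by simp))
  have hg : Epi S.g := inferInstanceAs (Epi (E.homologyπ i))
  exact preCoh_of_exact_epi P hsum hql S hS hg (isOfFiniteType_of_prop P h0)
    (PreCoh.of_mono P (E.iCycles i) (preCoh_of_prop P hcoh h1))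

end NoD

section D

variable [HasDerivedCategory.{w} C]
variable (hcoh : ∀ (X E : C) (u : E ⟶ X), P X → P E → PCoh.IsOfFiniteType P (kernel u))
variable (hsum : ∀ X Y : C, P X → P Y → P (X ⨯ Y)) (hql : PCoh.IsQuasiLiftable P)

include hcoh hsum hql

/-- Coherent objects are pseudo-coherent. -/
theorem NPC_single_of_coh : ∀ (k : ℕ) (X : C), PCoh.IsOfFiniteType P X → PreCoh P X →
    NPC P (-(k : ℤ)) ((DerivedCategory.singleFunctor C 0).obj X) := by
  have hqs := isQuasiStableUnderKernels_of_coh P hcoh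
  intro k
  induction k with
  | zero =>
    intro X hX _
    simpa using (NPC_single_zero_iff_isOfFiniteType P hqs hql X).2 hX
  | succ k ih =>
    intro X hX hX'
    obtain ⟨E₀, π₀, hE₀, hπ₀⟩ := hX
    let S : ShortComplex C := ShortComplex.mk (kernel.ι π₀) π₀ (kernel.condition π₀)
    have hS : S.ShortExact :=
      { exact := S.exact_of_f_is_kernel (kernelIsKernel π₀)
        mono_f := inferInstanceAs (Mono (kernel.ι π₀))
        epi_g := hπ₀ }
    have h1 : NPC P (-(k : ℤ)) ((DerivedCategory.singleFunctor C 0).obj (kernel π₀)) :=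
      ih _ (hX' _ π₀ hE₀) (PreCoh.of_mono P (kernel.ι π₀) (preCoh_of_prop P hcoh hE₀))
    have h2 : NPC P (-((k + 1 : ℕ) : ℤ)) ((DerivedCategory.singleFunctor C 0).obj E₀) :=
      ⟨_, isStrictPC_single P 0 _ hE₀, ⟨QSingleIso E₀ 0⟩⟩
    have h1' : NPC P (-((k + 1 : ℕ) : ℤ) + 1) ((DerivedCategory.singleFunctor C 0).obj S.X₁) := by
      have : -((k + 1 : ℕ) : ℤ) + 1 = -(k : ℤ) := by push_cast; ring
      rw [this]
      exact h1
    exact (NPC_shortExact P hsum hqs hql hS (-((k + 1 : ℕ) : ℤ))).1 h1' h2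

theorem NPC_single_of_coh' (m : ℤ) (X : C) (hX : PCoh.IsOfFiniteType P X) (hX' : PreCoh P X) :
    NPC P m ((DerivedCategory.singleFunctor C 0).obj X) := by
  have h := NPC_single_of_coh P hcoh hsum hql (-m).toNat X hX hX'
  exact NPC.of_le P (by have := Int.self_le_toNat (-m); lia) h

theorem NPC_iff_coh (n : ℤ) (F : DerivedCategory C) (b : ℤ)
    (hb : ∀ i : ℤ, b < i → IsZero ((DerivedCategory.homologyFunctor C i).obj F)) :
    NPC P n F ↔
      (PCoh.IsOfFiniteType P ((DerivedCategory.homologyFunctor C n).obj F) ∧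
        ∀ i : ℤ, n < i → (PCoh.IsOfFiniteType P ((DerivedCategory.homologyFunctor C i).obj F) ∧
          PreCoh P ((DerivedCategory.homologyFunctor C i).obj F))) := by
  have hqs := isQuasiStableUnderKernels_of_coh P hcoh
  constructor
  · rintro ⟨E, ⟨_, hP⟩, ⟨e⟩⟩
    have eH : ∀ i, E.homology i ≅ (DerivedCategory.homologyFunctor C i).obj F := fun i =>
      (homologyQIso E i).symm ≪≫ (DerivedCategory.homologyFunctor C i).mapIso e
    have hft : ∀ i, n ≤ i → PCoh.IsOfFiniteType P (E.homology i) := fun i hi =>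
      isOfFiniteType_of_epi P (E.homologyπ i)
        (isOfFiniteType_cycles_of_coh P E hcoh i (i + 1) (by simp) (hP i hi) (hP _ (by lia)))
    refine ⟨isOfFiniteType_of_iso P (eH n) (hft n le_rfl), fun i hi => ⟨?_, ?_⟩⟩
    · exact isOfFiniteType_of_iso P (eH i) (hft i hi.le)
    · exact PreCoh.of_mono P (eH i).inv
        (preCoh_homology P hcoh hsum hql E i (hP _ (by lia)) (hP _ hi.le))
  · rintro ⟨h0, h1⟩
    refine NPC_of_homology P hsum hqs hql n (b - n + 1).toNat F b
      (by have := Int.self_le_toNat (b - n + 1); lia) hb (fun i hi => ?_)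
    rcases hi.eq_or_lt with rfl | hi'
    · have := (NPC_single_zero_iff_isOfFiniteType P hqs hql _).2 h0
      simpa using this
    · exact NPC_single_of_coh' P hcoh hsum hql _ _ (h1 i hi').1 (h1 i hi').2

end D

end Groth.Agent.Lib.helper17.PCohCohD
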