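import Mathlib
import Groth.Prelude.Def_PCoh
import Groth.Prelude.Def_DRing2
import Groth.Agent.Lib.helper17.PCohAll
import Groth.Agent.Lib.helper17.PCohAmp
import Groth.Agent.Lib.helper17.PCohCohD

/-!
# Bridge: pseudo-coherence in `D(R)` (DRing) from the abstract theory (helper17)
-/

namespace Groth.Agent.Lib.helper17.DRingPC

open CategoryTheory Limits Pretriangulated DerivedCategory
open Groth.Agent.Lib.helper17.PCohBasic Groth.Agent.Lib.helper17.PCohTri
open Groth.Agent.Lib.helper17.PCohD Groth.Agent.Lib.helper17.PCohLES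
open Groth.Agent.Lib.helper17.PCohTrunc Groth.Agent.Lib.helper17.PCohAll
open Groth.Agent.Lib.helper17.PCohFT Groth.Agent.Lib.helper17.PerfLift

set_option linter.unusedSectionVars false
set_option linter.unusedVariables false

attribute [local instance] HasDerivedCategory.standard

universe u

variable (R : Type u) [CommRing R]

/-- Finite free modules. -/
def FF : ObjectProperty (ModuleCat.{u} R) := fun M => Module.Finite R M ∧ Module.Free R M

/-- Finite projective modules. -/
def FP : ObjectProperty (ModuleCat.{u} R) := fun M => Module.Finite R M ∧ Module.Projective R M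

lemma FF_le_FP : ∀ M, FF R M → FP R M := fun M ⟨h1, h2⟩ => ⟨h1, inferInstance⟩

instance : (FF R).IsClosedUnderIsomorphisms where
  of_iso {X Y} e := fun ⟨h1, h2⟩ =>
    ⟨Module.Finite.equiv e.toLinearEquiv, Module.Free.of_equiv e.toLinearEquiv⟩

instance : (FP R).IsClosedUnderIsomorphisms where
  of_iso {X Y} e := fun ⟨h1, h2⟩ =>
    ⟨Module.Finite.equiv e.toLinearEquiv, Module.Projective.of_equiv e.toLinearEquiv⟩

instance : (FF R).ContainsZero where
  exists_zero := ⟨ModuleCat.of R PUnit, ModuleCat.isZero_of_subsingleton _,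
    ⟨inferInstance, inferInstance⟩⟩

instance : (FP R).ContainsZero where
  exists_zero := ⟨ModuleCat.of R PUnit, ModuleCat.isZero_of_subsingleton _,
    ⟨inferInstance, inferInstance⟩⟩

lemma FF_biprod {X Y : ModuleCat.{u} R} (hX : FF R X) (hY : FF R Y) : FF R (X ⊞ Y) := by
  obtain ⟨h1, h2⟩ := hX
  obtain ⟨h3, h4⟩ := hY
  have e := (ModuleCat.biprodIsoProd X Y).toLinearEquiv
  exact ⟨Module.Finite.equiv e.symm, Module.Free.of_equiv e.symm⟩

lemma FP_biprod {X Y : ModuleCat.{u} R} (hX : FP R X) (hY : FP R Y) : FP R (X ⊞ Y) := by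
  obtain ⟨h1, h2⟩ := hX
  obtain ⟨h3, h4⟩ := hY
  have e := (ModuleCat.biprodIsoProd X Y).toLinearEquiv
  exact ⟨Module.Finite.equiv e.symm, Module.Projective.of_equiv e.symm⟩

lemma FF_prod : ∀ X Y : ModuleCat.{u} R, FF R X → FF R Y → FF R (X ⨯ Y) := fun X Y hX hY =>
  (FF R).prop_of_iso (biprod.isoProd X Y) (FF_biprod R hX hY)

lemma FP_prod : ∀ X Y : ModuleCat.{u} R, FP R X → FP R Y → FP R (X ⨯ Y) := fun X Y hX hY =>
  (FP R).prop_of_iso (biprod.isoProd X Y) (FP_biprod R hX hY)

lemma FP_lift : ∀ (E F : ModuleCat.{u} R) (u : E ⟶ F), Epi u → FP R F → IsSplitEpi u := by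
  intro E F u hu ⟨_, hF⟩
  have : Projective F := (IsProjective.iff_projective F).1 hF
  exact ⟨⟨⟨Projective.factorThru (𝟙 F) u, Projective.factorThru_comp _ _⟩⟩⟩

lemma FP_of_biprod : ∀ (E' E'' : ModuleCat.{u} R) [HasBinaryBiproduct E' E''],
    FP R (E' ⊞ E'') → FP R E' ∧ FP R E'' := by
  intro E' E'' _ ⟨h1, h2⟩
  have e := (ModuleCat.biprodIsoProd E' E'').toLinearEquiv
  have : Module.Finite R (E' × E'') := Module.Finite.equiv e
  have : Module.Projective R (E' × E'') := Module.Projective.of_equiv e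
  refine ⟨⟨Module.Finite.of_surjective (LinearMap.fst R E' E'') LinearMap.fst_surjective,
    Module.Projective.of_split (LinearMap.inl R E' E'') (LinearMap.fst R E' E'') (by ext; simp)⟩,
    ⟨Module.Finite.of_surjective (LinearMap.snd R E' E'') LinearMap.snd_surjective,
    Module.Projective.of_split (LinearMap.inr R E' E'') (LinearMap.snd R E' E'') (by ext; simp)⟩⟩

lemma FP_stable : ∀ (E F : ModuleCat.{u} R) (u : E ⟶ F), Epi u → FP R E → FP R F →
    FP R (kernel u) := by
  intro E F u hu hE hF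
  have hs := FP_lift R E F u hu hF
  have hb := isBilimitBinaryBiconeOfIsSplitEpiOfKernel (kernelIsKernel u)
  have e : E ≅ kernel u ⊞ F := biprod.uniqueUpToIso (kernel u) F hb
  exact (FP_of_biprod R _ _ ((FP R).prop_of_iso e hE)).1

/-- A finitely generated module is of `FF`-finite type. -/
lemma isOfFiniteType_of_finite (M : ModuleCat.{u} R) [Module.Finite R M] :
    PCoh.IsOfFiniteType (FF R) M := by
  obtain ⟨n, f, hf⟩ := Module.Finite.exists_fin' R M
  refine ⟨ModuleCat.of R (Fin n → R), ModuleCat.ofHom f, ⟨inferInstance, inferInstance⟩, ?_⟩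
  rw [ModuleCat.epi_iff_surjective]
  exact hf

lemma finite_of_isOfFiniteType {P : ObjectProperty (ModuleCat.{u} R)}
    (hP : ∀ M, P M → Module.Finite R M) (M : ModuleCat.{u} R)
    (h : PCoh.IsOfFiniteType P M) : Module.Finite R M := by
  obtain ⟨E, π, hE, hπ⟩ := h
  have := hP E hE
  rw [ModuleCat.epi_iff_surjective] at hπ
  exact Module.Finite.of_surjective π.hom hπ

lemma isOfFiniteType_FF_iff (M : ModuleCat.{u} R) :
    PCoh.IsOfFiniteType (FF R) M ↔ Module.Finite R M :=
  ⟨finite_of_isOfFiniteType R (fun _ h => h.1) M, fun _ => isOfFiniteType_of_finite R M⟩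

lemma FF_hql : PCoh.IsQuasiLiftable (FF R) := by
  intro E F u hu hF
  have := FP_lift R E F u hu (FF_le_FP R F hF)
  refine ⟨F, section_ u, hF, ?_⟩
  rw [IsSplitEpi.id]
  infer_instance

lemma FP_hql : PCoh.IsQuasiLiftable (FP R) :=
  PCohAmp.isQuasiLiftable_of_lift (FP R) (FP_lift R)

lemma FP_hqs : PCoh.IsQuasiStableUnderKernels (FP R) :=
  PCohAmp.isQuasiStableUnderKernels_of_stable (FP R) (FP_stable R)

lemma FF_hqs : PCoh.IsQuasiStableUnderKernels (FF R) := by
  intro K hex hb hK
  have h := FP_hqs R K hex hb (fun i hi => FF_le_FP R _ (hK i hi))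
  have := finite_of_isOfFiniteType R (fun _ h => h.1) _ h
  exact isOfFiniteType_of_finite R _

/-- The bridge. -/
theorem isPseudoCoherent_iff_NPC (m : ℤ) (K : Dual.D R) :
    DRing.IsPseudoCoherent R m K ↔ NPC (FF R) m K :=
  (NPC_iff_exists_perfect_nIso (FF R) (FF_prod R) (FF_hqs R) (FF_hql R) m K).symm

theorem isPseudoCoherent'_iff_exists (K : Dual.D R) :
    DRing.IsPseudoCoherent' R K ↔
      ∃ E : CochainComplex (ModuleCat.{u} R) ℤ, PCoh.IsStrictPCAll (FF R) E ∧
        Nonempty (DerivedCategory.Q.obj E ≅ K) := by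
  constructor
  · rintro ⟨E, b, hb, hE, he⟩
    exact ⟨E, ⟨⟨b, hb⟩, hE⟩, he⟩
  · rintro ⟨E, ⟨⟨b, hb⟩, hE⟩, he⟩
    exact ⟨E, b, hb, hE, he⟩

theorem isPseudoCoherent'_iff_isPC (K : Dual.D R) :
    DRing.IsPseudoCoherent' R K ↔ PCoh.IsPC (FF R) K := by
  rw [isPseudoCoherent'_iff_exists]
  constructor
  · rintro ⟨E, hE, ⟨e⟩⟩
    exact fun n => NPC.of_iso (FF R)
      (isPC_of_strictPCAll (FF R) (FF_prod R) (FF_hqs R) (FF_hql R) hE n) e
  · intro h
    exact exists_strictPCAll (FF R) (FF_prod R) (FF_hqs R) (FF_hql R) K h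

theorem isPseudoCoherent'_iff_forall (K : Dual.D R) :
    DRing.IsPseudoCoherent' R K ↔ ∀ m : ℤ, DRing.IsPseudoCoherent R m K := by
  rw [isPseudoCoherent'_iff_isPC]
  exact forall_congr' fun m => (isPseudoCoherent_iff_NPC R m K).symm

section Modules

variable (M : ModuleCat.{u} R)

theorem NPC_single_zero_iff_finite :
    NPC (FF R) 0 ((DerivedCategory.singleFunctor (ModuleCat.{u} R) 0).obj M) ↔ Module.Finite R M :=
  (NPC_single_zero_iff_isOfFiniteType (FF R) (FF_hqs R) (FF_hql R) M).trans
    (isOfFiniteType_FF_iff R M)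

lemma NPC_single_of_FF (hM : FF R M) (k : ℤ) :
    NPC (FF R) k ((DerivedCategory.singleFunctor (ModuleCat.{u} R) 0).obj M) :=
  ⟨_, PCohT1.isStrictPC_single (FF R) 0 k hM, ⟨QSingleIso M 0⟩⟩

/-- The short exact sequence attached to a surjection from a finite free module. -/
lemma shortExact_of_surjective {n : ℕ} (f : (Fin n → R) →ₗ[R] M) (hf : Function.Surjective f) :
    (ShortComplex.mk (kernel.ι (ModuleCat.ofHom f)) (ModuleCat.ofHom f)
      (kernel.condition _)).ShortExact :=
  { exact := ShortComplex.exact_of_f_is_kernel _ (kernelIsKernel _)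
    mono_f := inferInstanceAs (Mono (kernel.ι (ModuleCat.ofHom f)))
    epi_g := (ModuleCat.epi_iff_surjective _).2 hf }

lemma finite_kernel_iff {n : ℕ} (f : (Fin n → R) →ₗ[R] M) :
    Module.Finite R (kernel (ModuleCat.ofHom f) : ModuleCat.{u} R) ↔ (LinearMap.ker f).FG := by
  have e := (ModuleCat.kernelIsoKer (ModuleCat.ofHom f)).toLinearEquiv
  rw [← Module.Finite.iff_fg]
  exact ⟨fun h => Module.Finite.equiv e, fun h => Module.Finite.equiv e.symm⟩

theorem NPC_single_negOne_iff_finitePresentation :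
    NPC (FF R) (-1) ((DerivedCategory.singleFunctor (ModuleCat.{u} R) 0).obj M) ↔
      Module.FinitePresentation R M := by
  constructor
  · intro h
    have h0 : Module.Finite R M :=
      (NPC_single_zero_iff_finite R M).1 (NPC.of_le (FF R) (by lia) h)
    obtain ⟨n, f, hf⟩ := Module.Finite.exists_fin' R M
    have hS := shortExact_of_surjective R M f hf
    have h1 := (NPC_shortExact (FF R) (FF_prod R) (FF_hqs R) (FF_hql R) hS (-1)).2.2
      (NPC_single_of_FF R _ ⟨inferInstance, inferInstance⟩ _) h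
    have h2 : Module.Finite R (kernel (ModuleCat.ofHom f) : ModuleCat.{u} R) :=
      (NPC_single_zero_iff_finite R _).1 h1
    exact Module.finitePresentation_of_free_of_surjective f hf ((finite_kernel_iff R M f).1 h2)
  · intro h
    obtain ⟨n, f, hf⟩ := Module.Finite.exists_fin' R M
    have hS := shortExact_of_surjective R M f hf
    have hker := Module.FinitePresentation.fg_ker f hf
    have h2 : Module.Finite R (kernel (ModuleCat.ofHom f) : ModuleCat.{u} R) :=
      (finite_kernel_iff R M f).2 hker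
    have h1 : NPC (FF R) (-1 + 1) ((DerivedCategory.singleFunctor (ModuleCat.{u} R) 0).obj
        (kernel (ModuleCat.ofHom f))) := by
      have := (NPC_single_zero_iff_finite R _).2 h2
      simpa using this
    exact (NPC_shortExact (FF R) (FF_prod R) (FF_hqs R) (FF_hql R) hS (-1)).1 h1
      (NPC_single_of_FF R _ ⟨inferInstance, inferInstance⟩ _)

end Modules

section Noetherian

open Groth.Agent.Lib.helper17.PCohCoh Groth.Agent.Lib.helper17.PCohCohD

variable [IsNoetherianRing R]

lemma finite_kernel_of_noetherian {X E : ModuleCat.{u} R} (u : E ⟶ X) [Module.Finite R E] :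
    Module.Finite R (kernel u : ModuleCat.{u} R) := by
  have e := (ModuleCat.kernelIsoKer u).toLinearEquiv
  have : IsNoetherian R E := isNoetherian_of_isNoetherianRing_of_finite R E
  have : Module.Finite R (LinearMap.ker u.hom) := Module.Finite.of_injective
    (LinearMap.ker u.hom).subtype (Submodule.injective_subtype _)
  exact Module.Finite.equiv e.symm

lemma FF_hcoh : ∀ (X E : ModuleCat.{u} R) (u : E ⟶ X), FF R X → FF R E →
    PCoh.IsOfFiniteType (FF R) (kernel u) := by
  intro X E u _ hE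
  have := hE.1
  have := finite_kernel_of_noetherian R u
  exact isOfFiniteType_of_finite R _

lemma preCoh_of_noetherian (X : ModuleCat.{u} R) : PreCoh (FF R) X := by
  intro E u hE
  have := hE.1
  have := finite_kernel_of_noetherian R u
  exact isOfFiniteType_of_finite R _

theorem NPC_iff_finite_of_noetherian (m : ℤ) (K : Dual.D R) (b : ℤ)
    (hb : ∀ i : ℤ, b < i → IsZero ((DerivedCategory.homologyFunctor (ModuleCat.{u} R) i).obj K)) :
    NPC (FF R) m K ↔ ∀ i : ℤ, m ≤ i →
      Module.Finite R ((DerivedCategory.homologyFunctor (ModuleCat.{u} R) i).obj K) := by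
  rw [NPC_iff_coh (FF R) (FF_hcoh R) (FF_prod R) (FF_hql R) m K b hb]
  constructor
  · rintro ⟨h0, h1⟩ i hi
    rcases hi.eq_or_lt with rfl | hi'
    · exact (isOfFiniteType_FF_iff R _).1 h0
    · exact (isOfFiniteType_FF_iff R _).1 (h1 i hi').1
  · intro h
    exact ⟨(isOfFiniteType_FF_iff R _).2 (h m le_rfl), fun i hi =>
      ⟨(isOfFiniteType_FF_iff R _).2 (h i hi.le), preCoh_of_noetherian R _⟩⟩

theorem NPC_single_of_finite_noetherian (M : ModuleCat.{u} R) [Module.Finite R M] (m : ℤ) :
    NPC (FF R) m ((DerivedCategory.singleFunctor (ModuleCat.{u} R) 0).obj M) :=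
  NPC_single_of_coh' (FF R) (FF_hcoh R) (FF_prod R) (FF_hql R) m M
    (isOfFiniteType_of_finite R M) (preCoh_of_noetherian R M)

end Noetherian

end Groth.Agent.Lib.helper17.DRingPC
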