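import Mathlib
import Groth.Prelude.Def_PCoh
import Groth.Agent.Lib.helper17.PCohAmp

/-!
# Perfect objects relative to a liftable subcategory: triangles, terms, cohomology (helper17)
-/

namespace Groth.Agent.Lib.helper17.PerfTri

open CategoryTheory Limits Pretriangulated CochainComplex HomologicalComplex DerivedCategory
open Groth.Agent.Lib.helper17.PerfLift Groth.Agent.Lib.helper17.PCohLES
open Groth.Agent.Lib.helper17.PCohTrunc Groth.Agent.Lib.helper17.PCohD
open Groth.Agent.Lib.helper17.PCohAmp

set_option linter.unusedSectionVars false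
set_option linter.unusedVariables false

universe w v u

variable {C : Type u} [Category.{v} C] [Abelian C] [HasDerivedCategory.{w} C]
variable (P : ObjectProperty C) [P.IsClosedUnderIsomorphisms] [P.ContainsZero]

/-- `X` is perfect: isomorphic to a bounded complex with terms in `C₀`. -/
def Perf (X : DerivedCategory C) : Prop :=
  ∃ (E : CochainComplex C ℤ) (a b : ℤ), (∀ i : ℤ, i < a ∨ b < i → IsZero (E.X i)) ∧
    (∀ i : ℤ, P (E.X i)) ∧ Nonempty (DerivedCategory.Q.obj E ≅ X)

lemma Perf.of_iso {X Y : DerivedCategory C} (h : Perf P X) (e : X ≅ Y) : Perf P Y := by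
  obtain ⟨E, a, b, hz, hP, ⟨e'⟩⟩ := h
  exact ⟨E, a, b, hz, hP, ⟨e' ≪≫ e⟩⟩

lemma Perf.shift {X : DerivedCategory C} (h : Perf P X) (n : ℤ) : Perf P (X⟦n⟧) := by
  obtain ⟨E, a, b, hz, hP, ⟨e⟩⟩ := h
  refine ⟨E⟦n⟧, a - n, b - n, fun i hi => ?_, fun i => hP _,
    ⟨(Q.commShiftIso n).app E ≪≫ (CategoryTheory.shiftFunctor (DerivedCategory C) n).mapIso e⟩⟩
  exact hz (i + n) (by rcases hi with hi | hi; left; lia; right; lia)

lemma perf_of_isZero (X : DerivedCategory C) (hX : IsZero X) : Perf P X :=
  ⟨HomologicalComplex.zero, 0, 0, fun i _ => Limits.isZero_zero C,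
    fun i => P.prop_of_isZero (Limits.isZero_zero C),
    ⟨(Q.map_isZero (by
      rw [IsZero.iff_id_eq_zero]
      ext i
      exact (Limits.isZero_zero C).eq_of_src _ _)).iso hX⟩⟩

lemma perf_single (X : C) (hX : P X) (i : ℤ) :
    Perf P ((DerivedCategory.singleFunctor C i).obj X) := by
  refine ⟨(HomologicalComplex.single C (ComplexShape.up ℤ) i).obj X, i, i, fun j hj => ?_,
    fun j => ?_, ⟨QSingleIso X i⟩⟩
  · exact HomologicalComplex.isZero_single_obj_X _ _ _ _ (by rcases hj with h | h <;> lia)
  · by_cases h : j = i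
    · subst h
      exact P.prop_of_iso (HomologicalComplex.singleObjXSelf (ComplexShape.up ℤ) j X).symm hX
    · exact P.prop_of_isZero (HomologicalComplex.isZero_single_obj_X _ _ _ _ h)

variable (hsum : ∀ X Y : C, P X → P Y → P (X ⨯ Y))
  (hlift : ∀ (E F : C) (u : E ⟶ F), Epi u → P F → IsSplitEpi u)

include hsum hlift

theorem perf_triangle (T : Triangle (DerivedCategory C)) (hT : T ∈ distTriang _) :
    (Perf P T.obj₁ → Perf P T.obj₂ → Perf P T.obj₃) ∧
    (Perf P T.obj₁ → Perf P T.obj₃ → Perf P T.obj₂) ∧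
    (Perf P T.obj₂ → Perf P T.obj₃ → Perf P T.obj₁) := by
  refine ⟨fun h₁ h₂ => cone_perfect P hsum hlift T hT h₁ h₂, fun h₁ h₃ => ?_, fun h₂ h₃ => ?_⟩
  · exact cone_perfect P hsum hlift T.invRotate (inv_rot_of_distTriang _ hT)
      (Perf.shift P h₃ (-1)) h₁
  · have h := cone_perfect P hsum hlift T.rotate (rot_of_distTriang _ hT) h₂ h₃
    have h' : Perf P ((T.obj₁⟦(1 : ℤ)⟧)⟦(-1 : ℤ)⟧) := Perf.shift P h (-1)
    exact Perf.of_iso P h' ((shiftEquiv (DerivedCategory C) (1 : ℤ)).unitIso.symm.app T.obj₁)

lemma perf_single_of_zero {X : C} (i : ℤ)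
    (h : Perf P ((DerivedCategory.singleFunctor C 0).obj X)) :
    Perf P ((DerivedCategory.singleFunctor C i).obj X) :=
  Perf.of_iso P (Perf.shift P h (-i))
    (((DerivedCategory.singleFunctors C).shiftIso (-i) i 0 (by simp)).app X)

/-- A bounded complex with perfect terms is perfect. -/
theorem perf_of_terms (a : ℤ) : ∀ (j : ℕ) (F : CochainComplex C ℤ) (b : ℤ), b - a < j →
    (∀ i, i < a ∨ b < i → IsZero (F.X i)) →
    (∀ i, Perf P ((DerivedCategory.singleFunctor C 0).obj (F.X i))) →
    Perf P (Q.obj F) := by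
  intro j
  induction j with
  | zero =>
    intro F b hba hz _
    refine perf_of_isZero P _ (Q.map_isZero ?_)
    rw [IsZero.iff_id_eq_zero]
    ext i
    exact (hz i (by simp at hba; lia)).eq_of_src _ _
  | succ j ih =>
    intro F b hba hz hF
    obtain ⟨G, φ, π, w, hS, hG0, hGi⟩ := exists_brutal_truncation F b (fun i hi => hz i (Or.inr hi))
    have hG : Perf P (Q.obj G) := by
      refine ih G (b - 1) (by push_cast at hba; lia) (fun i hi => ?_) (fun i => ?_)
      · rcases hi with hi | hi
        · by_cases hib : i < b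
          · obtain ⟨e⟩ := hGi i hib
            exact (hz i (Or.inl hi)).of_iso e.symm
          · exact hG0 i (by lia)
        · exact hG0 i (by lia)
      · by_cases hib : i < b
        · obtain ⟨e⟩ := hGi i hib
          exact Perf.of_iso P (hF i) ((DerivedCategory.singleFunctor C 0).mapIso e)
        · exact perf_of_isZero P _
            ((DerivedCategory.singleFunctor C 0).map_isZero (hG0 i (by lia)))
    have h1 : Perf P (Q.obj ((HomologicalComplex.single C (ComplexShape.up ℤ) b).obj (F.X b))) :=
      Perf.of_iso P (perf_single_of_zero P hsum hlift b (hF b)) (QSingleIso (F.X b) b).symm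
    exact (perf_triangle P hsum hlift _ (DerivedCategory.triangleOfSES_distinguished hS)).2.1 h1 hG

omit hsum hlift in
lemma isZero_of_homology_isZero (K : DerivedCategory C)
    (h : ∀ i : ℤ, IsZero ((DerivedCategory.homologyFunctor C i).obj K)) : IsZero K := by
  have h1 : K.IsLE 0 := by
    rw [DerivedCategory.isLE_iff]
    exact fun i _ => h i
  have h2 : K.IsGE 1 := by
    rw [DerivedCategory.isGE_iff]
    exact fun i _ => h i
  exact (DerivedCategory.TStructure.t : Triangulated.TStructure (DerivedCategory C)).isZero K 0 1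

/-- An object with bounded cohomology, all of it perfect, is perfect. -/
theorem perf_of_homology (a : ℤ) : ∀ (j : ℕ) (F : DerivedCategory C) (b : ℤ), b - a < j →
    (∀ i, i < a ∨ b < i → IsZero ((DerivedCategory.homologyFunctor C i).obj F)) →
    (∀ i, Perf P ((DerivedCategory.singleFunctor C 0).obj
      ((DerivedCategory.homologyFunctor C i).obj F))) →
    Perf P F := by
  intro j
  induction j with
  | zero =>
    intro F b hba hz _
    exact perf_of_isZero P _ (isZero_of_homology_isZero F
      (fun i => hz i (by simp at hba; lia)))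
  | succ j ih =>
    intro F b hba hz hF
    let t := (DerivedCategory.TStructure.t : Triangulated.TStructure (DerivedCategory C))
    let T := (t.triangleLTGE b).obj F
    have hT : T ∈ distTriang _ := t.triangleLTGE_distinguished b F
    have hA : t.IsLE T.obj₁ (b - 1) := inferInstance
    have hB : t.IsGE T.obj₃ b := inferInstance
    have hA0 : ∀ i, b - 1 < i → IsZero ((DerivedCategory.homologyFunctor C i).obj T.obj₁) :=
      fun i hi => DerivedCategory.isZero_of_isLE T.obj₁ (b - 1) i hi
    have hB0 : ∀ i, i < b → IsZero ((DerivedCategory.homologyFunctor C i).obj T.obj₃) :=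
      fun i hi => DerivedCategory.isZero_of_isGE T.obj₃ b i hi
    have hB1 : ∀ i, b < i → IsZero ((DerivedCategory.homologyFunctor C i).obj T.obj₃) :=
      fun i hi => isZero_homology_obj₃ T hT i (hz i (Or.inr hi)) (hA0 _ (by lia))
    have hBle : T.obj₃.IsLE b := by
      rw [DerivedCategory.isLE_iff]
      exact hB1
    have hBge : T.obj₃.IsGE b := hB
    obtain ⟨Y, ⟨eY⟩⟩ := DerivedCategory.exists_iso_singleFunctor_obj_of_isGE_of_isLE T.obj₃ b
    have hmor₁ : ∀ i, i < b →
        IsIso ((DerivedCategory.homologyFunctor C i).map T.mor₁) :=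
      fun i hib => isIso_homology_mor₁ T hT i (hB0 i hib) (hB0 _ (by lia))
    have h1 : Perf P T.obj₁ := by
      refine ih T.obj₁ (b - 1) (by push_cast at hba; lia) (fun i hi => ?_) (fun i => ?_)
      · rcases hi with hi | hi
        · by_cases hib : i < b
          · have := hmor₁ i hib
            have e0 := asIso ((DerivedCategory.homologyFunctor C i).map T.mor₁)
            exact (hz i (Or.inl hi)).of_iso e0
          · exact hA0 i (by lia)
        · exact hA0 i hi
      · by_cases hib : i < b
        · have := hmor₁ i hib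
          have e0 := asIso ((DerivedCategory.homologyFunctor C i).map T.mor₁)
          exact Perf.of_iso P (hF i) ((DerivedCategory.singleFunctor C 0).mapIso e0.symm)
        · exact perf_of_isZero P _
            ((DerivedCategory.singleFunctor C 0).map_isZero (hA0 i (by lia)))
    have h3 : Perf P T.obj₃ := by
      have := isIso_homology_mor₂ T hT b (hA0 b (by lia)) (hA0 _ (by lia))
      have e0 := asIso ((DerivedCategory.homologyFunctor C b).map T.mor₂)
      have e : (DerivedCategory.homologyFunctor C b).obj F ≅ Y :=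
        e0 ≪≫ (DerivedCategory.homologyFunctor C b).mapIso eY ≪≫ homologySingleIso Y b
      have h4 := Perf.of_iso P (hF b) ((DerivedCategory.singleFunctor C 0).mapIso e)
      exact Perf.of_iso P (perf_single_of_zero P hsum hlift b h4) eY.symm
    exact (perf_triangle P hsum hlift T hT).2.1 h1 h3

/-- Direct factors of perfect objects are perfect. -/
theorem perf_of_biprod
    (hst : ∀ (E F : C) (u : E ⟶ F), Epi u → P E → P F → P (kernel u))
    (hdf : ∀ (E' E'' : C) [HasBinaryBiproduct E' E''], P (E' ⊞ E'') → P E' ∧ P E'')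
    (F' F'' : DerivedCategory C) [HasBinaryBiproduct F' F''] (h : Perf P (F' ⊞ F'')) :
    Perf P F' ∧ Perf P F'' := by
  obtain ⟨E, a, b, hz, hP, he⟩ := h
  have h' : PerfAmp P a (max a b) (F' ⊞ F'') :=
    ⟨E, hP, fun i hi => hz i (by
      rcases hi with hi | hi
      · exact Or.inl hi
      · exact Or.inr (lt_of_le_of_lt (le_max_right a b) hi)), he⟩
  obtain ⟨⟨E₁, hP₁, hz₁, he₁⟩, ⟨E₂, hP₂, hz₂, he₂⟩⟩ :=
    perfAmp_of_biprod P hsum hlift hst hdf a (max a b) (le_max_left a b) F' F'' h'
  exact ⟨⟨E₁, a, max a b, hz₁, hP₁, he₁⟩, ⟨E₂, a, max a b, hz₂, hP₂, he₂⟩⟩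

end Groth.Agent.Lib.helper17.PerfTri
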