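import Mathlib
import Groth.Prelude.Def_PCoh
import Groth.Prelude.Def_DRing2
import Groth.Agent.Lib.helper17.DRingPC
import Groth.Agent.Lib.helper17.PerfTri

/-!
# Pseudo-coherent + finite tor amplitude = perfect (helper17)
-/

namespace Groth.Agent.Lib.helper17.DRingTor

open CategoryTheory Limits Pretriangulated DerivedCategory
open Groth.Agent.Lib.helper17.PCohBasic Groth.Agent.Lib.helper17.PCohTri
open Groth.Agent.Lib.helper17.PCohD Groth.Agent.Lib.helper17.PCohLES
open Groth.Agent.Lib.helper17.PCohFT Groth.Agent.Lib.helper17.PerfLift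
open Groth.Agent.Lib.helper17.DRingPC Groth.Agent.Lib.helper17.PCohCore

set_option linter.unusedSectionVars false
set_option linter.unusedVariables false

attribute [local instance] HasDerivedCategory.standard

universe u

section Flat

variable {R : Type u} [CommRing R]

/-- In a short exact sequence `0 → M → N → P → 0` with `N` and `P` flat, `M` is flat. -/
lemma flat_of_exact {M N P : Type u} [AddCommGroup M] [AddCommGroup N] [AddCommGroup P]
    [Module R M] [Module R N] [Module R P] [Module.Flat R N] [Module.Flat R P]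
    (g : M →ₗ[R] N) (f : N →ₗ[R] P) (hg : Function.Injective g) (hf : Function.Surjective f)
    (H : Function.Exact g f) : Module.Flat R M := by
  rw [Module.Flat.iff_lTensor_preserves_injective_linearMap]
  intro A B _ _ _ _ i hi
  have h1 : Function.Injective (g.rTensor A) :=
    (g.lTensor_inj_iff_rTensor_inj A).1
      (LinearMap.lTensor_injective_of_exact_of_flat f hf g hg H A)
  have h2 : Function.Injective (i.lTensor N) :=
    Module.Flat.lTensor_preserves_injective_linearMap i hi
  have h3 : (g.rTensor B) ∘ₗ (i.lTensor M) = (i.lTensor N) ∘ₗ (g.rTensor A) := by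
    rw [LinearMap.rTensor_comp_lTensor, LinearMap.lTensor_comp_rTensor]
  have h4 : Function.Injective ((g.rTensor B) ∘ₗ (i.lTensor M)) := by
    rw [h3]
    exact h2.comp h1
  exact Function.Injective.of_comp h4

lemma flat_prod (X Y : Type u) [AddCommGroup X] [AddCommGroup Y] [Module R X] [Module R Y]
    [Module.Flat R X] [Module.Flat R Y] : Module.Flat R (X × Y) := by
  rw [Module.Flat.iff_lTensor_preserves_injective_linearMap]
  intro A B _ _ _ _ i hi
  rw [injective_iff_map_eq_zero]
  intro z hz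
  have h1 : (LinearMap.fst R X Y).rTensor A z = 0 := by
    have : (i.lTensor X) ((LinearMap.fst R X Y).rTensor A z) = 0 := by
      rw [← LinearMap.comp_apply, LinearMap.lTensor_comp_rTensor,
        ← LinearMap.rTensor_comp_lTensor, LinearMap.comp_apply, hz, map_zero]
    exact (injective_iff_map_eq_zero _).1
      (Module.Flat.lTensor_preserves_injective_linearMap i hi) _ this
  have h2 : (LinearMap.snd R X Y).rTensor A z = 0 := by
    have : (i.lTensor Y) ((LinearMap.snd R X Y).rTensor A z) = 0 := by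
      rw [← LinearMap.comp_apply, LinearMap.lTensor_comp_rTensor,
        ← LinearMap.rTensor_comp_lTensor, LinearMap.comp_apply, hz, map_zero]
    exact (injective_iff_map_eq_zero _).1
      (Module.Flat.lTensor_preserves_injective_linearMap i hi) _ this
  have hid : (LinearMap.inl R X Y) ∘ₗ (LinearMap.fst R X Y) +
      (LinearMap.inr R X Y) ∘ₗ (LinearMap.snd R X Y) = LinearMap.id := by
    ext <;> simp
  have h3 : z = (LinearMap.id : X × Y →ₗ[R] X × Y).rTensor A z := by simp
  rw [h3, ← hid, LinearMap.rTensor_add, LinearMap.add_apply, LinearMap.rTensor_comp,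
    LinearMap.rTensor_comp, LinearMap.comp_apply, LinearMap.comp_apply, h1, h2, map_zero,
    map_zero, add_zero]

end Flat

variable (R : Type u) [CommRing R]

/-- Flat modules. -/
def Fl : ObjectProperty (ModuleCat.{u} R) := fun M => Module.Flat R M

instance : (Fl R).IsClosedUnderIsomorphisms where
  of_iso {X Y} e := fun (h : Module.Flat R X) => Module.Flat.of_linearEquiv e.toLinearEquiv.symm

instance : (Fl R).ContainsZero where
  exists_zero := ⟨ModuleCat.of R PUnit, ModuleCat.isZero_of_subsingleton _,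
    (inferInstance : Module.Flat R (PUnit.{u + 1}))⟩

lemma Fl_stable : ∀ (E F : ModuleCat.{u} R) (u : E ⟶ F), Epi u → Fl R E → Fl R F →
    Fl R (kernel u) := by
  intro E F u hu (hE : Module.Flat R E) (hF : Module.Flat R F)
  have hs : Function.Surjective u.hom := (ModuleCat.epi_iff_surjective u).1 hu
  have : Module.Flat R (LinearMap.ker u.hom) :=
    flat_of_exact (LinearMap.ker u.hom).subtype u.hom (Submodule.injective_subtype _) hs
      (LinearMap.exact_subtype_ker_map u.hom)
  exact (Fl R).prop_of_iso (ModuleCat.kernelIsoKer u).symm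
    (this : Fl R (ModuleCat.of R (LinearMap.ker u.hom)))

lemma Fl_biprod {X Y : ModuleCat.{u} R} (hX : Fl R X) (hY : Fl R Y) : Fl R (X ⊞ Y) := by
  have : Module.Flat R X := hX
  have : Module.Flat R Y := hY
  have e := (ModuleCat.biprodIsoProd X Y).toLinearEquiv
  have h : Module.Flat R (X × Y) := flat_prod X Y
  exact Module.Flat.of_linearEquiv e

lemma Fl_of_biprod_left {X Y : ModuleCat.{u} R} (h : Fl R (X ⊞ Y)) : Fl R X := by
  have : Module.Flat R (X ⊞ Y : ModuleCat.{u} R) := h
  refine Module.Flat.of_retract (M := (X ⊞ Y : ModuleCat.{u} R)) (biprod.inl : X ⟶ X ⊞ Y).hom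
    (biprod.fst : X ⊞ Y ⟶ X).hom ?_
  have : (biprod.inl : X ⟶ X ⊞ Y) ≫ (biprod.fst : X ⊞ Y ⟶ X) = 𝟙 X := biprod.inl_fst
  ext x
  exact congrArg (fun f => f.hom x) this

lemma FF_le_Fl : ∀ M, FF R M → Fl R M := fun M ⟨h1, h2⟩ => (inferInstance : Module.Flat R M)

lemma FP_le_Fl : ∀ M, FP R M → Fl R M := fun M ⟨h1, h2⟩ => (inferInstance : Module.Flat R M)


open CochainComplex HomologicalComplex in
/-- f.p. cokernel: `opcycles` of a complex with finite free terms in degrees `m-1`, `m` is
finitely presented. -/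
lemma finitePresentation_opcycles (E : CochainComplex (ModuleCat.{u} R) ℤ) (m : ℤ)
    (h1 : FF R (E.X (m - 1))) (h2 : FF R (E.X m)) :
    Module.FinitePresentation R (E.opcycles m) := by
  obtain ⟨h1f, h1p⟩ := h1
  obtain ⟨h2f, h2p⟩ := h2
  have hcok := E.opcyclesIsCokernel (m - 1) m (by simp)
  have hepi : Epi (E.pOpcycles m) := inferInstance
  have hsurj : Function.Surjective (E.pOpcycles m).hom :=
    (ModuleCat.epi_iff_surjective _).1 hepi
  have hS : (ShortComplex.mk (E.d (m - 1) m) (E.pOpcycles m) (by simp)).Exact :=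
    ShortComplex.exact_of_g_is_cokernel _ hcok
  have hker : LinearMap.ker (E.pOpcycles m).hom = LinearMap.range (E.d (m - 1) m).hom :=
    (hS.moduleCat_range_eq_ker).symm
  have hfg : (LinearMap.ker (E.pOpcycles m).hom).FG := by
    rw [hker, LinearMap.range_eq_map]
    exact Submodule.FG.map _ (Module.finite_def.1 h1f)
  exact Module.finitePresentation_of_free_of_surjective (E.pOpcycles m).hom hsurj hfg


open CochainComplex HomologicalComplex in
/-- **Theorem A**: `(m-1)`-pseudo-coherent with tor amplitude in `[m, n]` implies strictly perfect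
in `[m, n]`. -/
theorem exists_FP_complex (m n : ℤ) (K : DerivedCategory (ModuleCat.{u} R))
    (hpc : NPC (FF R) (m - 1) K) (htor : DRing.HasTorAmplitudeIn R m n K) :
    ∃ E : CochainComplex (ModuleCat.{u} R) ℤ, (∀ i, FP R (E.X i)) ∧
      (∀ i, i < m ∨ n < i → IsZero (E.X i)) ∧ Nonempty (Q.obj E ≅ K) := by
  obtain ⟨F, hFz, hFfl, ⟨eF⟩⟩ := htor
  obtain ⟨E₁, hE₁, ⟨e₁⟩⟩ := hpc
  obtain ⟨E₁', s, g, hE₁', hs, hfac⟩ := exists_roof (FF R) (FF_prod R) (FF_hqs R) (FF_hql R)
    (m - 1) E₁ F hE₁ (e₁.hom ≫ eF.inv)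
  have hg : QuasiIso g := by
    rw [← isIso_Q_map_iff_quasiIso, ← hfac]
    have : IsIso (Q.map s) := (isIso_Q_map_iff_quasiIso (φ := s)).2 hs
    infer_instance
  have hFGE : F.IsStrictlyGE m := (F.isStrictlyGE_iff m).2 (fun i hi => hFz i (Or.inl hi))
  have hFGE' : F.IsGE m := inferInstance
  have hE₁'GE : E₁'.IsGE m := by
    rw [CochainComplex.isGE_iff]
    intro i hi
    rw [exactAt_iff_isZero_homology]
    have h1 : IsIso (homologyMap g i) := inferInstance
    have h2 : IsZero (F.homology i) := by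
      rw [← exactAt_iff_isZero_homology]
      exact F.exactAt_of_isGE m i hi
    exact h2.of_iso (asIso (homologyMap g i))
  obtain ⟨⟨b', hb'⟩, hE₁'P⟩ := hE₁'
  -- the truncation
  let F₁ := E₁'.truncGE m
  have hπiso : IsIso (F.πTruncGE m) := (F.isIso_πTruncGE_iff m).2 hFGE
  let g' : F₁ ⟶ F := CochainComplex.truncGEMap g m ≫ inv (F.πTruncGE m)
  have hg'fac : E₁'.πTruncGE m ≫ g' = g := by
    dsimp only [g']
    rw [← Category.assoc, CochainComplex.πTruncGE_naturality, Category.assoc,
      IsIso.hom_inv_id, Category.comp_id]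
  have hπq : QuasiIso (E₁'.πTruncGE m) := (E₁'.quasiIso_πTruncGE_iff m).2 hE₁'GE
  have hg' : QuasiIso g' := by
    have : QuasiIso (E₁'.πTruncGE m ≫ g') := by rw [hg'fac]; exact hg
    exact quasiIso_of_comp_left (E₁'.πTruncGE m) g'
  -- terms of F₁
  have hF₁z : ∀ i, i < m → IsZero (F₁.X i) := fun i hi =>
    (E₁'.truncGE m).isZero_of_isStrictlyGE m i hi
  have hF₁gt : ∀ i, m < i → FF R (F₁.X i) := fun i hi =>
    (FF R).prop_of_iso (E₁'.truncGEXIso m i hi).symm (hE₁'P i (by lia))
  have hF₁b : ∀ i, max b' m < i → IsZero (F₁.X i) := fun i hi =>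
    (hb' i (by have := le_max_left b' m; lia)).of_iso
      (E₁'.truncGEXIso m i (by have := le_max_right b' m; lia))
  have hF₁fp : Module.FinitePresentation R (F₁.X m) := by
    have h := finitePresentation_opcycles R E₁' m (hE₁'P _ (by lia)) (hE₁'P _ (by lia))
    exact Module.FinitePresentation.of_equiv
      (E₁'.truncGEXIsoOpcycles m).symm.toLinearEquiv
  -- the cone
  let cone := CochainComplex.mappingCone g'
  have hconeX : ∀ i, cone.X i ≅ (F₁.X (i + 1) ⊞ F.X i : ModuleCat.{u} R) := fun i =>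
    HomologicalComplex.homotopyCofiber.XIsoBiprod g' i (i + 1) rfl
  have hcone_ex : ∀ i, cone.ExactAt i := by
    intro i
    rw [exactAt_iff_isZero_homology]
    exact isZero_homology_mappingCone g' i inferInstance inferInstance
  have hcone_fl : ∀ i, m ≤ i → Fl R (cone.X i) := fun i hi =>
    (Fl R).prop_of_iso (hconeX i).symm
      (Fl_biprod R (FF_le_Fl R _ (hF₁gt (i + 1) (by lia))) (hFfl i))
  have hcone_z : ∀ i, i < m - 1 → IsZero (cone.X i) := fun i hi =>
    isZero_mappingCone_X g' i (hF₁z (i + 1) (by lia)) (hFz i (Or.inl (by lia)))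
  have hcone_b : ∀ i, max (max b' m) n < i → IsZero (cone.X i) := fun i hi =>
    isZero_mappingCone_X g' i
      (hF₁b (i + 1) (by have := le_max_left (max b' m) n; lia))
      (hFz i (Or.inr (by have := le_max_right (max b' m) n; lia)))
  have hcyc : Fl R (cone.cycles m) :=
    prop_cycles (Fl R) (Fl_stable R) cone m (max (max b' m) n) hcone_fl hcone_b
      (fun i _ => hcone_ex i) m le_rfl
  have hiso : IsIso (cone.toCycles (m - 1) m) :=
    isIso_toCycles_of_exact cone (m - 1) m (by simp) hcone_z (hcone_ex _) (hcone_ex _)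
  have hcone_m1 : Fl R (cone.X (m - 1)) :=
    (Fl R).prop_of_iso (asIso (cone.toCycles (m - 1) m)).symm hcyc
  have hF₁m_fl : Fl R (F₁.X m) := by
    have h1 : Fl R (F₁.X (m - 1 + 1) ⊞ F.X (m - 1) : ModuleCat.{u} R) :=
      (Fl R).prop_of_iso (hconeX (m - 1)) hcone_m1
    have h2 := Fl_of_biprod_left R h1
    have e : F₁.X (m - 1 + 1) ≅ F₁.X m := F₁.XIsoOfEq (by simp)
    exact (Fl R).prop_of_iso e h2
  have hF₁m : FP R (F₁.X m) := by
    have : Module.Flat R (F₁.X m) := hF₁m_fl
    exact ⟨inferInstance, Module.Flat.projective_of_finitePresentation⟩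
  have hF₁P : ∀ i, FP R (F₁.X i) := by
    intro i
    rcases lt_trichotomy i m with hi | rfl | hi
    · exact (FP R).prop_of_isZero (hF₁z i hi)
    · exact hF₁m
    · exact FF_le_FP R _ (hF₁gt i hi)
  have hF₁h : ∀ i, n < i → IsZero (F₁.homology i) := by
    intro i hi
    have h2 : IsZero (F.homology i) := by
      rw [← exactAt_iff_isZero_homology]
      exact ShortComplex.exact_of_isZero_X₂ _ (hFz i (Or.inr hi))
    exact h2.of_iso (asIso (homologyMap g' i))
  obtain ⟨F', hF'P, hF'z, ⟨eF'⟩⟩ := truncated_perfect (FP R) (FP_stable R) m n (max b' m) F₁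
    hF₁P (by
      rintro i (hi | hi)
      · exact hF₁z i hi
      · exact hF₁b i hi) hF₁h
  refine ⟨F', hF'P, ?_, ⟨eF' ≪≫ ?_ ≪≫ eF⟩⟩
  · rintro i (hi | hi)
    · exact hF'z i (Or.inl hi)
    · exact hF'z i (Or.inr (lt_of_le_of_lt (min_le_left _ _) hi))
  · have : IsIso (Q.map g') := (isIso_Q_map_iff_quasiIso (φ := g')).2 hg'
    exact asIso (Q.map g')


attribute [local instance] preservesBinaryBiproducts_of_preservesBiproducts in
/-- A finite projective module is `FF`-pseudo-coherent. -/
lemma NPC_single_of_FP (M : ModuleCat.{u} R) (hM : FP R M) (k : ℤ) :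
    NPC (FF R) k ((DerivedCategory.singleFunctor (ModuleCat.{u} R) 0).obj M) := by
  obtain ⟨hfin, hproj⟩ := hM
  obtain ⟨n, f, hf⟩ := Module.Finite.exists_fin' R M
  let u : ModuleCat.of R (Fin n → R) ⟶ M := ModuleCat.ofHom f
  have hu : Epi u := (ModuleCat.epi_iff_surjective u).2 hf
  have : IsSplitEpi u := FP_lift R _ _ u hu ⟨hfin, hproj⟩
  have hb := isBilimitBinaryBiconeOfIsSplitEpiOfKernel (kernelIsKernel u)
  have e : ModuleCat.of R (Fin n → R) ≅ kernel u ⊞ M := biprod.uniqueUpToIso (kernel u) M hb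
  have hFF : FF R (ModuleCat.of R (Fin n → R)) := ⟨inferInstance, inferInstance⟩
  have h1 := NPC_single_of_FF R _ hFF k
  have h2 : NPC (FF R) k ((DerivedCategory.singleFunctor (ModuleCat.{u} R) 0).obj (kernel u ⊞ M)) :=
    NPC.of_iso (FF R) h1 ((DerivedCategory.singleFunctor (ModuleCat.{u} R) 0).mapIso e)
  have h3 := NPC.of_iso (FF R) h2
    ((DerivedCategory.singleFunctor (ModuleCat.{u} R) 0).mapBiprod _ _)
  exact ((NPC_biprod_iff (FF R) (FF_prod R) (FF_hqs R) (FF_hql R) k _ _).1 h3).2

/-- A bounded-above complex of finite projective modules is `FF`-pseudo-coherent. -/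
theorem NPC_of_FP_complex (E : CochainComplex (ModuleCat.{u} R) ℤ) (b : ℤ)
    (hb : ∀ i, b < i → IsZero (E.X i)) (hE : ∀ i, FP R (E.X i)) (k : ℤ) :
    NPC (FF R) k (Q.obj E) :=
  NPC_of_terms (FF R) (FF_prod R) (FF_hqs R) (FF_hql R) k (b - k + 1).toNat E b
    (by have := Int.self_le_toNat (b - k + 1); lia) hb
    (fun i _ => NPC_single_of_FP R _ (hE i) _)

end Groth.Agent.Lib.helper17.DRingTor



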