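import Mathlib
import Groth.Prelude.Def_PCoh
import Groth.Agent.Lib.helper17.PerfTri

/-!
# Dévissage for extension-closed properties of `D(C)`: terms and cohomology (helper17)
-/

namespace Groth.Agent.Lib.helper17.TriInd

open CategoryTheory Limits Pretriangulated CochainComplex HomologicalComplex DerivedCategory
open Groth.Agent.Lib.helper17.PerfLift Groth.Agent.Lib.helper17.PCohLES
open Groth.Agent.Lib.helper17.PCohTrunc Groth.Agent.Lib.helper17.PCohD
open Groth.Agent.Lib.helper17.PCohAmp Groth.Agent.Lib.helper17.PerfTri

set_option linter.unusedSectionVars false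
set_option linter.unusedVariables false

universe w v u

variable {C : Type u} [Category.{v} C] [Abelian C] [HasDerivedCategory.{w} C]
variable (Pr : DerivedCategory C → Prop)
  (hiso : ∀ X Y : DerivedCategory C, (X ≅ Y) → Pr X → Pr Y)
  (h0 : ∀ X : DerivedCategory C, IsZero X → Pr X)
  (hext : ∀ T : Triangle (DerivedCategory C), T ∈ distTriang _ → Pr T.obj₁ → Pr T.obj₃ → Pr T.obj₂)

include hiso h0 hext

/-- A bounded complex whose terms (placed in their degree) have `Pr` has `Pr`. -/
theorem prop_of_terms (a : ℤ) : ∀ (j : ℕ) (F : CochainComplex C ℤ) (b : ℤ), b - a < j →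
    (∀ i, i < a ∨ b < i → IsZero (F.X i)) →
    (∀ i, Pr ((DerivedCategory.singleFunctor C i).obj (F.X i))) →
    Pr (Q.obj F) := by
  intro j
  induction j with
  | zero =>
    intro F b hba hz _
    refine h0 _ (Q.map_isZero ?_)
    rw [IsZero.iff_id_eq_zero]
    ext i
    exact (hz i (by simp at hba; lia)).eq_of_src _ _
  | succ j ih =>
    intro F b hba hz hF
    obtain ⟨G, φ, π, w, hS, hG0, hGi⟩ := exists_brutal_truncation F b (fun i hi => hz i (Or.inr hi))
    have hG : Pr (Q.obj G) := by
      refine ih G (b - 1) (by push_cast at hba; lia) (fun i hi => ?_) (fun i => ?_)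
      · rcases hi with hi | hi
        · by_cases hib : i < b
          · obtain ⟨e⟩ := hGi i hib
            exact (hz i (Or.inl hi)).of_iso e.symm
          · exact hG0 i (by lia)
        · exact hG0 i (by lia)
      · by_cases hib : i < b
        · obtain ⟨e⟩ := hGi i hib
          exact hiso _ _ ((DerivedCategory.singleFunctor C i).mapIso e) (hF i)
        · exact h0 _ ((DerivedCategory.singleFunctor C i).map_isZero (hG0 i (by lia)))
    have h1 : Pr (Q.obj ((HomologicalComplex.single C (ComplexShape.up ℤ) b).obj (F.X b))) :=
      hiso _ _ (QSingleIso (F.X b) b).symm (hF b)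
    exact hext _ (DerivedCategory.triangleOfSES_distinguished hS) h1 hG

/-- An object with bounded cohomology, each `Hⁱ[-i]` having `Pr`, has `Pr`. -/
theorem prop_of_homology (a : ℤ) : ∀ (j : ℕ) (F : DerivedCategory C) (b : ℤ), b - a < j →
    (∀ i, i < a ∨ b < i → IsZero ((DerivedCategory.homologyFunctor C i).obj F)) →
    (∀ i, Pr ((DerivedCategory.singleFunctor C i).obj
      ((DerivedCategory.homologyFunctor C i).obj F))) →
    Pr F := by
  intro j
  induction j with
  | zero =>
    intro F b hba hz _
    exact h0 _ (isZero_of_homology_isZero F (fun i => hz i (by simp at hba; lia)))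
  | succ j ih =>
    intro F b hba hz hF
    let t := (DerivedCategory.TStructure.t : Triangulated.TStructure (DerivedCategory C))
    let T := (t.triangleLTGE b).obj F
    have hT : T ∈ distTriang _ := t.triangleLTGE_distinguished b F
    have hA : t.IsLE T.obj₁ (b - 1) := inferInstance
    have hB : t.IsGE T.obj₃ b := inferInstance
    have hA0 : ∀ i, b - 1 < i → IsZero ((DerivedCategory.homologyFunctor C i).obj T.obj₁) :=
      fun i hi => DerivedCategory.isZero_of_isLE T.obj₁ (b - 1) i hi
    have hB0 : ∀ i, i < b → IsZero ((DerivedCategory.homologyFunctor C i).obj T.obj₃) :=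
      fun i hi => DerivedCategory.isZero_of_isGE T.obj₃ b i hi
    have hB1 : ∀ i, b < i → IsZero ((DerivedCategory.homologyFunctor C i).obj T.obj₃) :=
      fun i hi => isZero_homology_obj₃ T hT i (hz i (Or.inr hi)) (hA0 _ (by lia))
    have hBle : T.obj₃.IsLE b := by
      rw [DerivedCategory.isLE_iff]
      exact hB1
    have hBge : T.obj₃.IsGE b := hB
    obtain ⟨Y, ⟨eY⟩⟩ := DerivedCategory.exists_iso_singleFunctor_obj_of_isGE_of_isLE T.obj₃ b
    have hmor₁ : ∀ i, i < b →
        IsIso ((DerivedCategory.homologyFunctor C i).map T.mor₁) :=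
      fun i hib => isIso_homology_mor₁ T hT i (hB0 i hib) (hB0 _ (by lia))
    have h1 : Pr T.obj₁ := by
      refine ih T.obj₁ (b - 1) (by push_cast at hba; lia) (fun i hi => ?_) (fun i => ?_)
      · rcases hi with hi | hi
        · by_cases hib : i < b
          · have := hmor₁ i hib
            have e0 := asIso ((DerivedCategory.homologyFunctor C i).map T.mor₁)
            exact (hz i (Or.inl hi)).of_iso e0
          · exact hA0 i (by lia)
        · exact hA0 i hi
      · by_cases hib : i < b
        · have := hmor₁ i hib
          have e0 := asIso ((DerivedCategory.homologyFunctor C i).map T.mor₁)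
          exact hiso _ _ ((DerivedCategory.singleFunctor C i).mapIso e0.symm) (hF i)
        · exact h0 _ ((DerivedCategory.singleFunctor C i).map_isZero (hA0 i (by lia)))
    have h3 : Pr T.obj₃ := by
      have := isIso_homology_mor₂ T hT b (hA0 b (by lia)) (hA0 _ (by lia))
      have e0 := asIso ((DerivedCategory.homologyFunctor C b).map T.mor₂)
      have e : (DerivedCategory.homologyFunctor C b).obj F ≅ Y :=
        e0 ≪≫ (DerivedCategory.homologyFunctor C b).mapIso eY ≪≫ homologySingleIso Y b
      have h4 := hiso _ _ ((DerivedCategory.singleFunctor C b).mapIso e) (hF b)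
      exact hiso _ _ eY.symm h4
    exact hext T hT h1 h3

end Groth.Agent.Lib.helper17.TriInd
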