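import Mathlib
import Groth.Prelude.Def_PCoh
import Groth.Prelude.Def_DRing2
import Groth.Agent.Lib.helper17.DRingTor
import Groth.Agent.Lib.helper17.PCohAll
import Groth.Agent.Lib.helper17.PCohCohD
import Groth.Agent.Lib.helper17.PCohAmp
import Groth.Agent.Lib.helper17.TriInd

/-!
# Tor amplitude (flat-representative form) over a ring (helper17)
-/

namespace Groth.Agent.Lib.helper17.DRingTA

open CategoryTheory Limits Pretriangulated DerivedCategory
open Groth.Agent.Lib.helper17.PCohBasic Groth.Agent.Lib.helper17.PCohTri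
open Groth.Agent.Lib.helper17.PCohD Groth.Agent.Lib.helper17.PCohLES
open Groth.Agent.Lib.helper17.PCohFT Groth.Agent.Lib.helper17.PerfLift
open Groth.Agent.Lib.helper17.DRingPC Groth.Agent.Lib.helper17.PCohCore
open Groth.Agent.Lib.helper17.DRingTor

set_option linter.unusedSectionVars false
set_option linter.unusedVariables false

attribute [local instance] HasDerivedCategory.standard

universe u

section Flat

variable {R : Type u} [CommRing R]

/-- In a short exact sequence `0 → M → N → P → 0` with `M` and `P` flat, `N` is flat. -/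
lemma flat_of_ext {M N P : Type u} [AddCommGroup M] [AddCommGroup N] [AddCommGroup P]
    [Module R M] [Module R N] [Module R P] [Module.Flat R M] [Module.Flat R P]
    (g : M →ₗ[R] N) (f : N →ₗ[R] P) (hg : Function.Injective g) (hf : Function.Surjective f)
    (H : Function.Exact g f) : Module.Flat R N := by
  rw [Module.Flat.iff_lTensor_preserves_injective_linearMap]
  intro A B _ _ _ _ i hi
  have h1 : Function.Injective (g.rTensor B) :=
    (g.lTensor_inj_iff_rTensor_inj B).1
      (LinearMap.lTensor_injective_of_exact_of_flat f hf g hg H B)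
  have hM : Function.Injective (i.lTensor M) :=
    Module.Flat.lTensor_preserves_injective_linearMap i hi
  have hP : Function.Injective (i.lTensor P) :=
    Module.Flat.lTensor_preserves_injective_linearMap i hi
  have hex : Function.Exact (g.rTensor A) (f.rTensor A) := rTensor_exact A H hf
  rw [injective_iff_map_eq_zero]
  intro x hx
  have h2 : (f.rTensor A) x = 0 := by
    apply hP
    rw [map_zero, ← LinearMap.comp_apply, LinearMap.lTensor_comp_rTensor,
      ← LinearMap.rTensor_comp_lTensor, LinearMap.comp_apply, hx, map_zero]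
  obtain ⟨y, rfl⟩ := (hex x).1 h2
  have h3 : (i.lTensor M) y = 0 := by
    apply h1
    rw [map_zero, ← LinearMap.comp_apply, LinearMap.rTensor_comp_lTensor,
      ← LinearMap.lTensor_comp_rTensor, LinearMap.comp_apply, hx]
  have h4 : y = 0 := (injective_iff_map_eq_zero _).1 hM y h3
  rw [h4, map_zero]

end Flat

variable (R : Type u) [CommRing R]

lemma Fl_of_biprod_right {X Y : ModuleCat.{u} R} (h : Fl R (X ⊞ Y)) : Fl R Y := by
  have : Module.Flat R (X ⊞ Y : ModuleCat.{u} R) := h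
  refine Module.Flat.of_retract (M := (X ⊞ Y : ModuleCat.{u} R)) (biprod.inr : Y ⟶ X ⊞ Y).hom
    (biprod.snd : X ⊞ Y ⟶ Y).hom ?_
  have : (biprod.inr : Y ⟶ X ⊞ Y) ≫ (biprod.snd : X ⊞ Y ⟶ Y) = 𝟙 Y := biprod.inr_snd
  ext x
  exact congrArg (fun f => f.hom x) this

/-- Extension closure, categorical form. -/
lemma Fl_of_epi_kernel {E F : ModuleCat.{u} R} (u : E ⟶ F) (hu : Epi u) (hK : Fl R (kernel u))
    (hF : Fl R F) : Fl R E := by
  have hs : Function.Surjective u.hom := (ModuleCat.epi_iff_surjective u).1 hu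
  have hK' : Fl R (ModuleCat.of R (LinearMap.ker u.hom)) :=
    (Fl R).prop_of_iso (ModuleCat.kernelIsoKer u) hK
  have : Module.Flat R (LinearMap.ker u.hom) := hK'
  have : Module.Flat R F := hF
  exact flat_of_ext (LinearMap.ker u.hom).subtype u.hom (Submodule.injective_subtype _) hs
    (LinearMap.exact_subtype_ker_map u.hom)

lemma Fl_of_retract {X Y : ModuleCat.{u} R} (i : X ⟶ Y) (r : Y ⟶ X) (h : i ≫ r = 𝟙 X)
    (hY : Fl R Y) : Fl R X := by
  have : Module.Flat R Y := hY
  refine Module.Flat.of_retract (M := Y) i.hom r.hom ?_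
  ext x
  exact congrArg (fun f => f.hom x) h


abbrev Cx := CochainComplex (ModuleCat.{u} R) ℤ

section Trunc

open CochainComplex HomologicalComplex

variable {R}

/-- **T1**: a quasi-isomorphism from a bounded above complex, flat in degrees `> a`, to a bounded
above flat complex vanishing below `a`: then `opcycles a` of the source is flat. -/
theorem flat_opcycles_of_quasiIso {E F : Cx R} (g : E ⟶ F) (hg : QuasiIso g) (a b : ℤ)
    (hEb : ∀ i, b < i → IsZero (E.X i)) (hE : ∀ i, a < i → Fl R (E.X i))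
    (hF : ∀ i, Fl R (F.X i)) (hFz : ∀ i, i < a → IsZero (F.X i))
    (hFb : ∀ i, b < i → IsZero (F.X i)) : Fl R (E.opcycles a) := by
  have hFGE : F.IsStrictlyGE a := (F.isStrictlyGE_iff a).2 hFz
  let F₁ := E.truncGE a
  have hπiso : IsIso (F.πTruncGE a) := (F.isIso_πTruncGE_iff a).2 hFGE
  let g' : F₁ ⟶ F := CochainComplex.truncGEMap g a ≫ inv (F.πTruncGE a)
  have hg' : QuasiIso g' := by
    have h1 : QuasiIso (CochainComplex.truncGEMap g a) :=
      (CochainComplex.quasiIso_truncGEMap_iff g a).2 (fun i _ => inferInstance)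
    dsimp only [g']
    infer_instance
  have hF₁z : ∀ i, i < a → IsZero (F₁.X i) := fun i hi =>
    (E.truncGE a).isZero_of_isStrictlyGE a i hi
  have hF₁gt : ∀ i, a < i → Fl R (F₁.X i) := fun i hi =>
    (Fl R).prop_of_iso (E.truncGEXIso a i hi).symm (hE i hi)
  have hF₁b : ∀ i, max b a < i → IsZero (F₁.X i) := fun i hi =>
    (hEb i (by have := le_max_left b a; lia)).of_iso
      (E.truncGEXIso a i (by have := le_max_right b a; lia))
  let cone := CochainComplex.mappingCone g'
  have hconeX : ∀ i, cone.X i ≅ (F₁.X (i + 1) ⊞ F.X i : ModuleCat.{u} R) := fun i =>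
    HomologicalComplex.homotopyCofiber.XIsoBiprod g' i (i + 1) rfl
  have hcone_ex : ∀ i, cone.ExactAt i := by
    intro i
    rw [exactAt_iff_isZero_homology]
    exact isZero_homology_mappingCone g' i inferInstance inferInstance
  have hcone_fl : ∀ i, a ≤ i → Fl R (cone.X i) := fun i hi =>
    (Fl R).prop_of_iso (hconeX i).symm (Fl_biprod R (hF₁gt (i + 1) (by lia)) (hF i))
  have hcone_z : ∀ i, i < a - 1 → IsZero (cone.X i) := fun i hi =>
    isZero_mappingCone_X g' i (hF₁z (i + 1) (by lia)) (hFz i (by lia))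
  have hcone_b : ∀ i, max b a < i → IsZero (cone.X i) := fun i hi =>
    isZero_mappingCone_X g' i (hF₁b (i + 1) (by lia))
      (hFb i (by have := le_max_left b a; lia))
  have hcyc : Fl R (cone.cycles a) :=
    prop_cycles (Fl R) (Fl_stable R) cone a (max b a) hcone_fl hcone_b
      (fun i _ => hcone_ex i) a le_rfl
  have hiso : IsIso (cone.toCycles (a - 1) a) :=
    isIso_toCycles_of_exact cone (a - 1) a (by simp) hcone_z (hcone_ex _) (hcone_ex _)
  have hcone_m1 : Fl R (cone.X (a - 1)) :=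
    (Fl R).prop_of_iso (asIso (cone.toCycles (a - 1) a)).symm hcyc
  have h1 : Fl R (F₁.X (a - 1 + 1) ⊞ F.X (a - 1) : ModuleCat.{u} R) :=
    (Fl R).prop_of_iso (hconeX (a - 1)) hcone_m1
  have h2 := Fl_of_biprod_left R h1
  have e : F₁.X (a - 1 + 1) ≅ F₁.X a := F₁.XIsoOfEq (by simp)
  exact (Fl R).prop_of_iso (e ≪≫ E.truncGEXIsoOpcycles a) h2

/-- **T2**: a quasi-isomorphism `G → E` of bounded above complexes, both flat in degrees `> a`,
with `G.opcycles a` flat: then `E.opcycles a` is flat. -/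
theorem flat_opcycles_of_quasiIso' {G E : Cx R} (s : G ⟶ E) (hs : QuasiIso s) (a b : ℤ)
    (hGb : ∀ i, b < i → IsZero (G.X i)) (hG : ∀ i, a < i → Fl R (G.X i))
    (hGa : Fl R (G.opcycles a))
    (hEb : ∀ i, b < i → IsZero (E.X i)) (hE : ∀ i, a < i → Fl R (E.X i)) :
    Fl R (E.opcycles a) := by
  let G₁ := G.truncGE a
  let E₁ := E.truncGE a
  let s' : G₁ ⟶ E₁ := CochainComplex.truncGEMap s a
  have hs' : QuasiIso s' :=
    (CochainComplex.quasiIso_truncGEMap_iff s a).2 (fun i _ => inferInstance)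
  have hG₁z : ∀ i, i < a → IsZero (G₁.X i) := fun i hi =>
    (G.truncGE a).isZero_of_isStrictlyGE a i hi
  have hE₁z : ∀ i, i < a → IsZero (E₁.X i) := fun i hi =>
    (E.truncGE a).isZero_of_isStrictlyGE a i hi
  have hG₁gt : ∀ i, a < i → Fl R (G₁.X i) := fun i hi =>
    (Fl R).prop_of_iso (G.truncGEXIso a i hi).symm (hG i hi)
  have hE₁gt : ∀ i, a < i → Fl R (E₁.X i) := fun i hi =>
    (Fl R).prop_of_iso (E.truncGEXIso a i hi).symm (hE i hi)
  have hG₁a : Fl R (G₁.X a) := (Fl R).prop_of_iso (G.truncGEXIsoOpcycles a).symm hGa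
  have hG₁b : ∀ i, max b a < i → IsZero (G₁.X i) := fun i hi =>
    (hGb i (by have := le_max_left b a; lia)).of_iso
      (G.truncGEXIso a i (by have := le_max_right b a; lia))
  have hE₁b : ∀ i, max b a < i → IsZero (E₁.X i) := fun i hi =>
    (hEb i (by have := le_max_left b a; lia)).of_iso
      (E.truncGEXIso a i (by have := le_max_right b a; lia))
  let cone := CochainComplex.mappingCone s'
  have hconeX : ∀ i, cone.X i ≅ (G₁.X (i + 1) ⊞ E₁.X i : ModuleCat.{u} R) := fun i =>
    HomologicalComplex.homotopyCofiber.XIsoBiprod s' i (i + 1) rfl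
  have hcone_ex : ∀ i, cone.ExactAt i := by
    intro i
    rw [exactAt_iff_isZero_homology]
    exact isZero_homology_mappingCone s' i inferInstance inferInstance
  have hcone_fl : ∀ i, a + 1 ≤ i → Fl R (cone.X i) := fun i hi =>
    (Fl R).prop_of_iso (hconeX i).symm
      (Fl_biprod R (hG₁gt (i + 1) (by lia)) (hE₁gt i (by lia)))
  have hcone_z : ∀ i, i < a - 1 → IsZero (cone.X i) := fun i hi =>
    isZero_mappingCone_X s' i (hG₁z (i + 1) (by lia)) (hE₁z i (by lia))
  have hcone_b : ∀ i, max b a < i → IsZero (cone.X i) := fun i hi =>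
    isZero_mappingCone_X s' i (hG₁b (i + 1) (by lia)) (hE₁b i hi)
  have hcyc : Fl R (cone.cycles (a + 1)) :=
    prop_cycles (Fl R) (Fl_stable R) cone (a + 1) (max b a) hcone_fl hcone_b
      (fun i _ => hcone_ex i) (a + 1) le_rfl
  have hiso : IsIso (cone.toCycles (a - 1) a) :=
    isIso_toCycles_of_exact cone (a - 1) a (by simp) hcone_z (hcone_ex _) (hcone_ex _)
  have hcone_m1 : Fl R (cone.X (a - 1)) := by
    refine (Fl R).prop_of_iso (hconeX (a - 1)).symm (Fl_biprod R ?_ ?_)
    · exact (Fl R).prop_of_iso (G₁.XIsoOfEq (by simp)).symm hG₁a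
    · exact (Fl R).prop_of_isZero (hE₁z _ (by lia))
  have hcyc_a : Fl R (cone.cycles a) :=
    (Fl R).prop_of_iso (asIso (cone.toCycles (a - 1) a)) hcone_m1
  have hepi : Epi (cone.toCycles a (a + 1)) := epi_toCycles_of_exactAt cone a (hcone_ex _)
  have hK : Fl R (kernel (cone.toCycles a (a + 1))) :=
    (Fl R).prop_of_iso (kernelToCyclesIso cone a).symm hcyc_a
  have hXa : Fl R (cone.X a) := Fl_of_epi_kernel R _ hepi hK hcyc
  have h1 : Fl R (G₁.X (a + 1) ⊞ E₁.X a : ModuleCat.{u} R) :=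
    (Fl R).prop_of_iso (hconeX a) hXa
  have h2 := Fl_of_biprod_right R h1
  exact (Fl R).prop_of_iso (E.truncGEXIsoOpcycles a) h2

end Trunc


section Free

open Groth.Agent.Lib.helper17.PCohCoh Groth.Agent.Lib.helper17.PCohCohD
open Groth.Agent.Lib.helper17.PCohAll

/-- Free modules (of arbitrary rank). -/
def Fr : ObjectProperty (ModuleCat.{u} R) := fun M => Module.Free R M

instance : (Fr R).IsClosedUnderIsomorphisms where
  of_iso {X Y} e := fun (h : Module.Free R X) => Module.Free.of_equiv e.toLinearEquiv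

instance : (Fr R).ContainsZero where
  exists_zero := ⟨ModuleCat.of R PUnit, ModuleCat.isZero_of_subsingleton _,
    (inferInstance : Module.Free R (PUnit.{u + 1}))⟩

lemma Fr_le_Fl : ∀ M, Fr R M → Fl R M := fun M (h : Module.Free R M) =>
  (inferInstance : Module.Flat R M)

lemma Fr_biprod {X Y : ModuleCat.{u} R} (hX : Fr R X) (hY : Fr R Y) : Fr R (X ⊞ Y) := by
  have : Module.Free R X := hX
  have : Module.Free R Y := hY
  have e := (ModuleCat.biprodIsoProd X Y).toLinearEquiv
  exact Module.Free.of_equiv e.symm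

lemma Fr_prod : ∀ X Y : ModuleCat.{u} R, Fr R X → Fr R Y → Fr R (X ⨯ Y) := fun X Y hX hY =>
  (Fr R).prop_of_iso (biprod.isoProd X Y) (Fr_biprod R hX hY)

lemma isOfFiniteType_Fr (M : ModuleCat.{u} R) : PCoh.IsOfFiniteType (Fr R) M := by
  refine ⟨ModuleCat.of R (M →₀ R), ModuleCat.ofHom (Finsupp.linearCombination R (id : M → M)),
    (inferInstance : Module.Free R (M →₀ R)), ?_⟩
  rw [ModuleCat.epi_iff_surjective]
  intro x
  exact ⟨Finsupp.single x 1, by simp⟩

lemma Fr_hql : PCoh.IsQuasiLiftable (Fr R) := by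
  intro E F u hu hF
  obtain ⟨F', v, hF', hv⟩ := isOfFiniteType_Fr R E
  exact ⟨F', v, hF', epi_comp v u⟩

lemma Fr_hcoh : ∀ (X E : ModuleCat.{u} R) (u : E ⟶ X), Fr R X → Fr R E →
    PCoh.IsOfFiniteType (Fr R) (kernel u) := fun X E u _ _ => isOfFiniteType_Fr R _

lemma Fr_hqs : PCoh.IsQuasiStableUnderKernels (Fr R) :=
  isQuasiStableUnderKernels_of_coh (Fr R) (Fr_hcoh R)

lemma preCoh_Fr (X : ModuleCat.{u} R) : PreCoh (Fr R) X := fun E u _ => isOfFiniteType_Fr R _

theorem isPC_Fr (K : DerivedCategory (ModuleCat.{u} R)) (b : ℤ)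
    (hb : ∀ i : ℤ, b < i → IsZero ((DerivedCategory.homologyFunctor _ i).obj K)) :
    PCoh.IsPC (Fr R) K := fun n =>
  (NPC_iff_coh (Fr R) (Fr_hcoh R) (Fr_prod R) (Fr_hql R) n K b hb).2
    ⟨isOfFiniteType_Fr R _, fun i _ => ⟨isOfFiniteType_Fr R _, preCoh_Fr R _⟩⟩

/-- Every cohomologically bounded above object has a bounded above free resolution. -/
theorem exists_free_resolution (K : DerivedCategory (ModuleCat.{u} R)) (b : ℤ)
    (hb : ∀ i : ℤ, b < i → IsZero ((DerivedCategory.homologyFunctor _ i).obj K)) :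
    ∃ P : Cx R, PCoh.IsStrictPCAll (Fr R) P ∧ Nonempty (Q.obj P ≅ K) :=
  exists_strictPCAll (Fr R) (Fr_prod R) (Fr_hqs R) (Fr_hql R) K (isPC_Fr R K b hb)

end Free


section Char

open CochainComplex HomologicalComplex Groth.Agent.Lib.helper17.PCohAll

variable {R}

lemma isZero_homology_of_isZero_X (E : Cx R) (i : ℤ) (h : IsZero (E.X i)) :
    IsZero (E.homology i) := by
  rw [← exactAt_iff_isZero_homology]
  exact ShortComplex.exact_of_isZero_X₂ _ h

/-- (5) A bounded above flat complex with tor amplitude in `[a, c]` has flat `opcycles a`. -/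
theorem flat_opcycles_of_torAmp (E : Cx R) (b : ℤ) (hEb : ∀ i, b < i → IsZero (E.X i))
    (hE : ∀ i, Fl R (E.X i)) (a c : ℤ) (h : DRing.HasTorAmplitudeIn R a c (Q.obj E)) :
    Fl R (E.opcycles a) := by
  obtain ⟨F, hFz, hFfl, ⟨eF⟩⟩ := h
  obtain ⟨P₀, hP₀, ⟨e₀⟩⟩ := exists_free_resolution R (Q.obj E) b
    (fun i hi => isZero_homology_of_NPC_bound (Iso.refl _) b hEb i hi)
  obtain ⟨P₁, s₁, f₁, hP₁, hs₁, hf₁⟩ :=
    exists_roof_all (Fr R) (Fr_prod R) (Fr_hqs R) (Fr_hql R) P₀ E hP₀ e₀.hom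
  have hf₁q : QuasiIso f₁ := by
    rw [← isIso_Q_map_iff_quasiIso, ← hf₁]
    have : IsIso (Q.map s₁) := (isIso_Q_map_iff_quasiIso (φ := s₁)).2 hs₁
    infer_instance
  have : IsIso (Q.map f₁) := (isIso_Q_map_iff_quasiIso (φ := f₁)).2 hf₁q
  obtain ⟨P₂, s₂, f₂, hP₂, hs₂, hf₂⟩ :=
    exists_roof_all (Fr R) (Fr_prod R) (Fr_hqs R) (Fr_hql R) P₁ F hP₁ (Q.map f₁ ≫ eF.inv)
  have hf₂q : QuasiIso f₂ := by
    rw [← isIso_Q_map_iff_quasiIso, ← hf₂]
    have : IsIso (Q.map s₂) := (isIso_Q_map_iff_quasiIso (φ := s₂)).2 hs₂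
    infer_instance
  have hsq : QuasiIso (s₂ ≫ f₁) := inferInstance
  obtain ⟨⟨b₂, hb₂⟩, hP₂fr⟩ := hP₂
  have hP₂fl : ∀ i, Fl R (P₂.X i) := fun i => Fr_le_Fl R _ (hP₂fr i)
  have h1 : Fl R (P₂.opcycles a) :=
    flat_opcycles_of_quasiIso f₂ hf₂q a (max (max b b₂) c)
      (fun i hi => hb₂ i (by
        have := le_max_left (max b b₂) c; have := le_max_right b b₂; lia))
      (fun i _ => hP₂fl i) hFfl (fun i hi => hFz i (Or.inl hi))
      (fun i hi => hFz i (Or.inr (by have := le_max_right (max b b₂) c; lia)))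
  exact flat_opcycles_of_quasiIso' (s₂ ≫ f₁) hsq a (max (max b b₂) c)
    (fun i hi => hb₂ i (by
      have := le_max_left (max b b₂) c; have := le_max_right b b₂; lia))
    (fun i _ => hP₂fl i) h1
    (fun i hi => hEb i (by
      have := le_max_left (max b b₂) c; have := le_max_left b b₂; lia))
    (fun i _ => hE i)

/-- (7) Converse. -/
theorem torAmp_of_flat_opcycles (E : Cx R) (b : ℤ) (hEb : ∀ i, b < i → IsZero (E.X i))
    (a c : ℤ) (hE : ∀ i, a < i → Fl R (E.X i)) (hop : Fl R (E.opcycles a))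
    (hH : ∀ i, i < a ∨ c < i → IsZero (E.homology i)) :
    DRing.HasTorAmplitudeIn R a c (Q.obj E) := by
  have hGE : E.IsGE a := by
    rw [CochainComplex.isGE_iff]
    intro i hi
    rw [exactAt_iff_isZero_homology]
    exact hH i (Or.inl hi)
  have hπq : QuasiIso (E.πTruncGE a) := (E.quasiIso_πTruncGE_iff a).2 hGE
  let F₁ := E.truncGE a
  have hF₁z : ∀ i, i < a → IsZero (F₁.X i) := fun i hi =>
    (E.truncGE a).isZero_of_isStrictlyGE a i hi
  have hF₁b : ∀ i, max b a < i → IsZero (F₁.X i) := fun i hi =>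
    (hEb i (by have := le_max_left b a; lia)).of_iso
      (E.truncGEXIso a i (by have := le_max_right b a; lia))
  have hF₁P : ∀ i, Fl R (F₁.X i) := by
    intro i
    rcases lt_trichotomy i a with hi | rfl | hi
    · exact (Fl R).prop_of_isZero (hF₁z i hi)
    · exact (Fl R).prop_of_iso (E.truncGEXIsoOpcycles i).symm hop
    · exact (Fl R).prop_of_iso (E.truncGEXIso a i hi).symm (hE i hi)
  have hF₁h : ∀ i, c < i → IsZero (F₁.homology i) := fun i hi =>
    (hH i (Or.inr hi)).of_iso (asIso (homologyMap (E.πTruncGE a) i)).symm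
  obtain ⟨F', hF'P, hF'z, ⟨eF'⟩⟩ := truncated_perfect (Fl R) (Fl_stable R) a c (max b a) F₁
    hF₁P (by
      rintro i (hi | hi)
      · exact hF₁z i hi
      · exact hF₁b i hi) hF₁h
  have : IsIso (Q.map (E.πTruncGE a)) := (isIso_Q_map_iff_quasiIso (φ := E.πTruncGE a)).2 hπq
  refine ⟨F', ?_, hF'P, ⟨eF' ≪≫ (asIso (Q.map (E.πTruncGE a))).symm⟩⟩
  rintro i (hi | hi)
  · exact hF'z i (Or.inl hi)
  · exact hF'z i (Or.inr (lt_of_le_of_lt (min_le_left _ _) hi))

lemma isZero_homology_of_torAmp {K : DerivedCategory (ModuleCat.{u} R)} {a c : ℤ}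
    (h : DRing.HasTorAmplitudeIn R a c K) (i : ℤ) (hi : i < a ∨ c < i) :
    IsZero ((DerivedCategory.homologyFunctor _ i).obj K) := by
  obtain ⟨F, hFz, _, ⟨eF⟩⟩ := h
  exact (isZero_homology_of_isZero_X F i (hFz i hi)).of_iso
    ((DerivedCategory.homologyFunctor _ i).mapIso eF.symm ≪≫ homologyQIso F i)

/-- (8) Characterisation of tor amplitude on bounded above flat complexes. -/
theorem torAmp_iff (E : Cx R) (b : ℤ) (hEb : ∀ i, b < i → IsZero (E.X i))
    (hE : ∀ i, Fl R (E.X i)) (a c : ℤ) :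
    DRing.HasTorAmplitudeIn R a c (Q.obj E) ↔
      (∀ i, i < a ∨ c < i → IsZero (E.homology i)) ∧ Fl R (E.opcycles a) := by
  constructor
  · intro h
    refine ⟨fun i hi => ?_, flat_opcycles_of_torAmp E b hEb hE a c h⟩
    exact (isZero_homology_of_torAmp h i hi).of_iso (homologyQIso E i).symm
  · rintro ⟨h1, h2⟩
    exact torAmp_of_flat_opcycles E b hEb a c (fun i _ => hE i) h2 h1

end Char


section Basic

open CochainComplex HomologicalComplex

variable {R}

lemma torAmp_of_iso {K L : DerivedCategory (ModuleCat.{u} R)} {a c : ℤ}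
    (h : DRing.HasTorAmplitudeIn R a c K) (e : K ≅ L) : DRing.HasTorAmplitudeIn R a c L := by
  obtain ⟨F, hFz, hFfl, ⟨eF⟩⟩ := h
  exact ⟨F, hFz, hFfl, ⟨eF ≪≫ e⟩⟩

lemma torAmp_shift {K : DerivedCategory (ModuleCat.{u} R)} {a c : ℤ}
    (h : DRing.HasTorAmplitudeIn R a c K) (n : ℤ) :
    DRing.HasTorAmplitudeIn R (a - n) (c - n) (K⟦n⟧) := by
  obtain ⟨F, hFz, hFfl, ⟨eF⟩⟩ := h
  refine ⟨F⟦n⟧, fun i hi => ?_, fun i => hFfl _,
    ⟨(Q.commShiftIso n).app F ≪≫
      (CategoryTheory.shiftFunctor (DerivedCategory (ModuleCat.{u} R)) n).mapIso eF⟩⟩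
  exact hFz (i + n) (by rcases hi with hi | hi; left; lia; right; lia)

lemma torAmp_of_isZero (K : DerivedCategory (ModuleCat.{u} R)) (hK : IsZero K) (a c : ℤ) :
    DRing.HasTorAmplitudeIn R a c K :=
  ⟨HomologicalComplex.zero, fun i _ => Limits.isZero_zero (ModuleCat.{u} R),
    fun i => ((Fl R).prop_of_isZero (Limits.isZero_zero (ModuleCat.{u} R)) : Fl R _),
    ⟨(Q.map_isZero (by
      rw [IsZero.iff_id_eq_zero]
      apply HomologicalComplex.hom_ext
      intro i
      exact (Limits.isZero_zero (ModuleCat.{u} R)).eq_of_src _ _)).iso hK⟩⟩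

lemma torAmp_of_le {K : DerivedCategory (ModuleCat.{u} R)} {a c a' c' : ℤ}
    (h : DRing.HasTorAmplitudeIn R a c K) (ha : a' ≤ a) (hc : c ≤ c') :
    DRing.HasTorAmplitudeIn R a' c' K := by
  obtain ⟨F, hFz, hFfl, ⟨eF⟩⟩ := h
  exact ⟨F, fun i hi => hFz i (by rcases hi with hi | hi; left; lia; right; lia), hFfl, ⟨eF⟩⟩

end Basic

section Biprod

open CochainComplex HomologicalComplex Groth.Agent.Lib.helper17.PCohAmp

attribute [local instance] preservesBinaryBiproducts_of_preservesBiproducts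

variable {R}

/-- Direct summands at the level of complexes. -/
theorem torAmp_of_biprod_cx (P₁ P₂ : Cx R) (b : ℤ) (hb₁ : ∀ i, b < i → IsZero (P₁.X i))
    (hb₂ : ∀ i, b < i → IsZero (P₂.X i)) (h₁ : ∀ i, Fl R (P₁.X i)) (h₂ : ∀ i, Fl R (P₂.X i))
    (a c : ℤ) (h : DRing.HasTorAmplitudeIn R a c (Q.obj (P₁ ⊞ P₂))) :
    DRing.HasTorAmplitudeIn R a c (Q.obj P₁) ∧ DRing.HasTorAmplitudeIn R a c (Q.obj P₂) := by
  have hE : ∀ i, Fl R ((P₁ ⊞ P₂).X i) := fun i =>
    (Fl R).prop_of_iso (PCohAmp.biprodXIso P₁ P₂ i).symm (Fl_biprod R (h₁ i) (h₂ i))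
  have hEb : ∀ i, b < i → IsZero ((P₁ ⊞ P₂).X i) := fun i hi =>
    (isZero_biprod (hb₁ i hi) (hb₂ i hi)).of_iso (PCohAmp.biprodXIso P₁ P₂ i)
  obtain ⟨hH, hop⟩ := (torAmp_iff (P₁ ⊞ P₂) b hEb hE a c).1 h
  constructor
  · refine (torAmp_iff P₁ b hb₁ h₁ a c).2 ⟨fun i hi => ?_, ?_⟩
    · have w : homologyMap (biprod.inl : P₁ ⟶ P₁ ⊞ P₂) i ≫ homologyMap biprod.fst i = 𝟙 _ := by
        rw [← homologyMap_comp, biprod.inl_fst, homologyMap_id]
      have : Mono (homologyMap (biprod.inl : P₁ ⟶ P₁ ⊞ P₂) i) := mono_of_mono_fac w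
      exact IsZero.of_mono (homologyMap (biprod.inl : P₁ ⟶ P₁ ⊞ P₂) i) (hH i hi)
    · have w : opcyclesMap (biprod.inl : P₁ ⟶ P₁ ⊞ P₂) a ≫ opcyclesMap biprod.fst a = 𝟙 _ := by
        rw [← opcyclesMap_comp, biprod.inl_fst, opcyclesMap_id]
      exact Fl_of_retract R _ _ w hop
  · refine (torAmp_iff P₂ b hb₂ h₂ a c).2 ⟨fun i hi => ?_, ?_⟩
    · have w : homologyMap (biprod.inr : P₂ ⟶ P₁ ⊞ P₂) i ≫ homologyMap biprod.snd i = 𝟙 _ := by
        rw [← homologyMap_comp, biprod.inr_snd, homologyMap_id]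
      have : Mono (homologyMap (biprod.inr : P₂ ⟶ P₁ ⊞ P₂) i) := mono_of_mono_fac w
      exact IsZero.of_mono (homologyMap (biprod.inr : P₂ ⟶ P₁ ⊞ P₂) i) (hH i hi)
    · have w : opcyclesMap (biprod.inr : P₂ ⟶ P₁ ⊞ P₂) a ≫ opcyclesMap biprod.snd a = 𝟙 _ := by
        rw [← opcyclesMap_comp, biprod.inr_snd, opcyclesMap_id]
      exact Fl_of_retract R _ _ w hop

/-- Direct summands in `D(R)`. -/
theorem torAmp_of_biprod (K L : DerivedCategory (ModuleCat.{u} R)) [HasBinaryBiproduct K L]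
    (a c : ℤ) (h : DRing.HasTorAmplitudeIn R a c (K ⊞ L)) :
    DRing.HasTorAmplitudeIn R a c K ∧ DRing.HasTorAmplitudeIn R a c L := by
  have hz := isZero_homology_of_torAmp h
  have hzK : ∀ i : ℤ, c < i → IsZero ((DerivedCategory.homologyFunctor _ i).obj K) := by
    intro i hi
    have w : (DerivedCategory.homologyFunctor _ i).map (biprod.inl : K ⟶ K ⊞ L) ≫
        (DerivedCategory.homologyFunctor _ i).map biprod.fst = 𝟙 _ := by
      rw [← Functor.map_comp, biprod.inl_fst, CategoryTheory.Functor.map_id]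
    have : Mono ((DerivedCategory.homologyFunctor _ i).map (biprod.inl : K ⟶ K ⊞ L)) :=
      mono_of_mono_fac w
    exact IsZero.of_mono ((DerivedCategory.homologyFunctor _ i).map
      (biprod.inl : K ⟶ K ⊞ L)) (hz i (Or.inr hi))
  have hzL : ∀ i : ℤ, c < i → IsZero ((DerivedCategory.homologyFunctor _ i).obj L) := by
    intro i hi
    have w : (DerivedCategory.homologyFunctor _ i).map (biprod.inr : L ⟶ K ⊞ L) ≫
        (DerivedCategory.homologyFunctor _ i).map biprod.snd = 𝟙 _ := by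
      rw [← Functor.map_comp, biprod.inr_snd, CategoryTheory.Functor.map_id]
    have : Mono ((DerivedCategory.homologyFunctor _ i).map (biprod.inr : L ⟶ K ⊞ L)) :=
      mono_of_mono_fac w
    exact IsZero.of_mono ((DerivedCategory.homologyFunctor _ i).map
      (biprod.inr : L ⟶ K ⊞ L)) (hz i (Or.inr hi))
  obtain ⟨P₁, ⟨⟨b₁, hb₁⟩, hP₁⟩, ⟨e₁⟩⟩ := exists_free_resolution R K c hzK
  obtain ⟨P₂, ⟨⟨b₂, hb₂⟩, hP₂⟩, ⟨e₂⟩⟩ := exists_free_resolution R L c hzL
  have e : Q.obj (P₁ ⊞ P₂) ≅ K ⊞ L := Q.mapBiprod P₁ P₂ ≪≫ biprod.mapIso e₁ e₂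
  obtain ⟨r₁, r₂⟩ := torAmp_of_biprod_cx P₁ P₂ (max b₁ b₂)
    (fun i hi => hb₁ i (by have := le_max_left b₁ b₂; lia))
    (fun i hi => hb₂ i (by have := le_max_right b₁ b₂; lia))
    (fun i => Fr_le_Fl R _ (hP₁ i)) (fun i => Fr_le_Fl R _ (hP₂ i)) a c
    (torAmp_of_iso h e.symm)
  exact ⟨torAmp_of_iso r₁ e₁, torAmp_of_iso r₂ e₂⟩

end Biprod

section Cone

open CochainComplex HomologicalComplex Groth.Agent.Lib.helper17.PCohAll Groth.Agent.Lib.helper17.PCohTrunc

variable {R}

/-- element-level transport of a categorical identity -/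
lemma app_eq {X Y : ModuleCat.{u} R} {f g : X ⟶ Y} (h : f = g) (x : X) : f.hom x = g.hom x := by
  rw [h]

set_option maxHeartbeats 800000 in
/-- **Lemma E**: flatness of `opcycles a` of a mapping cone. -/
theorem flat_opcycles_mappingCone {P F : Cx R} (f : P ⟶ F) (a : ℤ)
    (hF : IsZero (F.X (a - 1))) (hP : P.ExactAt a) (hFa : Fl R (F.X a))
    (hW : Fl R (P.opcycles (a + 1))) : Fl R ((mappingCone f).opcycles a) := by
  let C := mappingCone f
  let inrA : F.X a ⟶ C.X a := (mappingCone.inr f).f a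
  let fstA : C.X a ⟶ P.X (a + 1) := (mappingCone.fst f).1.v a (a + 1) rfl
  let sndA : C.X a ⟶ F.X a := (mappingCone.snd f).v a a (add_zero a)
  let inlA : P.X (a + 1) ⟶ C.X a := (mappingCone.inl f).v (a + 1) a (by lia)
  let fstB : C.X (a - 1) ⟶ P.X a := (mappingCone.fst f).1.v (a - 1) a (by lia)
  let sndB : C.X (a - 1) ⟶ F.X (a - 1) := (mappingCone.snd f).v (a - 1) (a - 1) (add_zero _)
  let inlB : P.X a ⟶ C.X (a - 1) := (mappingCone.inl f).v a (a - 1) (by lia)
  -- basic identities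
  have e1 : inrA ≫ fstA = 0 := mappingCone.inr_f_fst_v f a (a + 1) rfl
  have e2 : inrA ≫ sndA = 𝟙 _ := mappingCone.inr_f_snd_v f a
  have e3 : inlA ≫ fstA = 𝟙 _ := mappingCone.inl_v_fst_v f (a + 1) a rfl
  have e4 : fstA ≫ inlA + sndA ≫ inrA = 𝟙 _ := mappingCone.id_X f a (a + 1) rfl
  have e5 : C.d (a - 1) a ≫ fstA = -fstB ≫ P.d a (a + 1) :=
    mappingCone.d_fst_v f (a - 1) a (a + 1) (by lia) rfl
  have e6 : C.d (a - 1) a ≫ sndA = fstB ≫ f.f a + sndB ≫ F.d (a - 1) a :=
    mappingCone.d_snd_v f (a - 1) a (by lia)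
  have e7 : inlB ≫ C.d (a - 1) a = f.f a ≫ inrA - P.d a (a + 1) ≫ inlA :=
    mappingCone.inl_v_d f a (a - 1) (a + 1) (by lia) (by lia)
  have hsndB : sndB = 0 := hF.eq_of_tgt _ _
  let j : F.X a ⟶ C.opcycles a := inrA ≫ C.pOpcycles a
  have wq : C.d (a - 1) a ≫ fstA ≫ P.pOpcycles (a + 1) = 0 := by
    rw [← Category.assoc, e5, Preadditive.neg_comp, Category.assoc, P.d_pOpcycles, comp_zero,
      neg_zero]
  let q : C.opcycles a ⟶ P.opcycles (a + 1) :=
    C.descOpcycles (fstA ≫ P.pOpcycles (a + 1)) (a - 1) (by simp) wq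
  have hpq : C.pOpcycles a ≫ q = fstA ≫ P.pOpcycles (a + 1) := C.p_descOpcycles _ _ _ _
  have hjq : j ≫ q = 0 := by
    dsimp only [j]
    rw [Category.assoc, hpq, ← Category.assoc, e1, zero_comp]
  -- epi
  have hq : Epi q := by
    have h1 : Epi (fstA ≫ P.pOpcycles (a + 1)) := by
      have : IsSplitEpi fstA := ⟨⟨inlA, e3⟩⟩
      infer_instance
    rw [← hpq] at h1
    exact epi_of_epi (C.pOpcycles a) q
  -- exactness of the cokernel sequences
  have hexC : ∀ v : C.X a, (C.pOpcycles a).hom v = 0 → ∃ w : C.X (a - 1),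
      (C.d (a - 1) a).hom w = v := by
    have hS : (ShortComplex.mk (C.d (a - 1) a) (C.pOpcycles a) (by simp)).Exact :=
      ShortComplex.exact_of_g_is_cokernel _ (C.opcyclesIsCokernel (a - 1) a (by simp))
    rw [ShortComplex.moduleCat_exact_iff] at hS
    exact hS
  have hexP : ∀ v : P.X (a + 1), (P.pOpcycles (a + 1)).hom v = 0 → ∃ w : P.X a,
      (P.d a (a + 1)).hom w = v := by
    have hS : (ShortComplex.mk (P.d a (a + 1)) (P.pOpcycles (a + 1)) (by simp)).Exact :=
      ShortComplex.exact_of_g_is_cokernel _ (P.opcyclesIsCokernel a (a + 1) (by simp))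
    rw [ShortComplex.moduleCat_exact_iff] at hS
    exact hS
  have hexPa : ∀ v : P.X a, (P.d a (a + 1)).hom v = 0 → ∃ w : P.X (a - 1),
      (P.d (a - 1) a).hom w = v := by
    have hS := (P.exactAt_iff' (a - 1) a (a + 1) (by simp) (by simp)).1 hP
    rw [ShortComplex.moduleCat_exact_iff] at hS
    exact hS
  -- mono
  have hj : Mono j := by
    rw [ModuleCat.mono_iff_injective, injective_iff_map_eq_zero]
    intro z hz
    have hz' : (C.pOpcycles a).hom (inrA.hom z) = 0 := hz
    obtain ⟨w, hw⟩ := hexC _ hz'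
    have h1 : (P.d a (a + 1)).hom (fstB.hom w) = 0 := by
      have := app_eq e5 w
      have h2 : fstA.hom ((C.d (a - 1) a).hom w) = 0 := by
        rw [hw]
        exact app_eq e1 z
      simp only [ModuleCat.hom_comp, ModuleCat.hom_neg, LinearMap.comp_apply,
        LinearMap.neg_apply] at this
      rw [h2] at this
      exact neg_eq_zero.1 this.symm
    obtain ⟨y, hy⟩ := hexPa _ h1
    have h3 := app_eq e6 w
    simp only [ModuleCat.hom_comp, ModuleCat.hom_add, LinearMap.comp_apply,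
      LinearMap.add_apply] at h3
    rw [hw, hsndB] at h3
    have h4 : sndA.hom (inrA.hom z) = z := app_eq e2 z
    rw [h4, ← hy] at h3
    have h5 : (f.f a).hom ((P.d (a - 1) a).hom y) = (F.d (a - 1) a).hom ((f.f (a - 1)).hom y) :=
      (app_eq (f.comm (a - 1) a) y).symm
    have h6 : (f.f (a - 1)).hom y = 0 := by
      have : f.f (a - 1) = 0 := hF.eq_of_tgt _ _
      rw [this]
      rfl
    rw [h5, h6] at h3
    simpa using h3
  -- exactness
  have hex : (ShortComplex.mk j q hjq).Exact := by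
    rw [ShortComplex.moduleCat_exact_iff]
    intro c hc
    obtain ⟨v, rfl⟩ := (ModuleCat.epi_iff_surjective (C.pOpcycles a)).1 inferInstance c
    have hc' : (P.pOpcycles (a + 1)).hom (fstA.hom v) = 0 := by
      have := app_eq hpq v
      simp only [ModuleCat.hom_comp, LinearMap.comp_apply] at this
      rw [← this]
      exact hc
    obtain ⟨x, hx⟩ := hexP _ hc'
    let v' : C.X a := v + (C.d (a - 1) a).hom (inlB.hom x)
    have hv'1 : fstA.hom v' = 0 := by
      have h7 := app_eq e7 x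
      simp only [ModuleCat.hom_comp, ModuleCat.hom_sub, LinearMap.comp_apply,
        LinearMap.sub_apply] at h7
      dsimp only [v']
      rw [map_add, h7, map_sub]
      have h8 : fstA.hom (inrA.hom ((f.f a).hom x)) = 0 := app_eq e1 _
      have h9 : fstA.hom (inlA.hom ((P.d a (a + 1)).hom x)) = (P.d a (a + 1)).hom x :=
        app_eq e3 _
      rw [h8, h9, hx]
      simp
    have hv'2 : v' = inrA.hom (sndA.hom v') := by
      have h10 := app_eq e4 v'
      simp only [ModuleCat.hom_comp, ModuleCat.hom_add, LinearMap.comp_apply,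
        LinearMap.add_apply, ModuleCat.hom_id, LinearMap.id_apply] at h10
      rw [hv'1, map_zero, zero_add] at h10
      exact h10.symm
    refine ⟨sndA.hom v', ?_⟩
    change (C.pOpcycles a).hom (inrA.hom (sndA.hom v')) = (C.pOpcycles a).hom v
    rw [← hv'2]
    dsimp only [v']
    rw [map_add]
    have h11 : (C.pOpcycles a).hom ((C.d (a - 1) a).hom (inlB.hom x)) = 0 :=
      app_eq (C.d_pOpcycles (a - 1) a) _
    rw [h11, add_zero]
  have hSE : (ShortComplex.mk j q hjq).ShortExact := ⟨hex⟩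
  have hK : Fl R (kernel q) := by
    have e : F.X a ≅ kernel q := by
      have e0 := IsLimit.conePointUniqueUpToIso hSE.fIsKernel (kernelIsKernel q)
      exact e0
    exact (Fl R).prop_of_iso e hFa
  exact Fl_of_epi_kernel R q hq hK hW


/-- The cone of a morphism from tor amplitude `[a+1, b+1]` to tor amplitude `[a, b]` has tor
amplitude `[a, b]`. -/
theorem cone_torAmp (T : Triangle (DerivedCategory (ModuleCat.{u} R))) (hT : T ∈ distTriang _)
    (a b : ℤ) (h₁ : DRing.HasTorAmplitudeIn R (a + 1) (b + 1) T.obj₁)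
    (h₂ : DRing.HasTorAmplitudeIn R a b T.obj₂) : DRing.HasTorAmplitudeIn R a b T.obj₃ := by
  have hz₁ := isZero_homology_of_torAmp h₁
  have hz₂ := isZero_homology_of_torAmp h₂
  obtain ⟨F, hFz, hFfl, ⟨eF⟩⟩ := h₂
  obtain ⟨P₀, hP₀, ⟨e₀⟩⟩ := exists_free_resolution R T.obj₁ (b + 1)
    (fun i hi => hz₁ i (Or.inr hi))
  obtain ⟨P, s, f, hP, hs, hf⟩ :=
    exists_roof_all (Fr R) (Fr_prod R) (Fr_hqs R) (Fr_hql R) P₀ F hP₀
      (e₀.hom ≫ T.mor₁ ≫ eF.inv)
  have hT' := mappingCone_triangle_distinguished f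
  have hQs : IsIso (Q.map s) := (isIso_Q_map_iff_quasiIso (φ := s)).2 hs
  let eP : Q.obj P ≅ T.obj₁ := asIso (Q.map s) ≪≫ e₀
  have comm : (Q.mapTriangle.obj (CochainComplex.mappingCone.triangle f)).mor₁ ≫ eF.hom =
      eP.hom ≫ T.mor₁ := by
    change Q.map f ≫ eF.hom = _
    rw [← hf]; simp [eP]
  let e := isoTriangleOfIso₁₂ _ _ hT' hT eP eF comm
  have e₃ : Q.obj (mappingCone f) ≅ T.obj₃ := Triangle.π₃.mapIso e
  refine torAmp_of_iso ?_ e₃
  obtain ⟨⟨bP, hbP⟩, hPfr⟩ := hP
  have hPfl : ∀ i, Fl R (P.X i) := fun i => Fr_le_Fl R _ (hPfr i)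
  have hCX : ∀ i, (mappingCone f).X i ≅ (P.X (i + 1) ⊞ F.X i : ModuleCat.{u} R) := fun i =>
    HomologicalComplex.homotopyCofiber.XIsoBiprod f i (i + 1) rfl
  have hCfl : ∀ i, Fl R ((mappingCone f).X i) := fun i =>
    (Fl R).prop_of_iso (hCX i).symm (Fl_biprod R (hPfl _) (hFfl i))
  have hCb : ∀ i, max bP b < i → IsZero ((mappingCone f).X i) := fun i hi =>
    isZero_mappingCone_X f i (hbP (i + 1) (by have := le_max_left bP b; lia))
      (hFz i (Or.inr (by have := le_max_right bP b; lia)))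
  refine (torAmp_iff (mappingCone f) (max bP b) hCb hCfl a b).2 ⟨fun i hi => ?_, ?_⟩
  · have h3 : IsZero ((DerivedCategory.homologyFunctor _ i).obj T.obj₃) :=
      isZero_homology_obj₃ T hT i (hz₂ i hi) (hz₁ (i + 1) (by
        rcases hi with hi | hi
        · left; lia
        · right; lia))
    exact h3.of_iso ((homologyQIso (mappingCone f) i).symm ≪≫
      (DerivedCategory.homologyFunctor _ i).mapIso e₃)
  · have hPa : P.ExactAt a := by
      rw [exactAt_iff_isZero_homology]
      exact (hz₁ a (Or.inl (by lia))).of_iso ((homologyQIso P a).symm ≪≫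
        (DerivedCategory.homologyFunctor _ a).mapIso eP)
    have hW : Fl R (P.opcycles (a + 1)) :=
      flat_opcycles_of_torAmp P bP hbP hPfl (a + 1) (b + 1) (torAmp_of_iso h₁ eP.symm)
    exact flat_opcycles_mappingCone f a (hFz _ (Or.inl (by lia))) hPa (hFfl a) hW

/-- Two-out-of-three for tor amplitude. -/
theorem torAmp_triangle (a b : ℤ) (T : Triangle (DerivedCategory (ModuleCat.{u} R)))
    (hT : T ∈ distTriang _) :
    (DRing.HasTorAmplitudeIn R (a + 1) (b + 1) T.obj₁ → DRing.HasTorAmplitudeIn R a b T.obj₂ →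
        DRing.HasTorAmplitudeIn R a b T.obj₃) ∧
      (DRing.HasTorAmplitudeIn R a b T.obj₁ → DRing.HasTorAmplitudeIn R a b T.obj₃ →
        DRing.HasTorAmplitudeIn R a b T.obj₂) ∧
      (DRing.HasTorAmplitudeIn R (a + 1) (b + 1) T.obj₂ → DRing.HasTorAmplitudeIn R a b T.obj₃ →
        DRing.HasTorAmplitudeIn R (a + 1) (b + 1) T.obj₁) := by
  refine ⟨fun h₁ h₂ => cone_torAmp T hT a b h₁ h₂, fun h₁ h₃ => ?_, fun h₂ h₃ => ?_⟩
  · refine cone_torAmp T.invRotate (inv_rot_of_distTriang _ hT) a b ?_ h₁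
    have := torAmp_shift h₃ (-1)
    simpa using this
  · refine cone_torAmp T.invRotate.invRotate
      (inv_rot_of_distTriang _ (inv_rot_of_distTriang _ hT)) (a + 1) (b + 1) ?_ ?_
    · have := torAmp_shift h₂ (-1)
      simpa using this
    · have := torAmp_shift h₃ (-1)
      simpa using this

end Cone

section Devissage

variable {R}

lemma torAmp_single_of_zero {X : ModuleCat.{u} R} (a b i : ℤ)
    (h : DRing.HasTorAmplitudeIn R (a - i) (b - i)
      ((DerivedCategory.singleFunctor (ModuleCat.{u} R) 0).obj X)) :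
    DRing.HasTorAmplitudeIn R a b ((DerivedCategory.singleFunctor (ModuleCat.{u} R) i).obj X) := by
  have h1 := torAmp_shift h (-i)
  have h2 : DRing.HasTorAmplitudeIn R a b
      (((DerivedCategory.singleFunctor (ModuleCat.{u} R) 0).obj X)⟦-i⟧) := by
    have ea : a - i - -i = a := by ring
    have eb : b - i - -i = b := by ring
    rw [ea, eb] at h1
    exact h1
  exact torAmp_of_iso h2
    (((DerivedCategory.singleFunctors (ModuleCat.{u} R)).shiftIso (-i) i 0 (by simp)).app X)

theorem torAmp_of_terms (a b : ℤ) (K : Cx R) (c d : ℤ)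
    (hcd : ∀ i, i < c ∨ d < i → IsZero (K.X i))
    (hK : ∀ i : ℤ, DRing.HasTorAmplitudeIn R (a - i) (b - i)
      ((DerivedCategory.singleFunctor (ModuleCat.{u} R) 0).obj (K.X i))) :
    DRing.HasTorAmplitudeIn R a b (Q.obj K) :=
  TriInd.prop_of_terms (fun X => DRing.HasTorAmplitudeIn R a b X)
    (fun X Y e h => torAmp_of_iso h e) (fun X hX => torAmp_of_isZero X hX a b)
    (fun T hT h1 h3 => (torAmp_triangle a b T hT).2.1 h1 h3) c
    (d - c + 1).toNat K d (by have := Int.self_le_toNat (d - c + 1); lia) hcd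
    (fun i => torAmp_single_of_zero a b i (hK i))

theorem torAmp_of_homology (a b : ℤ) (K : DerivedCategory (ModuleCat.{u} R)) (c d : ℤ)
    (hcd : ∀ i, i < c ∨ d < i → IsZero ((DerivedCategory.homologyFunctor _ i).obj K))
    (hK : ∀ i : ℤ, DRing.HasTorAmplitudeIn R (a - i) (b - i)
      ((DerivedCategory.singleFunctor (ModuleCat.{u} R) 0).obj
        ((DerivedCategory.homologyFunctor _ i).obj K))) :
    DRing.HasTorAmplitudeIn R a b K :=
  TriInd.prop_of_homology (fun X => DRing.HasTorAmplitudeIn R a b X)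
    (fun X Y e h => torAmp_of_iso h e) (fun X hX => torAmp_of_isZero X hX a b)
    (fun T hT h1 h3 => (torAmp_triangle a b T hT).2.1 h1 h3) c
    (d - c + 1).toNat K d (by have := Int.self_le_toNat (d - c + 1); lia) hcd
    (fun i => torAmp_single_of_zero a b i (hK i))

end Devissage

section ProjDim

variable {R}

lemma torAmp_single_of_flat (N : ModuleCat.{u} R) (hN : Fl R N) :
    DRing.HasTorAmplitudeIn R 0 0 ((DerivedCategory.singleFunctor (ModuleCat.{u} R) 0).obj N) := by
  refine ⟨(HomologicalComplex.single _ (ComplexShape.up ℤ) 0).obj N, fun j hj => ?_,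
    fun j => ?_, ⟨QSingleIso N 0⟩⟩
  · exact HomologicalComplex.isZero_single_obj_X _ _ _ _ (by rcases hj with h | h <;> lia)
  · by_cases h : j = 0
    · subst h
      exact ((Fl R).prop_of_iso
        (HomologicalComplex.singleObjXSelf (ComplexShape.up ℤ) 0 N).symm hN : Fl R _)
    · exact ((Fl R).prop_of_isZero (HomologicalComplex.isZero_single_obj_X _ _ _ _ h) : Fl R _)

/-- The short exact sequence attached to a surjection. -/
lemma shortExact_of_surjective' {F M : ModuleCat.{u} R} (f : F ⟶ M) (hf : Epi f) :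
    (ShortComplex.mk (kernel.ι f) f (kernel.condition _)).ShortExact :=
  { exact := ShortComplex.exact_of_f_is_kernel _ (kernelIsKernel _)
    mono_f := inferInstanceAs (Mono (kernel.ι f))
    epi_g := hf }

/-- A module of projective dimension `≤ d` has tor amplitude in `[-d, 0]`. -/
theorem torAmp_single_of_projDim : ∀ (d : ℕ) (N : ModuleCat.{u} R),
    HasProjectiveDimensionLT N (d + 1) →
    DRing.HasTorAmplitudeIn R (-(d : ℤ)) 0
      ((DerivedCategory.singleFunctor (ModuleCat.{u} R) 0).obj N) := by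
  intro d
  induction d with
  | zero =>
    intro N hN
    have h1 : Projective N := projective_iff_hasProjectiveDimensionLT_one.2 hN
    have h2 : Module.Projective R N := (IsProjective.iff_projective N).2 h1
    have h3 : Fl R N := (inferInstance : Module.Flat R N)
    simpa using torAmp_single_of_flat N h3
  | succ d ih =>
    intro N hN
    obtain ⟨F, π, hF, hπ⟩ := isOfFiniteType_Fr R N
    have hS := shortExact_of_surjective' π hπ
    have hFfree : Module.Free R F := hF
    have hFproj : Projective F := (IsProjective.iff_projective F).1 Module.Projective.of_free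
    have hF1 : HasProjectiveDimensionLT F 1 := projective_iff_hasProjectiveDimensionLT_one.1 hFproj
    have hF' : HasProjectiveDimensionLT F (d + 1) :=
      hasProjectiveDimensionLT_of_ge F 1 (d + 1) (by lia)
    have hK : HasProjectiveDimensionLT (kernel π) (d + 1) :=
      hS.hasProjectiveDimensionLT_X₁ (d + 1) hF' hN
    have h1 := ih (kernel π) hK
    have h2 : DRing.HasTorAmplitudeIn R 0 0
        ((DerivedCategory.singleFunctor (ModuleCat.{u} R) 0).obj F) :=
      torAmp_single_of_flat F (Fr_le_Fl R F hF)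
    have hT := hS.singleTriangle_distinguished
    have h3 := cone_torAmp hS.singleTriangle hT (-((d + 1 : ℕ) : ℤ)) 0
      (torAmp_of_le h1 (by push_cast; lia) (by lia))
      (torAmp_of_le h2 (by push_cast; lia) (by lia))
    exact h3

end ProjDim

end Groth.Agent.Lib.helper17.DRingTA




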