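import Mathlib
import Groth.Prelude.Def_PCoh
import Groth.Prelude.Def_DRing2
import Groth.Agent.Lib.helper17.DRingTA

/-!
# Flat base change for `D(A) → D(B)` (helper17)
-/

namespace Groth.Agent.Lib.helper17.DRingBC

open CategoryTheory Limits Pretriangulated DerivedCategory TensorProduct
open Groth.Agent.Lib.helper17.PCohBasic Groth.Agent.Lib.helper17.PCohLES
open Groth.Agent.Lib.helper17.DRingPC Groth.Agent.Lib.helper17.DRingTor
open Groth.Agent.Lib.helper17.DRingTA Groth.Agent.Lib.helper17.PCohD
open Groth.Agent.Lib.helper17.PCohTri Groth.Agent.Lib.helper17.PCohT1 Groth.Agent.Lib.helper17.PCohCore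

set_option linter.unusedSectionVars false
set_option linter.unusedVariables false

attribute [local instance] HasDerivedCategory.standard

universe u

variable {A B : Type u} [CommRing A] [CommRing B] [Algebra A B]

section Iso

noncomputable def restrictSelfEquiv :
    ((ModuleCat.restrictScalars (algebraMap A B)).obj (ModuleCat.of B B)) ≃ₗ[A] B where
  toFun := fun x => x
  invFun := fun x => x
  map_add' _ _ := rfl
  map_smul' r s := by
    change algebraMap A B r * (show B from s) = r • (show B from s)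
    rw [Algebra.smul_def]
  left_inv _ := rfl
  right_inv _ := rfl

noncomputable def extendScalarsObjEquivA (M : ModuleCat.{u} A) :
    TensorProduct A ((ModuleCat.restrictScalars (algebraMap A B)).obj (ModuleCat.of B B)) M
      ≃ₗ[A] (B ⊗[A] M) :=
  TensorProduct.congr restrictSelfEquiv (LinearEquiv.refl A M)

set_option backward.isDefEq.respectTransparency false in
lemma extendScalarsObjEquivA_smul (M : ModuleCat.{u} A) (b : B)
    (x : TensorProduct A ((ModuleCat.restrictScalars (algebraMap A B)).obj (ModuleCat.of B B)) M) :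
    extendScalarsObjEquivA M (b • x) = b • extendScalarsObjEquivA M x := by
  induction x using TensorProduct.induction_on with
  | zero =>
    rw [smul_zero, map_zero, smul_zero]
  | tmul s m =>
    rw [TensorProduct.smul_tmul']
    simp only [extendScalarsObjEquivA, TensorProduct.congr_tmul, TensorProduct.smul_tmul']
    rfl
  | add x y hx hy =>
    rw [smul_add, map_add, map_add, smul_add, hx, hy]

set_option backward.isDefEq.respectTransparency false in
noncomputable def extendScalarsObjEquiv (M : ModuleCat.{u} A) :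
    ((ModuleCat.extendScalars (algebraMap A B)).obj M) ≃ₗ[B] (B ⊗[A] M) where
  toFun := fun x => extendScalarsObjEquivA M x
  invFun := fun x => (extendScalarsObjEquivA M).symm x
  map_add' x y := map_add (extendScalarsObjEquivA M) x y
  map_smul' b x := extendScalarsObjEquivA_smul M b x
  left_inv x := (extendScalarsObjEquivA M).symm_apply_apply x
  right_inv x := (extendScalarsObjEquivA M).apply_symm_apply x

/-- `extendScalars` computes `B ⊗[A] M`. -/
noncomputable def extendScalarsObjIso (M : ModuleCat.{u} A) :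
    (ModuleCat.extendScalars (algebraMap A B)).obj M ≅ ModuleCat.of B (B ⊗[A] M) :=
  (extendScalarsObjEquiv M).toModuleIso

end Iso

variable (A B)

/-- The base change functor. -/
noncomputable abbrev bcF : ModuleCat.{u} A ⥤ ModuleCat.{u} B :=
  ModuleCat.extendScalars (algebraMap A B)

instance : (bcF A B).IsLeftAdjoint :=
  ⟨_, ⟨ModuleCat.extendRestrictScalarsAdj (algebraMap A B)⟩⟩

instance : (bcF A B).Additive :=
  Adjunction.left_adjoint_additive (ModuleCat.extendRestrictScalarsAdj (algebraMap A B))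

instance : PreservesFiniteColimits (bcF A B) := by
  have : PreservesColimitsOfSize.{0, 0} (bcF A B) :=
    (ModuleCat.extendRestrictScalarsAdj (algebraMap A B)).leftAdjoint_preservesColimits
  exact PreservesColimitsOfSize.preservesFiniteColimits _

instance [Module.Flat A B] : PreservesFiniteLimits (bcF A B) :=
  ModuleCat.preservesFiniteLimits_extendScalars_of_flat
    ((RingHom.flat_algebraMap_iff).2 inferInstance)

section Derived

variable [Module.Flat A B]

/-- Derived flat base change. -/
noncomputable abbrev bcD : DerivedCategory (ModuleCat.{u} A) ⥤ DerivedCategory (ModuleCat.{u} B) :=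
  (bcF A B).mapDerivedCategory

/-- Termwise base change of complexes. -/
noncomputable abbrev bcC : Cx A ⥤ Cx B := (bcF A B).mapHomologicalComplex (ComplexShape.up ℤ)

variable {A B}

noncomputable def bcDQ (E : Cx A) : (bcD A B).obj (Q.obj E) ≅ Q.obj ((bcC A B).obj E) :=
  (bcF A B).mapDerivedCategoryFactors.app E

noncomputable def bcDSingle (M : ModuleCat.{u} A) :
    (bcD A B).obj ((DerivedCategory.singleFunctor _ 0).obj M) ≅
      (DerivedCategory.singleFunctor _ 0).obj (ModuleCat.of B (B ⊗[A] M)) :=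
  ((bcF A B).mapDerivedCategorySingleFunctor 0).app M ≪≫
    (DerivedCategory.singleFunctor _ 0).mapIso (extendScalarsObjIso M)

lemma isZero_bcC_X (E : Cx A) (i : ℤ) (h : IsZero (E.X i)) : IsZero (((bcC A B).obj E).X i) :=
  (bcF A B).map_isZero h

lemma Fl_bcF (M : ModuleCat.{u} A) (h : Fl A M) : Fl B ((bcF A B).obj M) := by
  have : Module.Flat A M := h
  exact (Fl B).prop_of_iso (extendScalarsObjIso M).symm
    ((inferInstance : Module.Flat B (B ⊗[A] M)) : Fl B (ModuleCat.of B (B ⊗[A] M)))

lemma FF_bcF (M : ModuleCat.{u} A) (h : FF A M) : FF B ((bcF A B).obj M) := by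
  obtain ⟨h1, h2⟩ := h
  exact (FF B).prop_of_iso (extendScalarsObjIso M).symm
    (⟨inferInstance, inferInstance⟩ : FF B (ModuleCat.of B (B ⊗[A] M)))

lemma FP_bcF (M : ModuleCat.{u} A) (h : FP A M) : FP B ((bcF A B).obj M) := by
  obtain ⟨h1, h2⟩ := h
  exact (FP B).prop_of_iso (extendScalarsObjIso M).symm
    (⟨inferInstance, inferInstance⟩ : FP B (ModuleCat.of B (B ⊗[A] M)))

theorem torAmp_bcD {K : DerivedCategory (ModuleCat.{u} A)} {a b : ℤ}
    (h : DRing.HasTorAmplitudeIn A a b K) : DRing.HasTorAmplitudeIn B a b ((bcD A B).obj K) := by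
  obtain ⟨F, hFz, hFfl, ⟨eF⟩⟩ := h
  exact ⟨(bcC A B).obj F, fun i hi => isZero_bcC_X F i (hFz i hi),
    fun i => Fl_bcF (F.X i) (hFfl i), ⟨(bcDQ F).symm ≪≫ (bcD A B).mapIso eF⟩⟩

theorem NPC_bcD {K : DerivedCategory (ModuleCat.{u} A)} {m : ℤ}
    (h : NPC (FF A) m K) : NPC (FF B) m ((bcD A B).obj K) := by
  obtain ⟨E, ⟨⟨b, hb⟩, hE⟩, ⟨e⟩⟩ := h
  exact ⟨(bcC A B).obj E, ⟨⟨b, fun i hi => isZero_bcC_X E i (hb i hi)⟩,
    fun i hi => FF_bcF (E.X i) (hE i hi)⟩, ⟨(bcDQ E).symm ≪≫ (bcD A B).mapIso e⟩⟩

theorem isPerfect_bcD {K : DerivedCategory (ModuleCat.{u} A)}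
    (h : DRing.IsPerfect A K) : DRing.IsPerfect B ((bcD A B).obj K) := by
  obtain ⟨E, a, b, hz, hE, ⟨e⟩⟩ := h
  exact ⟨(bcC A B).obj E, a, b, fun i hi => isZero_bcC_X E i (hz i hi),
    fun i => FP_bcF (E.X i) (hE i), ⟨(bcDQ E).symm ≪≫ (bcD A B).mapIso e⟩⟩

end Derived

section Descent

open CochainComplex HomologicalComplex

variable {A B}
variable [Module.Flat A B]

noncomputable def bcC_homologyIso (K : Cx A) (i : ℤ) :
    ((bcC A B).obj K).homology i ≅ (bcF A B).obj (K.homology i) :=
  (K.sc i).mapHomologyIso (bcF A B)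

noncomputable def bcC_opcyclesIso (K : Cx A) (i : ℤ) :
    ((bcC A B).obj K).opcycles i ≅ (bcF A B).obj (K.opcycles i) :=
  (K.sc i).mapOpcyclesIso (bcF A B)

end Descent

section FF

open CochainComplex HomologicalComplex

variable {A B}
variable [Module.FaithfullyFlat A B]

lemma isZero_of_isZero_bcF (M : ModuleCat.{u} A) (h : IsZero ((bcF A B).obj M)) : IsZero M := by
  have h1 : IsZero (ModuleCat.of B (B ⊗[A] M)) := h.of_iso (extendScalarsObjIso M).symm
  have h2 : Subsingleton (B ⊗[A] M) := ModuleCat.subsingleton_of_isZero h1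
  have h3 : Subsingleton M := (Module.FaithfullyFlat.subsingleton_tensorProduct_iff_right A B).1 h2
  exact ModuleCat.isZero_of_subsingleton M

lemma Fl_of_Fl_bcF (M : ModuleCat.{u} A) (h : Fl B ((bcF A B).obj M)) : Fl A M := by
  have h1 : Fl B (ModuleCat.of B (B ⊗[A] M)) := (Fl B).prop_of_iso (extendScalarsObjIso M) h
  have h2 : Module.Flat B (B ⊗[A] M) := h1
  exact Module.Flat.of_flat_tensorProduct A M B

/-- Faithfully flat descent of tor amplitude. -/
theorem torAmp_of_bcC (K : Cx A) (a b : ℤ)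
    (h : DRing.HasTorAmplitudeIn B a b (Q.obj ((bcC A B).obj K))) :
    DRing.HasTorAmplitudeIn A a b (Q.obj K) := by
  have hz' := isZero_homology_of_torAmp h
  have hz : ∀ i, i < a ∨ b < i → IsZero (K.homology i) := by
    intro i hi
    apply isZero_of_isZero_bcF (B := B)
    exact ((hz' i hi).of_iso (homologyQIso _ i).symm).of_iso (bcC_homologyIso K i).symm
  obtain ⟨P, ⟨⟨bP, hbP⟩, hPfr⟩, ⟨e⟩⟩ := exists_free_resolution A (Q.obj K) b
    (fun i hi => (hz i (Or.inr hi)).of_iso (homologyQIso K i))
  let e' : Q.obj ((bcC A B).obj P) ≅ Q.obj ((bcC A B).obj K) :=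
    (bcDQ P).symm ≪≫ (bcD A B).mapIso e ≪≫ bcDQ K
  have h' := torAmp_of_iso h e'.symm
  have hPfl : ∀ i, Fl A (P.X i) := fun i => Fr_le_Fl A _ (hPfr i)
  obtain ⟨_, hop⟩ := (torAmp_iff ((bcC A B).obj P) bP
    (fun i hi => isZero_bcC_X P i (hbP i hi)) (fun i => Fl_bcF (P.X i) (hPfl i)) a b).1 h'
  have hop' : Fl A (P.opcycles a) :=
    Fl_of_Fl_bcF (B := B) _ ((Fl B).prop_of_iso (bcC_opcyclesIso P a) hop)
  refine torAmp_of_iso ((torAmp_iff P bP hbP hPfl a b).2 ⟨fun i hi => ?_, hop'⟩) e
  exact (hz i hi).of_iso ((homologyQIso P i).symm ≪≫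
    (DerivedCategory.homologyFunctor _ i).mapIso e ≪≫ homologyQIso K i)

lemma finite_of_finite_bcF (M : ModuleCat.{u} A) (h : Module.Finite B ((bcF A B).obj M)) :
    Module.Finite A M := by
  have h2 : Module.Finite B (B ⊗[A] M) :=
    Module.Finite.equiv (extendScalarsObjIso (B := B) M).toLinearEquiv
  exact Module.Finite.of_finite_tensorProduct_of_faithfullyFlat B

/-- Faithfully flat descent of `m`-pseudo-coherence. -/
theorem NPC_of_bcC (m : ℤ) : ∀ (j : ℕ) (K : Cx A) (b : ℤ), b - m < j →
    (∀ i, b < i → IsZero (K.homology i)) →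
    NPC (FF B) m (Q.obj ((bcC A B).obj K)) → NPC (FF A) m (Q.obj K) := by
  intro j
  induction j with
  | zero =>
    intro K b hbm hb _
    exact NPC_of_isLE (FF A) _ b m (by simpa using hbm)
      (fun i hi => (hb i hi).of_iso (homologyQIso K i))
  | succ j ih =>
    intro K b hbm hb hK
    by_cases hbm' : b < m
    · exact NPC_of_isLE (FF A) _ b m hbm'
        (fun i hi => (hb i hi).of_iso (homologyQIso K i))
    · -- top cohomology is finite
      have hb' : ∀ i, b < i → IsZero ((DerivedCategory.homologyFunctor _ i).obj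
          (Q.obj ((bcC A B).obj K))) := fun i hi =>
        (((bcF A B).map_isZero (hb i hi)).of_iso (bcC_homologyIso K i)).of_iso (homologyQIso _ i)
      have hft' : PCoh.IsOfFiniteType (FF B) ((DerivedCategory.homologyFunctor _ b).obj
          (Q.obj ((bcC A B).obj K))) :=
        (NPC_iff_isOfFiniteType (FF B) (FF_hqs B) (FF_hql B) b _ hb').1
          (NPC.of_le (FF B) (by lia) hK)
      have hfin' : Module.Finite B ((bcF A B).obj (K.homology b)) := by
        have h1 := (isOfFiniteType_FF_iff B _).1 hft'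
        exact Module.Finite.equiv
          ((homologyQIso _ b) ≪≫ bcC_homologyIso K b).toLinearEquiv
      have hfin : Module.Finite A (K.homology b) := finite_of_finite_bcF (B := B) _ hfin'
      have hft : PCoh.IsOfFiniteType (FF A) (K.homology b) := (isOfFiniteType_FF_iff A _).2 hfin
      obtain ⟨L, hL, θ, hθ⟩ := exists_single_map (FF A) (FF_hql A) K b hft
      -- the cone
      let K' := CochainComplex.mappingCone θ
      have hT := mappingCone_triangle_distinguished θ
      have hLpc : ∀ k : ℤ, NPC (FF A) k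
          (Q.obj ((HomologicalComplex.single _ (ComplexShape.up ℤ) b).obj L)) := fun k =>
        ⟨_, isStrictPC_single (FF A) b k hL, ⟨Iso.refl _⟩⟩
      have hK'z : ∀ i, b - 1 < i → IsZero (K'.homology i) := by
        intro i hi
        have hsrc : ∀ k, k ≠ b → IsZero
            (((HomologicalComplex.single (ModuleCat.{u} A) (ComplexShape.up ℤ) b).obj L).homology k) :=
          fun k hk => HomologicalComplex.isZero_single_obj_homology _ _ _ _ hk
        refine isZero_homology_mappingCone θ i ?_ ?_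
        · rcases (show b = i ∨ b < i by lia) with rfl | hi'
          · exact hθ
          · exact ⟨fun g h _ => (hb i hi').eq_of_src g h⟩
        · exact ⟨fun g h _ => (hsrc (i + 1) (by lia)).eq_of_tgt g h⟩
      -- base change of the triangle
      have hT' := (bcD A B).map_distinguished _ hT
      have h1' : NPC (FF B) (m + 1) ((bcD A B).mapTriangle.obj
          (Q.mapTriangle.obj (CochainComplex.mappingCone.triangle θ))).obj₁ :=
        NPC_bcD (hLpc (m + 1))
      have h2' : NPC (FF B) m ((bcD A B).mapTriangle.obj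
          (Q.mapTriangle.obj (CochainComplex.mappingCone.triangle θ))).obj₂ :=
        NPC.of_iso (FF B) hK (bcDQ K).symm
      have h3' := (NPC_triangle (FF B) (FF_prod B) (FF_hqs B) (FF_hql B) m _ hT').1 h1' h2'
      have h3'' : NPC (FF B) m (Q.obj ((bcC A B).obj K')) := NPC.of_iso (FF B) h3' (bcDQ K')
      have h3 : NPC (FF A) m (Q.obj K') :=
        ih K' (b - 1) (by push_cast at hbm; lia) hK'z h3''
      exact (NPC_triangle (FF A) (FF_prod A) (FF_hqs A) (FF_hql A) m _ hT).2.1 (hLpc m) h3

theorem NPC_of_bcC' (m : ℤ) (K : Cx A) (h : NPC (FF B) m (Q.obj ((bcC A B).obj K))) :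
    NPC (FF A) m (Q.obj K) := by
  obtain ⟨E', ⟨⟨b, hb⟩, hE'⟩, ⟨e⟩⟩ := h
  have hz : ∀ i, b < i → IsZero (K.homology i) := by
    intro i hi
    apply isZero_of_isZero_bcF (B := B)
    exact ((isZero_homology_of_NPC_bound e b hb i hi).of_iso
      (homologyQIso _ i).symm).of_iso (bcC_homologyIso K i).symm
  exact NPC_of_bcC m (b - m + 1).toNat K b (by have := Int.self_le_toNat (b - m + 1); lia) hz
    ⟨E', ⟨⟨b, hb⟩, hE'⟩, ⟨e⟩⟩

/-- Faithfully flat descent of perfectness. -/
theorem isPerfect_of_bcC (K : Cx A) (h : DRing.IsPerfect B (Q.obj ((bcC A B).obj K))) :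
    DRing.IsPerfect A (Q.obj K) := by
  obtain ⟨E', a, b, hz, hE', ⟨e⟩⟩ := h
  have hpc' : NPC (FF B) (a - 1) (Q.obj ((bcC A B).obj K)) :=
    NPC.of_iso (FF B) (NPC_of_FP_complex B E' b (fun i hi => hz i (Or.inr hi)) hE' (a - 1)) e
  have htor' : DRing.HasTorAmplitudeIn B a b (Q.obj ((bcC A B).obj K)) :=
    ⟨E', hz, fun i => by
      obtain ⟨h1, h2⟩ := hE' i
      infer_instance, ⟨e⟩⟩
  obtain ⟨E, hP, hEz, he⟩ := exists_FP_complex A a b (Q.obj K) (NPC_of_bcC' (a - 1) K hpc')
    (torAmp_of_bcC K a b htor')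
  exact ⟨E, a, b, hEz, hP, he⟩

end FF

end Groth.Agent.Lib.helper17.DRingBC
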