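import Mathlib
import Groth.Prelude.Def_PCoh
import Groth.Prelude.Def_DRing2
import Groth.Agent.Lib.helper17.DRingBC

/-!
# Descent along jointly faithfully flat families, e.g. standard open covers (helper17)
-/

namespace Groth.Agent.Lib.helper17.DRingCover

open CategoryTheory Limits Pretriangulated DerivedCategory TensorProduct
open Groth.Agent.Lib.helper17.PCohBasic Groth.Agent.Lib.helper17.PCohLES
open Groth.Agent.Lib.helper17.DRingPC Groth.Agent.Lib.helper17.DRingTor
open Groth.Agent.Lib.helper17.DRingTA Groth.Agent.Lib.helper17.PCohD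
open Groth.Agent.Lib.helper17.PCohTri Groth.Agent.Lib.helper17.PCohT1 Groth.Agent.Lib.helper17.PCohCore
open Groth.Agent.Lib.helper17.DRingBC

set_option linter.unusedSectionVars false
set_option linter.unusedVariables false

attribute [local instance] HasDerivedCategory.standard

universe u

variable {A : Type u} [CommRing A] {ι : Type} (B : ι → Type u) [∀ i, CommRing (B i)]
  [∀ i, Algebra A (B i)]

/-- A family of `A`-algebras along which vanishing, flatness and finiteness of modules descend. -/
structure IsCov : Prop where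
  isZero : ∀ M : ModuleCat.{u} A, (∀ i, IsZero ((bcF A (B i)).obj M)) → IsZero M
  flat : ∀ M : ModuleCat.{u} A, (∀ i, Fl (B i) ((bcF A (B i)).obj M)) → Fl A M
  finite : ∀ M : ModuleCat.{u} A, (∀ i, Module.Finite (B i) ((bcF A (B i)).obj M)) →
    Module.Finite A M

section Descent

open CochainComplex HomologicalComplex

variable {B} [∀ i, Module.Flat A (B i)] (hc : IsCov (A := A) B)

include hc

/-- descent of tor amplitude. -/
theorem torAmp_of_cover (K : Cx A) (a b : ℤ)
    (h : ∀ i, DRing.HasTorAmplitudeIn (B i) a b (Q.obj ((bcC A (B i)).obj K))) :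
    DRing.HasTorAmplitudeIn A a b (Q.obj K) := by
  have hz' := fun j => isZero_homology_of_torAmp (h j)
  have hz : ∀ i, i < a ∨ b < i → IsZero (K.homology i) := by
    intro i hi
    apply hc.isZero
    intro j
    exact ((hz' j i hi).of_iso (homologyQIso _ i).symm).of_iso (bcC_homologyIso K i).symm
  obtain ⟨P, ⟨⟨bP, hbP⟩, hPfr⟩, ⟨e⟩⟩ := exists_free_resolution A (Q.obj K) b
    (fun i hi => (hz i (Or.inr hi)).of_iso (homologyQIso K i))
  have hPfl : ∀ i, Fl A (P.X i) := fun i => Fr_le_Fl A _ (hPfr i)
  have hop' : Fl A (P.opcycles a) := by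
    apply hc.flat
    intro j
    let e' : Q.obj ((bcC A (B j)).obj P) ≅ Q.obj ((bcC A (B j)).obj K) :=
      (bcDQ P).symm ≪≫ (bcD A (B j)).mapIso e ≪≫ bcDQ K
    have h' := torAmp_of_iso (h j) e'.symm
    obtain ⟨_, hop⟩ := (torAmp_iff ((bcC A (B j)).obj P) bP
      (fun i hi => isZero_bcC_X P i (hbP i hi)) (fun i => Fl_bcF (P.X i) (hPfl i)) a b).1 h'
    exact (Fl (B j)).prop_of_iso (bcC_opcyclesIso P a) hop
  refine torAmp_of_iso ((torAmp_iff P bP hbP hPfl a b).2 ⟨fun i hi => ?_, hop'⟩) e
  exact (hz i hi).of_iso ((homologyQIso P i).symm ≪≫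
    (DerivedCategory.homologyFunctor _ i).mapIso e ≪≫ homologyQIso K i)

/-- descent of `m`-pseudo-coherence. -/
theorem NPC_of_cover (m : ℤ) : ∀ (j : ℕ) (K : Cx A) (b : ℤ), b - m < j →
    (∀ i, b < i → IsZero (K.homology i)) →
    (∀ l, NPC (FF (B l)) m (Q.obj ((bcC A (B l)).obj K))) → NPC (FF A) m (Q.obj K) := by
  intro j
  induction j with
  | zero =>
    intro K b hbm hb _
    exact NPC_of_isLE (FF A) _ b m (by simpa using hbm)
      (fun i hi => (hb i hi).of_iso (homologyQIso K i))
  | succ j ih =>
    intro K b hbm hb hK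
    by_cases hbm' : b < m
    · exact NPC_of_isLE (FF A) _ b m hbm'
        (fun i hi => (hb i hi).of_iso (homologyQIso K i))
    · -- top cohomology is finite
      have hfin : Module.Finite A (K.homology b) := by
        apply hc.finite
        intro l
        have hb' : ∀ i, b < i → IsZero ((DerivedCategory.homologyFunctor _ i).obj
            (Q.obj ((bcC A (B l)).obj K))) := fun i hi =>
          (((bcF A (B l)).map_isZero (hb i hi)).of_iso (bcC_homologyIso K i)).of_iso
            (homologyQIso _ i)
        have hft' : PCoh.IsOfFiniteType (FF (B l)) ((DerivedCategory.homologyFunctor _ b).obj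
            (Q.obj ((bcC A (B l)).obj K))) :=
          (NPC_iff_isOfFiniteType (FF (B l)) (FF_hqs (B l)) (FF_hql (B l)) b _ hb').1
            (NPC.of_le (FF (B l)) (by lia) (hK l))
        have h1 := (isOfFiniteType_FF_iff (B l) _).1 hft'
        exact Module.Finite.equiv
          ((homologyQIso _ b) ≪≫ bcC_homologyIso K b).toLinearEquiv
      have hft : PCoh.IsOfFiniteType (FF A) (K.homology b) := (isOfFiniteType_FF_iff A _).2 hfin
      obtain ⟨L, hL, θ, hθ⟩ := exists_single_map (FF A) (FF_hql A) K b hft
      -- the cone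
      let K' := CochainComplex.mappingCone θ
      have hT := mappingCone_triangle_distinguished θ
      have hLpc : ∀ k : ℤ, NPC (FF A) k
          (Q.obj ((HomologicalComplex.single _ (ComplexShape.up ℤ) b).obj L)) := fun k =>
        ⟨_, isStrictPC_single (FF A) b k hL, ⟨Iso.refl _⟩⟩
      have hK'z : ∀ i, b - 1 < i → IsZero (K'.homology i) := by
        intro i hi
        have hsrc : ∀ k, k ≠ b → IsZero
            (((HomologicalComplex.single (ModuleCat.{u} A) (ComplexShape.up ℤ) b).obj L).homology k) :=
          fun k hk => HomologicalComplex.isZero_single_obj_homology _ _ _ _ hk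
        refine isZero_homology_mappingCone θ i ?_ ?_
        · rcases (show b = i ∨ b < i by lia) with rfl | hi'
          · exact hθ
          · exact ⟨fun g h _ => (hb i hi').eq_of_src g h⟩
        · exact ⟨fun g h _ => (hsrc (i + 1) (by lia)).eq_of_tgt g h⟩
      -- base change of the triangle
      have h3'' : ∀ l, NPC (FF (B l)) m (Q.obj ((bcC A (B l)).obj K')) := by
        intro l
        have hT' := (bcD A (B l)).map_distinguished _ hT
        have h1' : NPC (FF (B l)) (m + 1) ((bcD A (B l)).mapTriangle.obj
            (Q.mapTriangle.obj (CochainComplex.mappingCone.triangle θ))).obj₁ :=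
          NPC_bcD (hLpc (m + 1))
        have h2' : NPC (FF (B l)) m ((bcD A (B l)).mapTriangle.obj
            (Q.mapTriangle.obj (CochainComplex.mappingCone.triangle θ))).obj₂ :=
          NPC.of_iso (FF (B l)) (hK l) (bcDQ K).symm
        have h3' := (NPC_triangle (FF (B l)) (FF_prod (B l)) (FF_hqs (B l)) (FF_hql (B l)) m _
          hT').1 h1' h2'
        exact NPC.of_iso (FF (B l)) h3' (bcDQ K')
      have h3 : NPC (FF A) m (Q.obj K') :=
        ih K' (b - 1) (by push_cast at hbm; lia) hK'z h3''
      exact (NPC_triangle (FF A) (FF_prod A) (FF_hqs A) (FF_hql A) m _ hT).2.1 (hLpc m) h3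

theorem NPC_of_cover' [Finite ι] (m : ℤ) (K : Cx A)
    (h : ∀ l, NPC (FF (B l)) m (Q.obj ((bcC A (B l)).obj K))) :
    NPC (FF A) m (Q.obj K) := by
  classical
  haveI := Fintype.ofFinite ι
  choose E' hE' e using h
  choose bb hbb using fun l => (hE' l).1
  let b : ℤ := (Finset.univ.sup (fun l => (bb l).toNat) : ℕ)
  have hbl : ∀ l, bb l ≤ b := by
    intro l
    have h1 : (bb l).toNat ≤ Finset.univ.sup (fun l => (bb l).toNat) :=
      Finset.le_sup (f := fun l => (bb l).toNat) (Finset.mem_univ l)
    have h2 := Int.self_le_toNat (bb l)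
    show bb l ≤ ((Finset.univ.sup (fun l => (bb l).toNat) : ℕ) : ℤ)
    lia
  have hz : ∀ i, b < i → IsZero (K.homology i) := by
    intro i hi
    apply hc.isZero
    intro l
    obtain ⟨el⟩ := e l
    exact ((isZero_homology_of_NPC_bound el (bb l) (hbb l) i (by have := hbl l; lia)).of_iso
      (homologyQIso _ i).symm).of_iso (bcC_homologyIso K i).symm
  exact NPC_of_cover hc m (b - m + 1).toNat K b (by have := Int.self_le_toNat (b - m + 1); lia) hz
    (fun l => ⟨E' l, hE' l, e l⟩)

/-- descent of perfectness, with amplitude. -/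
theorem isPerfect_of_cover_aux [Finite ι] (K : Cx A) (a b : ℤ)
    (hpc : ∀ l, NPC (FF (B l)) (a - 1) (Q.obj ((bcC A (B l)).obj K)))
    (htor : ∀ l, DRing.HasTorAmplitudeIn (B l) a b (Q.obj ((bcC A (B l)).obj K))) :
    DRing.IsPerfect A (Q.obj K) := by
  obtain ⟨E, hP, hEz, he⟩ := exists_FP_complex A a b (Q.obj K) (NPC_of_cover' hc (a - 1) K hpc)
    (torAmp_of_cover hc K a b htor)
  exact ⟨E, a, b, hEz, hP, he⟩

theorem isPerfect_of_cover [Finite ι] (K : Cx A)
    (h : ∀ l, DRing.IsPerfect (B l) (Q.obj ((bcC A (B l)).obj K))) :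
    DRing.IsPerfect A (Q.obj K) := by
  classical
  haveI := Fintype.ofFinite ι
  choose E' aa bb hz hE' e using h
  let b : ℤ := (Finset.univ.sup (fun l => (bb l).toNat) : ℕ)
  let a : ℤ := -((Finset.univ.sup (fun l => (-(aa l)).toNat) : ℕ) : ℤ)
  have hbl : ∀ l, bb l ≤ b := by
    intro l
    have h1 : (bb l).toNat ≤ Finset.univ.sup (fun l => (bb l).toNat) :=
      Finset.le_sup (f := fun l => (bb l).toNat) (Finset.mem_univ l)
    have h2 := Int.self_le_toNat (bb l)
    show bb l ≤ ((Finset.univ.sup (fun l => (bb l).toNat) : ℕ) : ℤ)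
    lia
  have hal : ∀ l, a ≤ aa l := by
    intro l
    have h1 : (-(aa l)).toNat ≤ Finset.univ.sup (fun l => (-(aa l)).toNat) :=
      Finset.le_sup (f := fun l => (-(aa l)).toNat) (Finset.mem_univ l)
    have h2 := Int.self_le_toNat (-(aa l))
    show -((Finset.univ.sup (fun l => (-(aa l)).toNat) : ℕ) : ℤ) ≤ aa l
    lia
  refine isPerfect_of_cover_aux hc K a b (fun l => ?_) (fun l => ?_)
  · obtain ⟨el⟩ := e l
    exact NPC.of_iso (FF (B l)) (NPC_of_FP_complex (B l) (E' l) (bb l)
      (fun i hi => hz l i (Or.inr hi)) (hE' l) (a - 1)) el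
  · obtain ⟨el⟩ := e l
    refine torAmp_of_le (a := aa l) (c := bb l) ⟨E' l, hz l, fun i => ?_, ⟨el⟩⟩ (hal l) (hbl l)
    obtain ⟨h1, h2⟩ := hE' l i
    exact (inferInstance : Module.Flat (B l) ((E' l).X i))

end Descent

section Away

variable (f : ι → A) (hf : Ideal.span (Set.range f) = ⊤)

/-- `LocalizedModule` versus base change. -/
noncomputable def locEquiv (i : ι) (M : ModuleCat.{u} A) :
    ((bcF A (Localization.Away (f i))).obj M) ≃ₗ[Localization.Away (f i)]
      LocalizedModule (Submonoid.powers (f i)) M :=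
  (extendScalarsObjIso (B := Localization.Away (f i)) M).toLinearEquiv ≪≫ₗ
    (LocalizedModule.equivTensorProduct (Submonoid.powers (f i)) M).symm

include hf

theorem isCov_away : IsCov (A := A) (fun i => Localization.Away (f i)) where
  isZero := by
    intro M hM
    have : Subsingleton M := by
      refine ⟨fun x y => ?_⟩
      refine Module.eq_of_isLocalized_span (Set.range f) hf
        (fun x => LocalizedModule (Submonoid.powers x.1) M)
        (fun x => LocalizedModule.mkLinearMap (Submonoid.powers x.1) M) x y ?_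
      rintro ⟨_, i, rfl⟩
      have h1 : Subsingleton ((bcF A (Localization.Away (f i))).obj M) :=
        ModuleCat.subsingleton_of_isZero (hM i)
      have h2 : Subsingleton (LocalizedModule (Submonoid.powers (f i)) M) :=
        (locEquiv f i M).symm.toEquiv.subsingleton
      exact Subsingleton.elim _ _
    exact ModuleCat.isZero_of_subsingleton M
  flat := by
    intro M hM
    refine Module.flat_of_localized_span A M (Set.range f) hf ?_
    rintro ⟨_, i, rfl⟩
    have h1 : Module.Flat (Localization.Away (f i)) ((bcF A (Localization.Away (f i))).obj M) :=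
      hM i
    have h2 : Module.Flat (Localization.Away (f i)) (LocalizedModule (Submonoid.powers (f i)) M) :=
      Module.Flat.of_linearEquiv (locEquiv f i M).symm
    exact Module.Flat.trans A (Localization.Away (f i)) _
  finite := by
    intro M hM
    refine Module.Finite.of_localizationSpan (Set.range f) hf ?_
    rintro ⟨_, i, rfl⟩
    have h1 : Module.Finite (Localization.Away (f i)) ((bcF A (Localization.Away (f i))).obj M) :=
      hM i
    exact Module.Finite.equiv (locEquiv f i M)

end Away

end Groth.Agent.Lib.helper17.DRingCover
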