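import Mathlib
import Groth.Prelude.Def_PCoh
import Groth.Prelude.Def_DRing2
import Groth.Prelude.Def_DDual2
import Groth.Agent.Lib.helper17.DRingBC

/-!
# Restriction of scalars `D(B) → D(A)`: pseudo-coherence and perfectness (helper17)
-/

namespace Groth.Agent.Lib.helper17.DRingRes

open CategoryTheory Limits Pretriangulated DerivedCategory
open Groth.Agent.Lib.helper17.PCohBasic Groth.Agent.Lib.helper17.PCohLES
open Groth.Agent.Lib.helper17.DRingPC Groth.Agent.Lib.helper17.DRingTor
open Groth.Agent.Lib.helper17.DRingTA Groth.Agent.Lib.helper17.PCohD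
open Groth.Agent.Lib.helper17.PCohTri Groth.Agent.Lib.helper17.PCohT1 Groth.Agent.Lib.helper17.PCohCore

set_option linter.unusedSectionVars false
set_option linter.unusedVariables false

attribute [local instance] HasDerivedCategory.standard
attribute [local instance] preservesBinaryBiproducts_of_preservesBiproducts

universe u

variable {A B : Type u} [CommRing A] [CommRing B] (φ : A →+* B)

/-- Restriction of scalars. -/
noncomputable abbrev resF : ModuleCat.{u} B ⥤ ModuleCat.{u} A := ModuleCat.restrictScalars.{u} φ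

noncomputable abbrev resD : DerivedCategory (ModuleCat.{u} B) ⥤ DerivedCategory (ModuleCat.{u} A) :=
  DRing.restrictD φ

noncomputable abbrev resC : Cx B ⥤ Cx A := (resF φ).mapHomologicalComplex (ComplexShape.up ℤ)

noncomputable def resDQ (E : Cx B) : (resD φ).obj (Q.obj E) ≅ Q.obj ((resC φ).obj E) :=
  (resF φ).mapDerivedCategoryFactors.app E

noncomputable def resDSingle (M : ModuleCat.{u} B) :
    (resD φ).obj ((DerivedCategory.singleFunctor _ 0).obj M) ≅
      (DerivedCategory.singleFunctor _ 0).obj ((resF φ).obj M) :=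
  ((resF φ).mapDerivedCategorySingleFunctor 0).app M

noncomputable def resC_homologyIso (K : Cx B) (i : ℤ) :
    ((resC φ).obj K).homology i ≅ (resF φ).obj (K.homology i) :=
  (K.sc i).mapHomologyIso (resF φ)

lemma isZero_of_isZero_resF (M : ModuleCat.{u} B) (h : IsZero ((resF φ).obj M)) : IsZero M := by
  have h2 : Subsingleton ((resF φ).obj M) := ModuleCat.subsingleton_of_isZero h
  have h3 : Subsingleton M := h2
  exact ModuleCat.isZero_of_subsingleton M

lemma finite_of_finite_resF (M : ModuleCat.{u} B) (h : Module.Finite A ((resF φ).obj M)) :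
    Module.Finite B M := by
  obtain ⟨S, hS⟩ := h
  let S' : Finset M := S
  refine ⟨S', ?_⟩
  rw [eq_top_iff]
  have key : ∀ y : (resF φ).obj M, y ∈ Submodule.span A (S : Set ((resF φ).obj M)) →
      (show M from y) ∈ Submodule.span B (S' : Set M) := by
    intro y hy
    induction hy using Submodule.span_induction with
    | mem y hy => exact Submodule.subset_span hy
    | zero => exact Submodule.zero_mem _
    | add y z _ _ hy hz => exact Submodule.add_mem _ hy hz
    | smul a y _ hy => exact Submodule.smul_mem _ (φ a) hy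
  intro x _
  exact key x (by rw [hS]; trivial)

section Abstract

variable (Pr : DerivedCategory (ModuleCat.{u} A) → Prop)
  (hiso : ∀ X Y : DerivedCategory (ModuleCat.{u} A), (X ≅ Y) → Pr X → Pr Y)
  (h0 : ∀ X : DerivedCategory (ModuleCat.{u} A), IsZero X → Pr X)
  (hsum : ∀ X Y : DerivedCategory (ModuleCat.{u} A), Pr X → Pr Y → Pr (X ⊞ Y))
  (hfac : ∀ X Y : DerivedCategory (ModuleCat.{u} A), Pr (X ⊞ Y) → Pr X ∧ Pr Y)
  (hB : Pr ((DerivedCategory.singleFunctor _ 0).obj ((resF φ).obj (ModuleCat.of B B))))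

/-- The composite `M ↦ (res M)[0]`. -/
noncomputable abbrev sres : ModuleCat.{u} B ⥤ DerivedCategory (ModuleCat.{u} A) :=
  resF φ ⋙ DerivedCategory.singleFunctor _ 0

instance : (sres φ).Additive := by
  dsimp only [sres]
  infer_instance

include hiso h0 hsum hB in
lemma prop_sres_pi : ∀ n : ℕ, Pr ((sres φ).obj (ModuleCat.of B (Fin n → B))) := by
  intro n
  induction n with
  | zero =>
    exact h0 _ ((sres φ).map_isZero (ModuleCat.isZero_of_subsingleton _))
  | succ n ih =>
    have e1 : ModuleCat.of B (Fin (n + 1) → B) ≅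
        (ModuleCat.of B B ⊞ ModuleCat.of B (Fin n → B) : ModuleCat.{u} B) :=
      (Fin.consLinearEquiv B (fun _ : Fin (n + 1) => B)).symm.toModuleIso ≪≫
        (ModuleCat.biprodIsoProd (ModuleCat.of B B) (ModuleCat.of B (Fin n → B))).symm
    have e2 := (sres φ).mapIso e1 ≪≫ (sres φ).mapBiprod _ _
    exact hiso _ _ e2.symm (hsum _ _ hB ih)

include hiso h0 hsum hfac hB in
/-- The property passes to the restriction of any finite projective `B`-module. -/
theorem prop_sres_of_FP (L : ModuleCat.{u} B) (hL : FP B L) : Pr ((sres φ).obj L) := by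
  obtain ⟨hfin, hproj⟩ := hL
  obtain ⟨n, f, hf⟩ := Module.Finite.exists_fin' B L
  let u : ModuleCat.of B (Fin n → B) ⟶ L := ModuleCat.ofHom f
  have hu : Epi u := (ModuleCat.epi_iff_surjective u).2 hf
  have : IsSplitEpi u := FP_lift B _ _ u hu ⟨hfin, hproj⟩
  have hb := isBilimitBinaryBiconeOfIsSplitEpiOfKernel (kernelIsKernel u)
  have e : ModuleCat.of B (Fin n → B) ≅ kernel u ⊞ L := biprod.uniqueUpToIso (kernel u) L hb
  have h1 := prop_sres_pi φ Pr hiso h0 hsum hB n
  have e2 := (sres φ).mapIso e ≪≫ (sres φ).mapBiprod _ _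
  exact (hfac _ _ (hiso _ _ e2 h1)).2

end Abstract

section PC

variable (hB : ∀ k : ℤ, NPC (FF A) k
  ((DerivedCategory.singleFunctor _ 0).obj ((resF φ).obj (ModuleCat.of B B))))

include hB

lemma NPC_sres_of_FP (L : ModuleCat.{u} B) (hL : FP B L) (k : ℤ) :
    NPC (FF A) k ((DerivedCategory.singleFunctor _ 0).obj ((resF φ).obj L)) :=
  prop_sres_of_FP φ (fun X => ∀ k : ℤ, NPC (FF A) k X)
    (fun X Y e h k => NPC.of_iso (FF A) (h k) e)
    (fun X hX k => NPC_of_isZero (FF A) X hX k)
    (fun X Y hX hY k => (NPC_biprod_iff (FF A) (FF_prod A) (FF_hqs A) (FF_hql A) k X Y).2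
      ⟨hX k, hY k⟩)
    (fun X Y h => ⟨fun k => ((NPC_biprod_iff (FF A) (FF_prod A) (FF_hqs A) (FF_hql A) k X Y).1
      (h k)).1, fun k => ((NPC_biprod_iff (FF A) (FF_prod A) (FF_hqs A) (FF_hql A) k X Y).1
      (h k)).2⟩)
    hB L hL k

/-- Restriction of a strictly `m`-pseudo-coherent complex is `m`-pseudo-coherent. -/
theorem NPC_resC (m : ℤ) (E : Cx B) (hE : PCoh.IsStrictPC (FP B) m E) :
    NPC (FF A) m (Q.obj ((resC φ).obj E)) := by
  obtain ⟨⟨b, hb⟩, hP⟩ := hE
  exact NPC_of_terms (FF A) (FF_prod A) (FF_hqs A) (FF_hql A) m (b - m + 1).toNat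
    ((resC φ).obj E) b (by have := Int.self_le_toNat (b - m + 1); lia)
    (fun i hi => (resF φ).map_isZero (hb i hi))
    (fun i hi => NPC_sres_of_FP φ hB (E.X i) (hP i hi) (m - i))

theorem NPC_resD {K : DerivedCategory (ModuleCat.{u} B)} {m : ℤ} (h : NPC (FF B) m K) :
    NPC (FF A) m ((resD φ).obj K) := by
  obtain ⟨E, ⟨hb, hP⟩, ⟨e⟩⟩ := h
  exact NPC.of_iso (FF A)
    (NPC_resC φ hB m E ⟨hb, fun i hi => FF_le_FP B _ (hP i hi)⟩)
    ((resDQ φ E).symm ≪≫ (resD φ).mapIso e)

/-- Descent of `m`-pseudo-coherence along restriction. -/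
theorem NPC_of_resC (m : ℤ) : ∀ (j : ℕ) (K : Cx B) (b : ℤ), b - m < j →
    (∀ i, b < i → IsZero (K.homology i)) →
    NPC (FF A) m (Q.obj ((resC φ).obj K)) → NPC (FF B) m (Q.obj K) := by
  intro j
  induction j with
  | zero =>
    intro K b hbm hb _
    exact NPC_of_isLE (FF B) _ b m (by simpa using hbm)
      (fun i hi => (hb i hi).of_iso (homologyQIso K i))
  | succ j ih =>
    intro K b hbm hb hK
    by_cases hbm' : b < m
    · exact NPC_of_isLE (FF B) _ b m hbm'
        (fun i hi => (hb i hi).of_iso (homologyQIso K i))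
    · have hb' : ∀ i, b < i → IsZero ((DerivedCategory.homologyFunctor _ i).obj
          (Q.obj ((resC φ).obj K))) := fun i hi =>
        (((resF φ).map_isZero (hb i hi)).of_iso (resC_homologyIso φ K i)).of_iso
          (homologyQIso _ i)
      have hft' : PCoh.IsOfFiniteType (FF A) ((DerivedCategory.homologyFunctor _ b).obj
          (Q.obj ((resC φ).obj K))) :=
        (NPC_iff_isOfFiniteType (FF A) (FF_hqs A) (FF_hql A) b _ hb').1
          (NPC.of_le (FF A) (by lia) hK)
      have hfin' : Module.Finite A ((resF φ).obj (K.homology b)) := by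
        have h1 := (isOfFiniteType_FF_iff A _).1 hft'
        exact Module.Finite.equiv
          ((homologyQIso _ b) ≪≫ resC_homologyIso φ K b).toLinearEquiv
      have hfin : Module.Finite B (K.homology b) := finite_of_finite_resF φ _ hfin'
      have hft : PCoh.IsOfFiniteType (FF B) (K.homology b) := (isOfFiniteType_FF_iff B _).2 hfin
      obtain ⟨L, hL, θ, hθ⟩ := exists_single_map (FF B) (FF_hql B) K b hft
      let K' := CochainComplex.mappingCone θ
      have hT := mappingCone_triangle_distinguished θ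
      have hLpc : ∀ k : ℤ, NPC (FF B) k
          (Q.obj ((HomologicalComplex.single _ (ComplexShape.up ℤ) b).obj L)) := fun k =>
        ⟨_, isStrictPC_single (FF B) b k hL, ⟨Iso.refl _⟩⟩
      have hLpc' : ∀ k : ℤ, NPC (FF A) k (Q.obj ((resC φ).obj
          ((HomologicalComplex.single _ (ComplexShape.up ℤ) b).obj L))) := fun k =>
        NPC_resC φ hB k _ (isStrictPC_single (FP B) b k (FF_le_FP B _ hL))
      have hK'z : ∀ i, b - 1 < i → IsZero (K'.homology i) := by
        intro i hi
        have hsrc : ∀ k, k ≠ b → IsZero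
            (((HomologicalComplex.single (ModuleCat.{u} B) (ComplexShape.up ℤ) b).obj L).homology k) :=
          fun k hk => HomologicalComplex.isZero_single_obj_homology _ _ _ _ hk
        refine isZero_homology_mappingCone θ i ?_ ?_
        · rcases (show b = i ∨ b < i by lia) with rfl | hi'
          · exact hθ
          · exact ⟨fun g h _ => (hb i hi').eq_of_src g h⟩
        · exact ⟨fun g h _ => (hsrc (i + 1) (by lia)).eq_of_tgt g h⟩
      have hT' := (resD φ).map_distinguished _ hT
      have h1' : NPC (FF A) (m + 1) ((resD φ).mapTriangle.obj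
          (Q.mapTriangle.obj (CochainComplex.mappingCone.triangle θ))).obj₁ :=
        NPC.of_iso (FF A) (hLpc' (m + 1)) (resDQ φ _).symm
      have h2' : NPC (FF A) m ((resD φ).mapTriangle.obj
          (Q.mapTriangle.obj (CochainComplex.mappingCone.triangle θ))).obj₂ :=
        NPC.of_iso (FF A) hK (resDQ φ K).symm
      have h3' := (NPC_triangle (FF A) (FF_prod A) (FF_hqs A) (FF_hql A) m _ hT').1 h1' h2'
      have h3'' : NPC (FF A) m (Q.obj ((resC φ).obj K')) := NPC.of_iso (FF A) h3' (resDQ φ K')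
      have h3 : NPC (FF B) m (Q.obj K') :=
        ih K' (b - 1) (by push_cast at hbm; lia) hK'z h3''
      exact (NPC_triangle (FF B) (FF_prod B) (FF_hqs B) (FF_hql B) m _ hT).2.1 (hLpc m) h3

theorem NPC_of_resD (m : ℤ) (K : DerivedCategory (ModuleCat.{u} B))
    (h : NPC (FF A) m ((resD φ).obj K)) : NPC (FF B) m K := by
  obtain ⟨K₀, ⟨e₀⟩⟩ : ∃ K₀ : Cx B, Nonempty (Q.obj K₀ ≅ K) := ⟨_, ⟨Q.objObjPreimageIso K⟩⟩
  have h1 : NPC (FF A) m (Q.obj ((resC φ).obj K₀)) :=
    NPC.of_iso (FF A) h ((resD φ).mapIso e₀.symm ≪≫ resDQ φ K₀)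
  obtain ⟨E', ⟨⟨b, hb⟩, hE'⟩, ⟨e⟩⟩ := h1
  have hz : ∀ i, b < i → IsZero (K₀.homology i) := by
    intro i hi
    apply isZero_of_isZero_resF φ
    exact ((isZero_homology_of_NPC_bound e b hb i hi).of_iso
      (homologyQIso _ i).symm).of_iso (resC_homologyIso φ K₀ i).symm
  exact NPC.of_iso (FF B) (NPC_of_resC φ hB m (b - m + 1).toNat K₀ b
    (by have := Int.self_le_toNat (b - m + 1); lia) hz ⟨E', ⟨⟨b, hb⟩, hE'⟩, ⟨e⟩⟩) e₀

end PC

section Perfect

open Groth.Agent.Lib.helper17.PerfTri Groth.Agent.Lib.helper17.PCohAmp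

lemma perf_biprod (X Y : DerivedCategory (ModuleCat.{u} A)) (hX : Perf (FP A) X)
    (hY : Perf (FP A) Y) : Perf (FP A) (X ⊞ Y) := by
  obtain ⟨E₁, a₁, b₁, hz₁, hP₁, ⟨e₁⟩⟩ := hX
  obtain ⟨E₂, a₂, b₂, hz₂, hP₂, ⟨e₂⟩⟩ := hY
  refine ⟨E₁ ⊞ E₂, min a₁ a₂, max b₁ b₂, fun i hi => ?_, fun i => ?_,
    ⟨Q.mapBiprod E₁ E₂ ≪≫ biprod.mapIso e₁ e₂⟩⟩
  · refine (isZero_biprod (hz₁ i ?_) (hz₂ i ?_)).of_iso (PCohAmp.biprodXIso E₁ E₂ i)
    · rcases hi with hi | hi
      · left; exact lt_of_lt_of_le hi (min_le_left _ _)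
      · right; exact lt_of_le_of_lt (le_max_left _ _) hi
    · rcases hi with hi | hi
      · left; exact lt_of_lt_of_le hi (min_le_right _ _)
      · right; exact lt_of_le_of_lt (le_max_right _ _) hi
  · exact (FP A).prop_of_iso (PCohAmp.biprodXIso E₁ E₂ i).symm (FP_biprod A (hP₁ i) (hP₂ i))

variable (hB : Perf (FP A)
  ((DerivedCategory.singleFunctor _ 0).obj ((resF φ).obj (ModuleCat.of B B))))

include hB

lemma perf_sres_of_FP (L : ModuleCat.{u} B) (hL : FP B L) :
    Perf (FP A) ((DerivedCategory.singleFunctor _ 0).obj ((resF φ).obj L)) :=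
  prop_sres_of_FP φ (fun X => Perf (FP A) X)
    (fun X Y e h => Perf.of_iso (FP A) h e)
    (fun X hX => perf_of_isZero (FP A) X hX)
    (fun X Y hX hY => perf_biprod X Y hX hY)
    (fun X Y h => perf_of_biprod (FP A) (FP_prod A) (FP_lift A) (FP_stable A) (FP_of_biprod A)
      X Y h)
    hB L hL

/-- Restriction of scalars preserves perfect objects when `B` is a perfect `A`-module. -/
theorem perf_resD {K : DerivedCategory (ModuleCat.{u} B)} (h : Perf (FP B) K) :
    Perf (FP A) ((resD φ).obj K) := by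
  obtain ⟨E, a, b, hz, hP, ⟨e⟩⟩ := h
  refine Perf.of_iso (FP A) ?_ ((resDQ φ E).symm ≪≫ (resD φ).mapIso e)
  exact perf_of_terms (FP A) (FP_prod A) (FP_lift A) a (b - a + 1).toNat ((resC φ).obj E) b
    (by have := Int.self_le_toNat (b - a + 1); lia)
    (fun i hi => (resF φ).map_isZero (hz i hi))
    (fun i => perf_sres_of_FP φ hB (E.X i) (hP i))

end Perfect

end Groth.Agent.Lib.helper17.DRingRes
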