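import Mathlib
import Groth.Prelude.Def_PCoh
import Groth.Prelude.Def_DRing2
import Groth.Prelude.Def_DDual2
import Groth.Prelude.Def_DerCA
import Groth.Agent.Lib.helper17.DRingRes

/-!
# Relative pseudo-coherence (helper17)
-/

namespace Groth.Agent.Lib.helper17.DerCARel

open CategoryTheory Limits Pretriangulated DerivedCategory
open Groth.Agent.Lib.helper17.PCohBasic Groth.Agent.Lib.helper17.PCohLES
open Groth.Agent.Lib.helper17.DRingPC Groth.Agent.Lib.helper17.DRingTor
open Groth.Agent.Lib.helper17.DRingTA Groth.Agent.Lib.helper17.PCohD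
open Groth.Agent.Lib.helper17.DRingRes

set_option linter.unusedSectionVars false
set_option linter.unusedVariables false

attribute [local instance] HasDerivedCategory.standard
attribute [local instance] preservesBinaryBiproducts_of_preservesBiproducts

universe u

section General

variable {A B : Type u} [CommRing A] [CommRing B] (φ : A →+* B)

/-- `Hⁱ` commutes with restriction of scalars (objectwise). -/
noncomputable def resD_homologyIso (K : DerivedCategory (ModuleCat.{u} B)) (i : ℤ) :
    (DerivedCategory.homologyFunctor _ i).obj ((resD φ).obj K) ≅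
      (resF φ).obj ((DerivedCategory.homologyFunctor _ i).obj K) :=
  (DerivedCategory.homologyFunctor _ i).mapIso
      ((resD φ).mapIso (Q.objObjPreimageIso K).symm ≪≫ resDQ φ _) ≪≫
    homologyQIso _ i ≪≫ resC_homologyIso φ _ i ≪≫
    (resF φ).mapIso ((homologyQIso _ i).symm ≪≫
      (DerivedCategory.homologyFunctor _ i).mapIso (Q.objObjPreimageIso K))

lemma finite_resF_of_surjective (hφ : Function.Surjective φ) (M : ModuleCat.{u} B)
    (h : Module.Finite B M) : Module.Finite A ((resF φ).obj M) := by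
  obtain ⟨S, hS⟩ := h
  let S' : Finset ((resF φ).obj M) := S
  refine ⟨S', ?_⟩
  rw [eq_top_iff]
  have key : ∀ y : M, y ∈ Submodule.span B (S : Set M) →
      (show (resF φ).obj M from y) ∈ Submodule.span A (S' : Set ((resF φ).obj M)) := by
    intro y hy
    induction hy using Submodule.span_induction with
    | mem y hy => exact Submodule.subset_span hy
    | zero => exact Submodule.zero_mem _
    | add y z _ _ hy hz => exact Submodule.add_mem _ hy hz
    | smul b y _ hy =>
      obtain ⟨a, rfl⟩ := hφ b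
      exact Submodule.smul_mem _ a hy
  intro x _
  exact key x (by rw [hS]; trivial)

end General

section Rel

variable {R A : Type u} [CommRing R] [CommRing A] [Algebra R A]

lemma via_iff {n : ℕ} (α : MvPolynomial (Fin n) R →ₐ[R] A) (m : ℤ)
    (K : DerivedCategory (ModuleCat.{u} A)) :
    DerCA.IsRelPseudoCoherentVia α m K ↔
      NPC (FF (MvPolynomial (Fin n) R)) m ((resD (α : MvPolynomial (Fin n) R →+* A)).obj K) := by
  unfold DerCA.IsRelPseudoCoherentVia
  rw [isPseudoCoherent_iff_NPC]

/-- Direct summands. -/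
theorem rel_of_biprod (m : ℤ) (K L : DerivedCategory (ModuleCat.{u} A)) [HasBinaryBiproduct K L]
    (h : DerCA.IsRelPseudoCoherent R A m (K ⊞ L)) :
    DerCA.IsRelPseudoCoherent R A m K ∧ DerCA.IsRelPseudoCoherent R A m L := by
  obtain ⟨n, α, hα, h⟩ := h
  rw [via_iff] at h
  have h' := NPC.of_iso _ h ((resD (α : MvPolynomial (Fin n) R →+* A)).mapBiprod K L)
  obtain ⟨h1, h2⟩ := (NPC_biprod_iff _ (FF_prod _) (FF_hqs _) (FF_hql _) m _ _).1 h'
  exact ⟨⟨n, α, hα, (via_iff α m K).2 h1⟩, ⟨n, α, hα, (via_iff α m L).2 h2⟩⟩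

section Noeth

variable [IsNoetherianRing R]

theorem via_iff_of_noetherian {n : ℕ} (α : MvPolynomial (Fin n) R →ₐ[R] A)
    (hα : Function.Surjective α) (m : ℤ) (K : DerivedCategory (ModuleCat.{u} A)) :
    DerCA.IsRelPseudoCoherentVia α m K ↔
      (∃ b : ℤ, ∀ i : ℤ, b < i → IsZero ((DerivedCategory.homologyFunctor _ i).obj K)) ∧
        ∀ i : ℤ, m ≤ i → Module.Finite A ((DerivedCategory.homologyFunctor (ModuleCat.{u} A) i).obj K) := by
  rw [via_iff]
  let φ : MvPolynomial (Fin n) R →+* A := (α : MvPolynomial (Fin n) R →+* A)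
  have hφ : Function.Surjective φ := hα
  constructor
  · intro h
    obtain ⟨E, ⟨⟨b, hb⟩, hP⟩, ⟨e⟩⟩ := h
    have hz := isZero_homology_of_NPC_bound e b hb
    have hzK : ∀ i : ℤ, b < i → IsZero ((DerivedCategory.homologyFunctor _ i).obj K) :=
      fun i hi => isZero_of_isZero_resF φ _ ((hz i hi).of_iso (resD_homologyIso φ K i).symm)
    refine ⟨⟨b, hzK⟩, fun i hi => ?_⟩
    have h1 := (NPC_iff_finite_of_noetherian (MvPolynomial (Fin n) R) m _ b hz).1
      ⟨E, ⟨⟨b, hb⟩, hP⟩, ⟨e⟩⟩ i hi
    have h2 : Module.Finite (MvPolynomial (Fin n) R)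
        ((resF φ).obj ((DerivedCategory.homologyFunctor _ i).obj K)) :=
      Module.Finite.equiv (resD_homologyIso φ K i).toLinearEquiv
    exact finite_of_finite_resF φ _ h2
  · rintro ⟨⟨b, hb⟩, hfin⟩
    have hz : ∀ i : ℤ, b < i → IsZero ((DerivedCategory.homologyFunctor _ i).obj
        ((resD φ).obj K)) := fun i hi =>
      ((resF φ).map_isZero (hb i hi)).of_iso (resD_homologyIso φ K i)
    refine (NPC_iff_finite_of_noetherian (MvPolynomial (Fin n) R) m _ b hz).2 (fun i hi => ?_)
    have h1 := finite_resF_of_surjective φ hφ _ (hfin i hi)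
    exact Module.Finite.equiv (resD_homologyIso φ K i).symm.toLinearEquiv

theorem rel_iff_of_noetherian [Algebra.FiniteType R A] (m : ℤ)
    (K : DerivedCategory (ModuleCat.{u} A)) :
    DerCA.IsRelPseudoCoherent R A m K ↔
      (∃ b : ℤ, ∀ i : ℤ, b < i → IsZero ((DerivedCategory.homologyFunctor _ i).obj K)) ∧
        ∀ i : ℤ, m ≤ i → Module.Finite A ((DerivedCategory.homologyFunctor (ModuleCat.{u} A) i).obj K) := by
  constructor
  · rintro ⟨n, α, hα, h⟩
    exact (via_iff_of_noetherian α hα m K).1 h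
  · intro h
    obtain ⟨n, α, hα⟩ := Algebra.FiniteType.iff_quotient_mvPolynomial''.1
      (inferInstance : Algebra.FiniteType R A)
    exact ⟨n, α, hα, (via_iff_of_noetherian α hα m K).2 h⟩

end Noeth

end Rel

end Groth.Agent.Lib.helper17.DerCARel
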