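import Mathlib
import Groth.Prelude.Def_PCoh
import Groth.Prelude.Def_DRing2
import Groth.Prelude.Def_DDual2
import Groth.Prelude.Def_DerCA
import Groth.Agent.Lib.helper17.DerCARel

/-!
# Restriction along compositions, isomorphisms and polynomial evaluations (helper17)
-/

namespace Groth.Agent.Lib.helper17.ResKoszul

open CategoryTheory Limits Pretriangulated DerivedCategory
open Groth.Agent.Lib.helper17.PCohBasic Groth.Agent.Lib.helper17.PCohLES
open Groth.Agent.Lib.helper17.DRingPC Groth.Agent.Lib.helper17.DRingTor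
open Groth.Agent.Lib.helper17.DRingTA Groth.Agent.Lib.helper17.PCohD
open Groth.Agent.Lib.helper17.DRingRes Groth.Agent.Lib.helper17.DerCARel

set_option linter.unusedSectionVars false
set_option linter.unusedVariables false

attribute [local instance] HasDerivedCategory.standard

universe u

section Comp

variable {R₁ R₂ R₃ : Type u} [CommRing R₁] [CommRing R₂] [CommRing R₃]
  (f : R₁ →+* R₂) (g : R₂ →+* R₃) (gf : R₁ →+* R₃) (hgf : gf = g.comp f)

/-- Restriction along a composite, on complexes. -/
noncomputable def resC_comp (X₀ : Cx R₃) :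
    (resC gf).obj X₀ ≅ (resC f).obj ((resC g).obj X₀) :=
  (NatIso.mapHomologicalComplex (ModuleCat.restrictScalarsComp' f g gf hgf)
    (ComplexShape.up ℤ)).app X₀

/-- Restriction along a composite, on derived categories (objectwise). -/
noncomputable def resD_comp (X : DerivedCategory (ModuleCat.{u} R₃)) :
    (resD gf).obj X ≅ (resD f).obj ((resD g).obj X) :=
  (resD gf).mapIso (Q.objObjPreimageIso X).symm ≪≫ resDQ gf _ ≪≫
    Q.mapIso (resC_comp f g gf hgf _) ≪≫ (resDQ f _).symm ≪≫
    (resD f).mapIso ((resDQ g _).symm ≪≫ (resD g).mapIso (Q.objObjPreimageIso X))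

end Comp

section PCVia

variable {A B : Type u} [CommRing A] [CommRing B] (φ : A →+* B)

/-- `B` is a pseudo-coherent `A`-module via `φ`. -/
def PCVia : Prop := ∀ k : ℤ, NPC (FF A) k
  ((DerivedCategory.singleFunctor _ 0).obj ((resF φ).obj (ModuleCat.of B B)))

variable {φ}

theorem NPC_resD_iff (h : PCVia φ) (m : ℤ) (X : DerivedCategory (ModuleCat.{u} B)) :
    NPC (FF B) m X ↔ NPC (FF A) m ((resD φ).obj X) :=
  ⟨fun hX => NPC_resD φ h hX, fun hX => NPC_of_resD φ h m X hX⟩

variable (φ)

/-- The `A`-linear map `A → B` given by `φ`. -/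
noncomputable def selfToRes : A →ₗ[A] ((resF φ).obj (ModuleCat.of B B)) where
  toFun := fun a => (φ a : B)
  map_add' := fun a b => by
    show (φ (a + b) : B) = (φ a + φ b : B)
    exact map_add φ a b
  map_smul' := fun a b => by
    show (φ (a * b) : B) = (φ a * φ b : B)
    exact map_mul φ a b

theorem pcVia_of_bijective (h : Function.Bijective φ) : PCVia φ := by
  intro k
  have e : ModuleCat.of A A ≅ (resF φ).obj (ModuleCat.of B B) :=
    (LinearEquiv.ofBijective (selfToRes φ) h).toModuleIso
  have hFF : FF A (ModuleCat.of A A) := ⟨inferInstance, inferInstance⟩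
  exact NPC.of_iso _ (NPC_single_of_FF A _ hFF k)
    ((DerivedCategory.singleFunctor _ 0).mapIso e)

end PCVia

section Trans

variable {R₁ R₂ R₃ : Type u} [CommRing R₁] [CommRing R₂] [CommRing R₃]
  (f : R₁ →+* R₂) (g : R₂ →+* R₃) (gf : R₁ →+* R₃) (hgf : gf = g.comp f)

include hgf in
theorem pcVia_comp (hf : PCVia f) (hg : PCVia g) : PCVia gf := by
  intro k
  have h1 := NPC_resD f hf (hg k)
  exact NPC.of_iso _ h1 (resDSingle f _ ≪≫ (DerivedCategory.singleFunctor _ 0).mapIso
    (ModuleCat.restrictScalarsComp'App f g gf hgf _).symm)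

end Trans

section Koszul

variable (S : Type u) [CommRing S] (c : S)

/-- evaluation at `c` as an `S[X]`-linear map onto `S` (restricted along `X ↦ c`). -/
noncomputable def evc :
    Polynomial S →ₗ[Polynomial S]
      ((ModuleCat.restrictScalars (Polynomial.evalRingHom c)).obj (ModuleCat.of S S)) where
  toFun := fun p => (Polynomial.eval c p : S)
  map_add' := fun p q => by
    show (Polynomial.eval c (p + q) : S) = (Polynomial.eval c p + Polynomial.eval c q : S)
    exact Polynomial.eval_add
  map_smul' := fun q p => by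
    show (Polynomial.eval c (q * p) : S) = (Polynomial.eval c q * Polynomial.eval c p : S)
    exact Polynomial.eval_mul

lemma evc_apply (p : Polynomial S) : evc S c p = (Polynomial.eval c p : S) := rfl

noncomputable def mulXc : Polynomial S →ₗ[Polynomial S] Polynomial S :=
  LinearMap.toSpanSingleton (Polynomial S) (Polynomial S) (Polynomial.X - Polynomial.C c)

lemma mulXc_apply (p : Polynomial S) : mulXc S c p = p * (Polynomial.X - Polynomial.C c) := rfl

lemma koszul_zero : (ModuleCat.ofHom (mulXc S c)) ≫ (ModuleCat.ofHom (evc S c)) = 0 := by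
  ext
  show evc S c (mulXc S c 1) = 0
  rw [mulXc_apply, evc_apply]
  show (Polynomial.eval c (1 * (Polynomial.X - Polynomial.C c)) : S) = (0 : S)
  simp

lemma koszul_shortExact :
    (ShortComplex.mk (ModuleCat.ofHom (mulXc S c)) (ModuleCat.ofHom (evc S c))
      (koszul_zero S c)).ShortExact := by
  refine ShortComplex.ShortExact.mk' ?_ ?_ ?_
  · rw [ShortComplex.moduleCat_exact_iff]
    intro (p : Polynomial S) hp
    have hp' : (Polynomial.eval c p : S) = 0 := hp
    have h1 : Polynomial.X - Polynomial.C c ∣ p := Polynomial.dvd_iff_isRoot.2 hp'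
    obtain ⟨q, hq⟩ := h1
    refine ⟨q, ?_⟩
    show q * (Polynomial.X - Polynomial.C c) = p
    rw [hq, mul_comm]
  · rw [ModuleCat.mono_iff_injective]
    intro (p : Polynomial S) (q : Polynomial S) h
    have h' : p * (Polynomial.X - Polynomial.C c) = q * (Polynomial.X - Polynomial.C c) := h
    exact (Polynomial.monic_X_sub_C c).isRegular.right h'
  · rw [ModuleCat.epi_iff_surjective]
    intro (a : S)
    exact ⟨Polynomial.C a, (Polynomial.eval_C : Polynomial.eval c (Polynomial.C a) = a)⟩

theorem pcVia_eval : PCVia (Polynomial.evalRingHom c) := by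
  intro k
  have hS := koszul_shortExact S c
  have hFF : FF (Polynomial S) (ModuleCat.of (Polynomial S) (Polynomial S)) :=
    ⟨inferInstance, inferInstance⟩
  exact (NPC_shortExact (FF (Polynomial S)) (FF_prod _) (FF_hqs _) (FF_hql _) hS k).1
    (NPC_single_of_FF _ _ hFF (k + 1)) (NPC_single_of_FF _ _ hFF k)

end Koszul

section MvEval

variable (T : Type u) [CommRing T]

/-- `T` is pseudo-coherent over `T[y₁, …, y_k]` via any evaluation `y ↦ g`. -/
theorem pcVia_aeval : ∀ (k : ℕ) (g : Fin k → T),
    PCVia ((MvPolynomial.aeval g : MvPolynomial (Fin k) T →ₐ[T] T) :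
      MvPolynomial (Fin k) T →+* T) := by
  intro k
  induction k with
  | zero =>
    intro g
    apply pcVia_of_bijective
    have h : (MvPolynomial.aeval g : MvPolynomial (Fin 0) T →ₐ[T] T) =
        (MvPolynomial.isEmptyAlgEquiv T (Fin 0) : MvPolynomial (Fin 0) T →ₐ[T] T) := by
      apply MvPolynomial.algHom_ext
      intro i
      exact Fin.elim0 i
    show Function.Bijective (MvPolynomial.aeval g : MvPolynomial (Fin 0) T →ₐ[T] T)
    rw [h]
    exact (MvPolynomial.isEmptyAlgEquiv T (Fin 0)).bijective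
  | succ k ih =>
    intro g
    let S := MvPolynomial (Fin k) T
    let f₁ : MvPolynomial (Fin (k + 1)) T →+* Polynomial S :=
      (MvPolynomial.finSuccEquiv T k : MvPolynomial (Fin (k + 1)) T →+* Polynomial S)
    let f₂ : Polynomial S →+* S := Polynomial.evalRingHom (MvPolynomial.C (g 0) : S)
    let f₃ : S →+* T :=
      ((MvPolynomial.aeval (fun j : Fin k => g j.succ) : S →ₐ[T] T) : S →+* T)
    have h₁ : PCVia f₁ := pcVia_of_bijective f₁ (MvPolynomial.finSuccEquiv T k).bijective
    have h₂ : PCVia f₂ := pcVia_eval S _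
    have h₃ : PCVia f₃ := ih _
    have h₂₃ : PCVia (f₃.comp f₂) := pcVia_comp f₂ f₃ _ rfl h₂ h₃
    refine pcVia_comp f₁ (f₃.comp f₂) _ ?_ h₁ h₂₃
    apply MvPolynomial.ringHom_ext
    · intro t
      simp [f₁, f₂, f₃, MvPolynomial.finSuccEquiv_apply]
      exact (MvPolynomial.aeval_C (fun j : Fin k => g j.succ) t).symm
    · intro i
      refine Fin.cases ?_ (fun j => ?_) i
      · simp [f₁, f₂, f₃, MvPolynomial.finSuccEquiv_X_zero]
        exact (MvPolynomial.aeval_C (fun j : Fin k => g j.succ) (g 0)).symm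
      · simp [f₁, f₂, f₃, MvPolynomial.finSuccEquiv_X_succ]
        exact (MvPolynomial.aeval_X (fun j : Fin k => g j.succ) j).symm

end MvEval

section Indep

variable {R A : Type u} [CommRing R] [CommRing A] [Algebra R A]

lemma NPC_iso_iff {C : Type u} [CommRing C] {m : ℤ} {X Y : DerivedCategory (ModuleCat.{u} C)}
    (e : X ≅ Y) : NPC (FF C) m X ↔ NPC (FF C) m Y :=
  ⟨fun h => NPC.of_iso _ h e, fun h => NPC.of_iso _ h e.symm⟩

/-- Independence of the presentation. -/
theorem via_iff_via {n k : ℕ} (α : MvPolynomial (Fin n) R →ₐ[R] A) (hα : Function.Surjective α)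
    (β : MvPolynomial (Fin k) R →ₐ[R] A) (hβ : Function.Surjective β)
    (K : DerivedCategory (ModuleCat.{u} A)) (m : ℤ) :
    DerCA.IsRelPseudoCoherentVia α m K ↔ DerCA.IsRelPseudoCoherentVia β m K := by
  rw [via_iff, via_iff]
  choose g hg using fun j : Fin k => hα (β (MvPolynomial.X j))
  choose h hh using fun i : Fin n => hβ (α (MvPolynomial.X i))
  let αr : MvPolynomial (Fin n) R →+* A := (α : MvPolynomial (Fin n) R →+* A)
  let βr : MvPolynomial (Fin k) R →+* A := (β : MvPolynomial (Fin k) R →+* A)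
  let ψ₁ : MvPolynomial (Fin k) (MvPolynomial (Fin n) R) →+* MvPolynomial (Fin n) R :=
    ((MvPolynomial.aeval g : MvPolynomial (Fin k) (MvPolynomial (Fin n) R) →ₐ[MvPolynomial (Fin n) R]
      MvPolynomial (Fin n) R) : _ →+* _)
  let ψ₂ : MvPolynomial (Fin n) (MvPolynomial (Fin k) R) →+* MvPolynomial (Fin k) R :=
    ((MvPolynomial.aeval h : MvPolynomial (Fin n) (MvPolynomial (Fin k) R) →ₐ[MvPolynomial (Fin k) R]
      MvPolynomial (Fin k) R) : _ →+* _)
  let γ : MvPolynomial (Fin k) (MvPolynomial (Fin n) R) →+* A := αr.comp ψ₁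
  let γ' : MvPolynomial (Fin n) (MvPolynomial (Fin k) R) →+* A := βr.comp ψ₂
  let σ : MvPolynomial (Fin k) (MvPolynomial (Fin n) R) →+*
      MvPolynomial (Fin n) (MvPolynomial (Fin k) R) :=
    ((MvPolynomial.commAlgEquiv R (Fin k) (Fin n)) : _ →+* _)
  have hσbij : Function.Bijective σ := (MvPolynomial.commAlgEquiv R (Fin k) (Fin n)).bijective
  have e1 : ∀ r : R, γ (MvPolynomial.C (MvPolynomial.C r)) =
      (γ'.comp σ) (MvPolynomial.C (MvPolynomial.C r)) := by
    intro r
    show α (MvPolynomial.aeval g (MvPolynomial.C (MvPolynomial.C r))) =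
      β (MvPolynomial.aeval h (MvPolynomial.commAlgEquiv R (Fin k) (Fin n)
        (MvPolynomial.C (MvPolynomial.C r))))
    rw [MvPolynomial.commAlgEquiv_C, MvPolynomial.map_C, MvPolynomial.aeval_C,
      MvPolynomial.aeval_C]
    show α (MvPolynomial.C r) = β (MvPolynomial.C r)
    rw [← MvPolynomial.algebraMap_eq, ← MvPolynomial.algebraMap_eq, AlgHom.commutes,
      AlgHom.commutes]
  have e2 : ∀ i : Fin n, γ (MvPolynomial.C (MvPolynomial.X i)) =
      (γ'.comp σ) (MvPolynomial.C (MvPolynomial.X i)) := by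
    intro i
    show α (MvPolynomial.aeval g (MvPolynomial.C (MvPolynomial.X i))) =
      β (MvPolynomial.aeval h (MvPolynomial.commAlgEquiv R (Fin k) (Fin n)
        (MvPolynomial.C (MvPolynomial.X i))))
    rw [MvPolynomial.commAlgEquiv_C_X, MvPolynomial.aeval_C, MvPolynomial.aeval_X, hh]
    rfl
  have e3 : ∀ j : Fin k, γ (MvPolynomial.X j) = (γ'.comp σ) (MvPolynomial.X j) := by
    intro j
    show α (MvPolynomial.aeval g (MvPolynomial.X j)) =
      β (MvPolynomial.aeval h (MvPolynomial.commAlgEquiv R (Fin k) (Fin n)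
        (MvPolynomial.X j)))
    rw [MvPolynomial.commAlgEquiv_X, MvPolynomial.aeval_C, MvPolynomial.aeval_X, hg]
    rfl
  have hσ : γ = γ'.comp σ := by
    apply MvPolynomial.ringHom_ext
    · have key : γ.comp MvPolynomial.C = (γ'.comp σ).comp MvPolynomial.C := by
        apply MvPolynomial.ringHom_ext
        · exact e1
        · exact e2
      intro p
      exact RingHom.congr_fun key p
    · exact e3
  have h₁ := pcVia_aeval (MvPolynomial (Fin n) R) k g
  have h₂ := pcVia_aeval (MvPolynomial (Fin k) R) n h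
  have hσ' := pcVia_of_bijective σ hσbij
  rw [NPC_resD_iff h₁ m ((resD αr).obj K), ← NPC_iso_iff (resD_comp ψ₁ αr γ rfl K),
    NPC_iso_iff (resD_comp σ γ' γ hσ K), ← NPC_resD_iff hσ' m ((resD γ').obj K),
    NPC_iso_iff (resD_comp ψ₂ βr γ' rfl K), ← NPC_resD_iff h₂ m ((resD βr).obj K)]

end Indep

end Groth.Agent.Lib.helper17.ResKoszul
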