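import Mathlib
import Groth.Prelude.Def_PCoh
import Groth.Prelude.Def_DRing2
import Groth.Prelude.Def_DDual2
import Groth.Prelude.Def_DerCA
import Groth.Agent.Lib.helper17.ResKoszul
import Groth.Agent.Lib.helper17.PCohTrunc

/-!
# Relative pseudo-coherence: consequences of independence of the presentation (helper17)
-/

namespace Groth.Agent.Lib.helper17.DerCARel2

open CategoryTheory Limits Pretriangulated DerivedCategory
open Groth.Agent.Lib.helper17.PCohBasic Groth.Agent.Lib.helper17.PCohLES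
open Groth.Agent.Lib.helper17.DRingPC Groth.Agent.Lib.helper17.DRingTor
open Groth.Agent.Lib.helper17.DRingTA Groth.Agent.Lib.helper17.PCohD
open Groth.Agent.Lib.helper17.DRingRes Groth.Agent.Lib.helper17.DerCARel
open Groth.Agent.Lib.helper17.ResKoszul Groth.Agent.Lib.helper17.PCohTri
open Groth.Agent.Lib.helper17.PCohTrunc

set_option linter.unusedSectionVars false
set_option linter.unusedVariables false

attribute [local instance] HasDerivedCategory.standard

universe u

variable {R A : Type u} [CommRing R] [CommRing A] [Algebra R A]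

theorem rel_iff_via {n : ℕ} (α : MvPolynomial (Fin n) R →ₐ[R] A) (hα : Function.Surjective α)
    (m : ℤ) (K : DerivedCategory (ModuleCat.{u} A)) :
    DerCA.IsRelPseudoCoherent R A m K ↔ DerCA.IsRelPseudoCoherentVia α m K :=
  ⟨fun ⟨_, β, hβ, h⟩ => (via_iff_via β hβ α hα K m).1 h, fun h => ⟨n, α, hα, h⟩⟩

theorem rel_iff_NPC {n : ℕ} (α : MvPolynomial (Fin n) R →ₐ[R] A) (hα : Function.Surjective α)
    (m : ℤ) (K : DerivedCategory (ModuleCat.{u} A)) :
    DerCA.IsRelPseudoCoherent R A m K ↔
      NPC (FF (MvPolynomial (Fin n) R)) m ((resD (α : MvPolynomial (Fin n) R →+* A)).obj K) := by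
  rw [rel_iff_via α hα, via_iff]

/-- Two-out-of-three. -/
theorem rel_triangle [Algebra.FiniteType R A] (m : ℤ)
    (T : Triangle (DerivedCategory (ModuleCat.{u} A))) (hT : T ∈ distTriang _) :
    (DerCA.IsRelPseudoCoherent R A (m + 1) T.obj₁ → DerCA.IsRelPseudoCoherent R A m T.obj₂ →
        DerCA.IsRelPseudoCoherent R A m T.obj₃) ∧
      (DerCA.IsRelPseudoCoherent R A m T.obj₁ → DerCA.IsRelPseudoCoherent R A m T.obj₃ →
        DerCA.IsRelPseudoCoherent R A m T.obj₂) ∧
      (DerCA.IsRelPseudoCoherent R A (m + 1) T.obj₂ → DerCA.IsRelPseudoCoherent R A m T.obj₃ →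
        DerCA.IsRelPseudoCoherent R A (m + 1) T.obj₁) := by
  obtain ⟨n, α, hα⟩ := Algebra.FiniteType.iff_quotient_mvPolynomial''.1
    (inferInstance : Algebra.FiniteType R A)
  simp only [rel_iff_NPC α hα]
  have hT' := (resD (α : MvPolynomial (Fin n) R →+* A)).map_distinguished _ hT
  exact NPC_triangle _ (FF_prod _) (FF_hqs _) (FF_hql _) m _ hT'

/-- modules -/
theorem relModule_iff_NPC {n : ℕ} (α : MvPolynomial (Fin n) R →ₐ[R] A)
    (hα : Function.Surjective α) (m : ℤ) (M : ModuleCat.{u} A) :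
    DerCA.IsRelPseudoCoherent R A m ((DerivedCategory.singleFunctor _ 0).obj M) ↔
      NPC (FF (MvPolynomial (Fin n) R)) m ((DerivedCategory.singleFunctor _ 0).obj
        ((resF (α : MvPolynomial (Fin n) R →+* A)).obj M)) := by
  rw [rel_iff_NPC α hα]
  exact NPC_iso_iff (resDSingle _ M)

/-- Termwise criterion. -/
theorem rel_of_terms [Algebra.FiniteType R A] (m : ℤ) (K : Cx A) (b : ℤ)
    (hb : ∀ i, b < i → IsZero (K.X i))
    (hK : ∀ i : ℤ, DerCA.IsRelPseudoCoherent R A (m - i)
      ((DerivedCategory.singleFunctor _ 0).obj (K.X i))) :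
    DerCA.IsRelPseudoCoherent R A m (Q.obj K) := by
  obtain ⟨n, α, hα⟩ := Algebra.FiniteType.iff_quotient_mvPolynomial''.1
    (inferInstance : Algebra.FiniteType R A)
  rw [rel_iff_NPC α hα]
  refine NPC.of_iso _ ?_ (resDQ _ K).symm
  exact NPC_of_terms _ (FF_prod _) (FF_hqs _) (FF_hql _) m (b - m + 1).toNat _ b
    (by have := Int.self_le_toNat (b - m + 1); lia)
    (fun i hi => (resF (α : MvPolynomial (Fin n) R →+* A)).map_isZero (hb i hi))
    (fun i _ => (relModule_iff_NPC α hα (m - i) (K.X i)).1 (hK i))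

/-- Cohomological criterion. -/
theorem rel_of_homology [Algebra.FiniteType R A] (m : ℤ)
    (K : DerivedCategory (ModuleCat.{u} A)) (b : ℤ)
    (hb : ∀ i : ℤ, b < i → IsZero ((DerivedCategory.homologyFunctor _ i).obj K))
    (hK : ∀ i : ℤ, DerCA.IsRelPseudoCoherent R A (m - i)
      ((DerivedCategory.singleFunctor _ 0).obj ((DerivedCategory.homologyFunctor _ i).obj K))) :
    DerCA.IsRelPseudoCoherent R A m K := by
  obtain ⟨n, α, hα⟩ := Algebra.FiniteType.iff_quotient_mvPolynomial''.1
    (inferInstance : Algebra.FiniteType R A)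
  rw [rel_iff_NPC α hα]
  let φ : MvPolynomial (Fin n) R →+* A := (α : MvPolynomial (Fin n) R →+* A)
  refine NPC_of_homology _ (FF_prod _) (FF_hqs _) (FF_hql _) m (b - m + 1).toNat _ b
    (by have := Int.self_le_toNat (b - m + 1); lia)
    (fun i hi => ((resF φ).map_isZero (hb i hi)).of_iso (resD_homologyIso φ K i))
    (fun i _ => ?_)
  exact NPC.of_iso _ ((relModule_iff_NPC α hα (m - i) _).1 (hK i))
    ((DerivedCategory.singleFunctor _ 0).mapIso (resD_homologyIso φ K i).symm)

end Groth.Agent.Lib.helper17.DerCARel2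

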