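import Mathlib
import Groth.Prelude.Def_PCoh
import Groth.Prelude.Def_DRing2
import Groth.Prelude.Def_DDual2
import Groth.Prelude.Def_DerCA
import Groth.Agent.Lib.helper17.DerCARel2
import Groth.Agent.Lib.helper17.DRingBC

/-!
# Relative pseudo-coherence: change of base ring (helper17)
-/

namespace Groth.Agent.Lib.helper17.DerCARel3

open CategoryTheory Limits Pretriangulated DerivedCategory TensorProduct
open Groth.Agent.Lib.helper17.PCohBasic Groth.Agent.Lib.helper17.PCohLES
open Groth.Agent.Lib.helper17.DRingPC Groth.Agent.Lib.helper17.DRingTor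
open Groth.Agent.Lib.helper17.DRingTA Groth.Agent.Lib.helper17.PCohD
open Groth.Agent.Lib.helper17.DRingRes Groth.Agent.Lib.helper17.DerCARel
open Groth.Agent.Lib.helper17.ResKoszul Groth.Agent.Lib.helper17.PCohTri
open Groth.Agent.Lib.helper17.PCohTrunc Groth.Agent.Lib.helper17.DRingBC
open Groth.Agent.Lib.helper17.DerCARel2

set_option linter.unusedSectionVars false
set_option linter.unusedVariables false

attribute [local instance] HasDerivedCategory.standard

universe u

section PolyBC

variable {P A : Type u} [CommRing P] [CommRing A] (φ : P →+* A)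

attribute [local instance] MvPolynomial.algebraMvPolynomial

/-- the base change of a pseudo-coherent algebra to a polynomial ring is pseudo-coherent. -/
theorem pcVia_mvPolynomial_map (h : PCVia φ) (k : ℕ) :
    PCVia (MvPolynomial.map φ : MvPolynomial (Fin k) P →+* MvPolynomial (Fin k) A) := by
  letI : Algebra P A := φ.toAlgebra
  intro j
  have h1 := NPC_bcD (A := P) (B := MvPolynomial (Fin k) P) (h j)
  have h2 := NPC.of_iso _ h1 (bcDSingle _)
  let e1 : ((resF φ).obj (ModuleCat.of A A)) ≃ₗ[P] A := restrictSelfEquiv (A := P) (B := A)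
  let e2 : (MvPolynomial (Fin k) P ⊗[P] ((resF φ).obj (ModuleCat.of A A))) ≃ₗ[MvPolynomial (Fin k) P]
      (MvPolynomial (Fin k) P ⊗[P] A) :=
    TensorProduct.AlgebraTensorModule.congr (LinearEquiv.refl _ _) e1
  let e3 : (MvPolynomial (Fin k) P ⊗[P] A) ≃ₗ[MvPolynomial (Fin k) P] MvPolynomial (Fin k) A :=
    (Algebra.IsPushout.out (R := P) (S := MvPolynomial (Fin k) P) (R' := A)
      (S' := MvPolynomial (Fin k) A)).equiv
  let e4 : ((resF (algebraMap (MvPolynomial (Fin k) P) (MvPolynomial (Fin k) A))).obj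
      (ModuleCat.of _ (MvPolynomial (Fin k) A))) ≃ₗ[MvPolynomial (Fin k) P] MvPolynomial (Fin k) A :=
    restrictSelfEquiv (A := MvPolynomial (Fin k) P) (B := MvPolynomial (Fin k) A)
  exact NPC.of_iso _ h2 ((DerivedCategory.singleFunctor _ 0).mapIso
    ((e2 ≪≫ₗ e3 ≪≫ₗ e4.symm).toModuleIso))

end PolyBC

section Intermediate

variable {R A B : Type u} [CommRing R] [CommRing A] [CommRing B] [Algebra R A] [Algebra A B]
  [Algebra R B] [IsScalarTower R A B]

/-- If `A` is pseudo-coherent relative to `R`, relative pseudo-coherence over `A` and over `R`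
agree. -/
theorem rel_iff_of_intermediate [Algebra.FiniteType R A] [Algebra.FiniteType A B]
    (hA : ∀ j : ℤ, DerCA.IsRelPseudoCoherent R A j
      ((DerivedCategory.singleFunctor _ 0).obj (ModuleCat.of A A)))
    (K : DerivedCategory (ModuleCat.{u} B)) (m : ℤ) :
    DerCA.IsRelPseudoCoherent A B m K ↔ DerCA.IsRelPseudoCoherent R B m K := by
  obtain ⟨n, α, hα⟩ := Algebra.FiniteType.iff_quotient_mvPolynomial''.1
    (inferInstance : Algebra.FiniteType R A)
  obtain ⟨k, β, hβ⟩ := Algebra.FiniteType.iff_quotient_mvPolynomial''.1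
    (inferInstance : Algebra.FiniteType A B)
  let αr : MvPolynomial (Fin n) R →+* A := (α : MvPolynomial (Fin n) R →+* A)
  let βr : MvPolynomial (Fin k) A →+* B := (β : MvPolynomial (Fin k) A →+* B)
  have hαpc : PCVia αr := fun j => (relModule_iff_NPC α hα j (ModuleCat.of A A)).1 (hA j)
  let Φ : MvPolynomial (Fin k) (MvPolynomial (Fin n) R) →+* MvPolynomial (Fin k) A :=
    MvPolynomial.map αr
  have hΦ : PCVia Φ := pcVia_mvPolynomial_map αr hαpc k
  let e : MvPolynomial (Fin (k + n)) R ≃ₐ[R] MvPolynomial (Fin k) (MvPolynomial (Fin n) R) :=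
    (MvPolynomial.renameEquiv R finSumFinEquiv).symm.trans (MvPolynomial.sumAlgEquiv R (Fin k) (Fin n))
  let er : MvPolynomial (Fin (k + n)) R →+* MvPolynomial (Fin k) (MvPolynomial (Fin n) R) :=
    (e : MvPolynomial (Fin (k + n)) R →+* MvPolynomial (Fin k) (MvPolynomial (Fin n) R))
  let δ : MvPolynomial (Fin (k + n)) R →ₐ[R] B :=
    ((β.restrictScalars R).comp (MvPolynomial.mapAlgHom α)).comp (e : _ →ₐ[R] _)
  have hΦs : Function.Surjective Φ := MvPolynomial.map_surjective αr hα
  have hδ : Function.Surjective δ := by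
    show Function.Surjective (β ∘ (MvPolynomial.mapAlgHom α) ∘ e)
    exact hβ.comp (hΦs.comp e.surjective)
  let γ : MvPolynomial (Fin k) (MvPolynomial (Fin n) R) →+* B := βr.comp Φ
  have hδeq : (δ : MvPolynomial (Fin (k + n)) R →+* B) = γ.comp er := rfl
  rw [rel_iff_NPC β hβ, rel_iff_NPC δ hδ, NPC_resD_iff hΦ m ((resD βr).obj K),
    ← NPC_iso_iff (resD_comp Φ βr γ rfl K),
    NPC_resD_iff (pcVia_of_bijective er e.bijective) m ((resD γ).obj K),
    ← NPC_iso_iff (resD_comp er γ _ hδeq K)]

end Intermediate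

end Groth.Agent.Lib.helper17.DerCARel3
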