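import Mathlib
import Groth.Prelude.Def_PCoh
import Groth.Prelude.Def_DRing2
import Groth.Prelude.Def_DDual2
import Groth.Prelude.Def_DerCA
import Groth.Agent.Lib.helper17.DerCARel3

/-!
# Relative pseudo-coherence and finite ring maps (helper17)
-/

namespace Groth.Agent.Lib.helper17.DerCARel4

open CategoryTheory Limits Pretriangulated DerivedCategory TensorProduct
open Groth.Agent.Lib.helper17.PCohBasic Groth.Agent.Lib.helper17.PCohLES
open Groth.Agent.Lib.helper17.DRingPC Groth.Agent.Lib.helper17.DRingTor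
open Groth.Agent.Lib.helper17.DRingTA Groth.Agent.Lib.helper17.PCohD
open Groth.Agent.Lib.helper17.DRingRes Groth.Agent.Lib.helper17.DerCARel
open Groth.Agent.Lib.helper17.ResKoszul Groth.Agent.Lib.helper17.PCohTri
open Groth.Agent.Lib.helper17.PCohTrunc Groth.Agent.Lib.helper17.DRingBC
open Groth.Agent.Lib.helper17.DerCARel2

set_option linter.unusedSectionVars false
set_option linter.unusedVariables false

attribute [local instance] HasDerivedCategory.standard

universe u

section AdjoinRoot

variable {P : Type u} [CommRing P] (Q : Polynomial P)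

/-- a finite free algebra is pseudo-coherent. -/
theorem pcVia_of_finite_free {A B : Type u} [CommRing A] [CommRing B] [Algebra A B]
    [Module.Finite A B] [Module.Free A B] : PCVia (algebraMap A B) := by
  intro k
  have hFF : FF A (ModuleCat.of A B) := ⟨inferInstance, inferInstance⟩
  exact NPC.of_iso _ (NPC_single_of_FF A _ hFF k)
    ((DerivedCategory.singleFunctor _ 0).mapIso
      (restrictSelfEquiv (A := A) (B := B)).symm.toModuleIso)

theorem pcVia_adjoinRoot_of (hQ : Q.Monic) : PCVia (AdjoinRoot.of Q) := by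
  haveI : Module.Finite P (AdjoinRoot Q) := (AdjoinRoot.powerBasis' hQ).finite
  haveI : Module.Free P (AdjoinRoot Q) := Module.Free.of_basis (AdjoinRoot.powerBasis' hQ).basis
  exact pcVia_of_finite_free (A := P) (B := AdjoinRoot Q)

/-- the quotient map as a linear map. -/
noncomputable def mkL :
    Polynomial P →ₗ[Polynomial P]
      ((ModuleCat.restrictScalars (AdjoinRoot.mk Q)).obj (ModuleCat.of (AdjoinRoot Q) (AdjoinRoot Q))) where
  toFun := fun p => (AdjoinRoot.mk Q p : AdjoinRoot Q)
  map_add' := fun p q => by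
    show (AdjoinRoot.mk Q (p + q) : AdjoinRoot Q) = (AdjoinRoot.mk Q p + AdjoinRoot.mk Q q : AdjoinRoot Q)
    exact map_add _ p q
  map_smul' := fun q p => by
    show (AdjoinRoot.mk Q (q * p) : AdjoinRoot Q) = (AdjoinRoot.mk Q q * AdjoinRoot.mk Q p : AdjoinRoot Q)
    exact map_mul _ q p

lemma mkL_apply (p : Polynomial P) : mkL Q p = (AdjoinRoot.mk Q p : AdjoinRoot Q) := rfl

noncomputable def mulQ : Polynomial P →ₗ[Polynomial P] Polynomial P :=
  LinearMap.toSpanSingleton (Polynomial P) (Polynomial P) Q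

lemma mulQ_apply (p : Polynomial P) : mulQ Q p = p * Q := rfl

lemma mk_zero : (ModuleCat.ofHom (mulQ Q)) ≫ (ModuleCat.ofHom (mkL Q)) = 0 := by
  ext
  show mkL Q (mulQ Q 1) = 0
  rw [mulQ_apply, mkL_apply]
  show (AdjoinRoot.mk Q (1 * Q) : AdjoinRoot Q) = (0 : AdjoinRoot Q)
  simp

lemma mk_shortExact (hQ : Q.Monic) :
    (ShortComplex.mk (ModuleCat.ofHom (mulQ Q)) (ModuleCat.ofHom (mkL Q))
      (mk_zero Q)).ShortExact := by
  refine ShortComplex.ShortExact.mk' ?_ ?_ ?_
  · rw [ShortComplex.moduleCat_exact_iff]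
    intro (p : Polynomial P) hp
    have hp' : (AdjoinRoot.mk Q p : AdjoinRoot Q) = 0 := hp
    obtain ⟨q, hq⟩ := AdjoinRoot.mk_eq_zero.1 hp'
    refine ⟨q, ?_⟩
    show q * Q = p
    rw [hq, mul_comm]
  · rw [ModuleCat.mono_iff_injective]
    intro (p : Polynomial P) (q : Polynomial P) h
    have h' : p * Q = q * Q := h
    exact hQ.isRegular.right h'
  · rw [ModuleCat.epi_iff_surjective]
    intro (a : AdjoinRoot Q)
    exact AdjoinRoot.mk_surjective a

theorem pcVia_adjoinRoot_mk (hQ : Q.Monic) : PCVia (AdjoinRoot.mk Q) := by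
  intro k
  have hS := mk_shortExact Q hQ
  have hFF : FF (Polynomial P) (ModuleCat.of (Polynomial P) (Polynomial P)) :=
    ⟨inferInstance, inferInstance⟩
  exact (NPC_shortExact (FF (Polynomial P)) (FF_prod _) (FF_hqs _) (FF_hql _) hS k).1
    (NPC_single_of_FF _ _ hFF (k + 1)) (NPC_single_of_FF _ _ hFF k)

end AdjoinRoot

section Monogenic

variable {R A B : Type u} [CommRing R] [CommRing A] [CommRing B] [Algebra R A] [Algebra A B]
  [Algebra R B] [IsScalarTower R A B]

/-- `rel_iff_NPC` for a surjective ring hom compatible with the structure maps. -/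
theorem rel_iff_NPC' {N : ℕ} (δr : MvPolynomial (Fin N) R →+* B)
    (hc : ∀ r : R, δr (algebraMap R _ r) = algebraMap R B r) (hδ : Function.Surjective δr)
    (m : ℤ) (K : DerivedCategory (ModuleCat.{u} B)) :
    DerCA.IsRelPseudoCoherent R B m K ↔
      NPC (FF (MvPolynomial (Fin N) R)) m ((resD δr).obj K) := by
  let δ : MvPolynomial (Fin N) R →ₐ[R] B := { toRingHom := δr, commutes' := hc }
  exact rel_iff_NPC δ hδ m K

/-- The case of a surjection. -/
theorem rel_iff_restrict_of_surjective [Algebra.FiniteType R A]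
    (hs : Function.Surjective (algebraMap A B)) (X : DerivedCategory (ModuleCat.{u} B)) (m : ℤ) :
    DerCA.IsRelPseudoCoherent R B m X ↔
      DerCA.IsRelPseudoCoherent R A m ((resD (algebraMap A B)).obj X) := by
  obtain ⟨n, α, hα⟩ := Algebra.FiniteType.iff_quotient_mvPolynomial''.1
    (inferInstance : Algebra.FiniteType R A)
  let αr : MvPolynomial (Fin n) R →+* A := (α : MvPolynomial (Fin n) R →+* A)
  let g : MvPolynomial (Fin n) R →+* B := (algebraMap A B).comp αr
  have hc : ∀ r : R, g (algebraMap R _ r) = algebraMap R B r := by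
    intro r
    show algebraMap A B (α (algebraMap R _ r)) = algebraMap R B r
    rw [AlgHom.commutes, ← IsScalarTower.algebraMap_apply]
  rw [rel_iff_NPC' g hc (hs.comp hα), rel_iff_NPC α hα,
    NPC_iso_iff (resD_comp αr (algebraMap A B) g rfl X)]

/-- The case of one integral generator. -/
theorem rel_iff_restrict_of_monogenic [Algebra.FiniteType R A]
    (b : B) (hb : IsIntegral A b) (hgen : Algebra.adjoin A {b} = ⊤)
    (X : DerivedCategory (ModuleCat.{u} B)) (m : ℤ) :
    DerCA.IsRelPseudoCoherent R B m X ↔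
      DerCA.IsRelPseudoCoherent R A m ((resD (algebraMap A B)).obj X) := by
  obtain ⟨n, α, hα⟩ := Algebra.FiniteType.iff_quotient_mvPolynomial''.1
    (inferInstance : Algebra.FiniteType R A)
  let αr : MvPolynomial (Fin n) R →+* A := (α : MvPolynomial (Fin n) R →+* A)
  have hαr : Function.Surjective αr := hα
  obtain ⟨q, hqm, hq⟩ := hb
  obtain ⟨Q, hQq, -, hQ⟩ := Polynomial.lifts_and_natDegree_eq_and_monic
    (Polynomial.mem_lifts_of_surjective (f := αr) hαr q) hqm
  let g : MvPolynomial (Fin n) R →+* B := (algebraMap A B).comp αr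
  have hQ0 : Q.eval₂ g b = 0 := by
    rw [← hq, ← hQq, Polynomial.eval₂_map]
  let ev : Polynomial (MvPolynomial (Fin n) R) →+* B := Polynomial.eval₂RingHom g b
  let lf : AdjoinRoot Q →+* B := AdjoinRoot.lift g b hQ0
  have hev : ev = lf.comp (AdjoinRoot.mk Q) :=
    RingHom.ext fun p => (AdjoinRoot.lift_mk hQ0 p).symm
  have hg : g = lf.comp (AdjoinRoot.of Q) := (AdjoinRoot.lift_comp_of hQ0).symm
  have hevs : Function.Surjective ev := by
    intro x
    have hx : x ∈ Algebra.adjoin A {b} := hgen ▸ Algebra.mem_top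
    rw [Algebra.adjoin_singleton_eq_range_aeval] at hx
    obtain ⟨p, hp⟩ := hx
    obtain ⟨p', hp'⟩ := Polynomial.map_surjective αr hαr p
    refine ⟨p', ?_⟩
    show Polynomial.eval₂ g b p' = x
    rw [← hp, ← hp']
    show _ = Polynomial.aeval b (Polynomial.map αr p')
    rw [Polynomial.aeval_def, Polynomial.eval₂_map]
  let e := MvPolynomial.finSuccEquiv R n
  let er : MvPolynomial (Fin (n + 1)) R →+* Polynomial (MvPolynomial (Fin n) R) :=
    (e : MvPolynomial (Fin (n + 1)) R →+* Polynomial (MvPolynomial (Fin n) R))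
  let δr : MvPolynomial (Fin (n + 1)) R →+* B := ev.comp er
  have hc : ∀ r : R, δr (algebraMap R _ r) = algebraMap R B r := by
    intro r
    show ev (e (algebraMap R _ r)) = algebraMap R B r
    rw [AlgEquiv.commutes]
    show Polynomial.eval₂ g b (algebraMap R (Polynomial (MvPolynomial (Fin n) R)) r) = _
    rw [Polynomial.algebraMap_apply, Polynomial.eval₂_C]
    show algebraMap A B (α (algebraMap R _ r)) = algebraMap R B r
    rw [AlgHom.commutes, ← IsScalarTower.algebraMap_apply]
  have hδ : Function.Surjective δr := hevs.comp e.surjective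
  rw [rel_iff_NPC' δr hc hδ, rel_iff_NPC α hα,
    NPC_iso_iff (resD_comp er ev δr rfl X),
    ← NPC_resD_iff (pcVia_of_bijective er e.bijective) m ((resD ev).obj X),
    NPC_iso_iff (resD_comp (AdjoinRoot.mk Q) lf ev hev X),
    ← NPC_resD_iff (pcVia_adjoinRoot_mk Q hQ) m ((resD lf).obj X),
    NPC_resD_iff (pcVia_adjoinRoot_of Q hQ) m ((resD lf).obj X),
    ← NPC_iso_iff (resD_comp (AdjoinRoot.of Q) lf g hg X),
    NPC_iso_iff (resD_comp αr (algebraMap A B) g rfl X)]

end Monogenic

section Finite

variable {R : Type u} [CommRing R]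

/-- Induction on the number of integral generators. -/
theorem rel_iff_restrict_of_adjoin_fin : ∀ (k : ℕ) {A B : Type u} [CommRing A] [CommRing B]
    [Algebra R A] [Algebra A B] [Algebra R B] [IsScalarTower R A B] [Algebra.FiniteType R A]
    (b : Fin k → B) (hb : ∀ i, IsIntegral A (b i)) (hgen : Algebra.adjoin A (Set.range b) = ⊤)
    (X : DerivedCategory (ModuleCat.{u} B)) (m : ℤ),
    DerCA.IsRelPseudoCoherent R B m X ↔
      DerCA.IsRelPseudoCoherent R A m ((resD (algebraMap A B)).obj X) := by
  intro k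
  induction k with
  | zero =>
    intro A B _ _ _ _ _ _ _ b hb hgen X m
    apply rel_iff_restrict_of_surjective
    rw [Algebra.surjective_algebraMap_iff, ← hgen]
    have : Set.range b = ∅ := Set.range_eq_empty b
    rw [this, Algebra.adjoin_empty]
  | succ k ih =>
    intro A B _ _ _ _ _ _ _ b hb hgen X m
    let A₁ : Subalgebra A B := Algebra.adjoin A {b 0}
    haveI : Module.Finite A A₁ := Algebra.finite_adjoin_simple_of_isIntegral (hb 0)
    haveI : Algebra.FiniteType A A₁ := inferInstance
    haveI : Algebra.FiniteType R A₁ := Algebra.FiniteType.trans (R := R) (S := A) (A := A₁)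
      inferInstance inferInstance
    let b' : Fin k → B := fun i => b i.succ
    have hb' : ∀ i, IsIntegral A₁ (b' i) := fun i => (hb i.succ).tower_top
    have hgen' : Algebra.adjoin A₁ (Set.range b') = ⊤ := by
      apply Subalgebra.restrictScalars_injective A
      rw [Subalgebra.restrictScalars_top, ← Algebra.adjoin_union_eq_adjoin_adjoin, ← hgen]
      congr 1
      ext x
      simp only [Set.mem_union, Set.mem_singleton_iff, Set.mem_range, b']
      constructor
      · rintro (rfl | ⟨i, rfl⟩)
        · exact ⟨0, rfl⟩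
        · exact ⟨i.succ, rfl⟩
      · rintro ⟨i, rfl⟩
        refine Fin.cases ?_ (fun j => ?_) i
        · exact Or.inl rfl
        · exact Or.inr ⟨j, rfl⟩
    have h1 := ih (A := A₁) (B := B) b' hb' hgen' X m
    let b₀ : A₁ := ⟨b 0, Algebra.subset_adjoin (Set.mem_singleton _)⟩
    have hb₀ : IsIntegral A b₀ := by
      have : IsIntegral A (algebraMap A₁ B b₀) := hb 0
      exact (isIntegral_algebraMap_iff (Subtype.val_injective)).1 this
    have hgen₀ : Algebra.adjoin A {b₀} = ⊤ := by
      have := Algebra.adjoin_adjoin_coe_preimage (R := A) (s := ({b 0} : Set B))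
      convert this using 2
      ext x
      simp only [Set.mem_singleton_iff, Set.mem_preimage, b₀]
      exact Subtype.ext_iff
    have h2 := rel_iff_restrict_of_monogenic (R := R) (A := A) (B := A₁) b₀ hb₀ hgen₀
      ((resD (algebraMap A₁ B)).obj X) m
    rw [h1, h2]
    obtain ⟨n, α, hα⟩ := Algebra.FiniteType.iff_quotient_mvPolynomial''.1
      (inferInstance : Algebra.FiniteType R A)
    rw [rel_iff_NPC α hα, rel_iff_NPC α hα]
    exact NPC_iso_iff ((resD _).mapIso
      (resD_comp (algebraMap A A₁) (algebraMap A₁ B) (algebraMap A B)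
        (IsScalarTower.algebraMap_eq A A₁ B) X).symm)

theorem rel_iff_restrict_of_finite {A B : Type u} [CommRing A] [CommRing B]
    [Algebra R A] [Algebra A B] [Algebra R B] [IsScalarTower R A B] [Algebra.FiniteType R A]
    [Module.Finite A B] (X : DerivedCategory (ModuleCat.{u} B)) (m : ℤ) :
    DerCA.IsRelPseudoCoherent R B m X ↔
      DerCA.IsRelPseudoCoherent R A m ((resD (algebraMap A B)).obj X) := by
  obtain ⟨k, b, hb⟩ := Module.Finite.exists_fin (R := A) (M := B)
  refine rel_iff_restrict_of_adjoin_fin k b (fun i => Algebra.IsIntegral.isIntegral _) ?_ X m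
  rw [eq_top_iff]
  intro x _
  have hx : x ∈ Submodule.span A (Set.range b) := hb ▸ Submodule.mem_top
  exact Algebra.span_le_adjoin A _ hx

end Finite

end Groth.Agent.Lib.helper17.DerCARel4
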