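import Mathlib
import Groth.Prelude.Def_PCoh
import Groth.Prelude.Def_DRing2
import Groth.Prelude.Def_DDual2
import Groth.Prelude.Def_DerCA
import Groth.Agent.Lib.helper17.DerCARel4
import Groth.Agent.Lib.helper17.DRingCover

/-!
# Relative pseudo-coherence and principal localizations (helper17)
-/

namespace Groth.Agent.Lib.helper17.DerCALoc

open CategoryTheory Limits Pretriangulated DerivedCategory TensorProduct
open Groth.Agent.Lib.helper17.PCohBasic Groth.Agent.Lib.helper17.PCohLES
open Groth.Agent.Lib.helper17.DRingPC Groth.Agent.Lib.helper17.DRingTor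
open Groth.Agent.Lib.helper17.DRingTA Groth.Agent.Lib.helper17.PCohD
open Groth.Agent.Lib.helper17.DRingRes Groth.Agent.Lib.helper17.DerCARel
open Groth.Agent.Lib.helper17.ResKoszul Groth.Agent.Lib.helper17.PCohTri
open Groth.Agent.Lib.helper17.PCohTrunc Groth.Agent.Lib.helper17.DRingBC
open Groth.Agent.Lib.helper17.DerCARel2 Groth.Agent.Lib.helper17.DerCARel4

set_option linter.unusedSectionVars false
set_option linter.unusedVariables false

attribute [local instance] HasDerivedCategory.standard

universe u

section Regular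

variable {P : Type u} [CommRing P] (Q : Polynomial P)

lemma mk_shortExact' (hQ : IsRightRegular Q) :
    (ShortComplex.mk (ModuleCat.ofHom (mulQ Q)) (ModuleCat.ofHom (mkL Q))
      (mk_zero Q)).ShortExact := by
  refine ShortComplex.ShortExact.mk' ?_ ?_ ?_
  · rw [ShortComplex.moduleCat_exact_iff]
    intro (p : Polynomial P) hp
    have hp' : (AdjoinRoot.mk Q p : AdjoinRoot Q) = 0 := hp
    obtain ⟨q, hq⟩ := AdjoinRoot.mk_eq_zero.1 hp'
    refine ⟨q, ?_⟩
    show q * Q = p
    rw [hq, mul_comm]
  · rw [ModuleCat.mono_iff_injective]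
    intro (p : Polynomial P) (q : Polynomial P) h
    have h' : p * Q = q * Q := h
    exact hQ h'
  · rw [ModuleCat.epi_iff_surjective]
    intro (a : AdjoinRoot Q)
    exact AdjoinRoot.mk_surjective a

theorem pcVia_adjoinRoot_mk' (hQ : IsRightRegular Q) : PCVia (AdjoinRoot.mk Q) := by
  intro k
  have hS := mk_shortExact' Q hQ
  have hFF : FF (Polynomial P) (ModuleCat.of (Polynomial P) (Polynomial P)) :=
    ⟨inferInstance, inferInstance⟩
  exact (NPC_shortExact (FF (Polynomial P)) (FF_prod _) (FF_hqs _) (FF_hql _) hS k).1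
    (NPC_single_of_FF _ _ hFF (k + 1)) (NPC_single_of_FF _ _ hFF k)

open Polynomial in
lemma isRightRegular_C_mul_X_sub_one (g : P) : IsRightRegular (C g * X - 1 : Polynomial P) := by
  intro p q h
  have h0 : (p - q) * (C g * X - 1) = 0 := by
    have h' : p * (C g * X - 1) = q * (C g * X - 1) := h
    rw [sub_mul, h', sub_self]
  have key : ∀ r : Polynomial P, r * (C g * X - 1) = 0 → r = 0 := by
    intro r hr
    have hr' : C g * (r * X) = r := by
      have : r * (C g * X - 1) = C g * (r * X) - r := by ring
      rw [this] at hr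
      exact sub_eq_zero.1 hr
    ext n
    induction n with
    | zero =>
      have := congrArg (fun s => coeff s 0) hr'
      simp only [coeff_C_mul, coeff_mul_X_zero, mul_zero] at this
      rw [← this]; simp
    | succ n ih =>
      have := congrArg (fun s => coeff s (n + 1)) hr'
      simp only [coeff_C_mul, coeff_mul_X] at this
      rw [← this, ih]; simp
  exact sub_eq_zero.1 (key _ h0)

/-- `P_g` is pseudo-coherent over `P[z]` via `z ↦ 1/g`. -/
theorem pcVia_awayLift (g : P) (ev : Polynomial P →+* Localization.Away g)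
    (hC : ∀ p : P, ev (Polynomial.C p) = algebraMap P _ p)
    (hX : ev Polynomial.X = IsLocalization.Away.invSelf g) : PCVia ev := by
  let Q : Polynomial P := Polynomial.C g * Polynomial.X - 1
  let e := (Localization.awayEquivAdjoin g).symm
  let er : AdjoinRoot Q →+* Localization.Away g := (e : AdjoinRoot Q →+* Localization.Away g)
  have h1 : PCVia (AdjoinRoot.mk Q) := pcVia_adjoinRoot_mk' Q (isRightRegular_C_mul_X_sub_one g)
  have h2 : PCVia er := pcVia_of_bijective er e.bijective
  refine pcVia_comp (AdjoinRoot.mk Q) er ev ?_ h1 h2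
  apply Polynomial.ringHom_ext
  · intro p
    rw [hC]
    show _ = e (AdjoinRoot.mk Q (Polynomial.C p))
    have : AdjoinRoot.mk Q (Polynomial.C p) = algebraMap P (AdjoinRoot Q) p := rfl
    rw [this, AlgEquiv.commutes]
  · rw [hX]
    show _ = e (AdjoinRoot.mk Q Polynomial.X)
    apply (Localization.awayEquivAdjoin g).injective
    rw [AlgEquiv.apply_symm_apply]
    -- both are the inverse of g
    have hg : IsUnit (algebraMap P (AdjoinRoot Q) g) :=
      (IsUnit.of_mul_eq_one _ (AdjoinRoot.root_isInv g))
    apply hg.mul_left_cancel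
    have e1 : algebraMap P (AdjoinRoot Q) g * AdjoinRoot.mk Q Polynomial.X = 1 :=
      AdjoinRoot.root_isInv g
    rw [e1, ← AlgEquiv.commutes (Localization.awayEquivAdjoin g) g, ← map_mul,
      IsLocalization.Away.mul_invSelf, map_one]

end Regular

section Unit

variable {A : Type u} [CommRing A]

/-- the unit `M → res (ext M)` as a linear map. -/
noncomputable def unitL (B : Type u) [CommRing B] [Algebra A B] (M : ModuleCat.{u} A) :
    M →ₗ[A] ((resF (algebraMap A B)).obj ((bcF A B).obj M)) :=
  ((ModuleCat.extendRestrictScalarsAdj (algebraMap A B)).unit.app M).hom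

/-- `B ⊗ M` versus the extension of scalars, `A`-linearly. -/
noncomputable def tensorEquivA (B : Type u) [CommRing B] [Algebra A B] (M : ModuleCat.{u} A) :
    (B ⊗[A] M) ≃ₗ[A] ((resF (algebraMap A B)).obj ((bcF A B).obj M)) where
  toFun := fun x => (extendScalarsObjEquiv (B := B) M).symm x
  invFun := fun y => extendScalarsObjEquiv (B := B) M y
  map_add' := fun x y => map_add (extendScalarsObjEquiv (B := B) M).symm x y
  map_smul' := fun a x => by
    have h1 : a • x = (algebraMap A B a) • x := (algebraMap_smul B a x).symm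
    rw [h1]
    exact map_smul (extendScalarsObjEquiv (B := B) M).symm (algebraMap A B a) x
  left_inv := fun x => (extendScalarsObjEquiv (B := B) M).apply_symm_apply x
  right_inv := fun y => (extendScalarsObjEquiv (B := B) M).symm_apply_apply y

lemma unitL_eq (B : Type u) [CommRing B] [Algebra A B] (M : ModuleCat.{u} A) :
    unitL B M = (tensorEquivA B M).toLinearMap ∘ₗ (TensorProduct.mk A B M 1) := by
  ext m
  show _ = (extendScalarsObjEquiv (B := B) M).symm ((1 : B) ⊗ₜ[A] m)
  apply (extendScalarsObjEquiv (B := B) M).injective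
  rw [LinearEquiv.apply_symm_apply]
  rfl

lemma isLocalizedModule_unitL (g : A) (B : Type u) [CommRing B] [Algebra A B]
    [IsLocalization.Away g B] (M : ModuleCat.{u} A) :
    IsLocalizedModule (Submonoid.powers g) (unitL B M) := by
  rw [unitL_eq]
  exact IsLocalizedModule.of_linearEquiv _ _ (tensorEquivA B M)

end Unit

section BC

variable {P A : Type u} [CommRing P] [CommRing A] (α : P →+* A) (g : P)

/-- the induced map on localizations. -/
noncomputable abbrev αg : Localization.Away g →+* Localization.Away (α g) :=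
  IsLocalization.Away.map (Localization.Away g) (Localization.Away (α g)) α g

lemma αg_comp : (αg α g).comp (algebraMap P (Localization.Away g)) =
    (algebraMap A (Localization.Away (α g))).comp α :=
  IsLocalization.map_comp _

variable (M : ModuleCat.{u} A)

noncomputable abbrev L₁ : ModuleCat.{u} (Localization.Away g) :=
  (bcF P (Localization.Away g)).obj ((resF α).obj M)

noncomputable abbrev L₂ : ModuleCat.{u} (Localization.Away g) :=
  (resF (αg α g)).obj ((bcF A (Localization.Away (α g))).obj M)

/-- `m ↦ 1 ⊗ m` into `A_f ⊗ M`, as a `P`-linear map. -/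
noncomputable def j₂ : ((resF α).obj M) →ₗ[P]
    ((resF (algebraMap P (Localization.Away g))).obj (L₂ α g M)) where
  toFun := fun m => unitL (Localization.Away (α g)) M m
  map_add' := fun x y => map_add (unitL (Localization.Away (α g)) M) x y
  map_smul' := fun p x => by
    have h1 : unitL (Localization.Away (α g)) M ((α p) • (show M from x)) =
        (α p) • unitL (Localization.Away (α g)) M (show M from x) := map_smul _ _ _
    have h2 : (αg α g) (algebraMap P _ p) = algebraMap A _ (α p) :=
      RingHom.congr_fun (αg_comp α g) p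
    show (unitL (Localization.Away (α g)) M ((α p) • (show M from x)) :
        (bcF A (Localization.Away (α g))).obj M) =
      ((αg α g) (algebraMap P _ p)) •
        (show (bcF A (Localization.Away (α g))).obj M from
          unitL (Localization.Away (α g)) M (show M from x))
    rw [h1, h2]
    rfl

lemma smul_X₂ (p : P) (y : (bcF A (Localization.Away (α g))).obj M) :
    (show (bcF A (Localization.Away (α g))).obj M from
      (p • (show ((resF (algebraMap P (Localization.Away g))).obj (L₂ α g M)) from y))) =
    (show (bcF A (Localization.Away (α g))).obj M from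
      ((α p) • (show ((resF (algebraMap A (Localization.Away (α g)))).obj
        ((bcF A (Localization.Away (α g))).obj M)) from y))) := by
  have h2 : (αg α g) (algebraMap P _ p) = algebraMap A _ (α p) :=
    RingHom.congr_fun (αg_comp α g) p
  show ((αg α g) (algebraMap P _ p)) • y = (algebraMap A (Localization.Away (α g)) (α p)) • y
  rw [h2]

lemma isLocalizedModule_j₂ : IsLocalizedModule (Submonoid.powers g) (j₂ α g M) := by
  have hA := isLocalizedModule_unitL (α g) (Localization.Away (α g)) M
  refine ⟨?_, ?_, ?_⟩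
  · rintro ⟨_, n, rfl⟩
    rw [Module.End.isUnit_iff]
    have h := (Module.End.isUnit_iff _).1 (hA.map_units ⟨(α g) ^ n, n, rfl⟩)
    have e : (fun y : ((resF (algebraMap P (Localization.Away g))).obj (L₂ α g M)) =>
        (g ^ n) • y) = (fun y : ((resF (algebraMap A (Localization.Away (α g)))).obj
        ((bcF A (Localization.Away (α g))).obj M)) => ((α g) ^ n) • y) := by
      funext y
      have := smul_X₂ α g M (g ^ n) y
      rw [map_pow] at this
      exact this
    have h' : Function.Bijective (fun y : ((resF (algebraMap P (Localization.Away g))).obj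
        (L₂ α g M)) => (g ^ n) • y) := by
      rw [e]
      exact h
    exact h'
  · intro y
    obtain ⟨⟨m, ⟨_, n, rfl⟩⟩, h⟩ := hA.surj y
    refine ⟨⟨m, ⟨g ^ n, n, rfl⟩⟩, ?_⟩
    have := smul_X₂ α g M (g ^ n) y
    rw [map_pow] at this
    exact this.trans h
  · intro x₁ x₂ h
    obtain ⟨⟨_, n, rfl⟩, hc⟩ := hA.exists_of_eq (x₁ := x₁) (x₂ := x₂) h
    refine ⟨⟨g ^ n, n, rfl⟩, ?_⟩
    show (α (g ^ n)) • (show M from x₁) = (α (g ^ n)) • (show M from x₂)
    rw [map_pow]
    exact hc

noncomputable def j₁ : ((resF α).obj M) →ₗ[P]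
    ((resF (algebraMap P (Localization.Away g))).obj (L₁ α g M)) :=
  unitL (Localization.Away g) ((resF α).obj M)

lemma isLocalizedModule_j₁ : IsLocalizedModule (Submonoid.powers g) (j₁ α g M) :=
  isLocalizedModule_unitL g (Localization.Away g) ((resF α).obj M)

lemma isScalarTower_res (N : ModuleCat.{u} (Localization.Away g)) :
    IsScalarTower P (Localization.Away g)
      ((resF (algebraMap P (Localization.Away g))).obj N) :=
  IsScalarTower.of_algebraMap_smul fun r x => rfl

noncomputable def θe : ((resF (algebraMap P (Localization.Away g))).obj (L₁ α g M))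
    ≃ₗ[Localization.Away g] ((resF (algebraMap P (Localization.Away g))).obj (L₂ α g M)) :=
  haveI := isLocalizedModule_j₁ α g M
  haveI := isLocalizedModule_j₂ α g M
  haveI := isScalarTower_res g (L₁ α g M)
  haveI := isScalarTower_res g (L₂ α g M)
  (IsLocalizedModule.linearEquiv (Submonoid.powers g) (j₁ α g M)
    (j₂ α g M)).extendScalarsOfIsLocalization (Submonoid.powers g) (Localization.Away g)

lemma θe_j₁ (m : (resF α).obj M) : θe α g M (j₁ α g M m) = j₂ α g M m := by
  haveI := isLocalizedModule_j₁ α g M
  haveI := isLocalizedModule_j₂ α g M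
  exact IsLocalizedModule.linearEquiv_apply (Submonoid.powers g) (j₁ α g M) (j₂ α g M) m

noncomputable def θ : L₁ α g M ≅ L₂ α g M := (θe α g M).toModuleIso

end BC

lemma bcF_map_unitL {A : Type u} [CommRing A] (B : Type u) [CommRing B] [Algebra A B]
    {N N' : ModuleCat.{u} A} (u : N ⟶ N') (m : N) :
    (bcF A B).map u (unitL B N m) = unitL B N' (u m) :=
  ModuleCat.ExtendScalars.map_tmul (algebraMap A B) u (1 : B) m

section BCNat

variable {P A : Type u} [CommRing P] [CommRing A] (α : P →+* A) (g : P)

lemma θ_naturality {M M' : ModuleCat.{u} A} (u : M ⟶ M') :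
    (bcF P (Localization.Away g)).map ((resF α).map u) ≫ (θ α g M').hom =
      (θ α g M).hom ≫ (resF (αg α g)).map ((bcF A (Localization.Away (α g))).map u) := by
  apply (resF (algebraMap P (Localization.Away g))).map_injective
  apply ModuleCat.hom_ext
  haveI := isLocalizedModule_j₁ α g M
  haveI := isLocalizedModule_j₂ α g M'
  apply IsLocalizedModule.linearMap_ext (Submonoid.powers g) (j₁ α g M) (j₂ α g M')
  ext m
  show θe α g M' ((bcF P (Localization.Away g)).map ((resF α).map u) (j₁ α g M m)) =
    (bcF A (Localization.Away (α g))).map u (θe α g M (j₁ α g M m))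
  rw [θe_j₁]
  have h1 : (bcF P (Localization.Away g)).map ((resF α).map u) (j₁ α g M m) =
      j₁ α g M' (((resF α).map u) m) := bcF_map_unitL (Localization.Away g) ((resF α).map u) m
  rw [h1, θe_j₁]
  exact (bcF_map_unitL (Localization.Away (α g)) u m).symm

/-- Base change along `P → P_g` after restriction along `α` is restriction along `α_g` after
base change along `A → A_{α g}`. -/
noncomputable def bcResIso :
    resF α ⋙ bcF P (Localization.Away g) ≅
      bcF A (Localization.Away (α g)) ⋙ resF (αg α g) :=
  NatIso.ofComponents (fun M => θ α g M) (fun u => θ_naturality α g u)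

end BCNat

section BCD

variable {P A : Type u} [CommRing P] [CommRing A] (α : P →+* A) (g : P)

noncomputable def bcResC (K : Cx A) :
    (bcC P (Localization.Away g)).obj ((resC α).obj K) ≅
      (resC (αg α g)).obj ((bcC A (Localization.Away (α g))).obj K) :=
  (NatIso.mapHomologicalComplex (bcResIso α g) (ComplexShape.up ℤ)).app K

noncomputable def bcResD (K : Cx A) :
    (bcD P (Localization.Away g)).obj ((resD α).obj (Q.obj K)) ≅
      (resD (αg α g)).obj (Q.obj ((bcC A (Localization.Away (α g))).obj K)) :=
  (bcD P (Localization.Away g)).mapIso (resDQ α K) ≪≫ bcDQ _ ≪≫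
    Q.mapIso (bcResC α g K) ≪≫ (resDQ (αg α g) _).symm

theorem NPC_res_away {m : ℤ} (K : Cx A) (h : NPC (FF P) m ((resD α).obj (Q.obj K))) :
    NPC (FF (Localization.Away g)) m
      ((resD (αg α g)).obj (Q.obj ((bcC A (Localization.Away (α g))).obj K))) :=
  NPC.of_iso _ (NPC_bcD h) (bcResD α g K)

theorem NPC_bcC_of_res_away {m : ℤ} (K : Cx A)
    (h : NPC (FF (Localization.Away g)) m
      ((resD (αg α g)).obj (Q.obj ((bcC A (Localization.Away (α g))).obj K)))) :
    NPC (FF (Localization.Away g)) m
      (Q.obj ((bcC P (Localization.Away g)).obj ((resC α).obj K))) :=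
  NPC.of_iso _ h ((resDQ (αg α g) _) ≪≫ (Q.mapIso (bcResC α g K)).symm)

end BCD

section Rel

variable {R A : Type u} [CommRing R] [CommRing A] [Algebra R A]

theorem rel_away_iff_NPC {n : ℕ} (αr : MvPolynomial (Fin n) R →+* A)
    (hαc : ∀ r : R, αr (algebraMap R _ r) = algebraMap R A r)
    (hα : Function.Surjective αr) (g : MvPolynomial (Fin n) R) (m : ℤ)
    (Y : DerivedCategory (ModuleCat.{u} (Localization.Away (αr g)))) :
    DerCA.IsRelPseudoCoherent R (Localization.Away (αr g)) m Y ↔
      NPC (FF (Localization.Away g)) m ((resD (αg αr g)).obj Y) := by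
  let ev : Polynomial (MvPolynomial (Fin n) R) →+* Localization.Away g :=
    Polynomial.eval₂RingHom (algebraMap _ (Localization.Away g)) (IsLocalization.Away.invSelf g)
  have hev : PCVia ev :=
    pcVia_awayLift g ev (fun p => Polynomial.eval₂_C _ _) (Polynomial.eval₂_X _ _)
  let e := MvPolynomial.finSuccEquiv R n
  let er : MvPolynomial (Fin (n + 1)) R →+* Polynomial (MvPolynomial (Fin n) R) :=
    (e : MvPolynomial (Fin (n + 1)) R →+* Polynomial (MvPolynomial (Fin n) R))
  let γ : Polynomial (MvPolynomial (Fin n) R) →+* Localization.Away (αr g) := (αg αr g).comp ev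
  let δr : MvPolynomial (Fin (n + 1)) R →+* Localization.Away (αr g) := γ.comp er
  have hcomp : ∀ p : MvPolynomial (Fin n) R, (αg αr g) (algebraMap _ (Localization.Away g) p) =
      algebraMap A (Localization.Away (αr g)) (αr p) :=
    fun p => RingHom.congr_fun (αg_comp αr g) p
  have hc : ∀ r : R, δr (algebraMap R _ r) = algebraMap R (Localization.Away (αr g)) r := by
    intro r
    show (αg αr g) (ev (e (algebraMap R _ r))) = _
    rw [AlgEquiv.commutes]
    show (αg αr g) (Polynomial.eval₂ _ _ (algebraMap R (Polynomial (MvPolynomial (Fin n) R)) r)) = _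
    rw [Polynomial.algebraMap_apply, Polynomial.eval₂_C, hcomp, hαc,
      ← IsScalarTower.algebraMap_apply]
  have hγ : Function.Surjective γ := by
    intro y
    obtain ⟨⟨a, ⟨_, k, rfl⟩⟩, hy⟩ := IsLocalization.surj (Submonoid.powers (αr g)) y
    obtain ⟨p, rfl⟩ := hα a
    let t : Localization.Away (αr g) := (αg αr g) (IsLocalization.Away.invSelf g)
    have ht : algebraMap A (Localization.Away (αr g)) (αr g) * t = 1 := by
      rw [← hcomp, ← map_mul, IsLocalization.Away.mul_invSelf, map_one]
    refine ⟨Polynomial.C p * Polynomial.X ^ k, ?_⟩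
    show (αg αr g) (Polynomial.eval₂ _ _ (Polynomial.C p * Polynomial.X ^ k)) = y
    rw [Polynomial.eval₂_mul, Polynomial.eval₂_C, Polynomial.eval₂_pow, Polynomial.eval₂_X,
      map_mul, map_pow, hcomp]
    have hy' : y * (algebraMap A (Localization.Away (αr g)) (αr g)) ^ k =
        algebraMap A (Localization.Away (αr g)) (αr p) := by
      rw [← map_pow]; exact hy
    show algebraMap A (Localization.Away (αr g)) (αr p) * t ^ k = y
    rw [← hy', mul_assoc, ← mul_pow, ht, one_pow, mul_one]
  have hδ : Function.Surjective δr := hγ.comp e.surjective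
  rw [rel_iff_NPC' δr hc hδ, NPC_iso_iff (resD_comp er γ δr rfl Y),
    ← NPC_resD_iff (pcVia_of_bijective er e.bijective) m ((resD γ).obj Y),
    NPC_iso_iff (resD_comp ev (αg αr g) γ rfl Y),
    ← NPC_resD_iff hev m ((resD (αg αr g)).obj Y)]

open Groth.Agent.Lib.helper17.DRingCover in
/-- Relative pseudo-coherence localizes. -/
theorem rel_bcC_away {n : ℕ} (αr : MvPolynomial (Fin n) R →+* A)
    (hαc : ∀ r : R, αr (algebraMap R _ r) = algebraMap R A r)
    (hα : Function.Surjective αr) (g : MvPolynomial (Fin n) R) (m : ℤ) (K : Cx A)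
    (h : DerCA.IsRelPseudoCoherent R A m (Q.obj K)) :
    DerCA.IsRelPseudoCoherent R (Localization.Away (αr g)) m
      (Q.obj ((bcC A (Localization.Away (αr g))).obj K)) := by
  rw [rel_away_iff_NPC αr hαc hα g]
  apply NPC_res_away
  exact (rel_iff_NPC' αr hαc hα m _).1 h

lemma isZero_bcF_of_mem_ker {P : Type u} [CommRing P] (αr : P →+* A) (h₀ : P) (hh : αr h₀ = 0)
    (M : ModuleCat.{u} A) :
    IsZero ((bcF P (Localization.Away h₀)).obj ((resF αr).obj M)) := by
  haveI := isLocalizedModule_unitL h₀ (Localization.Away h₀) ((resF αr).obj M)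
  have : Subsingleton ((resF (algebraMap P (Localization.Away h₀))).obj
      ((bcF P (Localization.Away h₀)).obj ((resF αr).obj M))) := by
    rw [IsLocalizedModule.subsingleton_iff (Submonoid.powers h₀)
      (unitL (Localization.Away h₀) ((resF αr).obj M))]
    intro x
    refine ⟨h₀, ⟨1, pow_one _⟩, ?_⟩
    show (αr h₀) • (show M from x) = 0
    rw [hh, zero_smul]
  have h2 : Subsingleton ((bcF P (Localization.Away h₀)).obj ((resF αr).obj M)) := this
  exact ModuleCat.isZero_of_subsingleton _

open Groth.Agent.Lib.helper17.DRingCover in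
/-- Relative pseudo-coherence is local on standard covers. -/
theorem rel_of_cover {n : ℕ} (αr : MvPolynomial (Fin n) R →+* A)
    (hαc : ∀ r : R, αr (algebraMap R _ r) = algebraMap R A r)
    (hα : Function.Surjective αr) {r : ℕ} (g : Fin r → MvPolynomial (Fin n) R)
    (hspan : Ideal.span (Set.range (fun i => αr (g i))) = ⊤) (m : ℤ) (K : Cx A)
    (h : ∀ i, DerCA.IsRelPseudoCoherent R (Localization.Away (αr (g i))) m
      (Q.obj ((bcC A (Localization.Away (αr (g i)))).obj K))) :
    DerCA.IsRelPseudoCoherent R A m (Q.obj K) := by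
  -- an element of the kernel completing the `g i` to a cover
  have h1 : Ideal.map αr (Ideal.span (Set.range g)) = ⊤ := by
    rw [Ideal.map_span, ← Set.range_comp]
    exact hspan
  have h2 : Ideal.span (Set.range g) ⊔ Ideal.comap αr ⊥ = ⊤ := by
    rw [← Ideal.comap_map_of_surjective αr hα, h1, Ideal.comap_top]
  have h3 : (1 : MvPolynomial (Fin n) R) ∈ Ideal.span (Set.range g) ⊔ Ideal.comap αr ⊥ := by
    rw [h2]; exact Submodule.mem_top
  obtain ⟨x, hx, h₀, hh₀, hxh⟩ := Submodule.mem_sup.1 h3
  have hh : αr h₀ = 0 := by simpa using hh₀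
  let G : Option (Fin r) → MvPolynomial (Fin n) R := fun o => o.elim h₀ g
  have hG : Ideal.span (Set.range G) = ⊤ := by
    rw [Ideal.eq_top_iff_one, ← hxh]
    refine Ideal.add_mem _ ?_ ?_
    · refine Ideal.span_mono ?_ hx
      rintro _ ⟨i, rfl⟩
      exact ⟨some i, rfl⟩
    · exact Ideal.subset_span ⟨none, rfl⟩
  rw [rel_iff_NPC' αr hαc hα]
  refine NPC.of_iso _ ?_ (resDQ αr K).symm
  refine NPC_of_cover' (isCov_away G hG) m ((resC αr).obj K) ?_
  intro l
  cases l with
  | none =>
    have hz : ∀ i, IsZero (((bcC (MvPolynomial (Fin n) R) (Localization.Away h₀)).obj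
        ((resC αr).obj K)).X i) := fun i => isZero_bcF_of_mem_ker αr h₀ hh (K.X i)
    exact ⟨_, ⟨⟨0, fun i _ => hz i⟩, fun i _ => (FF _).prop_of_isZero (hz i)⟩, ⟨Iso.refl _⟩⟩
  | some i =>
    exact NPC_bcC_of_res_away αr (g i) K ((rel_away_iff_NPC αr hαc hα (g i) m _).1 (h i))

end Rel

section Final

variable {R A : Type u} [CommRing R] [CommRing A] [Algebra R A]

/-- An opaque ring-hom presentation of a finite type algebra. -/
lemma exists_presentation [Algebra.FiniteType R A] :
    ∃ (n : ℕ) (αr : MvPolynomial (Fin n) R →+* A),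
      (∀ r : R, αr (algebraMap R _ r) = algebraMap R A r) ∧ Function.Surjective αr := by
  obtain ⟨n, α, hα⟩ := Algebra.FiniteType.iff_quotient_mvPolynomial''.1
    (inferInstance : Algebra.FiniteType R A)
  exact ⟨n, (α : MvPolynomial (Fin n) R →+* A), fun r => α.commutes r, hα⟩

/-- Localization criterion for relative pseudo-coherence. -/
theorem rel_iff_away [Algebra.FiniteType R A] (K : Cx A) (m : ℤ) {r : ℕ} (f : Fin r → A)
    (hf : Ideal.span (Set.range f) = ⊤) :
    DerCA.IsRelPseudoCoherent R A m (Q.obj K) ↔
      ∀ i, DerCA.IsRelPseudoCoherent R (Localization.Away (f i)) m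
        (Q.obj ((bcC A (Localization.Away (f i))).obj K)) := by
  obtain ⟨n, αr, hαc, hα⟩ := exists_presentation (R := R) (A := A)
  choose g hg using fun i => hα (f i)
  have hfg : f = fun i => αr (g i) := funext fun i => (hg i).symm
  subst hfg
  exact ⟨fun h i => rel_bcC_away αr hαc hα (g i) m K h,
    fun h => rel_of_cover αr hαc hα g hf m K h⟩

/-- `R_f` is pseudo-coherent relative to `R`. -/
theorem rel_away_self (f : R) (j : ℤ) :
    DerCA.IsRelPseudoCoherent R (Localization.Away f) j
      ((DerivedCategory.singleFunctor _ 0).obj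
        (ModuleCat.of (Localization.Away f) (Localization.Away f))) := by
  let ev : Polynomial R →+* Localization.Away f :=
    Polynomial.eval₂RingHom (algebraMap _ (Localization.Away f)) (IsLocalization.Away.invSelf f)
  have hev : PCVia ev :=
    pcVia_awayLift f ev (fun p => Polynomial.eval₂_C _ _) (Polynomial.eval₂_X _ _)
  let e0 : MvPolynomial (Fin 1) R ≃ₐ[R] Polynomial R :=
    (MvPolynomial.finSuccEquiv R 0).trans
      (Polynomial.mapAlgEquiv (MvPolynomial.isEmptyAlgEquiv R (Fin 0)))
  let er : MvPolynomial (Fin 1) R →+* Polynomial R := (e0 : MvPolynomial (Fin 1) R →+* Polynomial R)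
  let δr : MvPolynomial (Fin 1) R →+* Localization.Away f := ev.comp er
  have hc : ∀ r : R, δr (algebraMap R _ r) = algebraMap R (Localization.Away f) r := by
    intro r
    show ev (e0 (algebraMap R _ r)) = _
    rw [AlgEquiv.commutes]
    show Polynomial.eval₂ _ _ (algebraMap R (Polynomial R) r) = _
    rw [Polynomial.algebraMap_apply, Polynomial.eval₂_C]
    rfl
  have hevs : Function.Surjective ev := by
    intro y
    obtain ⟨⟨a, ⟨_, k, rfl⟩⟩, hy⟩ := IsLocalization.surj (Submonoid.powers f) y
    refine ⟨Polynomial.C a * Polynomial.X ^ k, ?_⟩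
    show Polynomial.eval₂ _ _ (Polynomial.C a * Polynomial.X ^ k) = y
    rw [Polynomial.eval₂_mul, Polynomial.eval₂_C, Polynomial.eval₂_pow, Polynomial.eval₂_X]
    have hy' : y * (algebraMap R (Localization.Away f) f) ^ k =
        algebraMap R (Localization.Away f) a := by
      rw [← map_pow]; exact hy
    rw [← hy', mul_assoc, ← mul_pow, IsLocalization.Away.mul_invSelf, one_pow, mul_one]
  have hδ : Function.Surjective δr := hevs.comp e0.surjective
  rw [rel_iff_NPC' δr hc hδ]
  have hpc : PCVia δr := pcVia_comp er ev δr rfl (pcVia_of_bijective er e0.bijective) hev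
  exact NPC.of_iso _ (hpc j) (resDSingle δr _).symm

end Final

end Groth.Agent.Lib.helper17.DerCALoc
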