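import Mathlib
import Groth.Prelude.Def_PCoh
import Groth.Prelude.Def_DRing2
import Groth.Prelude.Def_DDual2
import Groth.Prelude.Def_DerCA
import Groth.Agent.Lib.helper17.DerCALoc

/-!
# Relatively finitely presented modules (helper17)
-/

namespace Groth.Agent.Lib.helper17.CAlgRelFP

open CategoryTheory Limits Pretriangulated DerivedCategory TensorProduct
open Groth.Agent.Lib.helper17.PCohBasic Groth.Agent.Lib.helper17.PCohLES
open Groth.Agent.Lib.helper17.DRingPC Groth.Agent.Lib.helper17.DRingTor
open Groth.Agent.Lib.helper17.DRingTA Groth.Agent.Lib.helper17.PCohD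
open Groth.Agent.Lib.helper17.DRingRes Groth.Agent.Lib.helper17.DerCARel
open Groth.Agent.Lib.helper17.ResKoszul Groth.Agent.Lib.helper17.PCohTri
open Groth.Agent.Lib.helper17.PCohTrunc Groth.Agent.Lib.helper17.DRingBC
open Groth.Agent.Lib.helper17.DerCARel2 Groth.Agent.Lib.helper17.DerCARel4
open Groth.Agent.Lib.helper17.DerCALoc

set_option linter.unusedSectionVars false
set_option linter.unusedVariables false

attribute [local instance] HasDerivedCategory.standard

universe u

section Basic

variable {R A : Type u} [CommRing R] [CommRing A] [Algebra R A]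

lemma rel_of_iso {m : ℤ} {X Y : DerivedCategory (ModuleCat.{u} A)}
    (h : DerCA.IsRelPseudoCoherent R A m X) (e : X ≅ Y) : DerCA.IsRelPseudoCoherent R A m Y := by
  obtain ⟨n, α, hα, h⟩ := h
  refine ⟨n, α, hα, ?_⟩
  rw [via_iff] at h ⊢
  exact NPC.of_iso _ h ((resD _).mapIso e)

lemma rel_iso_iff {m : ℤ} {X Y : DerivedCategory (ModuleCat.{u} A)} (e : X ≅ Y) :
    DerCA.IsRelPseudoCoherent R A m X ↔ DerCA.IsRelPseudoCoherent R A m Y :=
  ⟨fun h => rel_of_iso h e, fun h => rel_of_iso h e.symm⟩

/-- finitely presented through `α` iff relatively `(-1)`-pseudo-coherent. -/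
theorem fpVia_iff_rel {n : ℕ} (α : MvPolynomial (Fin n) R →ₐ[R] A) (hα : Function.Surjective α)
    (M : Type u) [AddCommGroup M] [Module A M] :
    @Module.FinitePresentation (MvPolynomial (Fin n) R) M _ _ (Module.compHom M α.toRingHom) ↔
      DerCA.IsRelPseudoCoherent R A (-1)
        ((DerivedCategory.singleFunctor _ 0).obj (ModuleCat.of A M)) := by
  refine Iff.symm ((relModule_iff_NPC α hα (-1) (ModuleCat.of A M)).trans ?_)
  exact (NPC_single_negOne_iff_finitePresentation _ _)

/-- Relative pseudo-coherence localizes: object version. -/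
theorem rel_bcD_away [Algebra.FiniteType R A] (g : A) (m : ℤ)
    (X : DerivedCategory (ModuleCat.{u} A)) (h : DerCA.IsRelPseudoCoherent R A m X) :
    DerCA.IsRelPseudoCoherent R (Localization.Away g) m
      ((bcD A (Localization.Away g)).obj X) := by
  obtain ⟨n, αr, hαc, hα⟩ := exists_presentation (R := R) (A := A)
  obtain ⟨g', rfl⟩ := hα g
  have e := Q.objObjPreimageIso X
  have h1 := rel_bcC_away αr hαc hα g' m (Q.objPreimage X) (rel_of_iso h e.symm)
  exact rel_of_iso h1 ((bcDQ _).symm ≪≫ (bcD A _).mapIso e)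

/-- The localized module as a base change. -/
noncomputable def bcDSingleAway (g : A) (M : Type u) [AddCommGroup M] [Module A M] :
    (bcD A (Localization.Away g)).obj ((DerivedCategory.singleFunctor _ 0).obj (ModuleCat.of A M)) ≅
      (DerivedCategory.singleFunctor _ 0).obj (ModuleCat.of (Localization.Away g)
        (LocalizedModule (Submonoid.powers g) M)) :=
  bcDSingle (ModuleCat.of A M) ≪≫ (DerivedCategory.singleFunctor _ 0).mapIso
    (LocalizedModule.equivTensorProduct (Submonoid.powers g) M).symm.toModuleIso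

end Basic

section Iterated

variable {R A B : Type u} [CommRing R] [CommRing A] [CommRing B] [Algebra R A] [Algebra A B]
  [Algebra R B] [IsScalarTower R A B]

/-- Relative pseudo-coherence over `R` computed through an iterated presentation. -/
theorem rel_iff_NPC_iterated {n k : ℕ} (α : MvPolynomial (Fin n) R →ₐ[R] A)
    (hα : Function.Surjective α) (β : MvPolynomial (Fin k) A →ₐ[A] B)
    (hβ : Function.Surjective β) (m : ℤ) (K : DerivedCategory (ModuleCat.{u} B)) :
    DerCA.IsRelPseudoCoherent R B m K ↔
      NPC (FF (MvPolynomial (Fin k) (MvPolynomial (Fin n) R))) m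
        ((resD ((β : MvPolynomial (Fin k) A →+* B).comp
          (MvPolynomial.map (α : MvPolynomial (Fin n) R →+* A)))).obj K) := by
  let αr : MvPolynomial (Fin n) R →+* A := (α : MvPolynomial (Fin n) R →+* A)
  let βr : MvPolynomial (Fin k) A →+* B := (β : MvPolynomial (Fin k) A →+* B)
  let Φ : MvPolynomial (Fin k) (MvPolynomial (Fin n) R) →+* MvPolynomial (Fin k) A :=
    MvPolynomial.map αr
  let e : MvPolynomial (Fin (k + n)) R ≃ₐ[R] MvPolynomial (Fin k) (MvPolynomial (Fin n) R) :=
    (MvPolynomial.renameEquiv R finSumFinEquiv).symm.trans (MvPolynomial.sumAlgEquiv R (Fin k) (Fin n))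
  let er : MvPolynomial (Fin (k + n)) R →+* MvPolynomial (Fin k) (MvPolynomial (Fin n) R) :=
    (e : MvPolynomial (Fin (k + n)) R →+* MvPolynomial (Fin k) (MvPolynomial (Fin n) R))
  let δ : MvPolynomial (Fin (k + n)) R →ₐ[R] B :=
    ((β.restrictScalars R).comp (MvPolynomial.mapAlgHom α)).comp (e : _ →ₐ[R] _)
  have hΦs : Function.Surjective Φ := MvPolynomial.map_surjective αr hα
  have hδ : Function.Surjective δ := by
    show Function.Surjective (β ∘ (MvPolynomial.mapAlgHom α) ∘ e)
    exact hβ.comp (hΦs.comp e.surjective)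
  let γ : MvPolynomial (Fin k) (MvPolynomial (Fin n) R) →+* B := βr.comp Φ
  have hδeq : (δ : MvPolynomial (Fin (k + n)) R →+* B) = γ.comp er := rfl
  rw [rel_iff_NPC δ hδ, NPC_iso_iff (resD_comp er γ _ hδeq K),
    ← NPC_resD_iff (pcVia_of_bijective er e.bijective) m ((resD γ).obj K)]

end Iterated

end Groth.Agent.Lib.helper17.CAlgRelFP
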