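import Mathlib
import Groth.Prelude.Def_MoreMor
import Groth.Agent.Lib.helper6.CMFlat
import Groth.Agent.Lib.helper7.FibDim

/-! Cohen–Macaulayness of a morphism at a point: composition. -/

set_option autoImplicit false
set_option linter.style.haveILetI false

open AlgebraicGeometry CategoryTheory Limits IsLocalRing LocCoh

namespace Groth.Agent.Lib.helper17.CMAtComp

universe u

open Groth.Agent.Lib.helper6.CMFlat in
/-- Quotient version of CM along flat local maps, assuming only the quotients Noetherian. -/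
theorem cm_quotient_iff' {B C : Type u} [CommRing B] [CommRing C] [IsLocalRing B] [IsLocalRing C]
    [Algebra B C] [IsLocalHom (algebraMap B C)]
    [Module.Flat B C] (I : Ideal B) (hI : I ≠ ⊤) [IsNoetherianRing (B ⧸ I)]
    [IsNoetherianRing (C ⧸ I.map (algebraMap B C))] :
    IsCohenMacaulayLocalRing (C ⧸ I.map (algebraMap B C)) ↔
      IsCohenMacaulayLocalRing (B ⧸ I) ∧ IsCohenMacaulayLocalRing (EGA4.FibRing B C) := by
  have hIm : I ≤ IsLocalRing.maximalIdeal B := IsLocalRing.le_maximalIdeal hI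
  have hK : EGA4.mB B C ≤ IsLocalRing.maximalIdeal C :=
    IsLocalRing.map_maximalIdeal_le (algebraMap B C)
  have hJK : I.map (algebraMap B C) ≤ EGA4.mB B C := Ideal.map_mono hIm
  have hJ : I.map (algebraMap B C) ≠ ⊤ := by
    intro h
    exact (IsLocalRing.maximalIdeal.isMaximal C).ne_top (top_le_iff.mp (h ▸ hJK.trans hK))
  haveI : Nontrivial (B ⧸ I) := Ideal.Quotient.nontrivial_iff.2 hI
  haveI : Nontrivial (C ⧸ I.map (algebraMap B C)) := Ideal.Quotient.nontrivial_iff.2 hJ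
  haveI : IsLocalRing (B ⧸ I) :=
    IsLocalRing.of_surjective' (Ideal.Quotient.mk I) Ideal.Quotient.mk_surjective
  haveI : IsLocalRing (C ⧸ I.map (algebraMap B C)) :=
    IsLocalRing.of_surjective' (Ideal.Quotient.mk _) Ideal.Quotient.mk_surjective
  haveI : Module.Flat (B ⧸ I) (C ⧸ I.map (algebraMap B C)) := flat_quotient I
  haveI : IsLocalHom (Ideal.Quotient.mk (I.map (algebraMap B C))) :=
    IsLocalHom.of_surjective _ Ideal.Quotient.mk_surjective
  haveI : IsLocalHom (algebraMap (B ⧸ I) (C ⧸ I.map (algebraMap B C))) := by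
    constructor
    intro x hx
    obtain ⟨x, rfl⟩ := Ideal.Quotient.mk_surjective x
    rw [Ideal.Quotient.algebraMap_quotient_map_quotient] at hx
    have h1 : IsUnit (algebraMap B C x) := isUnit_of_map_unit _ _ hx
    have h2 : IsUnit x := isUnit_of_map_unit (algebraMap B C) _ h1
    exact h2.map _
  have key := cm_iff_of_flat (R := B ⧸ I) (S := C ⧸ I.map (algebraMap B C))
  have hideal : EGA4.mB (B ⧸ I) (C ⧸ I.map (algebraMap B C)) =
      (EGA4.mB B C).map (Ideal.Quotient.mk (I.map (algebraMap B C))) := by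
    change (IsLocalRing.maximalIdeal (B ⧸ I)).map _ = ((IsLocalRing.maximalIdeal B).map _).map _
    rw [← IsLocalRing.map_maximalIdeal_of_surjective (Ideal.Quotient.mk I)
      Ideal.Quotient.mk_surjective, Ideal.map_map, Ideal.map_map]
    rfl
  let e : EGA4.FibRing (B ⧸ I) (C ⧸ I.map (algebraMap B C)) ≃+* EGA4.FibRing B C :=
    (Ideal.quotEquivOfEq hideal).trans (DoubleQuot.quotQuotEquivQuotOfLE hJK)
  constructor
  · intro h
    obtain ⟨h1, h2⟩ := key.1 h
    exact ⟨h1, isCM_of_ringEquiv e h2⟩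
  · rintro ⟨h1, h2⟩
    exact key.2 ⟨h1, isCM_of_ringEquiv e.symm h2⟩

/-- the fibre local ring at `x` as a quotient of `O_{X,x}`. -/
theorem nonempty_fiberStalkEquiv {X Y : Scheme.{u}} (f : X ⟶ Y) (x : X) :
    Nonempty ((X.presheaf.stalk x ⧸
      Ideal.map (f.stalkMap x).hom (maximalIdeal (Y.presheaf.stalk (f x)))) ≃+*
      (f.fiber (f x)).presheaf.stalk (f.asFiber x)) := by
  have e := Groth.Agent.Lib.helper7.FibDim.fiberStalkEquiv f (f x) (f.asFiber x)
  have hx : f.fiberι (f x) (f.asFiber x) = x := f.fiberι_asFiber x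
  have h2 : ∀ (x' : X) (_ : x' = x),
      Nonempty ((X.presheaf.stalk x ⧸
        Ideal.map (f.stalkMap x).hom (maximalIdeal (Y.presheaf.stalk (f x)))) ≃+*
      (X.presheaf.stalk x' ⧸
        Ideal.map (f.stalkMap x').hom (maximalIdeal (Y.presheaf.stalk (f x'))))) := by
    rintro _ rfl
    exact ⟨RingEquiv.refl _⟩
  obtain ⟨e2⟩ := h2 _ hx
  exact ⟨e2.trans e⟩

end Groth.Agent.Lib.helper17.CMAtComp

namespace Groth.Agent.Lib.helper17.CMAtComp

universe u

open Groth.Agent.Lib.helper6.CMFlat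

section Ring

variable {A B C : Type u} [CommRing A] [CommRing B] [CommRing C] [IsLocalRing A] [IsLocalRing B]
  [IsLocalRing C] (φ : A →+* B) (ψ : B →+* C) [IsLocalHom φ] [IsLocalHom ψ]

lemma map_ne_top : (maximalIdeal A).map φ ≠ ⊤ := by
  intro h
  have h1 : (maximalIdeal A).map φ ≤ maximalIdeal B := IsLocalRing.map_maximalIdeal_le φ
  exact (IsLocalRing.maximalIdeal.isMaximal B).ne_top (top_le_iff.mp (h ▸ h1))

/-- the key equivalence, in ring-hom form. -/
theorem cm_comp_iff (hψ : ψ.Flat)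
    [IsNoetherianRing (B ⧸ (maximalIdeal A).map φ)]
    [IsNoetherianRing (C ⧸ (maximalIdeal A).map (ψ.comp φ))] :
    IsCohenMacaulayLocalRing (C ⧸ (maximalIdeal A).map (ψ.comp φ)) ↔
      IsCohenMacaulayLocalRing (B ⧸ (maximalIdeal A).map φ) ∧
        IsCohenMacaulayLocalRing (C ⧸ (maximalIdeal B).map ψ) := by
  letI := ψ.toAlgebra
  haveI : Module.Flat B C := hψ
  haveI : IsLocalHom (algebraMap B C) := ‹IsLocalHom ψ›
  have hI := map_ne_top φ
  have hJ : ((maximalIdeal A).map φ).map (algebraMap B C) = (maximalIdeal A).map (ψ.comp φ) :=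
    Ideal.map_map φ ψ
  let e : (C ⧸ ((maximalIdeal A).map φ).map (algebraMap B C)) ≃+*
      (C ⧸ (maximalIdeal A).map (ψ.comp φ)) := Ideal.quotEquivOfEq hJ
  haveI : IsNoetherianRing (C ⧸ ((maximalIdeal A).map φ).map (algebraMap B C)) :=
    isNoetherianRing_of_ringEquiv _ e.symm
  have key := cm_quotient_iff' (B := B) (C := C) ((maximalIdeal A).map φ) hI
  constructor
  · intro h
    exact key.1 (isCM_of_ringEquiv e.symm h)
  · intro h
    exact isCM_of_ringEquiv e (key.2 h)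

end Ring

theorem stalkMap_comp_hom {X Y Z : Scheme.{u}} (f : X ⟶ Y) (g : Y ⟶ Z) (x : X) :
    ((f ≫ g).stalkMap x).hom = (f.stalkMap x).hom.comp (g.stalkMap (f x)).hom := by
  rw [Scheme.Hom.stalkMap_comp]
  rfl

/-- S9766 -/
theorem isCMAt_comp {X Y Z : Scheme.{u}} (f : X ⟶ Y) (g : Y ⟶ Z) (x : X)
    (hN : IsLocallyNoetherian ((f ≫ g).fiber (g (f x))))
    (hf : MoreMor.IsCMAt f x) (hg : MoreMor.IsCMAt g (f x)) : MoreMor.IsCMAt (f ≫ g) x := by
  obtain ⟨hf1, hf2⟩ := hf
  obtain ⟨hg1, hg2⟩ := hg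
  haveI : IsLocalHom (f.stalkMap x).hom := inferInstance
  haveI : IsLocalHom (g.stalkMap (f x)).hom := inferInstance
  obtain ⟨ef⟩ := nonempty_fiberStalkEquiv f x
  obtain ⟨eg⟩ := nonempty_fiberStalkEquiv g (f x)
  obtain ⟨efg⟩ := nonempty_fiberStalkEquiv (f ≫ g) x
  have hcomp := stalkMap_comp_hom f g x
  refine ⟨?_, ?_⟩
  · rw [hcomp]
    exact RingHom.Flat.comp hg1 hf1
  · have hB : IsCohenMacaulayLocalRing (Y.presheaf.stalk (f x) ⧸
        (maximalIdeal (Z.presheaf.stalk (g (f x)))).map (g.stalkMap (f x)).hom) :=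
      isCM_of_ringEquiv eg.symm hg2
    have hC : IsCohenMacaulayLocalRing (X.presheaf.stalk x ⧸
        (maximalIdeal (Y.presheaf.stalk (f x))).map (f.stalkMap x).hom) :=
      isCM_of_ringEquiv ef.symm hf2
    haveI : IsNoetherianRing (Y.presheaf.stalk (f x) ⧸
        (maximalIdeal (Z.presheaf.stalk (g (f x)))).map (g.stalkMap (f x)).hom) := hB.toIsNoetherian
    haveI : IsNoetherianRing (((f ≫ g).fiber ((f ≫ g) x)).presheaf.stalk ((f ≫ g).asFiber x)) := by
      haveI : IsLocallyNoetherian ((f ≫ g).fiber ((f ≫ g) x)) := hN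
      infer_instance
    have hI : Ideal.map ((f ≫ g).stalkMap x).hom (maximalIdeal (Z.presheaf.stalk ((f ≫ g) x))) =
        (maximalIdeal (Z.presheaf.stalk (g (f x)))).map
          ((f.stalkMap x).hom.comp (g.stalkMap (f x)).hom) := by
      rw [hcomp]
      rfl
    let e' : (X.presheaf.stalk x ⧸ (maximalIdeal (Z.presheaf.stalk (g (f x)))).map
          ((f.stalkMap x).hom.comp (g.stalkMap (f x)).hom)) ≃+*
        ((f ≫ g).fiber ((f ≫ g) x)).presheaf.stalk ((f ≫ g).asFiber x) :=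
      (Ideal.quotEquivOfEq hI.symm).trans efg
    haveI : IsNoetherianRing (X.presheaf.stalk x ⧸ (maximalIdeal (Z.presheaf.stalk (g (f x)))).map
          ((f.stalkMap x).hom.comp (g.stalkMap (f x)).hom)) :=
      isNoetherianRing_of_ringEquiv _ e'.symm
    have h := (cm_comp_iff (g.stalkMap (f x)).hom (f.stalkMap x).hom hf1).2 ⟨hB, hC⟩
    exact isCM_of_ringEquiv e' h

end Groth.Agent.Lib.helper17.CMAtComp

namespace Groth.Agent.Lib.helper17.CMAtComp

universe u

open Groth.Agent.Lib.helper6.CMFlat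

/-- S9767 (the ring-theoretic heart; flatness of `g` is supplied separately). -/
theorem isCMAt_of_comp {X Y Z : Scheme.{u}} (f : X ⟶ Y) (g : Y ⟶ Z) (x : X)
    (hNg : IsLocallyNoetherian (g.fiber (g (f x))))
    (h : MoreMor.IsCMAt (f ≫ g) x) (hfl : (f.stalkMap x).hom.Flat)
    (hgfl : (g.stalkMap (f x)).hom.Flat) :
    MoreMor.IsCMAt f x ∧ MoreMor.IsCMAt g (f x) := by
  obtain ⟨h1, h2⟩ := h
  haveI : IsLocalHom (f.stalkMap x).hom := inferInstance
  haveI : IsLocalHom (g.stalkMap (f x)).hom := inferInstance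
  obtain ⟨ef⟩ := nonempty_fiberStalkEquiv f x
  obtain ⟨eg⟩ := nonempty_fiberStalkEquiv g (f x)
  obtain ⟨efg⟩ := nonempty_fiberStalkEquiv (f ≫ g) x
  have hcomp := stalkMap_comp_hom f g x
  haveI : IsNoetherianRing ((g.fiber (g (f x))).presheaf.stalk (g.asFiber (f x))) := by
    haveI := hNg
    infer_instance
  haveI : IsNoetherianRing (Y.presheaf.stalk (f x) ⧸
      (maximalIdeal (Z.presheaf.stalk (g (f x)))).map (g.stalkMap (f x)).hom) :=
    isNoetherianRing_of_ringEquiv _ eg.symm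
  have hI : Ideal.map ((f ≫ g).stalkMap x).hom (maximalIdeal (Z.presheaf.stalk ((f ≫ g) x))) =
      (maximalIdeal (Z.presheaf.stalk (g (f x)))).map
        ((f.stalkMap x).hom.comp (g.stalkMap (f x)).hom) := by
    rw [hcomp]
    rfl
  let e' : (X.presheaf.stalk x ⧸ (maximalIdeal (Z.presheaf.stalk (g (f x)))).map
        ((f.stalkMap x).hom.comp (g.stalkMap (f x)).hom)) ≃+*
      ((f ≫ g).fiber ((f ≫ g) x)).presheaf.stalk ((f ≫ g).asFiber x) :=
    (Ideal.quotEquivOfEq hI.symm).trans efg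
  have hCM : IsCohenMacaulayLocalRing (X.presheaf.stalk x ⧸
      (maximalIdeal (Z.presheaf.stalk (g (f x)))).map
        ((f.stalkMap x).hom.comp (g.stalkMap (f x)).hom)) := isCM_of_ringEquiv e'.symm h2
  haveI : IsNoetherianRing (X.presheaf.stalk x ⧸
      (maximalIdeal (Z.presheaf.stalk (g (f x)))).map
        ((f.stalkMap x).hom.comp (g.stalkMap (f x)).hom)) := hCM.toIsNoetherian
  obtain ⟨hB, hC⟩ := (cm_comp_iff (g.stalkMap (f x)).hom (f.stalkMap x).hom hfl).1 hCM
  exact ⟨⟨hfl, isCM_of_ringEquiv ef hC⟩, ⟨hgfl, isCM_of_ringEquiv eg hB⟩⟩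

end Groth.Agent.Lib.helper17.CMAtComp
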