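import Mathlib
import Groth.Agent.Lib.helper9.FlatLocal
import Groth.Agent.Lib.helper9.Depth11
import Groth.Agent.Lib.helper9.Depth24
import Groth.Agent.Lib.helper9.Depth5

/-!
# Serre's condition `(S_k)` along flat maps of Noetherian rings

For a flat map `A → B` of Noetherian rings, a prime `p` of `A` and a prime `q` of the fibre ring
`p.Fiber B` with contraction `r` to `B`:
`depth B_r = depth A_p + depth (p.Fiber B)_q` and `dim B_r = dim A_p + dim (p.Fiber B)_q`.
Consequences: ascent of `(S_k)` when the fibres are `(S_k)`, descent along faithfully flat maps.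
-/

set_option autoImplicit false
set_option linter.style.haveILetI false
set_option linter.unusedSectionVars false

namespace Groth.Agent.Lib.helper17.FlatSk

open LocCoh IsLocalRing

universe u

theorem depth_self_eq_of_ringEquiv {R S : Type u} [CommRing R] [CommRing S] [IsLocalRing R]
    [IsLocalRing S] (σ : R ≃+* S) : depth R R = depth S S :=
  Groth.Agent.Lib.helper9.Depth.depth_eq_of_addEquiv σ σ.toAddEquiv (fun r x => by simp)

section Local

variable {A B : Type u} [CommRing A] [CommRing B] [Algebra A B] [IsNoetherianRing A]
  [IsNoetherianRing B] [Module.Flat A B]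
  (p : Ideal A) [p.IsPrime] (q : Ideal (p.Fiber B)) [q.IsPrime]

open Algebra.TensorProduct in
theorem depth_and_dim :
    depth (Localization.AtPrime (q.comap includeRight)) (Localization.AtPrime (q.comap includeRight)) =
      depth (Localization.AtPrime p) (Localization.AtPrime p) +
        depth (Localization.AtPrime q) (Localization.AtPrime q) ∧
    ringKrullDim (Localization.AtPrime (q.comap includeRight)) =
      ringKrullDim (Localization.AtPrime p) + ringKrullDim (Localization.AtPrime q) := by
  letI := Localization.AtPrime.algebraOfLiesOver p (q.comap includeRight)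
  haveI : IsLocalHom (algebraMap (Localization.AtPrime p)
      (Localization.AtPrime (q.comap includeRight))) := by
    rw [Localization.AtPrime.IsLiesOverAlgebra.algebraMap_eq]
    infer_instance
  have hI : p.map (algebraMap A (Localization.AtPrime (q.comap includeRight))) =
      (maximalIdeal (Localization.AtPrime p)).map
        (algebraMap (Localization.AtPrime p) (Localization.AtPrime (q.comap includeRight))) := by
    rw [← Localization.AtPrime.map_eq_maximalIdeal, Ideal.map_map,
      ← IsScalarTower.algebraMap_eq]
  let e := Ideal.Fiber.localizationAlgEquivQuotient p q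
  haveI : IsLocalRing (Localization.AtPrime (q.comap includeRight) ⧸
      p.map (algebraMap A (Localization.AtPrime (q.comap includeRight)))) :=
    e.toRingEquiv.isLocalRing
  constructor
  · have h1 := Groth.Agent.Lib.helper9.FlatLocal.depth_eq_add (R := Localization.AtPrime p)
      (S := Localization.AtPrime (q.comap includeRight))
      (p.map (algebraMap A (Localization.AtPrime (q.comap includeRight)))) hI
    rw [h1]
    congr 1
    exact (depth_self_eq_of_ringEquiv e.toRingEquiv).symm
  · have h1 := Groth.Agent.Lib.helper9.FlatLocal.ringKrullDim_eq_add (R := Localization.AtPrime p)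
      (S := Localization.AtPrime (q.comap includeRight))
    rw [h1]
    congr 1
    have h2 : ringKrullDim (EGA4.FibRing (Localization.AtPrime p)
        (Localization.AtPrime (q.comap includeRight))) =
        ringKrullDim (Localization.AtPrime (q.comap includeRight) ⧸
          p.map (algebraMap A (Localization.AtPrime (q.comap includeRight)))) :=
      ringKrullDim_eq_of_ringEquiv (Ideal.quotEquivOfEq hI.symm)
    rw [h2]
    exact (ringKrullDim_eq_of_ringEquiv e.toRingEquiv).symm

end Local

section Sk

open Groth.Agent.Lib.helper9.Depth in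
lemma hasSk_self_iff {A : Type u} [CommRing A] {k : ℕ} :
    HasSk k A A ↔ ∀ (P : Ideal A) [P.IsPrime],
      min (k : ℕ∞) P.height ≤ depth (Localization.AtPrime P) (Localization.AtPrime P) := by
  constructor
  · intro hS P _
    have h := hS P
    rw [depth_localizedModule_self, Module.supportDim_eq_of_equiv (localizedModuleSelfEquiv P),
      supportDim_self_localization] at h
    exact_mod_cast h
  · intro h P _
    rw [depth_localizedModule_self, Module.supportDim_eq_of_equiv (localizedModuleSelfEquiv P),
      supportDim_self_localization]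
    exact_mod_cast h P

lemma min_add_le' (k a b : ℕ∞) : min k (a + b) ≤ min k a + min k b := by
  rcases le_total k a with h | h
  · rw [min_eq_left h]
    exact le_trans (min_le_left _ _) le_self_add
  · rcases le_total k b with h' | h'
    · rw [min_eq_left h']
      exact le_trans (min_le_left _ _) le_add_self
    · rw [min_eq_right h, min_eq_right h']
      exact min_le_right _ _

variable {A B : Type u} [CommRing A] [CommRing B] [Algebra A B] [IsNoetherianRing A]
  [IsNoetherianRing B] [Module.Flat A B]

lemma transport (k : ℕ) (r r' : Ideal B) [hr : r.IsPrime] [hr' : r'.IsPrime] (e : r' = r)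
    (h : min (k : ℕ∞) r'.height ≤
      depth (Localization.AtPrime r') (Localization.AtPrime r')) :
    min (k : ℕ∞) r.height ≤ depth (Localization.AtPrime r) (Localization.AtPrime r) := by
  subst e
  exact h

open Algebra.TensorProduct in
theorem height_eq_add (p : Ideal A) [p.IsPrime] (q : Ideal (p.Fiber B)) [q.IsPrime] :
    (q.comap includeRight).height = p.height + q.height := by
  have hk := (depth_and_dim p q).2
  rw [IsLocalization.AtPrime.ringKrullDim_eq_height (q.comap includeRight)
      (Localization.AtPrime (q.comap includeRight)),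
    IsLocalization.AtPrime.ringKrullDim_eq_height p (Localization.AtPrime p),
    IsLocalization.AtPrime.ringKrullDim_eq_height q (Localization.AtPrime q)] at hk
  exact_mod_cast hk

open Algebra.TensorProduct in
theorem exists_fibre_prime (r : Ideal B) [hr : r.IsPrime] (p : Ideal A) [p.IsPrime]
    [r.LiesOver p] :
    ∃ (q : Ideal (p.Fiber B)) (_ : q.IsPrime), q.comap includeRight = r := by
  let x : p.primesOver B := ⟨r, hr, inferInstance⟩
  let q := (PrimeSpectrum.primesOverOrderIsoFiber A B p) x
  refine ⟨q.asIdeal, q.2, ?_⟩
  have h1 := (PrimeSpectrum.primesOverOrderIsoFiber A B p).symm_apply_apply x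
  have h2 := congrArg Subtype.val h1
  exact h2

/-- ascent of `(S_k)` along a flat map with `(S_k)` fibres. -/
theorem hasSk_of_flat (k : ℕ) (hA : HasSk k A A)
    (hfib : ∀ (p : Ideal A) [p.IsPrime], HasSk k (p.Fiber B) (p.Fiber B)) : HasSk k B B := by
  rw [hasSk_self_iff] at hA ⊢
  intro r hr
  haveI : r.LiesOver (r.under A) := ⟨rfl⟩
  obtain ⟨q, hq, hqr⟩ := exists_fibre_prime r (r.under A)
  refine transport k r _ hqr ?_
  have hd := (depth_and_dim (r.under A) q).1
  have hF := (hasSk_self_iff.1 (hfib (r.under A))) q
  have hAp := hA (r.under A)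
  rw [hd, height_eq_add (r.under A) q]
  exact le_trans (min_add_le' _ _ _) (add_le_add hAp hF)

end Sk

section Descent

variable {A B : Type u} [CommRing A] [CommRing B] [Algebra A B] [IsNoetherianRing A]
  [IsNoetherianRing B] [Module.Flat A B]

open Algebra.TensorProduct in
theorem isNoetherianRing_fibreLoc (p : Ideal A) [p.IsPrime] (q : Ideal (p.Fiber B)) [q.IsPrime] :
    IsNoetherianRing (Localization.AtPrime q) := by
  letI := Localization.AtPrime.algebraOfLiesOver p (q.comap includeRight)
  let e := Ideal.Fiber.localizationAlgEquivQuotient p q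
  exact isNoetherianRing_of_ringEquiv _ e.symm.toRingEquiv

theorem depth_fibreLoc_eq_zero (p : Ideal A) [p.IsPrime] (q : Ideal (p.Fiber B)) [q.IsPrime]
    (hq : q ∈ minimalPrimes (p.Fiber B)) :
    depth (Localization.AtPrime q) (Localization.AtPrime q) = 0 := by
  haveI := isNoetherianRing_fibreLoc p q
  have h1 := Groth.Agent.Lib.helper9.Depth.depth_le_supportDim (R := Localization.AtPrime q)
    (Localization.AtPrime q)
  rw [Module.supportDim_self_eq_ringKrullDim,
    IsLocalization.AtPrime.ringKrullDim_eq_height q (Localization.AtPrime q),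
    Ideal.height_eq_zero_iff.2 hq] at h1
  have h2 : depth (Localization.AtPrime q) (Localization.AtPrime q) ≤ 0 := by exact_mod_cast h1
  exact le_antisymm h2 bot_le

open Algebra.TensorProduct in
/-- descent of `(S_k)` along a faithfully flat map. -/
theorem hasSk_of_faithfullyFlat [Module.FaithfullyFlat A B] (k : ℕ) (hB : HasSk k B B) :
    HasSk k A A := by
  rw [hasSk_self_iff] at hB ⊢
  intro p hp
  obtain ⟨r0, hr0⟩ := PrimeSpectrum.comap_surjective_of_faithfullyFlat (A := A) (B := B) ⟨p, hp⟩
  haveI : r0.asIdeal.LiesOver p := ⟨(congrArg PrimeSpectrum.asIdeal hr0).symm⟩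
  obtain ⟨q0, hq0, _⟩ := exists_fibre_prime r0.asIdeal p
  haveI : Nontrivial (p.Fiber B) := by
    by_contra hcon
    rw [not_nontrivial_iff_subsingleton] at hcon
    exact hq0.ne_top (Subsingleton.elim _ _)
  obtain ⟨⟨q, hq⟩⟩ := Ideal.nonempty_minimalPrimes (bot_ne_top : (⊥ : Ideal (p.Fiber B)) ≠ ⊤)
  haveI : q.IsPrime := hq.1.1
  have hd := (depth_and_dim p q).1
  have hh := height_eq_add p q
  rw [Ideal.height_eq_zero_iff.2 hq, add_zero] at hh
  rw [depth_fibreLoc_eq_zero p q hq, add_zero] at hd
  have := hB (q.comap includeRight)
  rw [hd, hh] at this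
  exact this

end Descent

end Groth.Agent.Lib.helper17.FlatSk
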