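import Mathlib
import Groth.Agent.Lib.helper17.FlatSk
import Groth.Agent.Lib.helper6.AusBuchE
import Groth.Agent.Lib.helper5.RegLoc

/-!
# Cohen–Macaulay rings along flat maps with Cohen–Macaulay fibres
-/

set_option autoImplicit false
set_option linter.style.haveILetI false
set_option linter.unusedSectionVars false

namespace Groth.Agent.Lib.helper17.FlatCM

open LocCoh IsLocalRing

universe u

/-- a regular local ring is Cohen–Macaulay. -/
theorem isCM_of_regular (C : Type u) [CommRing C] [IsRegularLocalRing C] :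
    IsCohenMacaulayLocalRing C := by
  obtain ⟨d, hd⟩ := Groth.Agent.H5.RegLoc.exists_nat_dim C
  have h := Groth.Agent.Lib.helper6.AusBuchE.depth_eq_dim C d hd
  refine ⟨?_⟩
  rw [Module.supportDim_self_eq_ringKrullDim, hd, h]
  rfl

variable {A B : Type u} [CommRing A] [CommRing B] [Algebra A B] [IsNoetherianRing A]
  [IsNoetherianRing B] [Module.Flat A B]

lemma transport (r r' : Ideal B) [hr : r.IsPrime] [hr' : r'.IsPrime] (e : r' = r)
    (h : IsCohenMacaulayLocalRing (Localization.AtPrime r')) :
    IsCohenMacaulayLocalRing (Localization.AtPrime r) := by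
  subst e
  exact h

/-- ascent of Cohen–Macaulayness along a flat map with Cohen–Macaulay fibre local rings. -/
theorem isCM_of_flat (hA : IsCohenMacaulayRing A)
    (hfib : ∀ (p : Ideal A) [p.IsPrime] (q : Ideal (p.Fiber B)) [q.IsPrime],
      IsCohenMacaulayLocalRing (Localization.AtPrime q)) : IsCohenMacaulayRing B := by
  refine ⟨?_⟩
  intro r hr
  haveI : r.LiesOver (r.under A) := ⟨rfl⟩
  obtain ⟨q, hq, hqr⟩ := Groth.Agent.Lib.helper17.FlatSk.exists_fibre_prime r (r.under A)
  refine transport r _ hqr ?_
  obtain ⟨hd, hk⟩ := Groth.Agent.Lib.helper17.FlatSk.depth_and_dim (r.under A) q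
  have h1 := (hA.isCohenMacaulayLocalRing_localization (r.under A)).supportDim_eq_depth
  have h2 := (hfib (r.under A) q).supportDim_eq_depth
  rw [Module.supportDim_self_eq_ringKrullDim] at h1 h2
  refine ⟨?_⟩
  rw [Module.supportDim_self_eq_ringKrullDim, hk, hd, h1, h2]
  push_cast
  rfl

end Groth.Agent.Lib.helper17.FlatCM
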