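import Mathlib
import Groth.Prelude
import Groth.Agent.S2084
import Groth.Agent.Lib.helper17.FlatCM

/-!
# Chains of primes in Cohen–Macaulay rings
-/

set_option autoImplicit false
set_option linter.style.haveILetI false
set_option linter.unusedSectionVars false

namespace Groth.Agent.Lib.helper17.CMChain

open LocCoh

universe u

variable (R : Type u) [CommRing R] [IsCohenMacaulayRing R]

/-- in a Cohen–Macaulay ring, a covering of primes raises the height by exactly one. -/
theorem height_succ {x y : PrimeSpectrum R} (hxy : x ⋖ y) :
    y.asIdeal.height = x.asIdeal.height + 1 := by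
  set B := Localization.AtPrime y.asIdeal with hB
  haveI hCMB : IsCohenMacaulayLocalRing B :=
    IsCohenMacaulayRing.isCohenMacaulayLocalRing_localization y.asIdeal
  have hM : IsCohenMacaulayModule B B := hCMB.supportDim_eq_depth
  have hsupp : Module.support B B = Set.univ := by
    rw [Module.support_eq_zeroLocus]
    have : Module.annihilator B B = ⊥ := by
      rw [eq_bot_iff]
      intro b hb
      have := Module.mem_annihilator.mp hb (1 : B)
      simpa using this
    rw [this]
    simp
  have hle : x.asIdeal ≤ y.asIdeal := hxy.le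
  have hdisj : Disjoint (y.asIdeal.primeCompl : Set R) (x.asIdeal : Set R) := by
    rw [Set.disjoint_left]
    intro a ha hax
    exact ha (hle hax)
  let P : Ideal B := x.asIdeal.map (algebraMap R B)
  haveI hP : P.IsPrime := IsLocalization.isPrime_of_isPrime_disjoint y.asIdeal.primeCompl B
    x.asIdeal x.2 hdisj
  have hht : P.height = x.asIdeal.height :=
    IsLocalization.height_map_of_disjoint y.asIdeal.primeCompl x.asIdeal hdisj
  let e := IsLocalization.AtPrime.primeSpectrumOrderIso B y.asIdeal
  have h1 : e ⟨P, hP⟩ = (⟨x, hxy.le⟩ : Set.Iic y) := by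
    apply Subtype.ext
    apply PrimeSpectrum.ext
    exact IsLocalization.under_map_of_isPrime_disjoint y.asIdeal.primeCompl B x.2 hdisj
  have h2 : e (IsLocalRing.closedPoint B) = (⟨y, Set.self_mem_Iic⟩ : Set.Iic y) := by
    apply Subtype.ext
    apply PrimeSpectrum.ext
    exact Localization.AtPrime.under_maximalIdeal
  have hcov' : (⟨x, hxy.le⟩ : Set.Iic y) ⋖ ⟨y, Set.self_mem_Iic⟩ := by
    refine ⟨hxy.lt, ?_⟩
    intro c hc1 hc2
    exact hxy.2 (show x < c.1 from hc1) (show c.1 < y from hc2)
  have hcov : (⟨P, hP⟩ : PrimeSpectrum B) ⋖ IsLocalRing.closedPoint B := by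
    rw [← h1, ← h2] at hcov'
    exact (apply_covBy_apply_iff e).mp hcov'
  have h3 := Groth.Agent.S2084.height_succ hM hsupp _ _ hcov
  change (IsLocalRing.maximalIdeal B).height = P.height + 1 at h3
  rw [hht] at h3
  rw [← h3]
  have h4 := IsLocalization.AtPrime.ringKrullDim_eq_height y.asIdeal B
  rw [← IsLocalRing.maximalIdeal_height_eq_ringKrullDim] at h4
  exact (WithBot.coe_injective h4).symm

/-- along a saturated chain the height grows by the length. -/
theorem length_add_height (s : LTSeries (PrimeSpectrum R))
    (hsat : ∀ i : Fin s.length, s (Fin.castSucc i) ⋖ s (Fin.succ i)) :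
    (s.length : ℕ∞) + s.head.asIdeal.height = s.last.asIdeal.height := by
  have key : ∀ i : Fin (s.length + 1),
      (s i).asIdeal.height = ((i : ℕ) : ℕ∞) + s.head.asIdeal.height := by
    intro i
    induction i using Fin.induction with
    | zero =>
      simp only [Fin.val_zero, Nat.cast_zero, zero_add]
      rfl
    | succ i ih =>
      rw [height_succ R (hsat i), ih]
      simp only [Fin.val_succ, Fin.val_castSucc, Nat.cast_add, Nat.cast_one]
      ring
  have := key (Fin.last s.length)
  rw [Fin.val_last] at this
  exact this.symm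

/-- a Cohen–Macaulay ring is catenary. -/
theorem isCatenary : CAlg.IsCatenary R := by
  refine ⟨?_, ?_⟩
  · intro p q _
    have hfin : q.asIdeal.height ≠ ⊤ := Ideal.height_ne_top q.2.ne_top
    refine ⟨q.asIdeal.height.toNat, fun s _ hl => ?_⟩
    have h1 : (s.length : ℕ∞) ≤ Order.height s.last := Order.length_le_height_last
    rw [hl, ← PrimeSpectrum.height_eq_orderHeight] at h1
    have h2 : ((q.asIdeal.height.toNat : ℕ) : ℕ∞) = q.asIdeal.height := ENat.natCast_toNat hfin
    rw [← h2] at h1
    exact_mod_cast h1
  · intro s t hst hst' hs ht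
    have h1 := length_add_height R s hs
    have h2 := length_add_height R t ht
    rw [hst, hst'] at h1
    have hfin : t.head.asIdeal.height ≠ ⊤ := Ideal.height_ne_top t.head.2.ne_top
    have h3 : (s.length : ℕ∞) + t.head.asIdeal.height = (t.length : ℕ∞) + t.head.asIdeal.height := by
      rw [h1, h2]
    have h4 := (ENat.add_left_injective_of_ne_top hfin) h3
    exact_mod_cast h4

end Groth.Agent.Lib.helper17.CMChain
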