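import Mathlib
import Groth.Agent.Lib.helper17.FieldTensorCM
import Groth.Agent.Lib.helper17.FlatSk
import Groth.Agent.Lib.helper6.CMFlat

/-!
# Cohen–Macaulayness of a local ring and of the local rings of `A ⊗[k] K` over its closed point
-/

set_option autoImplicit false
set_option linter.style.haveILetI false
set_option linter.unusedSectionVars false

namespace Groth.Agent.Lib.helper17.CMFieldBC

open LocCoh IsLocalRing TensorProduct

universe u

variable (k A K : Type u) [Field k] [CommRing A] [Algebra k A] [Field K] [Algebra k K]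

/-- Noetherianity of `A ⊗[k] K`. -/
theorem isNoetherianRing_tensor [IsNoetherianRing A]
    (h : Algebra.EssFiniteType k A ∨ Algebra.EssFiniteType k K) : IsNoetherianRing (A ⊗[k] K) := by
  rcases h with h | h
  · haveI : Algebra.EssFiniteType K (K ⊗[k] A) := inferInstance
    haveI : IsNoetherianRing (K ⊗[k] A) := Algebra.EssFiniteType.isNoetherianRing K _
    exact isNoetherianRing_of_ringEquiv _ (Algebra.TensorProduct.comm k K A).toRingEquiv
  · haveI : Algebra.EssFiniteType A (A ⊗[k] K) := inferInstance
    exact Algebra.EssFiniteType.isNoetherianRing A _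

variable {k A K}

/-- arithmetic: cancel a finite summand. -/
lemma arith (a : WithBot ℕ∞) (b : ℕ∞) (c d : ℕ∞) (hd : d ≠ ⊤)
    (hcd : ((d : ℕ∞) : WithBot ℕ∞) = ((c : ℕ∞) : WithBot ℕ∞) ∨ True)
    (hc : (d : WithBot ℕ∞) = ((c : ℕ∞) : WithBot ℕ∞)) :
    a + (d : WithBot ℕ∞) = ((b + c : ℕ∞) : WithBot ℕ∞) ↔ a = ((b : ℕ∞) : WithBot ℕ∞) := by
  have hc' : d = c := by exact_mod_cast hc
  subst hc'
  induction a with
  | bot =>
    rw [WithBot.bot_add]
    constructor
    · intro h; exact absurd h WithBot.bot_ne_coe
    · intro h; exact absurd h WithBot.bot_ne_coe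
  | coe a =>
    rw [← WithBot.coe_add, WithBot.coe_inj, WithBot.coe_inj]
    constructor
    · intro h
      exact ENat.add_left_injective_of_ne_top hd h
    · intro h
      rw [h]

lemma depth_ne_top_of_eq (R : Type u) [CommRing R] [IsLocalRing R] [IsNoetherianRing R]
    (h : ringKrullDim R = ((depth R R : ℕ∞) : WithBot ℕ∞)) : depth R R ≠ ⊤ := by
  intro htop
  rw [htop] at h
  have := ringKrullDim_lt_top (R := R)
  rw [h] at this
  exact lt_irrefl _ this

theorem cm_iff [IsLocalRing A] [IsNoetherianRing A]
    (h : Algebra.EssFiniteType k A ∨ Algebra.EssFiniteType k K)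
    (Q : Ideal (A ⊗[k] K)) [hQ : Q.IsPrime]
    (hQm : Q.comap (algebraMap A (A ⊗[k] K)) = maximalIdeal A) :
    IsCohenMacaulayLocalRing A ↔ IsCohenMacaulayLocalRing (Localization.AtPrime Q) := by
  haveI : IsNoetherianRing (A ⊗[k] K) := isNoetherianRing_tensor k A K h
  haveI : Module.Flat A (A ⊗[k] K) := inferInstance
  let p : Ideal A := maximalIdeal A
  haveI : Q.LiesOver p := ⟨hQm.symm⟩
  obtain ⟨q, hq, rfl⟩ := FlatSk.exists_fibre_prime Q p
  obtain ⟨hd, hk⟩ := FlatSk.depth_and_dim p q
  -- the fibre is Cohen–Macaulay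
  let κ := p.ResidueField
  let e : p.Fiber (A ⊗[k] K) ≃+* κ ⊗[k] K :=
    (Algebra.TensorProduct.cancelBaseChange k A A κ K).toRingEquiv
  haveI : IsNoetherianRing (κ ⊗[k] K) := by
    refine isNoetherianRing_tensor k κ K ?_
    rcases h with h | h
    · left
      haveI := h
      exact Algebra.EssFiniteType.comp k A κ
    · exact Or.inr h
  have hκ : Algebra.EssFiniteType k κ ∨ Algebra.EssFiniteType k K := by
    rcases h with h | h
    · left
      haveI := h
      exact Algebra.EssFiniteType.comp k A κ
    · exact Or.inr h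
  have hfibCM : IsCohenMacaulayRing (p.Fiber (A ⊗[k] K)) :=
    Groth.Agent.Lib.helper6.CplQuot.isCMRing_of_ringEquiv e.symm
      (FieldTensorCM.isCM_tensor k κ K hκ)
  have hq' : IsCohenMacaulayLocalRing (Localization.AtPrime q) :=
    hfibCM.isCohenMacaulayLocalRing_localization q
  haveI : IsNoetherianRing (Localization.AtPrime q) := hq'.toIsNoetherian
  have hqd := hq'.supportDim_eq_depth
  rw [Module.supportDim_self_eq_ringKrullDim] at hqd
  -- A ≃ A_p
  let eA : A ≃+* Localization.AtPrime p :=
    (IsLocalization.atUnits A p.primeCompl (S := Localization.AtPrime p)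
      (fun x hx => IsLocalRing.notMem_maximalIdeal.1 hx)).toRingEquiv
  have hdfin : depth (Localization.AtPrime q) (Localization.AtPrime q) ≠ ⊤ :=
    depth_ne_top_of_eq _ hqd
  have key : IsCohenMacaulayLocalRing (Localization.AtPrime p) ↔
      IsCohenMacaulayLocalRing (Localization.AtPrime (q.comap Algebra.TensorProduct.includeRight)) := by
    constructor
    · intro hp
      refine ⟨?_⟩
      have h1 := hp.supportDim_eq_depth
      rw [Module.supportDim_self_eq_ringKrullDim] at h1 ⊢
      rw [hk, hd, h1, hqd]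
      push_cast
      rfl
    · intro hB
      refine ⟨?_⟩
      have h1 := hB.supportDim_eq_depth
      rw [Module.supportDim_self_eq_ringKrullDim] at h1 ⊢
      rw [hk, hd, hqd] at h1
      push_cast at h1
      exact (arith _ _ _ _ hdfin (Or.inr trivial) rfl).1 h1
  constructor
  · intro hA
    exact key.1 (Groth.Agent.Lib.helper6.CMFlat.isCM_of_ringEquiv eA hA)
  · intro hB
    exact Groth.Agent.Lib.helper6.CMFlat.isCM_of_ringEquiv eA.symm (key.2 hB)

end Groth.Agent.Lib.helper17.CMFieldBC
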