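import Mathlib
import Groth.Agent.Lib.helper17.FlatSk
import Groth.Agent.Lib.helper20.FiberLoc
import Groth.Agent.Lib.helper20.NormalDescent
import Groth.Agent.S2611

/-!
# Normality along flat maps of Noetherian rings with normal fibres
-/

set_option autoImplicit false
set_option linter.style.haveILetI false
set_option linter.unusedSectionVars false

namespace Groth.Agent.Lib.helper17.FlatNormal

open IsLocalRing

universe u

variable {A B : Type u} [CommRing A] [CommRing B] [Algebra A B] [IsNoetherianRing A]
  [IsNoetherianRing B] [Module.Flat A B]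

open Algebra.TensorProduct in
/-- the fibre local ring `B_r / p B_r` at `r = q ∩ B` is the local ring of the fibre at `q`. -/
theorem nonempty_fibLocRing_equiv (p : Ideal A) [p.IsPrime] (q : Ideal (p.Fiber B)) [q.IsPrime] :
    Nonempty (Localization.AtPrime q ≃+* EGA4.FibLocRing A B (q.comap includeRight)) := by
  letI := Localization.AtPrime.algebraOfLiesOver p (q.comap includeRight)
  let e := Ideal.Fiber.localizationAlgEquivQuotient p q
  have hp : (q.comap includeRight).comap (algebraMap A B) = p :=
    ((q.comap includeRight).over_def p).symm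
  have hI : p.map (algebraMap A (Localization.AtPrime (q.comap includeRight))) =
      ((q.comap includeRight).comap (algebraMap A B)).map
        (algebraMap A (Localization.AtPrime (q.comap includeRight))) := by
    rw [hp]
  exact ⟨e.toRingEquiv.trans (Ideal.quotEquivOfEq hI)⟩

lemma transport (r r' : Ideal B) [hr : r.IsPrime] [hr' : r'.IsPrime] (e : r' = r)
    (h : IsDomain (EGA4.FibLocRing A B r') ∧ IsIntegrallyClosed (EGA4.FibLocRing A B r')) :
    IsDomain (EGA4.FibLocRing A B r) ∧ IsIntegrallyClosed (EGA4.FibLocRing A B r) := by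
  subst e
  exact h

/-- if all fibre rings `p.Fiber B` are normal, the fibre local rings are integrally closed
domains. -/
theorem fibLocRing_normal
    (hfib : ∀ (p : Ideal A) [p.IsPrime], EGA4.IsNormalRing (p.Fiber B))
    (r : Ideal B) [r.IsPrime] :
    IsDomain (EGA4.FibLocRing A B r) ∧ IsIntegrallyClosed (EGA4.FibLocRing A B r) := by
  haveI : r.LiesOver (r.under A) := ⟨rfl⟩
  obtain ⟨q, hq, hqr⟩ := Groth.Agent.Lib.helper17.FlatSk.exists_fibre_prime r (r.under A)
  refine transport r _ hqr ?_
  obtain ⟨e⟩ := nonempty_fibLocRing_equiv (r.under A) q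
  obtain ⟨h1, h2⟩ := hfib (r.under A) q
  haveI : IsDomain (EGA4.FibLocRing A B (q.comap Algebra.TensorProduct.includeRight)) :=
    e.symm.toMulEquiv.isDomain (Localization.AtPrime q)
  haveI := h2
  exact ⟨inferInstance, @IsIntegrallyClosed.of_equiv (Localization.AtPrime q) _ _ _ e _⟩

/-- normal ascent: `A` normal, `A → B` flat with normal fibres, then `B` is normal. -/
theorem isNormalRing_of_flat (hA : EGA4.IsNormalRing A)
    (hfib : ∀ (p : Ideal A) [p.IsPrime], EGA4.IsNormalRing (p.Fiber B)) :
    EGA4.IsNormalRing B := by
  intro r hr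
  obtain ⟨h1, h2⟩ := hA (r.comap (algebraMap A B))
  exact Groth.Agent.S2611.result A B (fun q _ => fibLocRing_normal hfib q) r

/-- geometrically normal implies normal. -/
theorem isNormalRing_of_isGeomNormal (k : Type u) [Field k] (S : Type u) [CommRing S] [Algebra k S]
    (h : EGA4.IsGeomNormal k S) : EGA4.IsNormalRing S := by
  have h1 := h k (Module.Finite.self k)
  exact Groth.Agent.Lib.helper20.FiberLoc.normal_of_ringEquiv
    (Algebra.TensorProduct.lid k S).toRingEquiv h1

end Groth.Agent.Lib.helper17.FlatNormal
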