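import Mathlib
import Groth.Prelude.Def_Curv2
import Groth.Prelude.Def_CAlg
import Groth.Agent.Lib.helper7.StalkBC
import Groth.Agent.Lib.helper25.VarBC4
import Groth.Agent.Lib.helper25.VarBC2
import Groth.Agent.Lib.helper17.CMFieldBC

/-! Cohen–Macaulayness of local rings and base change to a field extension (schemes). -/

universe u

open AlgebraicGeometry CategoryTheory Limits TensorProduct

namespace Groth.Agent.Lib.helper17.CMFieldBCSch

set_option linter.style.haveILetI false

section F

variable {k : Type u} [Field k] {X : Scheme.{u}} (s : X ⟶ Spec (CommRingCat.of k)) (x : X)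
  [Algebra k (X.presheaf.stalk x)]
  (hφ : Spec.map (CommRingCat.ofHom (algebraMap k (X.presheaf.stalk x))) = X.fromSpecStalk x ≫ s)

include hφ in
/-- The local ring of `X_K` at a point over `x` is a localization of `𝒪_{X,x} ⊗_k K` at a prime
lying over the maximal ideal. -/
theorem exists_equiv_localization_over (K : Type u) [Field K] [Algebra k K]
    (z : ↥(pullback s (Spec.map (CommRingCat.ofHom (algebraMap k K)))))
    (hz : pullback.fst s (Spec.map (CommRingCat.ofHom (algebraMap k K))) z = x) :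
    ∃ (Q : Ideal ((X.presheaf.stalk x) ⊗[k] K)) (_ : Q.IsPrime),
      Q.comap (algebraMap (X.presheaf.stalk x) ((X.presheaf.stalk x) ⊗[k] K)) =
        IsLocalRing.maximalIdeal (X.presheaf.stalk x) ∧
      Nonempty (((pullback s (Spec.map (CommRingCat.ofHom (algebraMap k K)))).presheaf.stalk z) ≃+*
        Localization.AtPrime Q) := by
  let O := X.presheaf.stalk x
  let q := Spec.map (CommRingCat.ofHom (algebraMap k K))
  let j := X.fromSpecStalk x
  haveI : Flat j := Groth.Agent.Lib.helper7.StalkBC.flat_fromSpecStalk X x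
  let P := pullback j (pullback.fst s q)
  let p2 : P ⟶ pullback s q := pullback.snd j (pullback.fst s q)
  let E : P ≅ Spec (CommRingCat.of (O ⊗[k] K)) :=
    pullbackRightPullbackFstIso s q j ≪≫ pullback.congrHom hφ.symm rfl ≪≫ pullbackSpecIso k O K
  have hE : E.inv ≫ pullback.fst j (pullback.fst s q) =
      Spec.map (CommRingCat.ofHom (algebraMap O (O ⊗[k] K))) := by
    simp only [E, Iso.trans_inv, Category.assoc, pullbackRightPullbackFstIso_inv_fst,
      pullback.congrHom_inv]
    erw [pullback.lift_fst]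
    rw [Category.comp_id]
    exact pullbackSpecIso_inv_fst' k O K
  have hmem : pullback.fst s q z ∈ Set.range j := by
    rw [Scheme.range_fromSpecStalk, hz]; exact specializes_rfl
  obtain ⟨t₀, ht₀⟩ := hmem
  have ht₀' : t₀ = IsLocalRing.closedPoint O := by
    have h1 : j t₀ = j (IsLocalRing.closedPoint O) := by
      rw [ht₀, hz]; exact (Scheme.fromSpecStalk_closedPoint).symm
    exact j.isEmbedding.injective h1
  obtain ⟨t, htfst, ht⟩ := Scheme.Pullback.exists_preimage_pullback _ _ ht₀
  have ht' : p2 t = z := ht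
  subst ht'
  have hbij := Groth.Agent.Lib.helper7.StalkBC.bijective_stalkMap p2 t
  let e1 : (pullback s q).presheaf.stalk (p2 t) ≃+* P.presheaf.stalk t :=
    RingEquiv.ofBijective (p2.stalkMap t).hom hbij
  let Qp : Spec (CommRingCat.of (O ⊗[k] K)) := E.hom t
  let e2 : (Spec (CommRingCat.of (O ⊗[k] K))).presheaf.stalk Qp ≃+* P.presheaf.stalk t :=
    RingEquiv.ofBijective (E.hom.stalkMap t).hom
      (ConcreteCategory.bijective_of_isIso (E.hom.stalkMap t))
  letI alg : Algebra (O ⊗[k] K) ((Spec (CommRingCat.of (O ⊗[k] K))).presheaf.stalk Qp) :=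
    StructureSheaf.stalkAlgebra (O ⊗[k] K) Qp
  haveI : IsLocalization.AtPrime ((Spec (CommRingCat.of (O ⊗[k] K))).presheaf.stalk Qp)
      Qp.asIdeal :=
    StructureSheaf.IsLocalization.to_stalk (O ⊗[k] K) Qp
  let e3 : Localization.AtPrime Qp.asIdeal ≃+*
      (Spec (CommRingCat.of (O ⊗[k] K))).presheaf.stalk Qp :=
    (IsLocalization.algEquiv Qp.asIdeal.primeCompl (Localization.AtPrime Qp.asIdeal)
      ((Spec (CommRingCat.of (O ⊗[k] K))).presheaf.stalk Qp)).toRingEquiv
  refine ⟨Qp.asIdeal, Qp.isPrime, ?_, ⟨e1.trans (e2.symm.trans e3.symm)⟩⟩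
  -- the contraction
  have h1 : (Spec.map (CommRingCat.ofHom (algebraMap O (O ⊗[k] K)))) Qp =
      IsLocalRing.closedPoint O := by
    rw [← hE, Scheme.Hom.comp_apply]
    show pullback.fst j (pullback.fst s q) (E.inv (E.hom t)) = _
    have : E.inv (E.hom t) = t := by
      rw [← Scheme.Hom.comp_apply, Iso.hom_inv_id]; rfl
    rw [this, htfst, ht₀']
  have h2 := congrArg PrimeSpectrum.asIdeal h1
  exact h2

end F

open LocCoh

attribute [local instance] Curv2.stalkAlgebra

theorem essFiniteType_stalk (k : Type u) [Field k] (X : Scheme.{u})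
    [X.Over (Spec (CommRingCat.of k))] [LocallyOfFiniteType (X ↘ Spec (CommRingCat.of k))]
    (x : X) : Algebra.EssFiniteType k (X.presheaf.stalk x) := by
  obtain ⟨_, ⟨V, hV, rfl⟩, hxV, -⟩ :=
    X.isBasis_affineOpens.exists_subset_of_mem_open (Set.mem_univ x) isOpen_univ
  letI := Groth.Agent.Lib.helper25.VarBC.secAlgebra k X V
  haveI := Groth.Agent.Lib.helper25.VarBC.finiteType_secAlgebra k X V hV
  letI := X.presheaf.algebra_section_stalk ⟨x, hxV⟩
  haveI := hV.isLocalization_stalk ⟨x, hxV⟩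
  haveI := Groth.Agent.Lib.helper25.VarBC.secAlgebra_tower k X V x hxV
  haveI : Algebra.EssFiniteType Γ(X, V) (X.presheaf.stalk x) :=
    Algebra.EssFiniteType.of_isLocalization _ (hV.primeIdealOf ⟨x, hxV⟩).asIdeal.primeCompl
  exact Algebra.EssFiniteType.comp k Γ(X, V) (X.presheaf.stalk x)

theorem cm_iff (k : Type u) [Field k] (X : Scheme.{u}) [X.Over (Spec (CommRingCat.of k))]
    (k' : Type u) [Field k'] [Algebra k k'] (x' : ↥(Curv2.bc k X k'))
    [IsNoetherianRing (X.presheaf.stalk (Curv2.bcFst k X k' x'))]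
    (h : Algebra.EssFiniteType k (X.presheaf.stalk (Curv2.bcFst k X k' x')) ∨
      Algebra.EssFiniteType k k') :
    LocCoh.IsCohenMacaulayLocalRing ↥(X.presheaf.stalk (Curv2.bcFst k X k' x')) ↔
      LocCoh.IsCohenMacaulayLocalRing ↥((Curv2.bc k X k').presheaf.stalk x') := by
  obtain ⟨Q, hQ, hQm, ⟨e⟩⟩ := exists_equiv_localization_over (X ↘ Spec (CommRingCat.of k))
    (Curv2.bcFst k X k' x') (Groth.Agent.Lib.helper25.VarBC.hφ_stalk k X _) k' x' rfl
  rw [CMFieldBC.cm_iff h Q hQm]
  exact ⟨fun hc => Groth.Agent.Lib.helper6.CMFlat.isCM_of_ringEquiv e.symm hc,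
    fun hc => Groth.Agent.Lib.helper6.CMFlat.isCM_of_ringEquiv e hc⟩

end Groth.Agent.Lib.helper17.CMFieldBCSch
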