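import Mathlib
import Groth.Agent.Lib.helper6.CplMap

/-!
# Completions of isomorphic local rings are isomorphic
-/

set_option autoImplicit false
set_option linter.style.haveILetI false
set_option linter.unusedSectionVars false

namespace Groth.Agent.Lib.helper17.CplTransport

open IsLocalRing Groth.Agent.Lib.helper6.CplMap

universe u

section

variable (A A' : Type u) [CommRing A] [CommRing A'] [IsLocalRing A] [IsLocalRing A']
  [Algebra A A'] [IsLocalHom (algebraMap A A')]

lemma comap_pow (hb : Function.Bijective (algebraMap A A')) (n : ℕ) :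
    ((maximalIdeal A') ^ n).comap (algebraMap A A') = (maximalIdeal A) ^ n := by
  rw [← IsLocalRing.map_maximalIdeal_of_surjective (algebraMap A A') hb.2, ← Ideal.map_pow]
  exact Ideal.comap_map_of_bijective (algebraMap A A') hb

theorem cplMap_injective (hb : Function.Bijective (algebraMap A A')) :
    Function.Injective (cplMap A A') := by
  rw [injective_iff_map_eq_zero]
  intro x hx
  apply AdicCompletion.ext_evalₐ
  intro n
  have h1 : lvl A A' n x = 0 := by
    rw [← evalₐ_cplMap, hx, map_zero]
  rw [map_zero]
  induction x using AdicCompletion.induction_on with | h c =>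
  rw [lvl_mk, Ideal.Quotient.eq_zero_iff_mem] at h1
  rw [AdicCompletion.evalₐ_mk, Ideal.Quotient.eq_zero_iff_mem, ← comap_pow A A' hb n]
  exact h1

theorem cplMap_surjective (hb : Function.Bijective (algebraMap A A')) :
    Function.Surjective (cplMap A A') := by
  intro y
  induction y using AdicCompletion.induction_on with | h c =>
  choose g hg using hb.2
  have hd : ∀ n, g (c n) ≡ g (c (n + 1))
      [SMOD ((maximalIdeal A) ^ n • ⊤ : Submodule A A)] := by
    intro n
    rw [SModEq.sub_mem, smul_eq_mul, Ideal.mul_top, ← comap_pow A A' hb n, Ideal.mem_comap,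
      map_sub, hg, hg]
    have h2 := c.property (Nat.le_succ n)
    rw [SModEq.sub_mem, smul_eq_mul, Ideal.mul_top] at h2
    exact h2
  refine ⟨AdicCompletion.mk _ _ (AdicCompletion.AdicCauchySequence.mk _ _ (fun n => g (c n)) hd), ?_⟩
  apply AdicCompletion.ext_evalₐ
  intro n
  rw [evalₐ_cplMap, lvl_mk, AdicCompletion.evalₐ_mk]
  congr 1
  exact hg (c n)

end

theorem nonempty_cplEquiv {R R' : Type u} [CommRing R] [CommRing R'] [IsLocalRing R]
    [IsLocalRing R'] (e : R ≃+* R') :
    Nonempty (AdicCompletion (maximalIdeal R) R ≃+* AdicCompletion (maximalIdeal R') R') := by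
  letI : Algebra R R' := (e : R →+* R').toAlgebra
  have hb : Function.Bijective (algebraMap R R') := e.bijective
  haveI : IsLocalHom (algebraMap R R') := IsLocalHom.of_surjective _ hb.2
  exact ⟨RingEquiv.ofBijective (cplMap R R').toRingHom
    ⟨cplMap_injective R R' hb, cplMap_surjective R R' hb⟩⟩

end Groth.Agent.Lib.helper17.CplTransport
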