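import Mathlib
import Groth.Prelude.Def_CInt
import Groth.Prelude.Def_CAlg
import Groth.Agent.Lib.helper9.FlatLocal
import Groth.Agent.Lib.helper9.Depth5
import Groth.Agent.Lib.helper7.FibDim
import Groth.Agent.Lib.helper17.FlatSk

/-! Depth and dimension of local rings along a flat morphism of locally Noetherian schemes. -/

set_option autoImplicit false
set_option linter.style.haveILetI false

open AlgebraicGeometry CategoryTheory Limits IsLocalRing LocCoh

namespace Groth.Agent.Lib.helper17.CMMorDepth

universe u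

/-- pointwise depth and dimension formulas at `x = ι z`. -/
theorem depth_dim_fiber {X S : Scheme.{u}} (f : X ⟶ S) [IsLocallyNoetherian X]
    [IsLocallyNoetherian S] [Flat f] (s : S) (z : f.fiber s) :
    depth (X.presheaf.stalk (f.fiberι s z)) (X.presheaf.stalk (f.fiberι s z)) =
      depth (S.presheaf.stalk (f (f.fiberι s z))) (S.presheaf.stalk (f (f.fiberι s z))) +
        depth ((f.fiber s).presheaf.stalk z) ((f.fiber s).presheaf.stalk z) ∧
    ringKrullDim (X.presheaf.stalk (f.fiberι s z)) =
      ringKrullDim (S.presheaf.stalk (f (f.fiberι s z))) +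
        ringKrullDim ((f.fiber s).presheaf.stalk z) := by
  algebraize [(f.stalkMap (f.fiberι s z)).hom]
  haveI : IsLocalHom (algebraMap (S.presheaf.stalk (f (f.fiberι s z)))
      (X.presheaf.stalk (f.fiberι s z))) :=
    inferInstanceAs (IsLocalHom (f.stalkMap (f.fiberι s z)).hom)
  haveI : Module.Flat (S.presheaf.stalk (f (f.fiberι s z))) (X.presheaf.stalk (f.fiberι s z)) :=
    Flat.stalkMap f (f.fiberι s z)
  let e := Groth.Agent.Lib.helper7.FibDim.fiberStalkEquiv f s z
  have hd := Groth.Agent.Lib.helper9.FlatLocal.depth_eq_add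
    (R := S.presheaf.stalk (f (f.fiberι s z))) (S := X.presheaf.stalk (f.fiberι s z))
    (EGA4.mB _ _) rfl
  have hk := Groth.Agent.Lib.helper9.FlatLocal.ringKrullDim_eq_add
    (R := S.presheaf.stalk (f (f.fiberι s z))) (S := X.presheaf.stalk (f.fiberι s z))
  refine ⟨?_, ?_⟩
  · rw [hd]
    congr 1
    exact FlatSk.depth_self_eq_of_ringEquiv e
  · rw [hk]
    congr 1
    exact ringKrullDim_eq_of_ringEquiv e

/-- pointwise form at `x`. -/
theorem depth_dim_at {X S : Scheme.{u}} (f : X ⟶ S) [IsLocallyNoetherian X]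
    [IsLocallyNoetherian S] [Flat f] (x : X) :
    depth (X.presheaf.stalk x) (X.presheaf.stalk x) =
      depth (S.presheaf.stalk (f x)) (S.presheaf.stalk (f x)) +
        depth (CInt.fiberStalk f x) (CInt.fiberStalk f x) ∧
    ringKrullDim (X.presheaf.stalk x) =
      ringKrullDim (S.presheaf.stalk (f x)) + ringKrullDim (CInt.fiberStalk f x) := by
  have h := depth_dim_fiber f (f x) (f.asFiber x)
  have hx : f.fiberι (f x) (f.asFiber x) = x := f.fiberι_asFiber x
  have h2 : ∀ (x' : X) (e : x' = x),
      depth (X.presheaf.stalk x') (X.presheaf.stalk x') =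
        depth (X.presheaf.stalk x) (X.presheaf.stalk x) ∧
      depth (S.presheaf.stalk (f x')) (S.presheaf.stalk (f x')) =
        depth (S.presheaf.stalk (f x)) (S.presheaf.stalk (f x)) ∧
      ringKrullDim (X.presheaf.stalk x') = ringKrullDim (X.presheaf.stalk x) ∧
      ringKrullDim (S.presheaf.stalk (f x')) = ringKrullDim (S.presheaf.stalk (f x)) := by
    rintro _ rfl
    exact ⟨rfl, rfl, rfl, rfl⟩
  obtain ⟨e1, e2, e3, e4⟩ := h2 _ hx
  rw [e1, e2, e3, e4] at h
  exact h

/-- depth of `O_{X,x}` is at least the dimension of the (CM) fibre local ring. -/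
theorem le_depth {X S : Scheme.{u}} (f : X ⟶ S) [IsLocallyNoetherian X]
    [IsLocallyNoetherian S] [Flat f] (x : X)
    (hCM : LocCoh.IsCohenMacaulayLocalRing ↑(CInt.fiberStalk f x)) :
    ringKrullDim ↑(CInt.fiberStalk f x) ≤
      ((depth (X.presheaf.stalk x) (X.presheaf.stalk x) : ℕ∞) : WithBot ℕ∞) := by
  have h1 := hCM.supportDim_eq_depth
  rw [Module.supportDim_self_eq_ringKrullDim] at h1
  rw [h1, (depth_dim_at f x).1]
  exact_mod_cast le_add_self

end Groth.Agent.Lib.helper17.CMMorDepth
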