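import Mathlib
import Groth.Agent.Lib.helper17.CMMorDepth

/-! Relative codimension and flat morphisms. -/

set_option autoImplicit false
set_option linter.style.haveILetI false

open AlgebraicGeometry CategoryTheory Limits IsLocalRing LocCoh

namespace Groth.Agent.Lib.helper17.CMMorDepth

universe u

lemma cancel (a b c : WithBot ℕ∞) (ha : a ≠ ⊤) (ha' : a ≠ ⊥) (h : a + b ≤ a + c) : b ≤ c := by
  induction a with
  | bot => exact absurd rfl ha'
  | coe a =>
    have ha2 : a ≠ ⊤ := fun h' => ha (by rw [h']; rfl)
    induction b with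
    | bot => exact bot_le
    | coe b =>
      induction c with
      | bot =>
        rw [WithBot.add_bot] at h
        exact absurd (le_bot_iff.1 h) (by rw [← WithBot.coe_add]; exact WithBot.coe_ne_bot)
      | coe c =>
        rw [← WithBot.coe_add, ← WithBot.coe_add, WithBot.coe_le_coe] at h
        exact WithBot.coe_le_coe.2 ((ENat.add_le_add_iff_left ha2).1 h)

theorem fiber_dim_le_comp {X X' S : Scheme.{u}} (f : X ⟶ S) (g : X' ⟶ X)
    [IsLocallyNoetherian X] [IsLocallyNoetherian X'] [IsLocallyNoetherian S] [Flat f] [Flat g]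
    (y' : X') :
    ringKrullDim (CInt.fiberStalk f (g y')) ≤ ringKrullDim (CInt.fiberStalk (g ≫ f) y') := by
  have h1 := (depth_dim_at f (g y')).2
  have h2 := (depth_dim_at g y').2
  have h3 : ringKrullDim (X'.presheaf.stalk y') ≤
      ringKrullDim (S.presheaf.stalk (f (g y'))) +
        ringKrullDim (CInt.fiberStalk (g ≫ f) y') :=
    Groth.Agent.Lib.helper7.FibDim.ringKrullDim_stalk_le_add' (g ≫ f) y'
  rw [h2, h1, add_assoc] at h3
  have h4 := cancel _ _ _ ringKrullDim_ne_top ringKrullDim_ne_bot h3
  exact le_trans (le_add_of_nonneg_right ringKrullDim_nonneg_of_nontrivial) h4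

end Groth.Agent.Lib.helper17.CMMorDepth
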