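import Mathlib
import Groth.Prelude.Def_PCoh
import Groth.Prelude.Def_DRing2
import Groth.Agent.Lib.helper17.DRingPC

/-!
# Pseudo-coherence over a coherent ring (helper17)
-/

namespace Groth.Agent.Lib.helper17.CohRing

open CategoryTheory Limits Pretriangulated DerivedCategory
open Groth.Agent.Lib.helper17.PCohBasic Groth.Agent.Lib.helper17.PCohLES
open Groth.Agent.Lib.helper17.DRingPC Groth.Agent.Lib.helper17.PCohD
open Groth.Agent.Lib.helper17.PCohCoh Groth.Agent.Lib.helper17.PCohCohD

set_option linter.unusedSectionVars false
set_option linter.unusedVariables false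

attribute [local instance] HasDerivedCategory.standard

universe u

variable {R : Type u} [CommRing R]
  (hR : ∀ I : Ideal R, I.FG → Module.FinitePresentation R I)

include hR

/-- Over a coherent ring, finitely generated submodules of `Rⁿ` are finitely presented. -/
theorem fp_of_fg_submodule_pi : ∀ (n : ℕ) (N : Submodule R (Fin n → R)), N.FG →
    Module.FinitePresentation R N := by
  intro n
  induction n with
  | zero =>
    intro N _
    haveI : Subsingleton N := ⟨fun a b => Subtype.ext (Subsingleton.elim _ _)⟩
    infer_instance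
  | succ n ih =>
    intro N hN
    haveI : Module.Finite R N := Module.Finite.iff_fg.2 hN
    let g : N →ₗ[R] R := (LinearMap.proj 0).comp N.subtype
    have hI : (LinearMap.range g).FG := by
      rw [LinearMap.range_eq_map]; exact Module.Finite.fg_top.map g
    haveI : Module.FinitePresentation R (LinearMap.range g) := hR _ hI
    let g' : N →ₗ[R] LinearMap.range g := g.rangeRestrict
    have hg' : Function.Surjective g' := g.surjective_rangeRestrict
    have hker : (LinearMap.ker g').FG := Module.FinitePresentation.fg_ker g' hg'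
    haveI : Module.Finite R (LinearMap.ker g') := Module.Finite.iff_fg.2 hker
    let τ : (Fin (n + 1) → R) →ₗ[R] (Fin n → R) := LinearMap.pi (fun i => LinearMap.proj i.succ)
    let h : LinearMap.ker g' →ₗ[R] (Fin n → R) :=
      τ.comp (N.subtype.comp (LinearMap.ker g').subtype)
    have hinj : Function.Injective h := by
      intro x y hxy
      have hx : h (x - y) = 0 := by
        have := map_sub h x y
        rw [this, hxy, sub_self]
      have h0 : ((x - y : LinearMap.ker g') : N).1 0 = 0 := by
        have h1 : g' ((x - y : LinearMap.ker g') : N) = 0 := (x - y).2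
        have h2 : ((g' ((x - y : LinearMap.ker g') : N) : LinearMap.range g) : R) = 0 := by
          rw [h1]; rfl
        exact h2
      have h3 : ((x - y : LinearMap.ker g') : N).1 = 0 := by
        funext i
        refine Fin.cases h0 (fun j => ?_) i
        exact congrFun hx j
      have h4 : x - y = 0 := Subtype.ext (Subtype.ext h3)
      exact sub_eq_zero.1 h4
    let e : LinearMap.ker g' ≃ₗ[R] LinearMap.range h := LinearEquiv.ofInjective h hinj
    have hfg : (LinearMap.range h).FG := by
      rw [LinearMap.range_eq_map]; exact Module.Finite.fg_top.map h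
    haveI := ih _ hfg
    haveI : Module.FinitePresentation R (LinearMap.ker g') :=
      Module.FinitePresentation.of_equiv (M := LinearMap.range h) (N := LinearMap.ker g') e.symm
    exact Module.finitePresentation_of_ker g' hg'

theorem fp_of_fg_submodule_free (F : Type u) [AddCommGroup F] [Module R F] [Module.Finite R F]
    [Module.Free R F] (N : Submodule R F) (hN : N.FG) : Module.FinitePresentation R N := by
  let b := Module.Free.chooseBasis R F
  let e : F ≃ₗ[R] (Fin (Fintype.card (Module.Free.ChooseBasisIndex R F)) → R) :=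
    b.equivFun.trans (LinearEquiv.funCongrLeft R R (Fintype.equivFin _).symm)
  haveI := fp_of_fg_submodule_pi hR _ (N.map e.toLinearMap) (hN.map _)
  exact Module.FinitePresentation.of_equiv (e.submoduleMap N).symm

theorem fg_ker_of_free (E X : Type u) [AddCommGroup E] [Module R E] [Module.Finite R E]
    [AddCommGroup X] [Module R X] [Module.Finite R X] [Module.Free R X] (u : E →ₗ[R] X) :
    (LinearMap.ker u).FG := by
  have hfg : (LinearMap.range u).FG := by
    rw [LinearMap.range_eq_map]; exact Module.Finite.fg_top.map u
  haveI := fp_of_fg_submodule_free hR X _ hfg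
  have := Module.FinitePresentation.fg_ker u.rangeRestrict u.surjective_rangeRestrict
  rwa [LinearMap.ker_rangeRestrict] at this

lemma finite_kernel_cat {E X : ModuleCat.{u} R} (u : E ⟶ X) :
    Module.Finite R (kernel u : ModuleCat.{u} R) ↔ (LinearMap.ker u.hom).FG := by
  have e := (ModuleCat.kernelIsoKer u).toLinearEquiv
  rw [← Module.Finite.iff_fg]
  exact ⟨fun h => Module.Finite.equiv e, fun h => Module.Finite.equiv e.symm⟩

theorem FF_hcoh_of_coherent : ∀ (X E : ModuleCat.{u} R) (u : E ⟶ X), FF R X → FF R E →
    PCoh.IsOfFiniteType (FF R) (kernel u) := by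
  intro X E u ⟨hX1, hX2⟩ ⟨hE1, hE2⟩
  have h := fg_ker_of_free hR E X u.hom
  have : Module.Finite R (kernel u : ModuleCat.{u} R) := (finite_kernel_cat hR u).2 h
  exact isOfFiniteType_of_finite R _

theorem preCoh_of_fp (X : ModuleCat.{u} R) [Module.FinitePresentation R X] :
    PreCoh (FF R) X := by
  obtain ⟨n, f, hf⟩ := Module.Finite.exists_fin' R X
  have hS := shortExact_of_surjective R X f hf
  have hker := Module.FinitePresentation.fg_ker f hf
  have h2 : Module.Finite R (kernel (ModuleCat.ofHom f) : ModuleCat.{u} R) :=
    (finite_kernel_iff R X f).2 hker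
  exact preCoh_of_exact_epi (FF R) (FF_prod R) (FF_hql R) _ hS.exact hS.epi_g
    (isOfFiniteType_of_finite R _)
    (preCoh_of_prop (FF R) (FF_hcoh_of_coherent hR) ⟨inferInstance, inferInstance⟩)

omit hR in
theorem fp_of_finite_preCoh (X : ModuleCat.{u} R) [Module.Finite R X] (h : PreCoh (FF R) X) :
    Module.FinitePresentation R X := by
  obtain ⟨n, f, hf⟩ := Module.Finite.exists_fin' R X
  have h1 := h (ModuleCat.of R (Fin n → R)) (ModuleCat.ofHom f) ⟨inferInstance, inferInstance⟩
  have h2 : Module.Finite R (kernel (ModuleCat.ofHom f) : ModuleCat.{u} R) :=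
    (isOfFiniteType_FF_iff R _).1 h1
  exact Module.finitePresentation_of_free_of_surjective f hf ((finite_kernel_iff R X f).1 h2)

theorem NPC_iff_of_coherent (m : ℤ) (K : Dual.D R) (b : ℤ)
    (hb : ∀ i : ℤ, b < i → IsZero ((DerivedCategory.homologyFunctor (ModuleCat.{u} R) i).obj K)) :
    NPC (FF R) m K ↔
      Module.Finite R ((DerivedCategory.homologyFunctor (ModuleCat.{u} R) m).obj K) ∧
      ∀ i : ℤ, m < i → Module.FinitePresentation R
        ((DerivedCategory.homologyFunctor (ModuleCat.{u} R) i).obj K) := by
  rw [NPC_iff_coh (FF R) (FF_hcoh_of_coherent hR) (FF_prod R) (FF_hql R) m K b hb]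
  constructor
  · rintro ⟨h0, h1⟩
    refine ⟨(isOfFiniteType_FF_iff R _).1 h0, fun i hi => ?_⟩
    have := (isOfFiniteType_FF_iff R _).1 (h1 i hi).1
    exact fp_of_finite_preCoh _ (h1 i hi).2
  · rintro ⟨h0, h1⟩
    refine ⟨(isOfFiniteType_FF_iff R _).2 h0, fun i hi => ?_⟩
    have := h1 i hi
    exact ⟨(isOfFiniteType_FF_iff R _).2 inferInstance, preCoh_of_fp hR _⟩

end Groth.Agent.Lib.helper17.CohRing
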