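import Mathlib
import Groth.Prelude.Def_EGA4b
import Groth.Agent.Lib.helper6.CplMap
import Groth.Agent.Lib.helper24.AdicLocal

/-!
# `B^ ≃ ((B ⊗_A Â)_{n'})^` (EGA IV 7.?)
-/

set_option autoImplicit false
set_option linter.style.haveILetI false
set_option linter.unusedSectionVars false

namespace Groth.Agent.Lib.helper17.CplBaseChange

open IsLocalRing TensorProduct Groth.Agent.Lib.helper6.CplMap

universe u

section General

variable (A A' : Type u) [CommRing A] [CommRing A'] [IsLocalRing A] [IsLocalRing A']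
  [Algebra A A'] [IsLocalHom (algebraMap A A')]

/-- criterion for the map on completions to be bijective. -/
theorem cplMap_bijective
    (ha : ∀ n : ℕ, ((maximalIdeal A') ^ n).comap (algebraMap A A') ≤ (maximalIdeal A) ^ n)
    (hb : ∀ (n : ℕ) (y : A'), ∃ x : A, algebraMap A A' x - y ∈ (maximalIdeal A') ^ n) :
    Function.Bijective (cplMap A A') := by
  constructor
  · rw [injective_iff_map_eq_zero]
    intro x hx
    apply AdicCompletion.ext_evalₐ
    intro n
    have h1 : lvl A A' n x = 0 := by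
      rw [← evalₐ_cplMap, hx, map_zero]
    rw [map_zero]
    induction x using AdicCompletion.induction_on with | h c =>
    rw [lvl_mk, Ideal.Quotient.eq_zero_iff_mem] at h1
    rw [AdicCompletion.evalₐ_mk, Ideal.Quotient.eq_zero_iff_mem]
    exact ha n h1
  · intro y
    induction y using AdicCompletion.induction_on with | h c =>
    choose g hg using hb
    have hc : ∀ n, c n - c (n + 1) ∈ (maximalIdeal A') ^ n := by
      intro n
      have h2 := c.property (Nat.le_succ n)
      rw [SModEq.sub_mem, smul_eq_mul, Ideal.mul_top] at h2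
      exact h2
    have hd : ∀ n, g n (c n) ≡ g (n + 1) (c (n + 1))
        [SMOD ((maximalIdeal A) ^ n • ⊤ : Submodule A A)] := by
      intro n
      rw [SModEq.sub_mem, smul_eq_mul, Ideal.mul_top]
      apply ha n
      rw [Ideal.mem_comap, map_sub]
      have e1 := hg n (c n)
      have e2 := Ideal.pow_le_pow_right (Nat.le_succ n) (hg (n + 1) (c (n + 1)))
      have e3 := hc n
      have : algebraMap A A' (g n (c n)) - algebraMap A A' (g (n + 1) (c (n + 1))) =
          (algebraMap A A' (g n (c n)) - c n) + (c n - c (n + 1)) -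
            (algebraMap A A' (g (n + 1) (c (n + 1))) - c (n + 1)) := by ring
      rw [this]
      exact sub_mem (add_mem e1 e3) e2
    refine ⟨AdicCompletion.mk _ _
      (AdicCompletion.AdicCauchySequence.mk _ _ (fun n => g n (c n)) hd), ?_⟩
    apply AdicCompletion.ext_evalₐ
    intro n
    rw [evalₐ_cplMap, lvl_mk, AdicCompletion.evalₐ_mk, Ideal.Quotient.eq]
    exact hg n (c n)

end General

section Loc

variable {R : Type u} [CommRing R] (P : Ideal R) [P.IsPrime] (n : ℕ)
  (hinv : ∀ s : R, s ∉ P → ∃ t : R, s * t - 1 ∈ P ^ n)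

lemma maximalIdeal_pow_eq :
    (maximalIdeal (Localization.AtPrime P)) ^ n =
      (P ^ n).map (algebraMap R (Localization.AtPrime P)) := by
  rw [Ideal.map_pow, Localization.AtPrime.map_eq_maximalIdeal]

include hinv in
lemma mem_pow_of_algebraMap_mem (z : R)
    (hz : algebraMap R (Localization.AtPrime P) z ∈ (maximalIdeal (Localization.AtPrime P)) ^ n) :
    z ∈ P ^ n := by
  rw [maximalIdeal_pow_eq, IsLocalization.mem_map_algebraMap_iff P.primeCompl] at hz
  obtain ⟨⟨j, s⟩, hjs⟩ := hz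
  rw [← map_mul, IsLocalization.eq_iff_exists P.primeCompl] at hjs
  obtain ⟨s', hs'⟩ := hjs
  have hσ : (s' : R) * s ∉ P := (s' * s).2
  obtain ⟨t, ht⟩ := hinv _ hσ
  have h2 : (s' : R) * (z * s) ∈ P ^ n := by
    rw [hs']
    exact Ideal.mul_mem_left _ _ j.2
  have h3 : z = z * (s' * s * t) - z * ((s' : R) * s * t - 1) := by ring
  rw [h3]
  apply sub_mem
  · have : z * ((s' : R) * s * t) = (s' * (z * s)) * t := by ring
    rw [this]
    exact Ideal.mul_mem_right _ _ h2
  · exact Ideal.mul_mem_left _ _ ht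

include hinv in
lemma exists_approx_loc (y : Localization.AtPrime P) :
    ∃ x : R, algebraMap R (Localization.AtPrime P) x - y ∈
      (maximalIdeal (Localization.AtPrime P)) ^ n := by
  obtain ⟨x₁, s, rfl⟩ := IsLocalization.exists_mk'_eq P.primeCompl y
  obtain ⟨t, ht⟩ := hinv s s.2
  refine ⟨x₁ * t, ?_⟩
  have e1 : algebraMap R (Localization.AtPrime P) (x₁ * t) -
      IsLocalization.mk' (Localization.AtPrime P) x₁ s =
      IsLocalization.mk' (Localization.AtPrime P) x₁ s *
        algebraMap R (Localization.AtPrime P) (s * t - 1) := by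
    rw [map_sub, map_mul, map_mul, map_one]
    have := IsLocalization.mk'_spec (Localization.AtPrime P) x₁ s
    linear_combination (-(algebraMap R (Localization.AtPrime P) t)) * this
  rw [e1, maximalIdeal_pow_eq]
  exact Ideal.mul_mem_left _ _ (Ideal.mem_map_of_mem _ ht)

end Loc

section Specific

variable (A B : Type u) [CommRing A] [CommRing B] [IsNoetherianRing A] [IsNoetherianRing B]
  [IsLocalRing A] [IsLocalRing B] [Algebra A B] [IsLocalHom (algebraMap A B)]

lemma exists_approx (n : ℕ) (x : EGA4.Cpl A) :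
    ∃ a : A, x - algebraMap A (EGA4.Cpl A) a ∈
      ((maximalIdeal A) ^ n).map (algebraMap A (EGA4.Cpl A)) := by
  have fg : (maximalIdeal A).FG := (maximalIdeal A).fg_of_isNoetherianRing
  obtain ⟨a, ha⟩ := Ideal.Quotient.mk_surjective (x.1 n)
  refine ⟨a, ?_⟩
  rw [← Submodule.restrictScalars_mem A, ← Ideal.smul_top_eq_map]
  have : x - (algebraMap A (AdicCompletion (maximalIdeal A) A)) a ∈
      (maximalIdeal A) ^ n • (⊤ : Submodule A (AdicCompletion (maximalIdeal A) A)) := by
    rw [AdicCompletion.algebraMap_apply, AdicCompletion.pow_smul_top_eq_ker_eval fg]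
    simpa [AdicCompletion.eval, sub_eq_zero] using ha.symm
  exact this

lemma map_pow_le (n : ℕ) :
    ((maximalIdeal A) ^ n).map (algebraMap A B) ≤ (maximalIdeal B) ^ n := by
  rw [Ideal.map_pow]
  exact Ideal.pow_right_mono (IsLocalRing.map_maximalIdeal_le (algebraMap A B)) n

lemma tmul_mem (n : ℕ) (x : B) (μ : EGA4.Cpl A)
    (hμ : μ ∈ ((maximalIdeal A) ^ n).map (algebraMap A (EGA4.Cpl A))) :
    x ⊗ₜ[A] μ ∈ ((maximalIdeal B) ^ n).map (algebraMap B (B ⊗[A] EGA4.Cpl A)) := by
  refine Submodule.span_induction (p := fun μ _ => x ⊗ₜ[A] μ ∈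
    ((maximalIdeal B) ^ n).map (algebraMap B (B ⊗[A] EGA4.Cpl A))) ?_ ?_ ?_ ?_ hμ
  · rintro _ ⟨t, ht, rfl⟩
    have h1 : x ⊗ₜ[A] (algebraMap A (EGA4.Cpl A) t) =
        algebraMap B (B ⊗[A] EGA4.Cpl A) (algebraMap A B t * x) := by
      rw [Algebra.TensorProduct.algebraMap_apply, Algebra.algebraMap_self, RingHom.id_apply,
        Algebra.algebraMap_eq_smul_one, ← TensorProduct.smul_tmul, Algebra.smul_def]
    rw [h1]
    apply Ideal.mem_map_of_mem
    exact Ideal.mul_mem_right _ _ (map_pow_le A B n (Ideal.mem_map_of_mem _ ht))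
  · rw [TensorProduct.tmul_zero]
    exact zero_mem _
  · intro μ₁ μ₂ _ _ h₁ h₂
    rw [TensorProduct.tmul_add]
    exact add_mem h₁ h₂
  · intro r μ₁ _ h₁
    have : x ⊗ₜ[A] (r • μ₁) = ((1 : B) ⊗ₜ[A] r) * (x ⊗ₜ[A] μ₁) := by
      rw [Algebra.TensorProduct.tmul_mul_tmul, one_mul, smul_eq_mul]
    rw [this]
    exact Ideal.mul_mem_left _ _ h₁

lemma exists_approx_tensor (n : ℕ) (z : B ⊗[A] EGA4.Cpl A) :
    ∃ b : B, z - algebraMap B (B ⊗[A] EGA4.Cpl A) b ∈
      ((maximalIdeal B) ^ n).map (algebraMap B (B ⊗[A] EGA4.Cpl A)) := by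
  induction z using TensorProduct.induction_on with
  | zero => exact ⟨0, by simp⟩
  | tmul x μ =>
    obtain ⟨a, ha⟩ := exists_approx A n μ
    refine ⟨algebraMap A B a * x, ?_⟩
    have h1 : x ⊗ₜ[A] (algebraMap A (EGA4.Cpl A) a) =
        algebraMap B (B ⊗[A] EGA4.Cpl A) (algebraMap A B a * x) := by
      rw [Algebra.TensorProduct.algebraMap_apply, Algebra.algebraMap_self, RingHom.id_apply,
        Algebra.algebraMap_eq_smul_one, ← TensorProduct.smul_tmul, Algebra.smul_def]
    rw [← h1, ← TensorProduct.tmul_sub]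
    exact tmul_mem A B n x _ ha
  | add z₁ z₂ h₁ h₂ =>
    obtain ⟨b₁, hb₁⟩ := h₁
    obtain ⟨b₂, hb₂⟩ := h₂
    refine ⟨b₁ + b₂, ?_⟩
    have : z₁ + z₂ - algebraMap B (B ⊗[A] EGA4.Cpl A) (b₁ + b₂) =
        (z₁ - algebraMap B (B ⊗[A] EGA4.Cpl A) b₁) +
          (z₂ - algebraMap B (B ⊗[A] EGA4.Cpl A) b₂) := by
      rw [map_add]; ring
    rw [this]
    exact add_mem hb₁ hb₂

variable (n' : Ideal (B ⊗[A] EGA4.Cpl A)) [n'.IsPrime]
  (h1 : n'.comap (algebraMap B (B ⊗[A] EGA4.Cpl A)) = maximalIdeal B)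

include h1 in
lemma eq_map_maximalIdeal :
    n' = (maximalIdeal B).map (algebraMap B (B ⊗[A] EGA4.Cpl A)) := by
  apply le_antisymm
  · intro z hz
    obtain ⟨b, hb⟩ := exists_approx_tensor A B 1 z
    rw [pow_one] at hb
    have hle : (maximalIdeal B).map (algebraMap B (B ⊗[A] EGA4.Cpl A)) ≤ n' := by
      rw [Ideal.map_le_iff_le_comap, h1]
    have h2 : algebraMap B (B ⊗[A] EGA4.Cpl A) b ∈ n' := by
      have := sub_mem hz (hle hb)
      rwa [sub_sub_cancel] at this
    have h3 : b ∈ maximalIdeal B := by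
      rw [← h1]; exact h2
    have := add_mem hb (Ideal.mem_map_of_mem (algebraMap B (B ⊗[A] EGA4.Cpl A)) h3)
    rwa [sub_add_cancel] at this
  · rw [Ideal.map_le_iff_le_comap, h1]

include h1 in
/-- elements outside `n'` are invertible modulo `n'^n`. -/
lemma exists_inv_mod (n : ℕ) (s : B ⊗[A] EGA4.Cpl A) (hs : s ∉ n') :
    ∃ t : B ⊗[A] EGA4.Cpl A, s * t - 1 ∈ n' ^ n := by
  -- first modulo `n'`
  obtain ⟨b, hb⟩ := exists_approx_tensor A B 1 s
  rw [pow_one, ← eq_map_maximalIdeal A B n' h1] at hb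
  have hbu : IsUnit b := by
    by_contra hnu
    have h3 : b ∈ maximalIdeal B := (IsLocalRing.mem_maximalIdeal b).2 hnu
    have h4 : algebraMap B (B ⊗[A] EGA4.Cpl A) b ∈ n' := by
      have : b ∈ n'.comap (algebraMap B (B ⊗[A] EGA4.Cpl A)) := h1 ▸ h3
      exact this
    apply hs
    have := add_mem hb h4
    rwa [sub_add_cancel] at this
  obtain ⟨u, rfl⟩ := hbu
  set t₀ := algebraMap B (B ⊗[A] EGA4.Cpl A) ((u⁻¹ : Bˣ) : B) with ht₀
  have h5 : s * t₀ - 1 ∈ n' := by
    have h6 : s * t₀ - 1 = (s - algebraMap B (B ⊗[A] EGA4.Cpl A) (u : B)) * t₀ := by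
      rw [sub_mul, ht₀, ← map_mul, Units.mul_inv, map_one]
    rw [h6]
    exact Ideal.mul_mem_right _ _ hb
  -- now powers
  obtain ⟨w, hw⟩ := sub_dvd_pow_sub_pow (1 : B ⊗[A] EGA4.Cpl A) (1 - s * t₀) n
  rw [one_pow, sub_sub_cancel] at hw
  refine ⟨t₀ * w, ?_⟩
  have h7 : s * (t₀ * w) - 1 = - (1 - s * t₀) ^ n := by
    rw [← mul_assoc, ← hw]; ring
  rw [h7]
  apply neg_mem
  apply Ideal.pow_mem_pow
  have := neg_mem h5
  rwa [neg_sub] at this

include h1 in
theorem nonempty_cplEquiv :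
    Nonempty (EGA4.Cpl B ≃+* EGA4.Cpl (Localization.AtPrime n')) := by
  have hmtop : maximalIdeal A ≠ ⊤ := Ideal.IsPrime.ne_top inferInstance
  haveI : IsLocalRing (AdicCompletion (maximalIdeal A) A) :=
    Groth.Agent.Lib.helper24.AdicLocal.isLocalRing A (maximalIdeal A) hmtop
  haveI : Module.Flat A (AdicCompletion (maximalIdeal A) A) :=
    AdicCompletion.flat_of_isNoetherian (maximalIdeal A)
  haveI : IsLocalHom (algebraMap A (AdicCompletion (maximalIdeal A) A)) :=
    Groth.Agent.Lib.helper24.AdicLocal.isLocalHom A (maximalIdeal A) hmtop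
  haveI : Module.FaithfullyFlat A (EGA4.Cpl A) := Module.FaithfullyFlat.of_flat_of_isLocalHom
  haveI : Module.FaithfullyFlat B (B ⊗[A] EGA4.Cpl A) := inferInstance
  have hn' := eq_map_maximalIdeal A B n' h1
  have hpow : ∀ n : ℕ, n' ^ n = ((maximalIdeal B) ^ n).map (algebraMap B (B ⊗[A] EGA4.Cpl A)) := by
    intro n
    rw [Ideal.map_pow, ← hn']
  have hcomp : ∀ b : B, algebraMap B (Localization.AtPrime n') b =
      algebraMap (B ⊗[A] EGA4.Cpl A) (Localization.AtPrime n')
        (algebraMap B (B ⊗[A] EGA4.Cpl A) b) := fun b =>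
    IsScalarTower.algebraMap_apply B (B ⊗[A] EGA4.Cpl A) (Localization.AtPrime n') b
  have hcomapC : ∀ (n : ℕ) (z : B ⊗[A] EGA4.Cpl A),
      algebraMap (B ⊗[A] EGA4.Cpl A) (Localization.AtPrime n') z ∈
        (maximalIdeal (Localization.AtPrime n')) ^ n → z ∈ n' ^ n := fun n z hz =>
    mem_pow_of_algebraMap_mem n' n (exists_inv_mod A B n' h1 n) z hz
  haveI : IsLocalHom (algebraMap B (Localization.AtPrime n')) := by
    constructor
    intro b hb
    by_contra hnu
    have h3 : b ∈ maximalIdeal B := (IsLocalRing.mem_maximalIdeal b).2 hnu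
    have h4 : algebraMap B (B ⊗[A] EGA4.Cpl A) b ∈ n' := by
      have : b ∈ n'.comap (algebraMap B (B ⊗[A] EGA4.Cpl A)) := h1 ▸ h3
      exact this
    have h5 : algebraMap B (Localization.AtPrime n') b ∈ maximalIdeal (Localization.AtPrime n') := by
      rw [hcomp, ← Localization.AtPrime.map_eq_maximalIdeal (I := n')]
      exact Ideal.mem_map_of_mem _ h4
    exact (IsLocalRing.mem_maximalIdeal _).1 h5 hb
  have ha : ∀ n : ℕ, ((maximalIdeal (Localization.AtPrime n')) ^ n).comap
      (algebraMap B (Localization.AtPrime n')) ≤ (maximalIdeal B) ^ n := by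
    intro n b hb
    rw [Ideal.mem_comap, hcomp] at hb
    have h2 := hcomapC n _ hb
    rw [hpow] at h2
    have h3 : b ∈ (((maximalIdeal B) ^ n).map (algebraMap B (B ⊗[A] EGA4.Cpl A))).comap
        (algebraMap B (B ⊗[A] EGA4.Cpl A)) := h2
    rwa [Ideal.comap_map_eq_self_of_faithfullyFlat] at h3
  have hb : ∀ (n : ℕ) (y : Localization.AtPrime n'),
      ∃ x : B, algebraMap B (Localization.AtPrime n') x - y ∈
        (maximalIdeal (Localization.AtPrime n')) ^ n := by
    intro n y
    obtain ⟨z, hz⟩ := exists_approx_loc n' n (exists_inv_mod A B n' h1 n) y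
    obtain ⟨b, hb⟩ := exists_approx_tensor A B n z
    rw [← hpow] at hb
    refine ⟨b, ?_⟩
    have h4 : algebraMap (B ⊗[A] EGA4.Cpl A) (Localization.AtPrime n')
        (z - algebraMap B (B ⊗[A] EGA4.Cpl A) b) ∈
        (maximalIdeal (Localization.AtPrime n')) ^ n := by
      rw [maximalIdeal_pow_eq]
      exact Ideal.mem_map_of_mem _ hb
    rw [map_sub, ← hcomp] at h4
    have h5 := (Ideal.sub_mem _ hz h4)
    rwa [sub_sub_sub_cancel_left] at h5
  exact ⟨RingEquiv.ofBijective (cplMap B (Localization.AtPrime n')).toRingHom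
    (cplMap_bijective B (Localization.AtPrime n') ha hb)⟩

end Specific

end Groth.Agent.Lib.helper17.CplBaseChange
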