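import Mathlib

/-!
# Full faithfulness of `D⁺(A') ⥤ D⁺(A)` when `A'` has enough `A`-injectives (helper17)
-/

namespace Groth.Agent.Lib.helper17.DPlusFF

open CategoryTheory Limits DerivedCategory

set_option linter.unusedSectionVars false

universe w w' v v' u u'

section Transport

variable {C D : Type*} [Category C] [Category D] (G : C ⥤ D)

lemma map_bijective_of_iso {X X' Y Y' : C} (e₁ : X ≅ X') (e₂ : Y ≅ Y')
    (h : Function.Bijective (fun f : X' ⟶ Y' => G.map f)) :
    Function.Bijective (fun f : X ⟶ Y => G.map f) := by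
  have : (fun f : X ⟶ Y => G.map f) =
      (fun g => G.map e₁.hom ≫ g ≫ G.map e₂.inv) ∘ (fun f : X' ⟶ Y' => G.map f) ∘
        (fun f => e₁.inv ≫ f ≫ e₂.hom) := by
    funext f
    change G.map f = G.map e₁.hom ≫ G.map (e₁.inv ≫ f ≫ e₂.hom) ≫ G.map e₂.inv
    rw [← G.map_comp, ← G.map_comp]
    simp
  rw [this]
  refine Function.Bijective.comp ?_ (Function.Bijective.comp h ?_)
  · exact (Iso.homCongr (G.mapIso e₁).symm (G.mapIso e₂).symm).bijective
  · exact (Iso.homCongr e₁ e₂).bijective

end Transport

variable {A' : Type u'} [Category.{v'} A'] [Abelian A'] [HasDerivedCategory.{w'} A']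
  {A : Type u} [Category.{v} A] [Abelian A] [HasDerivedCategory.{w} A]
  (ι : A' ⥤ A) [ι.Additive] [PreservesFiniteLimits ι] [PreservesFiniteColimits ι]
  [ι.Full] [ι.Faithful]

/-- Key lemma: `mapDerivedCategory` is bijective on morphisms into a K-injective complex
whose image is K-injective. -/
lemma map_bijective_of_isKInjective (Kh : HomotopyCategory A' (ComplexShape.up ℤ))
    (I : CochainComplex A' ℤ) [I.IsKInjective]
    [CochainComplex.IsKInjective ((ι.mapHomologicalComplex (ComplexShape.up ℤ)).obj I)] :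
    Function.Bijective (fun f : Qh.obj Kh ⟶ Qh.obj ((HomotopyCategory.quotient _ _).obj I) =>
      ι.mapDerivedCategory.map f) := by
  have h1 := CochainComplex.IsKInjective.Qh_map_bijective Kh I
  have h2 := CochainComplex.IsKInjective.Qh_map_bijective
    ((ι.mapHomotopyCategory (ComplexShape.up ℤ)).obj Kh)
    ((ι.mapHomologicalComplex (ComplexShape.up ℤ)).obj I)
  have h3 : Function.Bijective (fun f : Kh ⟶ (HomotopyCategory.quotient _ _).obj I =>
      (ι.mapHomotopyCategory (ComplexShape.up ℤ)).map f) :=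
    ⟨(ι.mapHomotopyCategory (ComplexShape.up ℤ)).map_injective,
      (ι.mapHomotopyCategory (ComplexShape.up ℤ)).map_surjective⟩
  rw [← Function.Bijective.of_comp_iff _ h1]
  have : (fun f : Qh.obj Kh ⟶ Qh.obj ((HomotopyCategory.quotient _ _).obj I) =>
      ι.mapDerivedCategory.map f) ∘ (Qh.map : (Kh ⟶ (HomotopyCategory.quotient _ _).obj I) → _) =
      (fun g => ι.mapDerivedCategoryFactorsh.hom.app Kh ≫ g ≫
        ι.mapDerivedCategoryFactorsh.inv.app ((HomotopyCategory.quotient _ _).obj I)) ∘
      (Qh.map : ((ι.mapHomotopyCategory (ComplexShape.up ℤ)).obj Kh ⟶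
        (HomotopyCategory.quotient _ _).obj
          ((ι.mapHomologicalComplex (ComplexShape.up ℤ)).obj I)) → _) ∘
      (fun f : Kh ⟶ (HomotopyCategory.quotient _ _).obj I =>
        (ι.mapHomotopyCategory (ComplexShape.up ℤ)).map f) := by
    funext f
    have n : ι.mapDerivedCategory.map (Qh.map f) ≫
        ι.mapDerivedCategoryFactorsh.hom.app ((HomotopyCategory.quotient _ _).obj I) =
        ι.mapDerivedCategoryFactorsh.hom.app Kh ≫
          Qh.map ((ι.mapHomotopyCategory (ComplexShape.up ℤ)).map f) :=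
      ι.mapDerivedCategoryFactorsh.hom.naturality f
    change ι.mapDerivedCategory.map (Qh.map f) = ι.mapDerivedCategoryFactorsh.hom.app Kh ≫
      Qh.map ((ι.mapHomotopyCategory (ComplexShape.up ℤ)).map f) ≫
        ι.mapDerivedCategoryFactorsh.inv.app ((HomotopyCategory.quotient _ _).obj I)
    rw [← Category.assoc, ← n, Category.assoc]
    have e := Iso.hom_inv_id_app ι.mapDerivedCategoryFactorsh ((HomotopyCategory.quotient _ _).obj I)
    erw [e]
    exact (Category.comp_id _).symm
  rw [this]
  refine Function.Bijective.comp ?_ (Function.Bijective.comp h2 h3)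
  exact (Iso.homCongr (ι.mapDerivedCategoryFactorsh.app Kh).symm
    (ι.mapDerivedCategoryFactorsh.app ((HomotopyCategory.quotient _ _).obj I)).symm).bijective

include ι in
lemma injective_of_map_injective (Y' : A') (h : Injective (ι.obj Y')) : Injective Y' := by
  constructor
  intro X Z g f hf
  have : Mono (ι.map f) := inferInstance
  obtain ⟨h', hh'⟩ := Injective.factors (ι.map g) (ι.map f)
  exact ⟨ι.preimage h', ι.map_injective (by simp [hh'])⟩

lemma enoughInjectives
    (hinj : ∀ X' : A', ∃ (Y' : A') (i : X' ⟶ Y'), Mono i ∧ Injective (ι.obj Y')) :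
    EnoughInjectives A' where
  presentation X' := by
    obtain ⟨Y', i, hi, hY'⟩ := hinj X'
    exact ⟨{ J := Y', injective := injective_of_map_injective ι Y' hY', f := i, mono := hi }⟩

lemma map_injective_of_injective
    (hinj : ∀ X' : A', ∃ (Y' : A') (i : X' ⟶ Y'), Mono i ∧ Injective (ι.obj Y'))
    (J : A') [Injective J] : Injective (ι.obj J) := by
  obtain ⟨Y', i, hi, hY'⟩ := hinj J
  have r : Retract J Y' :=
    { i := i
      r := Injective.factorThru (𝟙 J) i
      retract := Injective.comp_factorThru _ _ }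
  exact (r.map ι).injective

theorem map_bijective
    (hinj : ∀ X' : A', ∃ (Y' : A') (i : X' ⟶ Y'), Mono i ∧ Injective (ι.obj Y'))
    (X Y : DerivedCategory A') (a b : ℤ) [X.IsGE a] [Y.IsGE b] :
    Function.Bijective (fun f : X ⟶ Y => ι.mapDerivedCategory.map f) := by
  have := enoughInjectives ι hinj
  obtain ⟨K, _, ⟨eX⟩⟩ := DerivedCategory.exists_iso_Q_obj_of_isGE X a
  obtain ⟨L₀, _, ⟨eY⟩⟩ := DerivedCategory.exists_iso_Q_obj_of_isGE Y b
  obtain ⟨I, i, hi, hI, hIb⟩ :=
    CochainComplex.Plus.modelCategoryQuillen.exists_quasiIso_injective L₀ b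
  have : I.IsKInjective := CochainComplex.isKInjective_of_injective I b
  have : CochainComplex.IsStrictlyGE ((ι.mapHomologicalComplex (ComplexShape.up ℤ)).obj I) b :=
    (CochainComplex.isStrictlyGE_mapHomologicalComplex_obj_iff _ ι b).2 hIb
  have : ∀ n, Injective (((ι.mapHomologicalComplex (ComplexShape.up ℤ)).obj I).X n) := fun n =>
    map_injective_of_injective ι hinj (I.X n)
  have : CochainComplex.IsKInjective ((ι.mapHomologicalComplex (ComplexShape.up ℤ)).obj I) :=
    CochainComplex.isKInjective_of_injective _ b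
  have e₁ : X ≅ Qh.obj ((HomotopyCategory.quotient _ _).obj K) :=
    eX ≪≫ ((quotientCompQhIso A').app K).symm
  have e₂ : Y ≅ Qh.obj ((HomotopyCategory.quotient _ _).obj I) :=
    eY ≪≫ asIso (Q.map i) ≪≫ ((quotientCompQhIso A').app I).symm
  exact map_bijective_of_iso _ e₁ e₂ (map_bijective_of_isKInjective ι _ I)

end Groth.Agent.Lib.helper17.DPlusFF
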