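import Mathlib

/-!
# Effaceability of Ext classes by epimorphisms (helper17)
-/

namespace Groth.Agent.Lib.helper17.ExtEfface

open CategoryTheory Limits Abelian DerivedCategory

universe w w' v v' u u'

variable {C : Type u} [Category.{v} C] [Abelian C]

section

variable [HasDerivedCategory.{w} C]

/-- A morphism `Q(L[0]) ⟶ Q(N)` with `N` strictly `≤ -1` is killed by an epi onto `L`. -/
lemma exists_epi_comp_eq_zero_aux (L : C) (N : CochainComplex C ℤ) [N.IsStrictlyLE (-1)]
    (f : Q.obj ((CochainComplex.singleFunctor C 0).obj L) ⟶ Q.obj N) :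
    ∃ (L' : C) (p : L' ⟶ L), Epi p ∧
      Q.map ((CochainComplex.singleFunctor C 0).map p) ≫ f = 0 := by
  obtain ⟨K, hK, s, hs, g, rfl⟩ := right_fac_of_isStrictlyLE f 0
  let j : (CochainComplex.singleFunctor C 0).obj (K.X 0) ⟶ K :=
    HomologicalComplex.mkHomFromSingle (𝟙 _) (fun k hk => by
      obtain rfl : k = 1 := by simpa using hk.symm
      exact (K.isZero_of_isStrictlyLE 0 1).eq_of_tgt _ _)
  let p : K.X 0 ⟶ L := (CochainComplex.singleFunctor C 0).preimage (j ≫ s)
  have hp : (CochainComplex.singleFunctor C 0).map p = j ≫ s := Functor.map_preimage _ _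
  have hjg : j ≫ g = 0 := by
    ext i
    by_cases hi : i = 0
    · subst hi
      exact (N.isZero_of_isStrictlyLE (-1) 0).eq_of_tgt _ _
    · apply IsZero.eq_of_src
      exact HomologicalComplex.isZero_single_obj_X _ _ _ _ hi
  refine ⟨K.X 0, p, ?_, ?_⟩
  · rw [Preadditive.epi_iff_cancel_zero]
    intro T u hu
    have h1 : s ≫ (CochainComplex.singleFunctor C 0).map u = 0 := by
      ext i
      by_cases hi : i = 0
      · subst hi
        have h2 : (j ≫ s ≫ (CochainComplex.singleFunctor C 0).map u).f 0 = 0 := by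
          rw [← Category.assoc, ← hp, ← Functor.map_comp, hu, Functor.map_zero]
          rfl
        rw [HomologicalComplex.comp_f, HomologicalComplex.mkHomFromSingle_f,
          Category.comp_id] at h2
        have hiso : IsIso (HomologicalComplex.singleObjXSelf (ComplexShape.up ℤ) 0 (K.X 0)).hom :=
          inferInstance
        exact (cancel_epi _).1 (h2.trans comp_zero.symm)
      · apply IsZero.eq_of_tgt
        exact HomologicalComplex.isZero_single_obj_X _ _ _ _ hi
    have h3 : Q.map ((CochainComplex.singleFunctor C 0).map u) = 0 := by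
      rw [← cancel_epi (Q.map s), ← Q.map_comp, h1, Functor.map_zero, comp_zero]
    have h4 : (DerivedCategory.singleFunctor C 0).map u = 0 := h3
    exact (DerivedCategory.singleFunctor C 0).map_injective (by rw [h4, Functor.map_zero])
  · rw [hp, Q.map_comp, Category.assoc, IsIso.hom_inv_id_assoc, ← Q.map_comp, hjg,
      Functor.map_zero]

end


/-- Every class in `Ext^n(L, M)`, `n ≥ 1`, is killed by some epimorphism onto `L`. -/
lemma exists_epi_comp_eq_zero [HasExt.{w} C] {L M : C} {n : ℕ} (hn : 1 ≤ n) (x : Ext.{w} L M n) :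
    ∃ (L' : C) (p : L' ⟶ L), Epi p ∧ (Ext.mk₀ p).comp x (zero_add n) = 0 := by
  letI := HasDerivedCategory.standard C
  have h0 : (((CochainComplex.singleFunctor C 0).obj M)⟦(n : ℤ)⟧).IsStrictlyLE (-(n : ℤ)) :=
    CochainComplex.isStrictlyLE_shift _ 0 (n : ℤ) (-(n : ℤ)) (by lia)
  have : (((CochainComplex.singleFunctor C 0).obj M)⟦(n : ℤ)⟧).IsStrictlyLE (-1) :=
    CochainComplex.isStrictlyLE_of_le _ (-(n : ℤ)) (-1) (by lia)
  obtain ⟨L', p, hp, h⟩ := exists_epi_comp_eq_zero_aux L
    (((CochainComplex.singleFunctor C 0).obj M)⟦(n : ℤ)⟧)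
    (x.hom ≫ ((Q.commShiftIso (n : ℤ)).app _).inv)
  refine ⟨L', p, hp, ?_⟩
  ext
  rw [Ext.comp_hom, Ext.mk₀_hom, Ext.zero_hom, ShiftedHom.mk₀_comp]
  rw [← Category.assoc] at h
  exact (cancel_mono _).1 (h.trans zero_comp.symm)


section Criterion

variable {A : Type u} [Category.{v} A] [Abelian A] [HasExt.{w} A]
  {B : Type u'} [Category.{v'} B] [Abelian B] [HasExt.{w'} B]
  (φ : A ⥤ B) [φ.Additive] [PreservesFiniteLimits φ] [PreservesFiniteColimits φ] (M : A)

/-- The short exact sequence `0 ⟶ ker p ⟶ L' ⟶ L ⟶ 0` of an epimorphism. -/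
lemma kernel_shortExact {L L' : A} (p : L' ⟶ L) [Epi p] :
    (ShortComplex.mk (kernel.ι p) p (kernel.condition p)).ShortExact :=
  { exact := ShortComplex.exact_kernel p }

lemma map_extClass_comp {S : ShortComplex A} (hS : S.ShortExact) {n : ℕ} (y' : Ext.{w} S.X₁ M n)
    {n' : ℕ} (h : 1 + n = n') :
    (hS.extClass.comp y' h).mapExactFunctor φ =
      (hS.map_of_exact φ).extClass.comp (y'.mapExactFunctor φ) h := by
  have e1 := Ext.mapExactFunctor_comp φ hS.extClass y' h
  have e2 := Ext.mapExactFunctor_extClass φ hS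
  rw [e1]
  exact congrArg (fun z => Ext.comp z (Ext.mapExactFunctor φ y') h) e2

lemma bijective_of_effaceable
    (h0 : ∀ L : A, Function.Bijective (fun f : L ⟶ M => φ.map f))
    (heff : ∀ (L : A) (n : ℕ), 1 ≤ n → ∀ x : Ext.{w'} (φ.obj L) (φ.obj M) n,
      ∃ (L' : A) (p : L' ⟶ L), Epi p ∧ (Ext.mk₀ (φ.map p)).comp x (zero_add n) = 0)
    (n : ℕ) : ∀ (L : A),
      Function.Bijective (fun f : Ext.{w} L M n => Ext.mapExactFunctor φ f) := by
  induction n with
  | zero =>
    intro L
    have : (fun f : Ext.{w} L M 0 => Ext.mapExactFunctor φ f) =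
        Ext.homEquiv₀.symm ∘ φ.map ∘ Ext.homEquiv₀ := Ext.mapExactFunctor₀ φ L M
    rw [this]
    exact (Equiv.bijective _).comp ((h0 L).comp (Equiv.bijective _))
  | succ n hn =>
    intro L
    constructor
    · -- injective
      have hinj : Function.Injective (φ.mapExtAddHom L M (n + 1)) := by
        rw [injective_iff_map_eq_zero]
        intro x hx
        rw [Functor.mapExtAddHom_apply] at hx
        obtain ⟨L', p, hp, hpx⟩ := exists_epi_comp_eq_zero (Nat.le_add_left 1 n) x
        have hS := kernel_shortExact p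
        obtain ⟨y', hy'⟩ := Ext.contravariant_sequence_exact₃ hS M x hpx (add_comm 1 n)
        have hS' := hS.map_of_exact φ
        have h1 : hS'.extClass.comp (y'.mapExactFunctor φ) (add_comm 1 n) = 0 := by
          rw [← map_extClass_comp φ M hS y' (add_comm 1 n), hy']
          exact hx
        obtain ⟨z, hz⟩ := Ext.contravariant_sequence_exact₁ hS' (φ.obj M) _ (add_comm 1 n) h1
        obtain ⟨z', rfl⟩ := (hn L').2 z
        have h2 : ((Ext.mk₀ (kernel.ι p)).comp z' (zero_add n)).mapExactFunctor φ =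
            y'.mapExactFunctor φ := by
          rw [Ext.mapExactFunctor_comp, Ext.mapExactFunctor_mk₀]
          exact hz
        have h3 := (hn _).1 h2
        rw [← hy', ← h3]
        exact hS.extClass_comp_assoc z'
      exact hinj
    · -- surjective
      intro x
      obtain ⟨L', p, hp, hpx⟩ := heff L (n + 1) (Nat.le_add_left 1 n) x
      have hS := kernel_shortExact p
      have hS' := hS.map_of_exact φ
      obtain ⟨y, hy⟩ := Ext.contravariant_sequence_exact₃ hS' (φ.obj M) x hpx (add_comm 1 n)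
      obtain ⟨y', rfl⟩ := (hn _).2 y
      refine ⟨hS.extClass.comp y' (add_comm 1 n), ?_⟩
      dsimp only
      rw [map_extClass_comp φ M hS y' (add_comm 1 n)]
      exact hy

theorem criterion :
    (∀ (L : A) (n : ℕ), Function.Bijective (fun f : Ext.{w} L M n => Ext.mapExactFunctor φ f)) ↔
      ((∀ L : A, Function.Bijective (fun f : L ⟶ M => φ.map f)) ∧
        ∀ (L : A) (n : ℕ), 1 ≤ n → ∀ x : Ext.{w'} (φ.obj L) (φ.obj M) n,
          ∃ (L' : A) (p : L' ⟶ L), Epi p ∧
            (Ext.mk₀ (φ.map p)).comp x (zero_add n) = 0) := by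
  constructor
  · intro h
    refine ⟨fun L => ?_, fun L n hn x => ?_⟩
    · have h0 := h L 0
      have : (fun f : Ext.{w} L M 0 => Ext.mapExactFunctor φ f) =
          Ext.homEquiv₀.symm ∘ φ.map ∘ Ext.homEquiv₀ := Ext.mapExactFunctor₀ φ L M
      rw [this] at h0
      have h1 : Function.Bijective (φ.map ∘ (Ext.homEquiv₀ (X := L) (Y := M))) :=
        (Function.Bijective.of_comp_iff' (Equiv.bijective Ext.homEquiv₀.symm) _).1 h0
      exact (Function.Bijective.of_comp_iff _ (Equiv.bijective Ext.homEquiv₀)).1 h1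
    · obtain ⟨x', rfl⟩ := (h L n).2 x
      obtain ⟨L', p, hp, hpx⟩ := exists_epi_comp_eq_zero hn x'
      refine ⟨L', p, hp, ?_⟩
      dsimp only
      rw [← Ext.mapExactFunctor_mk₀, ← Ext.mapExactFunctor_comp, hpx, Ext.mapExactFunctor_zero]
  · rintro ⟨h0, heff⟩ L n
    exact bijective_of_effaceable φ M h0 heff n L

end Criterion

end Groth.Agent.Lib.helper17.ExtEfface
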