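import Mathlib
import Groth.Agent.Lib.helper17.NoethObj

/-!
# Faithful exact functors with a filtered-colimit-preserving right adjoint

Let `F : A ⥤ B` be a faithful exact functor between abelian categories with a right adjoint `G`
preserving filtered colimits, `B` Grothendieck abelian with a separating family `s`.
We construct a small separating family `famObj` in `A`, show that `A` is AB5 and well-powered,
and that noetherianity is reflected and (under noetherian generators) preserved by `F`.
-/

open CategoryTheory CategoryTheory.Limits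
open Groth.Agent.Lib.helper17.NoethObj
open ZeroObject

namespace Groth.Agent.Lib.helper17.FaithfulExact

universe w v u₁ u₂ v' u'

section AB5
variable {A : Type u₁} [Category.{w} A] [Abelian A] {B : Type u₂} [Category.{w} B] [Abelian B]
  {F : A ⥤ B} {G : B ⥤ A}

omit [Abelian B] in
lemma ab5 [F.Faithful] [PreservesFiniteLimits F] [HasColimitsOfSize.{w, w} A]
    [HasColimitsOfSize.{w, w} B] [AB5OfSize.{w, w} B] (adj : F ⊣ G) : AB5OfSize.{w, w} A := by
  have := reflectsIsomorphisms_of_reflectsMonomorphisms_of_reflectsEpimorphisms F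
  have : PreservesColimitsOfSize.{w, w} F := adj.leftAdjoint_preservesColimits
  have : ReflectsFiniteLimits F := ⟨fun J _ _ => reflectsLimitsOfShape_of_reflectsIsomorphisms⟩
  constructor
  intro J _ _
  exact HasExactColimitsOfShape.domain_of_functor J F

end AB5

section PullbackColimit
variable {A : Type u₁} [Category.{v} A] [HasPullbacks A] {J : Type u'} [Category.{v'} J]
  [IsConnected J] [HasColimitsOfShape J A] [PreservesFiniteLimits (colim : (J ⥤ A) ⥤ A)]
  {X : J ⥤ A} (c : Cocone X) {y : A} (f : y ⟶ c.pt)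

/-- The pointwise pullback of a cocone along a morphism to its point. -/
noncomputable abbrev pbFunctor : J ⥤ A := pullback ((Functor.const J).map f) c.ι

noncomputable def pbCocone : Cocone (pbFunctor c f) :=
  ⟨y, pullback.fst ((Functor.const J).map f) c.ι⟩

noncomputable def pbCoconeIsColimit (hc : IsColimit c) : IsColimit (pbCocone c f) := by
  have h1 := (IsPullback.of_hasPullback ((Functor.const J).map f) c.ι).map
    (colim : (J ⥤ A) ⥤ A)
  have h2 : IsIso (colim.map c.ι) := IsColimit.isIso_colimMap_ι hc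
  have h3 : IsIso (colim.map (pullback.fst ((Functor.const J).map f) c.ι)) :=
    h1.isIso_fst_of_isIso
  have h4 : IsIso (colimMap (pbCocone c f).ι) := h3
  exact Cocone.isColimitOfIsIsoColimMapι (pbCocone c f)

omit [IsConnected J] [HasColimitsOfShape J A] [PreservesFiniteLimits (colim : (J ⥤ A) ⥤ A)] in
lemma pb_isPullback (j : J) :
    IsPullback ((pullback.fst ((Functor.const J).map f) c.ι).app j)
      ((pullback.snd ((Functor.const J).map f) c.ι).app j) f (c.ι.app j) :=
  (IsPullback.of_hasPullback ((Functor.const J).map f) c.ι).map ((evaluation J A).obj j)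

end PullbackColimit

section Key

variable {A : Type u₁} [Category.{w} A] [Abelian A] {B : Type u₂} [Category.{w} B] [Abelian B]
  {F : A ⥤ B} {G : B ⥤ A} (adj : F ⊣ G)

attribute [local instance] IsFiltered.isConnected

lemma key [F.Faithful] [PreservesFiniteLimits F] [HasColimitsOfSize.{w, w} A]
    [AB5OfSize.{w, w} A] [IsGrothendieckAbelian.{w} B]
    [PreservesFilteredColimitsOfSize.{w, w} G]
    {J : Type w} [SmallCategory J] [IsFiltered J] (a : A) (Φ : J ⥤ MonoOver (F.obj a))
    (hΦ : ⨆ j, Subobject.mk (Φ.obj j).obj.hom = ⊤) :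
    ∃ (P : J ⥤ A) (ι : P ⟶ (Functor.const J).obj a), Nonempty (IsColimit (Cocone.mk a ι)) ∧
      ∀ j, Mono (ι.app j) ∧ ∃ σ : F.obj (P.obj j) ⟶ (Φ.obj j).obj.left,
        F.map (ι.app j) = σ ≫ (Φ.obj j).obj.hom ∧ Mono (adj.homEquiv _ _ σ) := by
  -- the colimit cocone in `B`
  let c₀ : Cocone (Φ ⋙ MonoOver.forget _) :=
    { pt := Over.mk (𝟙 (F.obj a))
      ι := { app := fun j => Over.homMk (Φ.obj j).obj.hom
             naturality := fun j j' g => by
               ext
               simp } }
  have : IsIso c₀.pt.hom := by dsimp [c₀]; infer_instance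
  have hc₀ : Subobject.mk c₀.pt.hom = ⨆ j, Subobject.mk (Φ.obj j).obj.hom := by
    rw [hΦ]; exact Subobject.mk_eq_top_of_isIso _
  have hcB := IsGrothendieckAbelian.isColimitMapCoconeOfSubobjectMkEqISup Φ c₀ hc₀
  have : PreservesColimitsOfShape J G :=
    PreservesFilteredColimitsOfSize.preserves_filtered_colimits J
  have hcA := isColimitOfPreserves G hcB
  have : PreservesLimitsOfSize.{0, 0} G := adj.rightAdjoint_preservesLimits
  let c := G.mapCocone ((Over.forget _).mapCocone c₀)
  let f : a ⟶ c.pt := adj.unit.app a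
  let ι : pbFunctor c f ⟶ (Functor.const J).obj a := pullback.fst ((Functor.const J).map f) c.ι
  refine ⟨pbFunctor c f, ι, ⟨pbCoconeIsColimit c f hcA⟩, fun j => ?_⟩
  obtain ⟨m, n, hpb, hm⟩ : ∃ (m : (pbFunctor c f).obj j ⟶ a)
      (n : (pbFunctor c f).obj j ⟶ G.obj (Φ.obj j).obj.left),
      IsPullback m n (adj.unit.app a) (G.map (Φ.obj j).obj.hom) ∧ m = ι.app j :=
    ⟨_, _, pb_isPullback c f j, rfl⟩
  rw [← hm]
  refine ⟨hpb.mono_fst_of_mono, (adj.homEquiv _ _).symm n, ?_, ?_⟩
  · apply (adj.homEquiv _ _).injective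
    rw [Adjunction.homEquiv_naturality_right, Equiv.apply_symm_apply, Adjunction.homEquiv_unit,
      ← hpb.w]
    exact (adj.unit.naturality m).symm
  · rw [Equiv.apply_symm_apply]
    exact hpb.mono_snd_of_mono

end Key

section SubMap
variable {A : Type u₁} [Category.{w} A] [Abelian A] {B : Type u₂} [Category.{w} B] [Abelian B]
  (F : A ⥤ B) [F.Additive] [F.Faithful] [PreservesFiniteLimits F]

/-- The image under an exact functor of a subobject. -/
noncomputable def subMap (a : A) (S : Subobject a) : Subobject (F.obj a) :=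
  Subobject.mk (F.map S.arrow)

omit [F.Additive] [F.Faithful] in
lemma subMap_mono (a : A) : Monotone (subMap F a) := fun S T h =>
  Subobject.mk_le_mk_of_comm (F.map (Subobject.ofLE S T h))
    (by rw [← F.map_comp, Subobject.ofLE_arrow])

lemma le_of_subMap_le {a : A} {S T : Subobject a} (h : subMap F a S ≤ subMap F a T) :
    S ≤ T := by
  have h0 : S.arrow ≫ cokernel.π T.arrow = 0 := by
    apply F.map_injective
    rw [F.map_comp, F.map_zero, ← Subobject.ofMkLEMk_comp h, Category.assoc, ← F.map_comp,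
      cokernel.condition, F.map_zero, comp_zero]
  exact Subobject.le_of_comm (Abelian.monoLift T.arrow S.arrow h0) (Abelian.monoLift_comp _ _ _)

lemma subMap_strictMono (a : A) : StrictMono (subMap F a) := by
  intro S T hST
  refine lt_of_le_not_ge (subMap_mono F a hST.le) ?_
  intro h
  exact not_le_of_gt hST (le_of_subMap_le F h)

lemma subMap_injective (a : A) : Function.Injective (subMap F a) := fun _ _ h =>
  le_antisymm (le_of_subMap_le F h.le) (le_of_subMap_le F h.ge)

include F in
lemma wellPowered_of_faithful_exact [WellPowered.{w} B] : WellPowered.{w} A :=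
  ⟨fun a => small_of_injective (subMap_injective F a)⟩

lemma isNoetherianObject_of_map (a : A) [IsNoetherianObject (F.obj a)] :
    IsNoetherianObject a := by
  rw [isNoetherianObject_iff_wellFoundedGT]
  exact StrictMono.wellFoundedGT (subMap_strictMono F a)

end SubMap

section Tree
variable {B : Type u₂} [Category.{w} B] [Abelian B]

/-- Binary trees with leaves labelled in `ι`: shapes of iterated biproducts. -/
inductive Tr (ι : Type w) : Type w
  | zero : Tr ι
  | leaf : ι → Tr ι
  | node : Tr ι → Tr ι → Tr ι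

/-- The iterated biproduct of the family `s` of shape `t`. -/
noncomputable def Tr.obj {ι : Type w} (s : ι → B) : Tr ι → B
  | .zero => 0
  | .leaf i => s i
  | .node l r => Tr.obj s l ⊞ Tr.obj s r

lemma Tr.isNoetherianObject_obj {ι : Type w} (s : ι → B) (hs : ∀ i, IsNoetherianObject (s i))
    (t : Tr ι) : IsNoetherianObject (Tr.obj s t) := by
  induction t with
  | zero => exact isNoetherianObject_of_isZero (isZero_zero B)
  | leaf i => exact hs i
  | node l r hl hr => exact isNoetherianObject_biprod _ _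

/-- Index type for the canonical directed family of "finitely `s`-generated" subobjects. -/
structure Idx {ι : Type w} (s : ι → B) (X : B) : Type w where
  t : Tr ι
  h : Tr.obj s t ⟶ X

variable {ι : Type w} (s : ι → B) (X : B)

/-- The subobject associated to an index. -/
noncomputable def Idx.sub (j : Idx s X) : Subobject X := imageSubobject j.h

noncomputable instance : Preorder (Idx s X) := Preorder.lift (Idx.sub s X)

instance : Nonempty (Idx s X) := ⟨⟨.zero, 0⟩⟩

lemma Idx.sub_le_sub_node (j j' : Idx s X) :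
    j.sub ≤ Idx.sub s X ⟨.node j.t j'.t, biprod.desc j.h j'.h⟩ ∧
    j'.sub ≤ Idx.sub s X ⟨.node j.t j'.t, biprod.desc j.h j'.h⟩ := by
  constructor
  · calc j.sub = imageSubobject (biprod.inl ≫ biprod.desc j.h j'.h) := by
          unfold Idx.sub; congr 1; simp
      _ ≤ _ := imageSubobject_comp_le _ _
  · calc j'.sub = imageSubobject (biprod.inr ≫ biprod.desc j.h j'.h) := by
          unfold Idx.sub; congr 1; simp
      _ ≤ _ := imageSubobject_comp_le _ _

instance : IsDirected (Idx s X) (· ≤ ·) :=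
  ⟨fun j j' => ⟨⟨.node j.t j'.t, biprod.desc j.h j'.h⟩, (Idx.sub_le_sub_node s X j j').1,
    (Idx.sub_le_sub_node s X j j').2⟩⟩

lemma Idx.sub_mono : Monotone (Idx.sub s X) := fun _ _ h => h

/-- The functor to `MonoOver X`. -/
noncomputable def Idx.functor : Idx s X ⥤ MonoOver X :=
  (Idx.sub_mono s X).functor ⋙ Subobject.representative

lemma Idx.mk_functor_obj (j : Idx s X) :
    Subobject.mk ((Idx.functor s X).obj j).obj.hom = j.sub :=
  Subobject.mk_arrow _

lemma Idx.iSup_eq_top [IsGrothendieckAbelian.{w} B]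
    (hsep : ∀ ⦃X Y : B⦄ (f g : X ⟶ Y), (∀ (i : ι) (h : s i ⟶ X), h ≫ f = h ≫ g) → f = g) :
    ⨆ j : Idx s X, j.sub = ⊤ := by
  obtain ⟨P, hP⟩ : ∃ P, P = ⨆ j : Idx s X, j.sub := ⟨_, rfl⟩
  rw [← hP]
  have : Epi P.arrow := by
    constructor
    intro Z u v huv
    apply hsep
    intro i h
    have hj : imageSubobject h ≤ P :=
      hP ▸ le_iSup (fun j : Idx s X => j.sub) ⟨.leaf i, h⟩
    have hh : factorThruImageSubobject h ≫ Subobject.ofLE _ _ hj ≫ P.arrow = h := by
      rw [Subobject.ofLE_arrow]
      exact imageSubobject_arrow_comp h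
    rw [← hh]
    simp only [Category.assoc]
    rw [huv]
  have : IsIso P.arrow := isIso_of_mono_of_epi _
  exact Subobject.eq_top_of_isIso_arrow _

end Tree

section CokerIso
variable {B : Type u₂} [Category.{w} B] [Abelian B]

lemma exists_subobject_cokernel_iso {X b : B} (e : X ⟶ b) [Epi e] :
    ∃ K₀ : Subobject X, Nonempty (cokernel K₀.arrow ≅ b) := by
  refine ⟨Subobject.mk (kernel.ι e), ⟨?_⟩⟩
  have h1 : (Subobject.mk (kernel.ι e)).arrow
      = (Subobject.underlyingIso (kernel.ι e)).hom ≫ kernel.ι e :=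
    (Subobject.underlyingIso_hom_comp_eq_mk _).symm
  have : Epi (Abelian.factorThruCoimage e) := by
    have : Epi (Abelian.coimage.π e ≫ Abelian.factorThruCoimage e) := by
      rw [Abelian.coimage.fac]; infer_instance
    exact epi_of_epi (Abelian.coimage.π e) _
  have : IsIso (Abelian.factorThruCoimage e) := isIso_of_mono_of_epi _
  exact cokernelIsoOfEq h1 ≪≫ cokernelEpiComp _ _ ≪≫ asIso (Abelian.factorThruCoimage e)
end CokerIso

section Family
variable {A : Type u₁} [Category.{w} A] [Abelian A] {B : Type u₂} [Category.{w} B] [Abelian B]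
  {F : A ⥤ B} {G : B ⥤ A} (adj : F ⊣ G) {ι : Type w} (s : ι → B)
  [WellPowered.{w} A] [WellPowered.{w} B]

/-- Subobjects of `G (coker K₀)` whose adjunct is a monomorphism. -/
abbrev SubT (t : Tr ι) (K₀ : Subobject (Tr.obj s t)) : Type (max u₁ w) :=
  {T : Subobject (G.obj (cokernel K₀.arrow)) // Mono ((adj.homEquiv _ _).symm T.arrow)}

/-- Index type of the small family of objects of `A`. -/
def FamIdx : Type w :=
  Σ (t : Tr ι) (K : Shrink.{w} (Subobject (Tr.obj s t))),
    Shrink.{w} (SubT adj s t ((equivShrink.{w} (Subobject (Tr.obj s t))).symm K))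

/-- The subobject (with mono adjunct) attached to an index. -/
noncomputable def famSub (k : FamIdx adj s) :
    SubT adj s k.1 ((equivShrink.{w} (Subobject (Tr.obj s k.1))).symm k.2.1) :=
  (equivShrink.{w} (SubT adj s k.1 ((equivShrink.{w} (Subobject (Tr.obj s k.1))).symm k.2.1))).symm
    k.2.2

/-- The small family of objects of `A`. -/
noncomputable def famObj (k : FamIdx adj s) : A :=
  ((famSub adj s k).1 : A)

/-- `F` of a member of the family embeds in a quotient of a finite biproduct of the `s i`. -/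
lemma famObj_spec (k : FamIdx adj s) :
    ∃ (t : Tr ι) (b : B) (e : Tr.obj s t ⟶ b) (σ : F.obj (famObj adj s k) ⟶ b), Epi e ∧ Mono σ :=
  ⟨k.1, _, cokernel.π _, (adj.homEquiv _ _).symm (famSub adj s k).1.arrow,
    inferInstance, (famSub adj s k).2⟩

/-- Constructor for indices. -/
noncomputable def FamIdx.mk' (t : Tr ι) (K' : Shrink.{w} (Subobject (Tr.obj s t)))
    (T₀ : SubT adj s t ((equivShrink.{w} (Subobject (Tr.obj s t))).symm K')) : FamIdx adj s :=
  ⟨t, K', equivShrink.{w} (SubT adj s t ((equivShrink.{w} (Subobject (Tr.obj s t))).symm K')) T₀⟩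

lemma famSub_mk' (t : Tr ι) (K' : Shrink.{w} (Subobject (Tr.obj s t)))
    (T₀ : SubT adj s t ((equivShrink.{w} (Subobject (Tr.obj s t))).symm K')) :
    famSub adj s (FamIdx.mk' adj s t K' T₀) = T₀ :=
  Equiv.symm_apply_apply _ _

lemma famObj_mk' (t : Tr ι) (K' : Shrink.{w} (Subobject (Tr.obj s t)))
    (T₀ : SubT adj s t ((equivShrink.{w} (Subobject (Tr.obj s t))).symm K')) :
    famObj adj s (FamIdx.mk' adj s t K' T₀) = (T₀.1 : A) := by
  unfold famObj
  rw [famSub_mk']
  rfl

lemma exists_famIdx_iso (a' : A) (t : Tr ι) {b : B} (e : Tr.obj s t ⟶ b) [Epi e]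
    (σ : F.obj a' ⟶ b) [Mono σ] [Mono (adj.homEquiv _ _ σ)] :
    ∃ k : FamIdx adj s, Nonempty (a' ≅ famObj adj s k) := by
  obtain ⟨K', ⟨φ⟩⟩ : ∃ K' : Shrink.{w} (Subobject (Tr.obj s t)),
      Nonempty (cokernel ((equivShrink.{w} (Subobject (Tr.obj s t))).symm K').arrow ≅ b) := by
    obtain ⟨K₀, hφ⟩ := exists_subobject_cokernel_iso e
    refine ⟨equivShrink.{w} _ K₀, ?_⟩
    rw [Equiv.symm_apply_apply]
    exact hφ
  have : PreservesLimitsOfSize.{0, 0} G := adj.rightAdjoint_preservesLimits
  obtain ⟨m, hm⟩ : ∃ m : a' ⟶ G.obj (cokernel ((equivShrink.{w}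
      (Subobject (Tr.obj s t))).symm K').arrow), m = adj.homEquiv _ _ σ ≫ G.map φ.inv := ⟨_, rfl⟩
  have hmono : Mono m := by rw [hm]; infer_instance
  have hT₀ : Mono ((adj.homEquiv _ _).symm (Subobject.mk m).arrow) := by
    have h1 : (Subobject.mk m).arrow = (Subobject.underlyingIso m).hom ≫ m :=
      (Subobject.underlyingIso_hom_comp_eq_mk _).symm
    have h2 : (adj.homEquiv _ _).symm m = σ ≫ φ.inv := by
      rw [hm, Adjunction.homEquiv_naturality_right_symm, Equiv.symm_apply_apply]
    rw [h1, Adjunction.homEquiv_naturality_left_symm, h2]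
    infer_instance
  refine ⟨FamIdx.mk' adj s t K' ⟨Subobject.mk m, hT₀⟩, ⟨?_⟩⟩
  rw [famObj_mk']
  exact (Subobject.underlyingIso m).symm

end Family


section Main
variable {A : Type u₁} [Category.{w} A] [Abelian A] {B : Type u₂} [Category.{w} B] [Abelian B]
  {F : A ⥤ B} {G : B ⥤ A} (adj : F ⊣ G) [F.Additive] [F.Faithful] [PreservesFiniteLimits F]
  [HasColimitsOfSize.{w, w} A] [IsGrothendieckAbelian.{w} B]
  [PreservesFilteredColimitsOfSize.{w, w} G]
  {ι : Type w} (s : ι → B)

lemma functor_iSup_eq_top (X : B)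
    (hsep : ∀ ⦃X Y : B⦄ (f g : X ⟶ Y), (∀ (i : ι) (h : s i ⟶ X), h ≫ f = h ≫ g) → f = g) :
    ⨆ j, Subobject.mk ((Idx.functor s X).obj j).obj.hom = ⊤ := by
  simp only [Idx.mk_functor_obj]
  exact Idx.iSup_eq_top s X hsep

/-- The family `famObj` is separating. -/
theorem fam_separating [AB5OfSize.{w, w} A] [WellPowered.{w} A]
    (hsep : ∀ ⦃X Y : B⦄ (f g : X ⟶ Y), (∀ (i : ι) (h : s i ⟶ X), h ≫ f = h ≫ g) → f = g)
    ⦃X Y : A⦄ (f g : X ⟶ Y)
    (H : ∀ (k : FamIdx adj s) (h : famObj adj s k ⟶ X), h ≫ f = h ≫ g) : f = g := by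
  obtain ⟨P, ι', ⟨hc⟩, hP⟩ := key adj X (Idx.functor s (F.obj X))
    (functor_iSup_eq_top s (F.obj X) hsep)
  apply hc.hom_ext
  intro j
  obtain ⟨hmono, σ, hσ, hσmono⟩ := hP j
  have : Mono σ := by
    have : Mono (σ ≫ ((Idx.functor s (F.obj X)).obj j).obj.hom) := by
      rw [← hσ]; infer_instance
    exact mono_of_mono σ ((Idx.functor s (F.obj X)).obj j).obj.hom
  have he0 : Epi (factorThruImageSubobject j.h) := inferInstance
  obtain ⟨e, he⟩ : ∃ e : Tr.obj s j.t ⟶ ((Idx.functor s (F.obj X)).obj j).obj.left, Epi e :=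
    ⟨factorThruImageSubobject j.h, he0⟩
  obtain ⟨k, ⟨ψ⟩⟩ := exists_famIdx_iso adj s (P.obj j) j.t e σ
  have := H k (ψ.inv ≫ ι'.app j)
  simp only [Category.assoc] at this
  exact (cancel_epi ψ.inv).1 this

/-- If the `s i` are noetherian, so are the members of the family `famObj`. -/
theorem famObj_isNoetherianObject [WellPowered.{w} A]
    (hs : ∀ i, IsNoetherianObject (s i)) (k : FamIdx adj s) :
    IsNoetherianObject (famObj adj s k) := by
  obtain ⟨t, b, e, σ, he, hσ⟩ := famObj_spec adj s k
  have := Tr.isNoetherianObject_obj s hs t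
  have : IsNoetherianObject b := isNoetherianObject_of_epi e
  have : IsNoetherianObject (F.obj (famObj adj s k)) := isNoetherianObject_of_mono σ
  exact isNoetherianObject_of_map F _

/-- A Grothendieck abelian structure from AB5 and a small separating family. -/
lemma isGrothendieckAbelian_of_separating {B : Type u₂} [Category.{w} B] [Abelian B]
    [HasColimitsOfSize.{w, w} B] [AB5OfSize.{w, w} B] {ι : Type w} (s : ι → B)
    (hsep : ∀ ⦃X Y : B⦄ (f g : X ⟶ Y), (∀ (i : ι) (h : s i ⟶ X), h ≫ f = h ≫ g) → f = g) :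
    IsGrothendieckAbelian.{w} B := by
  have hS : ObjectProperty.IsSeparating (.ofObj s) := by
    intro X Y f g H
    exact hsep f g (fun i h => H _ ⟨i⟩ h)
  exact { hasSeparator := ⟨_, hS.isSeparator_coproduct⟩ }

include adj in
/-- If `a` is noetherian then so is `F a`, provided the generators `s i` are noetherian. -/
theorem isNoetherianObject_map [AB5OfSize.{w, w} A]
    (hsep : ∀ ⦃X Y : B⦄ (f g : X ⟶ Y), (∀ (i : ι) (h : s i ⟶ X), h ≫ f = h ≫ g) → f = g)
    (hs : ∀ i, IsNoetherianObject (s i)) (a : A) [IsNoetherianObject a] :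
    IsNoetherianObject (F.obj a) := by
  obtain ⟨P, ι', ⟨hc⟩, hP⟩ := key adj a (Idx.functor s (F.obj a))
    (functor_iSup_eq_top s (F.obj a) hsep)
  have hmono : ∀ j, Mono (ι'.app j) := fun j => (hP j).1
  -- a maximal member of the directed family of subobjects
  obtain ⟨m, ⟨j0, rfl⟩, hmax⟩ := (wellFounded_gt : WellFounded
    ((· > ·) : Subobject a → Subobject a → Prop)).has_min
    (Set.range fun j => Subobject.mk (ι'.app j)) ⟨_, ⟨Classical.arbitrary _, rfl⟩⟩
  have hle : ∀ j, Subobject.mk (ι'.app j) ≤ Subobject.mk (ι'.app j0) := by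
    intro j
    have : IsDirected (Idx s (F.obj a)) (· ≤ ·) := inferInstance
    obtain ⟨k, hjk, hj0k⟩ := directed_of (· ≤ ·) j j0
    have h1 : ∀ (j₁ j₂ : Idx s (F.obj a)) (h : j₁ ≤ j₂),
        Subobject.mk (ι'.app j₁) ≤ Subobject.mk (ι'.app j₂) := by
      intro j₁ j₂ h
      refine Subobject.mk_le_mk_of_comm (P.map (homOfLE h)) ?_
      simp
    have h2 : Subobject.mk (ι'.app k) = Subobject.mk (ι'.app j0) := by
      by_contra hne
      exact hmax _ ⟨k, rfl⟩ (lt_of_le_of_ne (h1 _ _ hj0k) (Ne.symm hne))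
    exact (h1 _ _ hjk).trans h2.le
  have hepi : Epi (ι'.app j0) := by
    constructor
    intro Z u v huv
    apply hc.hom_ext
    intro j
    show ι'.app j ≫ u = ι'.app j ≫ v
    rw [← Subobject.ofMkLEMk_comp (hle j), Category.assoc, Category.assoc, huv]
  have hiso : IsIso (ι'.app j0) := isIso_of_mono_of_epi _
  obtain ⟨-, σ, hσ, -⟩ := hP j0
  have h3 : Epi ((Idx.functor s (F.obj a)).obj j0).obj.hom := by
    have : Epi (σ ≫ ((Idx.functor s (F.obj a)).obj j0).obj.hom) := by
      rw [← hσ]; infer_instance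
    exact epi_of_epi σ _
  have h4 : Epi j0.h := by
    have h5 : Epi (imageSubobject j0.h).arrow := h3
    rw [← imageSubobject_arrow_comp j0.h]
    infer_instance
  have := Tr.isNoetherianObject_obj s hs j0.t
  exact isNoetherianObject_of_epi j0.h

end Main

end Groth.Agent.Lib.helper17.FaithfulExact
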