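import Mathlib
import Groth.Agent.Lib.helper17.DRingBC

/-!
# Homology of the termwise base change of a complex, in terms of linear maps
-/

set_option autoImplicit false

namespace Groth.Agent.Lib.helper17.FiberBridge

open CategoryTheory CategoryTheory.Limits TensorProduct
open Groth.Agent.Lib.helper17.DRingBC

universe u

lemma exact_transfer {X₁ X₂ X₃ Y₁ Y₂ Y₃ : Type*} [Zero X₃] [Zero Y₃]
    (f : X₁ → X₂) (g : X₂ → X₃) (f' : Y₁ → Y₂) (g' : Y₂ → Y₃)
    (e₁ : X₁ ≃ Y₁) (e₂ : X₂ ≃ Y₂) (e₃ : X₃ ≃ Y₃) (h3 : e₃ 0 = 0)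
    (c1 : ∀ x, e₂ (f x) = f' (e₁ x)) (c2 : ∀ x, e₃ (g x) = g' (e₂ x))
    (h : Function.Exact f g) : Function.Exact f' g' := by
  intro y
  obtain ⟨x, rfl⟩ := e₂.surjective y
  rw [← c2, ← h3, e₃.apply_eq_iff_eq, h x]
  constructor
  · rintro ⟨z, rfl⟩
    exact ⟨e₁ z, (c1 z).symm⟩
  · rintro ⟨z, hz⟩
    obtain ⟨w, rfl⟩ := e₁.surjective z
    rw [← c1] at hz
    exact ⟨w, e₂.injective hz⟩

variable {A B : Type u} [CommRing A] [CommRing B] [Algebra A B]

set_option backward.isDefEq.respectTransparency false in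
lemma equiv_natural {M N : ModuleCat.{u} A} (l : M ⟶ N)
    (x : (ModuleCat.extendScalars (algebraMap A B)).obj M) :
    extendScalarsObjEquiv (B := B) N (((ModuleCat.extendScalars (algebraMap A B)).map l).hom x) =
      (l.hom.lTensor B) (extendScalarsObjEquiv (B := B) M x) := by
  induction x using TensorProduct.induction_on with
  | zero => simp
  | tmul s m =>
    rfl
  | add x y hx hy =>
    rw [map_add, map_add, map_add, map_add, hx, hy]

/-- the termwise base change functor on complexes -/
noncomputable abbrev bcCx (φ : A →+* B) : CochainComplex (ModuleCat.{u} A) ℤ ⥤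
    CochainComplex (ModuleCat.{u} B) ℤ :=
  (ModuleCat.extendScalars.{u, u, u} φ).mapHomologicalComplex (ComplexShape.up ℤ)

theorem exact_lTensor_of_isZero_homology (E : CochainComplex (ModuleCat.{u} A) ℤ) (i : ℤ)
    (h : IsZero (((bcCx (algebraMap A B)).obj E).homology i)) :
    Function.Exact ((E.d (i - 1) i).hom.lTensor B) ((E.d i (i + 1)).hom.lTensor B) := by
  rw [← HomologicalComplex.exactAt_iff_isZero_homology,
    HomologicalComplex.exactAt_iff' _ (i - 1) i (i + 1) (by simp) (by simp),
    ShortComplex.ShortExact.moduleCat_exact_iff_function_exact] at h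
  refine exact_transfer
    (((ModuleCat.extendScalars (algebraMap A B)).map (E.d (i - 1) i)).hom)
    (((ModuleCat.extendScalars (algebraMap A B)).map (E.d i (i + 1))).hom) _ _
    (extendScalarsObjEquiv (B := B) (E.X (i - 1))).toEquiv
    (extendScalarsObjEquiv (B := B) (E.X i)).toEquiv
    (extendScalarsObjEquiv (B := B) (E.X (i + 1))).toEquiv
    (map_zero (extendScalarsObjEquiv (B := B) (E.X (i + 1))))
    (fun x => equiv_natural (B := B) (E.d (i - 1) i) x)
    (fun x => equiv_natural (B := B) (E.d i (i + 1)) x) h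

end Groth.Agent.Lib.helper17.FiberBridge
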