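import Mathlib
import Groth.Agent.Lib.helper17.DRingCover

/-!
# Descent of tor amplitude along the localizations at all maximal ideals
-/

set_option autoImplicit false

namespace Groth.Agent.Lib.helper17.FiberCover

open CategoryTheory CategoryTheory.Limits DerivedCategory TensorProduct
open Groth.Agent.Lib.helper17 Groth.Agent.Lib.helper17.DRingBC
open Groth.Agent.Lib.helper17.DRingTA Groth.Agent.Lib.helper17.DRingTor
open CochainComplex HomologicalComplex
open Groth.Agent.Lib.helper17.PCohD

attribute [local instance] HasDerivedCategory.standard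

universe u

variable {R : Type u} [CommRing R]

/-- `LocalizedModule` versus base change. -/
noncomputable def locEquivMax (m : Ideal R) [m.IsMaximal] (M : ModuleCat.{u} R) :
    ((bcF R (Localization.AtPrime m)).obj M) ≃ₗ[Localization.AtPrime m]
      LocalizedModule m.primeCompl M :=
  (extendScalarsObjIso (B := Localization.AtPrime m) M).toLinearEquiv ≪≫ₗ
    (LocalizedModule.equivTensorProduct m.primeCompl M).symm

lemma isZero_of_max (M : ModuleCat.{u} R)
    (hM : ∀ (m : Ideal R) [m.IsMaximal], IsZero ((bcF R (Localization.AtPrime m)).obj M)) :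
    IsZero M := by
  have : Subsingleton M := by
    refine Module.subsingleton_of_localization_maximal
      (fun (P : Ideal R) [P.IsMaximal] => LocalizedModule P.primeCompl M)
      (fun (P : Ideal R) [P.IsMaximal] => LocalizedModule.mkLinearMap P.primeCompl M) ?_
    intro m hm
    have h1 : Subsingleton ((bcF R (Localization.AtPrime m)).obj M) :=
      ModuleCat.subsingleton_of_isZero (hM m)
    exact (locEquivMax m M).symm.toEquiv.subsingleton
  exact ModuleCat.isZero_of_subsingleton M

lemma flat_of_max (M : ModuleCat.{u} R)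
    (hM : ∀ (m : Ideal R) [m.IsMaximal],
      Fl (Localization.AtPrime m) ((bcF R (Localization.AtPrime m)).obj M)) :
    Fl R M := by
  refine Module.flat_of_localized_maximal M ?_
  intro m hm
  have h1 : Module.Flat (Localization.AtPrime m) ((bcF R (Localization.AtPrime m)).obj M) :=
    hM m
  have h2 : Module.Flat (Localization.AtPrime m) (LocalizedModule m.primeCompl M) :=
    Module.Flat.of_linearEquiv (locEquivMax m M).symm
  exact Module.Flat.trans R (Localization.AtPrime m) _

/-- descent of tor amplitude along localizations at maximal ideals. -/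
theorem torAmp_of_cover_max (K : Cx R) (a b : ℤ)
    (h : ∀ (m : Ideal R) [m.IsMaximal], DRing.HasTorAmplitudeIn (Localization.AtPrime m) a b
      (Q.obj ((bcC R (Localization.AtPrime m)).obj K))) :
    DRing.HasTorAmplitudeIn R a b (Q.obj K) := by
  have hz' := fun (m : Ideal R) [m.IsMaximal] => isZero_homology_of_torAmp (h m)
  have hz : ∀ i, i < a ∨ b < i → IsZero (K.homology i) := by
    intro i hi
    apply isZero_of_max
    intro m hm
    exact ((hz' m i hi).of_iso (homologyQIso _ i).symm).of_iso (bcC_homologyIso K i).symm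
  obtain ⟨P, ⟨⟨bP, hbP⟩, hPfr⟩, ⟨e⟩⟩ := exists_free_resolution R (Q.obj K) b
    (fun i hi => (hz i (Or.inr hi)).of_iso (homologyQIso K i))
  have hPfl : ∀ i, Fl R (P.X i) := fun i => Fr_le_Fl R _ (hPfr i)
  have hop' : Fl R (P.opcycles a) := by
    apply flat_of_max
    intro m hm
    let e' : Q.obj ((bcC R (Localization.AtPrime m)).obj P) ≅
        Q.obj ((bcC R (Localization.AtPrime m)).obj K) :=
      (bcDQ P).symm ≪≫ (bcD R (Localization.AtPrime m)).mapIso e ≪≫ bcDQ K
    have h' := torAmp_of_iso (h m) e'.symm
    obtain ⟨_, hop⟩ := (torAmp_iff ((bcC R (Localization.AtPrime m)).obj P) bP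
      (fun i hi => isZero_bcC_X P i (hbP i hi)) (fun i => Fl_bcF (P.X i) (hPfl i)) a b).1 h'
    exact (Fl (Localization.AtPrime m)).prop_of_iso (bcC_opcyclesIso P a) hop
  refine torAmp_of_iso ((torAmp_iff P bP hbP hPfl a b).2 ⟨fun i hi => ?_, hop'⟩) e
  exact (hz i hi).of_iso ((homologyQIso P i).symm ≪≫
    (DerivedCategory.homologyFunctor _ i).mapIso e ≪≫ homologyQIso K i)

end Groth.Agent.Lib.helper17.FiberCover
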