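import Mathlib

/-!
# Three-term complexes of finite free modules over a local ring

If `P → Q → N` is a complex over a local ring with `Q` finite and `N` finite free which is exact
after tensoring with the residue field, then it is exact and the cokernel of `Q → N` is free.
-/

set_option autoImplicit false

namespace Groth.Agent.Lib.helper17.FiberLocal

open TensorProduct

variable {S : Type*} [CommRing S] [IsLocalRing S]
variable {P Q N : Type*} [AddCommGroup P] [AddCommGroup Q] [AddCommGroup N]
  [Module S P] [Module S Q] [Module S N]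

local notation "k" => IsLocalRing.ResidueField S

/-- the induced map from the cokernel of `f`. -/
noncomputable def gbar (f : P →ₗ[S] Q) (g : Q →ₗ[S] N) (hgf : g ∘ₗ f = 0) :
    (Q ⧸ LinearMap.range f) →ₗ[S] N :=
  (LinearMap.range f).liftQ g (by
    rintro _ ⟨x, rfl⟩
    exact LinearMap.congr_fun hgf x)

lemma gbar_mkQ (f : P →ₗ[S] Q) (g : Q →ₗ[S] N) (hgf : g ∘ₗ f = 0) :
    gbar f g hgf ∘ₗ (LinearMap.range f).mkQ = g :=
  Submodule.liftQ_mkQ _ _ _

lemma gbar_lTensor_injective (f : P →ₗ[S] Q) (g : Q →ₗ[S] N) (hgf : g ∘ₗ f = 0)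
    (hex : Function.Exact (f.lTensor k) (g.lTensor k)) :
    Function.Injective ((gbar f g hgf).lTensor k) := by
  rw [← LinearMap.ker_eq_bot, Submodule.eq_bot_iff]
  intro z hz
  obtain ⟨y, rfl⟩ := LinearMap.lTensor_surjective k (Submodule.mkQ_surjective (LinearMap.range f)) z
  have h1 : (g.lTensor k) y = 0 := by
    have : (gbar f g hgf).lTensor k ((LinearMap.range f).mkQ.lTensor k y) = (g.lTensor k) y := by
      rw [← LinearMap.comp_apply, ← LinearMap.lTensor_comp, gbar_mkQ]
    rw [← this]
    exact hz
  obtain ⟨x, rfl⟩ := (hex y).1 h1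
  rw [← LinearMap.comp_apply, ← LinearMap.lTensor_comp]
  have : (LinearMap.range f).mkQ ∘ₗ f = 0 := by
    ext p
    simp
  rw [this, LinearMap.lTensor_zero, LinearMap.zero_apply]

variable [Module.Finite S Q] [Module.Finite S N] [Module.Free S N]

theorem exact_of_exact_lTensor (f : P →ₗ[S] Q) (g : Q →ₗ[S] N) (hgf : g ∘ₗ f = 0)
    (hex : Function.Exact (f.lTensor k) (g.lTensor k)) : Function.Exact f g := by
  have hinj := gbar_lTensor_injective f g hgf hex
  obtain ⟨l', hl'⟩ :=
    (IsLocalRing.split_injective_iff_lTensor_residueField_injective (gbar f g hgf)).2 hinj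
  intro y
  constructor
  · intro hy
    have h1 : gbar f g hgf ((LinearMap.range f).mkQ y) = 0 := by
      rw [← LinearMap.comp_apply, gbar_mkQ]
      exact hy
    have h2 : (LinearMap.range f).mkQ y = 0 := by
      have := LinearMap.congr_fun hl' ((LinearMap.range f).mkQ y)
      rw [LinearMap.comp_apply, h1, map_zero] at this
      exact this.symm
    rw [Submodule.mkQ_apply, Submodule.Quotient.mk_eq_zero] at h2
    exact h2
  · rintro ⟨x, rfl⟩
    exact LinearMap.congr_fun hgf x

theorem free_coker_of_exact_lTensor (f : P →ₗ[S] Q) (g : Q →ₗ[S] N) (hgf : g ∘ₗ f = 0)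
    (hex : Function.Exact (f.lTensor k) (g.lTensor k)) :
    Module.Free S (N ⧸ LinearMap.range g) := by
  have hinj := gbar_lTensor_injective f g hgf hex
  have hr : LinearMap.range (gbar f g hgf) = LinearMap.range g := by
    rw [gbar, Submodule.range_liftQ]
  have := Module.free_of_lTensor_residueField_injective (gbar f g hgf)
    (LinearMap.range (gbar f g hgf)).mkQ (Submodule.mkQ_surjective _)
    (LinearMap.exact_map_mkQ_range _) hinj
  rw [hr] at this
  exact this

end Groth.Agent.Lib.helper17.FiberLocal
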