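import Mathlib
import Groth.Agent.Lib.helper17.DRingTA
import Groth.Agent.Lib.helper17.FiberLocal
import Groth.Agent.Lib.helper17.FiberBridge

/-!
# Tor amplitude from fibres: local case
-/

set_option autoImplicit false

namespace Groth.Agent.Lib.helper17.FiberTA

open CategoryTheory CategoryTheory.Limits TensorProduct DerivedCategory
open Groth.Agent.Lib.helper17 Groth.Agent.Lib.helper17.DRingBC Groth.Agent.Lib.helper17.FiberBridge
open Groth.Agent.Lib.helper17.DRingTA Groth.Agent.Lib.helper17.DRingTor

attribute [local instance] HasDerivedCategory.standard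

universe u

section General

variable {A B : Type u} [CommRing A] [CommRing B] [Algebra A B]

theorem exact_lTensor_of_isZero_homology' (E : CochainComplex (ModuleCat.{u} A) ℤ) (i j k : ℤ)
    (hij : i + 1 = j) (hjk : j + 1 = k)
    (h : IsZero (((bcCx (algebraMap A B)).obj E).homology j)) :
    Function.Exact ((E.d i j).hom.lTensor B) ((E.d j k).hom.lTensor B) := by
  obtain rfl : i = j - 1 := by lia
  obtain rfl : k = j + 1 := by lia
  exact exact_lTensor_of_isZero_homology E j h

lemma isZero_homology_of_exact (E : CochainComplex (ModuleCat.{u} A) ℤ) (i j k : ℤ)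
    (hij : i + 1 = j) (hjk : j + 1 = k)
    (h : Function.Exact (E.d i j).hom (E.d j k).hom) : IsZero (E.homology j) := by
  rw [← HomologicalComplex.exactAt_iff_isZero_homology,
    HomologicalComplex.exactAt_iff' _ i j k (by simp; lia) (by simp; lia),
    ShortComplex.ShortExact.moduleCat_exact_iff_function_exact]
  exact h

/-- `opcycles j` as a quotient module -/
noncomputable def opcyclesIso (E : CochainComplex (ModuleCat.{u} A) ℤ) (i j : ℤ) (hij : i + 1 = j) :
    E.opcycles j ≅ ModuleCat.of A (E.X j ⧸ LinearMap.range (E.d i j).hom) :=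
  IsColimit.coconePointUniqueUpToIso (E.opcyclesIsCokernel i j (by simp; lia))
    (ModuleCat.cokernelIsColimit (E.d i j))

end General

section Local

variable (S : Type u) [CommRing S] [IsLocalRing S]

theorem torAmp_of_fiber_local (E : CochainComplex (ModuleCat.{u} S) ℤ) (b0 : ℤ)
    (hEb : ∀ i, b0 < i → IsZero (E.X i))
    (hE : ∀ i, Module.Finite S (E.X i) ∧ Module.Free S (E.X i)) (a c : ℤ)
    (hfib : ∀ i, i < a ∨ c < i →
      IsZero (((bcCx (algebraMap S (IsLocalRing.ResidueField S))).obj E).homology i)) :
    DRing.HasTorAmplitudeIn S a c (Q.obj E) := by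
  have hfl : ∀ i, Fl S (E.X i) := fun i => by
    obtain ⟨h1, h2⟩ := hE i
    exact (inferInstance : Module.Flat S (E.X i))
  have hfin : ∀ i, Module.Finite S (E.X i) := fun i => (hE i).1
  have hfree : ∀ i, Module.Free S (E.X i) := fun i => (hE i).2
  have hdd : ∀ i j k : ℤ, (E.d j k).hom ∘ₗ (E.d i j).hom = 0 := fun i j k => by
    rw [← ModuleCat.hom_comp, E.d_comp_d]
    rfl
  refine (torAmp_iff E b0 hEb hfl a c).2 ⟨fun i hi => ?_, ?_⟩
  · apply isZero_homology_of_exact E (i - 1) i (i + 1) (by lia) rfl
    exact FiberLocal.exact_of_exact_lTensor _ _ (hdd _ _ _)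
      (exact_lTensor_of_isZero_homology' E (i - 1) i (i + 1) (by lia) rfl (hfib i hi))
  · have hfreeq : Module.Free S (E.X a ⧸ LinearMap.range (E.d (a - 1) a).hom) :=
      FiberLocal.free_coker_of_exact_lTensor (E.d (a - 2) (a - 1)).hom (E.d (a - 1) a).hom
        (hdd _ _ _)
        (exact_lTensor_of_isZero_homology' E (a - 2) (a - 1) a (by lia) (by lia)
          (hfib (a - 1) (Or.inl (by lia))))
    refine (Fl S).prop_of_iso (opcyclesIso E (a - 1) a (by lia)).symm ?_
    exact (inferInstance : Module.Flat S (E.X a ⧸ LinearMap.range (E.d (a - 1) a).hom))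

end Local

end Groth.Agent.Lib.helper17.FiberTA
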