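import Mathlib
import Groth.Agent.Lib.helper17.DRingBC
import Groth.Agent.Lib.helper17.FiberBridge

/-!
# Transitivity of termwise base change; fibres at a maximal ideal versus fibres of the localization
-/

set_option autoImplicit false

namespace Groth.Agent.Lib.helper17.FiberTrans

open CategoryTheory CategoryTheory.Limits TensorProduct
open Groth.Agent.Lib.helper17.DRingBC Groth.Agent.Lib.helper17.FiberBridge

universe u

section Comp

variable {R₁ R₂ R₂' R₃ : Type u} [CommRing R₁] [CommRing R₂] [CommRing R₂'] [CommRing R₃]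
  (f₁₂ : R₁ →+* R₂) (f₂₃ : R₂ →+* R₃) (g₁₂ : R₁ →+* R₂') (g₂₃ : R₂' →+* R₃)

/-- two factorizations of the same ring map give isomorphic iterated extensions of scalars -/
noncomputable def extCompIso (heq : f₂₃.comp f₁₂ = g₂₃.comp g₁₂) :
    ModuleCat.extendScalars.{u, u, u} f₁₂ ⋙ ModuleCat.extendScalars.{u, u, u} f₂₃ ≅
      ModuleCat.extendScalars.{u, u, u} g₁₂ ⋙ ModuleCat.extendScalars.{u, u, u} g₂₃ :=
  (ModuleCat.extendScalarsComp f₁₂ f₂₃).symm ≪≫ eqToIso (by rw [heq]) ≪≫
    ModuleCat.extendScalarsComp g₁₂ g₂₃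

noncomputable def bcCxCompIso (heq : f₂₃.comp f₁₂ = g₂₃.comp g₁₂)
    (E : CochainComplex (ModuleCat.{u} R₁) ℤ) :
    (bcCx f₂₃).obj ((bcCx f₁₂).obj E) ≅ (bcCx g₂₃).obj ((bcCx g₁₂).obj E) :=
  (NatIso.mapHomologicalComplex (extCompIso f₁₂ f₂₃ g₁₂ g₂₃ heq) (ComplexShape.up ℤ)).app E

end Comp

section Flat

variable {A B : Type u} [CommRing A] [CommRing B] [Algebra A B] [Module.Flat A B]

lemma isZero_homology_bcCx_of_flat (X : CochainComplex (ModuleCat.{u} A) ℤ) (i : ℤ)
    (h : IsZero (X.homology i)) : IsZero (((bcCx (algebraMap A B)).obj X).homology i) :=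
  ((bcF A B).map_isZero h).of_iso (bcC_homologyIso X i)

end Flat

section Max

variable {R : Type u} [CommRing R] (m : Ideal R) [m.IsMaximal]

/-- the map from `R ⧸ m` to the residue field of the localization -/
noncomputable def psi : R ⧸ m →+* IsLocalRing.ResidueField (Localization.AtPrime m) :=
  Ideal.Quotient.lift m
    ((algebraMap (Localization.AtPrime m) (IsLocalRing.ResidueField (Localization.AtPrime m))).comp
      (algebraMap R (Localization.AtPrime m))) (fun a ha => by
    rw [RingHom.comp_apply]
    change IsLocalRing.residue _ _ = 0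
    rw [IsLocalRing.residue_eq_zero_iff]
    exact (IsLocalization.AtPrime.to_map_mem_maximal_iff (Localization.AtPrime m) m a).2 ha)

lemma psi_comp : (psi m).comp (Ideal.Quotient.mk m) =
    (algebraMap (Localization.AtPrime m) (IsLocalRing.ResidueField (Localization.AtPrime m))).comp
      (algebraMap R (Localization.AtPrime m)) :=
  Ideal.Quotient.lift_comp_mk _ _ _

theorem isZero_fiber_homology (E : CochainComplex (ModuleCat.{u} R) ℤ) (i : ℤ)
    (h : IsZero (((bcCx (Ideal.Quotient.mk m)).obj E).homology i)) :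
    IsZero (((bcCx (algebraMap (Localization.AtPrime m)
      (IsLocalRing.ResidueField (Localization.AtPrime m)))).obj
        ((bcCx (algebraMap R (Localization.AtPrime m))).obj E)).homology i) := by
  letI : Field (R ⧸ m) := Ideal.Quotient.field m
  letI : Algebra (R ⧸ m) (IsLocalRing.ResidueField (Localization.AtPrime m)) := (psi m).toAlgebra
  have h1 := isZero_homology_bcCx_of_flat (A := R ⧸ m)
    (B := IsLocalRing.ResidueField (Localization.AtPrime m)) _ i h
  exact h1.of_iso ((HomologicalComplex.homologyFunctor _ _ i).mapIso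
    (bcCxCompIso (algebraMap R (Localization.AtPrime m))
      (algebraMap (Localization.AtPrime m) (IsLocalRing.ResidueField (Localization.AtPrime m)))
      (Ideal.Quotient.mk m) (psi m) (psi_comp m).symm E))

end Max

end Groth.Agent.Lib.helper17.FiberTrans
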