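import Mathlib
import Groth.Agent.Lib.helper17.FiberTA
import Groth.Agent.Lib.helper17.FiberTrans
import Groth.Agent.Lib.helper17.FiberCover

/-!
# Tor amplitude from fibres at maximal ideals
-/

set_option autoImplicit false

namespace Groth.Agent.Lib.helper17.FiberGlobal

open CategoryTheory CategoryTheory.Limits TensorProduct DerivedCategory
open Groth.Agent.Lib.helper17 Groth.Agent.Lib.helper17.DRingBC Groth.Agent.Lib.helper17.FiberBridge
open Groth.Agent.Lib.helper17.DRingTA Groth.Agent.Lib.helper17.DRingTor
open Groth.Agent.Lib.helper17.DRingPC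

attribute [local instance] HasDerivedCategory.standard

universe u

variable (R : Type u) [CommRing R]

theorem torAmp_of_fiber_global (E : CochainComplex (ModuleCat.{u} R) ℤ) (b0 : ℤ)
    (hEb : ∀ i, b0 < i → IsZero (E.X i))
    (hE : ∀ i, Module.Finite R (E.X i) ∧ Module.Free R (E.X i)) (a c : ℤ)
    (hfib : ∀ (m : Ideal R) [m.IsMaximal], ∀ i, i < a ∨ c < i →
      IsZero (((bcCx (Ideal.Quotient.mk m)).obj E).homology i)) :
    DRing.HasTorAmplitudeIn R a c (Q.obj E) := by
  apply FiberCover.torAmp_of_cover_max
  intro m hm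
  refine FiberTA.torAmp_of_fiber_local (Localization.AtPrime m)
    ((bcC R (Localization.AtPrime m)).obj E) b0 (fun i hi => isZero_bcC_X E i (hEb i hi))
    (fun i => FF_bcF (E.X i) (hE i)) a c ?_
  intro i hi
  exact FiberTrans.isZero_fiber_homology m E i (hfib m i hi)

end Groth.Agent.Lib.helper17.FiberGlobal
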