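import Mathlib
import Groth.Prelude.Def_DRing2
import Groth.Prelude.Def_DDual2
import Groth.Agent.Lib.helper2.KPc
import Groth.Agent.Lib.helper17.FiberTA

/-!
# Fibres of pseudo-coherent complexes via derived base change
-/

set_option autoImplicit false

namespace Groth.Agent.Lib.helper17.FiberLB

open CategoryTheory CategoryTheory.Limits DerivedCategory
open Groth.Agent.Lib.helper2

attribute [local instance] HasDerivedCategory.standard

universe u

variable {A B : Type u} [CommRing A] [CommRing B] (φ : A →+* B)

lemma isKProjective_of_pc (E : DRing.Cx A) (b0 : ℤ) (hEb : DRing.VanishesAbove E b0)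
    (hE : DRing.TermwiseFiniteFree E) : E.IsKProjective := by
  have hP1 : E.IsStrictlyLE b0 := by
    rw [CochainComplex.isStrictlyLE_iff]
    exact hEb
  have hP2 : ∀ n, Projective (E.X n) := fun n => by
    obtain ⟨h1, h2⟩ := hE n
    rw [← IsProjective.iff_projective]
    exact Module.Projective.of_free
  exact CochainComplex.isKProjective_of_projective E b0

theorem isZero_homology_bcCx [DRing.HasLBaseChange φ] (E : DRing.Cx A) (b0 : ℤ)
    (hEb : DRing.VanishesAbove E b0) (hE : DRing.TermwiseFiniteFree E) (K : Dual.D A)
    (e : DRing.toD E ≅ K) (i : ℤ)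
    (h : Subsingleton (Dual.HD B ((DRing.LBaseChange φ).obj K) i)) :
    IsZero (((KPc.bcCx φ).obj E).homology i) := by
  have := isKProjective_of_pc E b0 hEb hE
  have h1 : IsZero ((DerivedCategory.homologyFunctor (ModuleCat.{u} B) i).obj
      ((DRing.LBaseChange φ).obj K)) := ModuleCat.isZero_of_subsingleton _
  refine h1.of_iso ?_
  exact ((DerivedCategory.homologyFunctorFactors _ i).app ((KPc.bcCx φ).obj E)).symm ≪≫
    (DerivedCategory.homologyFunctor (ModuleCat.{u} B) i).mapIso
      ((KPc.LBaseChangeIso φ E).symm ≪≫ (DRing.LBaseChange φ).mapIso e)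

end Groth.Agent.Lib.helper17.FiberLB
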