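import Mathlib
import Groth.Agent.Lib.helper2.KPc2
import Groth.Agent.Lib.helper17.FiberTrans

/-!
# Tor amplitude implies vanishing of the cohomology of the termwise base change
-/

set_option autoImplicit false

namespace Groth.Agent.Lib.helper17.FiberOfTA

open CategoryTheory CategoryTheory.Limits DerivedCategory TensorProduct
open Groth.Agent.Lib.helper2 Groth.Agent.Lib.helper17
open Groth.Agent.Lib.helper17.DRingTA Groth.Agent.Lib.helper17.DRingTor
open Groth.Agent.Lib.helper17.DRingBC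

attribute [local instance] HasDerivedCategory.standard

universe u

section

variable {A : Type u} (B : Type u) [CommRing A] [CommRing B] [Algebra A B]

theorem isZero_homology_bcCx_of_torAmp (E : DRing.Cx A) (b0 : ℤ)
    (hEb : ∀ i, b0 < i → IsZero (E.X i)) (hEfl : ∀ i, Module.Flat A (E.X i)) (a c : ℤ)
    (hK : DRing.HasTorAmplitudeIn A a c (Q.obj E)) (i : ℤ) (hi : i < a ∨ c < i) :
    IsZero (((KPc.bcCx (algebraMap A B)).obj E).homology i) := by
  obtain ⟨F, hz, hfl, ⟨e⟩⟩ := hK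
  have hb : ∀ i : ℤ, b0 < i → IsZero ((DerivedCategory.homologyFunctor _ i).obj (Q.obj E)) := by
    intro i hi
    refine IsZero.of_iso ?_ ((DerivedCategory.homologyFunctorFactors _ i).app E)
    exact isZero_homology_of_isZero_X E i (hEb i hi)
  obtain ⟨P, ⟨⟨bP, hbP⟩, hPfree⟩, ⟨eP⟩⟩ := exists_free_resolution A (Q.obj E) b0 hb
  have hP1 : P.IsStrictlyLE bP := by
    rw [CochainComplex.isStrictlyLE_iff]
    exact hbP
  have hP2 : ∀ n, Projective (P.X n) := fun n => by
    have : Module.Free A (P.X n) := hPfree n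
    rw [← IsProjective.iff_projective]
    exact Module.Projective.of_free
  have hP3 : P.IsKProjective := CochainComplex.isKProjective_of_projective P bP
  have hPfl : ∀ i, Module.Flat A (P.X i) := fun i => by
    have : Module.Free A (P.X i) := hPfree i
    infer_instance
  -- the map to `E`
  obtain ⟨g, hg⟩ := (CochainComplex.IsKProjective.Qh_map_bijective P
    ((HomotopyCategory.quotient _ _).obj E)).surjective eP.hom
  obtain ⟨f, rfl⟩ := (HomotopyCategory.quotient _ _).map_surjective g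
  have hf : IsIso (Q.map f) := by
    have : Q.map f = eP.hom := hg
    rw [this]
    infer_instance
  have hf' : QuasiIso f := (DerivedCategory.isIso_Q_map_iff_quasiIso (C := ModuleCat.{u} A) f).1 hf
  -- the map to `F`
  obtain ⟨g2, hg2⟩ := (CochainComplex.IsKProjective.Qh_map_bijective P
    ((HomotopyCategory.quotient _ _).obj F)).surjective (eP.hom ≫ e.inv)
  obtain ⟨f2, rfl⟩ := (HomotopyCategory.quotient _ _).map_surjective g2
  have hf2 : IsIso (Q.map f2) := by
    have : Q.map f2 = eP.hom ≫ e.inv := hg2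
    rw [this]
    infer_instance
  have hf2' : QuasiIso f2 :=
    (DerivedCategory.isIso_Q_map_iff_quasiIso (C := ModuleCat.{u} A) f2).1 hf2
  have hq : QuasiIso ((KPc.bcCx (algebraMap A B)).map f) :=
    KPc.quasiIso_bcCx B f hPfl hEfl ⟨bP, hbP⟩ ⟨b0, hEb⟩
  have hq2 : QuasiIso ((KPc.bcCx (algebraMap A B)).map f2) :=
    KPc.quasiIso_bcCx B f2 hPfl hfl ⟨bP, hbP⟩ ⟨c, fun i hi => hz i (Or.inr hi)⟩
  have h0 : IsZero (((KPc.bcCx (algebraMap A B)).obj F).homology i) := by
    rw [← HomologicalComplex.exactAt_iff_isZero_homology]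
    exact ShortComplex.exact_of_isZero_X₂ _
      ((ModuleCat.extendScalars.{u, u, u} (algebraMap A B)).map_isZero (hz i hi))
  exact h0.of_iso ((asIso (HomologicalComplex.homologyMap
    ((KPc.bcCx (algebraMap A B)).map f) i)).symm ≪≫
      asIso (HomologicalComplex.homologyMap ((KPc.bcCx (algebraMap A B)).map f2) i))

end

section Comp

variable {R₁ R₂ R₃ : Type u} [CommRing R₁] [CommRing R₂] [CommRing R₃]
  (f₁₂ : R₁ →+* R₂) (f₂₃ : R₂ →+* R₃) (g : R₁ →+* R₃)

noncomputable def bcCxCompIso' (heq : f₂₃.comp f₁₂ = g)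
    (E : CochainComplex (ModuleCat.{u} R₁) ℤ) :
    (KPc.bcCx g).obj E ≅ (KPc.bcCx f₂₃).obj ((KPc.bcCx f₁₂).obj E) :=
  (NatIso.mapHomologicalComplex (eqToIso (by rw [heq]) ≪≫ ModuleCat.extendScalarsComp f₁₂ f₂₃)
    (ComplexShape.up ℤ)).app E

end Comp

section Quot

variable {R : Type u} [CommRing R] (I m : Ideal R) (hIm : I ≤ m)

include hIm in
theorem isZero_fiber_of_torAmp_quot (E : DRing.Cx R) (b0 : ℤ)
    (hEb : ∀ i, b0 < i → IsZero (E.X i))
    (hE : ∀ i, Module.Finite R (E.X i) ∧ Module.Free R (E.X i)) (a c : ℤ)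
    (h : DRing.HasTorAmplitudeIn (R ⧸ I) a c (Q.obj ((KPc.bcCx (Ideal.Quotient.mk I)).obj E)))
    (i : ℤ) (hi : i < a ∨ c < i) :
    IsZero (((KPc.bcCx (Ideal.Quotient.mk m)).obj E).homology i) := by
  letI : Algebra (R ⧸ I) (R ⧸ m) := (Ideal.Quotient.factor hIm).toAlgebra
  have h1 := isZero_homology_bcCx_of_torAmp (A := R ⧸ I) (R ⧸ m)
    ((KPc.bcCx (Ideal.Quotient.mk I)).obj E) b0
    (fun i hi => (ModuleCat.extendScalars.{u, u, u} (Ideal.Quotient.mk I)).map_isZero (hEb i hi))
    (fun i => by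
      obtain ⟨h1, h2⟩ := hE i
      exact (Fl (R ⧸ I)).prop_of_iso (extendScalarsObjIso (B := R ⧸ I) (E.X i)).symm
        ((inferInstance : Module.Flat (R ⧸ I) ((R ⧸ I) ⊗[R] (E.X i))) :
          Fl (R ⧸ I) (ModuleCat.of (R ⧸ I) ((R ⧸ I) ⊗[R] (E.X i))))) a c h i hi
  exact h1.of_iso ((HomologicalComplex.homologyFunctor _ _ i).mapIso
    (bcCxCompIso' (Ideal.Quotient.mk I) (Ideal.Quotient.factor hIm) (Ideal.Quotient.mk m)
      (Ideal.Quotient.factor_comp_mk hIm) E))

end Quot

end Groth.Agent.Lib.helper17.FiberOfTA
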