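import Mathlib
import Groth.Prelude.Def_EGA4b
import Groth.Prelude.Def_Found
import Groth.Agent.Lib.helper17.CplTransport
import Groth.Agent.Lib.helper25.GeomReg5
import Groth.Agent.Lib.helper6.CplQuot2
import Groth.Agent.Lib.helper20.FiberLoc

/-!
# G-rings via generic formal fibres of the local domains `(R/q)_p`
-/

set_option autoImplicit false
set_option linter.style.haveILetI false
set_option linter.unusedSectionVars false

namespace Groth.Agent.Lib.helper17.GRingGeneric

open IsLocalRing TensorProduct Groth.Agent.Lib.helper6.CplMap Groth.Agent.Lib.helper25.GeomReg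

universe u

/-- the condition on one formal fibre. -/
def FF (S : Type u) [CommRing S] [IsLocalRing S] (Q : Ideal S) [Q.IsPrime] : Prop :=
  IsNoetherianRing (Q.Fiber (EGA4.Cpl S)) ∧
    CAlg.IsGeometricallyRegular Q.ResidueField (Q.Fiber (EGA4.Cpl S))

theorem ff_of_ringEquiv {R R' : Type u} [CommRing R] [CommRing R'] [IsLocalRing R]
    [IsLocalRing R'] [IsNoetherianRing R] [IsNoetherianRing R'] (e : R ≃+* R')
    (p' : Ideal R') [p'.IsPrime] (p : Ideal R) [p.IsPrime] (hp : p = p'.comap (e : R →+* R'))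
    (h : FF R p) : FF R' p' := by
  subst hp
  letI : Algebra R R' := (e : R →+* R').toAlgebra
  have hb : Function.Bijective (algebraMap R R') := e.bijective
  haveI : IsLocalHom (algebraMap R R') := IsLocalHom.of_surjective _ hb.2
  haveI : IsScalarTower R R' (EGA4.Cpl R') := isScalarTower_cpl R R'
  let E : EGA4.Cpl R ≃ₐ[R] EGA4.Cpl R' := AlgEquiv.ofBijective (cplMap R R')
    ⟨Groth.Agent.Lib.helper17.CplTransport.cplMap_injective R R' hb,
      Groth.Agent.Lib.helper17.CplTransport.cplMap_surjective R R' hb⟩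
  obtain ⟨hN, hG⟩ := h
  letI := resAlg R R' p'
  haveI := resTower R R' p'
  haveI : Algebra.FiniteType R R' :=
    Algebra.FiniteType.of_surjective (Algebra.ofId R R') hb.2
  haveI := resEssFiniteType R R' p'
  obtain ⟨hN', hG'⟩ := fiber_baseChange R (EGA4.Cpl R) (p'.comap (algebraMap R R')).ResidueField
    p'.ResidueField (Or.inr inferInstance) hN hG
  let c1 : p'.ResidueField ⊗[R] EGA4.Cpl R ≃ₐ[p'.ResidueField] p'.ResidueField ⊗[R] EGA4.Cpl R' :=
    Algebra.TensorProduct.congr (AlgEquiv.refl : p'.ResidueField ≃ₐ[p'.ResidueField] _) E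
  haveI : TensorProduct.CompatibleSMul R R' p'.ResidueField (EGA4.Cpl R') := by
    constructor
    intro r' a b
    obtain ⟨r, rfl⟩ := hb.2 r'
    rw [algebraMap_smul, algebraMap_smul, TensorProduct.smul_tmul]
  let c2 : p'.ResidueField ⊗[R'] EGA4.Cpl R' ≃ₐ[p'.ResidueField]
      p'.ResidueField ⊗[R] EGA4.Cpl R' :=
    Algebra.TensorProduct.equivOfCompatibleSMul R R' p'.ResidueField p'.ResidueField (EGA4.Cpl R')
  let c : p'.ResidueField ⊗[R] EGA4.Cpl R ≃ₐ[p'.ResidueField]
      p'.ResidueField ⊗[R'] EGA4.Cpl R' := c1.trans c2.symm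
  haveI := hN'
  exact ⟨isNoetherianRing_of_ringEquiv _ c.toRingEquiv,
    geomReg_of_algEquiv p'.ResidueField _ _ c hG'⟩

theorem ff_quotient_iff (S : Type u) [CommRing S] [IsNoetherianRing S] [IsLocalRing S]
    (I : Ideal S) [Nontrivial (S ⧸ I)] (Q : Ideal (S ⧸ I)) [Q.IsPrime] (Q₀ : Ideal S) [Q₀.IsPrime]
    (hQ : Q₀ = Q.comap (algebraMap S (S ⧸ I))) : FF S Q₀ ↔ FF (S ⧸ I) Q := by
  subst hQ
  letI := resAlg S (S ⧸ I) Q
  haveI := resTower S (S ⧸ I) Q
  haveI : Algebra.FiniteType S (S ⧸ I) :=
    Algebra.FiniteType.of_surjective (Algebra.ofId S (S ⧸ I)) Ideal.Quotient.mk_surjective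
  haveI := resEssFiniteType S (S ⧸ I) Q
  let c1 : Q.ResidueField ⊗[S ⧸ I] EGA4.Cpl (S ⧸ I) ≃ₐ[Q.ResidueField]
      Q.ResidueField ⊗[S ⧸ I] ((S ⧸ I) ⊗[S] EGA4.Cpl S) :=
    Algebra.TensorProduct.congr (AlgEquiv.refl : Q.ResidueField ≃ₐ[Q.ResidueField] _)
      (Groth.Agent.Lib.helper6.CplQuot.tensorEquiv S I).symm
  let c2 : Q.ResidueField ⊗[S ⧸ I] ((S ⧸ I) ⊗[S] EGA4.Cpl S) ≃ₐ[Q.ResidueField]
      Q.ResidueField ⊗[S] EGA4.Cpl S :=
    Algebra.TensorProduct.cancelBaseChange S (S ⧸ I) Q.ResidueField Q.ResidueField (EGA4.Cpl S)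
  let c := c1.trans c2
  constructor
  · rintro ⟨hN, hG⟩
    obtain ⟨hN', hG'⟩ := fiber_baseChange S (EGA4.Cpl S)
      (Q.comap (algebraMap S (S ⧸ I))).ResidueField Q.ResidueField (Or.inr inferInstance) hN hG
    haveI := hN'
    exact ⟨isNoetherianRing_of_ringEquiv _ c.symm.toRingEquiv,
      geomReg_of_algEquiv Q.ResidueField _ _ c.symm hG'⟩
  · rintro ⟨hN, hG⟩
    haveI := hN
    have hN' : IsNoetherianRing (Q.ResidueField ⊗[S] EGA4.Cpl S) :=
      isNoetherianRing_of_ringEquiv _ c.toRingEquiv
    have hG' := geomReg_of_algEquiv Q.ResidueField _ _ c hG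
    exact fiber_descent S (EGA4.Cpl S) (Q.comap (algebraMap S (S ⧸ I))).ResidueField
      Q.ResidueField hN' hG'

section Main

variable (R : Type u) [CommRing R]

/-- `R_p / q R_p ≃ (R/q)_P` for `P` the image of `p ⊇ q`. -/
theorem nonempty_quotLocEquiv (q : Ideal R) (p : Ideal R) [p.IsPrime] (P : Ideal (R ⧸ q)) [P.IsPrime]
    (hP : P.comap (Ideal.Quotient.mk q) = p) :
    Nonempty ((Localization.AtPrime p ⧸ q.map (algebraMap R (Localization.AtPrime p))) ≃+*
      Localization.AtPrime P) := by
  have hsub : Submonoid.map (Ideal.Quotient.mk q) p.primeCompl = P.primeCompl := by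
    ext x
    constructor
    · rintro ⟨y, hy, rfl⟩
      intro hmem
      apply hy
      rw [← hP]
      exact hmem
    · intro hx
      obtain ⟨y, rfl⟩ := Ideal.Quotient.mk_surjective x
      refine ⟨y, ?_, rfl⟩
      intro hy
      apply hx
      rw [← hP] at hy
      exact hy
  have hloc : IsLocalization (Submonoid.map (Ideal.Quotient.mk q) p.primeCompl)
      (Localization.AtPrime p ⧸ q.map (algebraMap R (Localization.AtPrime p))) :=
    IsLocalization.of_surjective p.primeCompl (Localization.AtPrime p) (Ideal.Quotient.mk q)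
      Ideal.Quotient.mk_surjective (Ideal.Quotient.mk _) Ideal.Quotient.mk_surjective rfl
      (by rw [Ideal.mk_ker, Ideal.mk_ker])
  rw [hsub] at hloc
  exact ⟨(IsLocalization.algEquiv P.primeCompl _ (Localization.AtPrime P)).toRingEquiv⟩

lemma bot_eq_comap_of_ringEquiv {T T' : Type u} [CommRing T] [CommRing T'] (e : T ≃+* T') :
    (⊥ : Ideal T) = (⊥ : Ideal T').comap (e : T →+* T') := by
  rw [← RingHom.ker_eq_comap_bot]
  exact ((RingHom.injective_iff_ker_eq_bot (e : T →+* T')).1 e.injective).symm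

variable [IsNoetherianRing R]

theorem isGRing_iff :
    CAlg.IsGRing R ↔
      ∀ (q : Ideal R) [q.IsPrime] (P : Ideal (R ⧸ q)) [P.IsPrime],
        CAlg.IsGeometricallyRegular (⊥ : Ideal (Localization.AtPrime P)).ResidueField
          (EGA4.formalFibre (Localization.AtPrime P) (⊥ : Ideal (Localization.AtPrime P))) := by
  constructor
  · rintro ⟨-, hG⟩ q _ P _
    have hqp : q ≤ P.comap (Ideal.Quotient.mk q) := by
      conv_lhs => rw [← Ideal.mk_ker (I := q), RingHom.ker_eq_comap_bot]
      exact Ideal.comap_mono bot_le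
    have hdisj : Disjoint ((P.comap (Ideal.Quotient.mk q)).primeCompl : Set R) (q : Set R) := by
      rw [Set.disjoint_left]
      intro a ha haq
      exact ha (hqp haq)
    haveI hI : (q.map (algebraMap R (Localization.AtPrime (P.comap (Ideal.Quotient.mk q))))).IsPrime :=
      IsLocalization.isPrime_of_isPrime_disjoint (P.comap (Ideal.Quotient.mk q)).primeCompl _ q
        inferInstance hdisj
    haveI : Nontrivial (Localization.AtPrime (P.comap (Ideal.Quotient.mk q)) ⧸
        q.map (algebraMap R (Localization.AtPrime (P.comap (Ideal.Quotient.mk q))))) :=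
      Ideal.Quotient.nontrivial_iff.mpr hI.ne_top
    obtain ⟨e⟩ := nonempty_quotLocEquiv R q (P.comap (Ideal.Quotient.mk q)) P rfl
    have h1 : FF (Localization.AtPrime (P.comap (Ideal.Quotient.mk q)))
        (q.map (algebraMap R (Localization.AtPrime (P.comap (Ideal.Quotient.mk q))))) :=
      (hG (P.comap (Ideal.Quotient.mk q))).2 _
    have h2 := (ff_quotient_iff (Localization.AtPrime (P.comap (Ideal.Quotient.mk q)))
      (q.map (algebraMap R (Localization.AtPrime (P.comap (Ideal.Quotient.mk q))))) ⊥ _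
      (by rw [← RingHom.ker_eq_comap_bot]; exact (Ideal.mk_ker).symm)).1 h1
    have h3 := ff_of_ringEquiv e ⊥ ⊥ (bot_eq_comap_of_ringEquiv e) h2
    exact h3.2
  · intro h
    refine ⟨inferInstance, fun p _ => ⟨AdicCompletion.flat_of_isNoetherian _, fun Q _ => ?_⟩⟩
    have hIQ : (Q.comap (algebraMap R (Localization.AtPrime p))).map
        (algebraMap R (Localization.AtPrime p)) = Q :=
      IsLocalization.map_under p.primeCompl (Localization.AtPrime p) Q
    have hqp : Q.comap (algebraMap R (Localization.AtPrime p)) ≤ p := by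
      have h1 : Q ≤ maximalIdeal (Localization.AtPrime p) :=
        IsLocalRing.le_maximalIdeal (Ideal.IsPrime.ne_top inferInstance)
      have h2 := Ideal.comap_mono (f := algebraMap R (Localization.AtPrime p)) h1
      have h3 : (maximalIdeal (Localization.AtPrime p)).comap
          (algebraMap R (Localization.AtPrime p)) = p := Localization.AtPrime.under_maximalIdeal
      exact h2.trans (le_of_eq h3)
    haveI hI : ((Q.comap (algebraMap R (Localization.AtPrime p))).map
        (algebraMap R (Localization.AtPrime p))).IsPrime := hIQ.symm ▸ inferInstance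
    haveI : Nontrivial (Localization.AtPrime p ⧸ (Q.comap (algebraMap R (Localization.AtPrime p))).map
        (algebraMap R (Localization.AtPrime p))) :=
      Ideal.Quotient.nontrivial_iff.mpr hI.ne_top
    haveI hPprime : (p.map (Ideal.Quotient.mk (Q.comap (algebraMap R (Localization.AtPrime p))))).IsPrime :=
      Ideal.map_isPrime_of_surjective Ideal.Quotient.mk_surjective
        (by rw [Ideal.mk_ker]; exact hqp)
    have hP : (p.map (Ideal.Quotient.mk (Q.comap (algebraMap R (Localization.AtPrime p))))).comap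
        (Ideal.Quotient.mk (Q.comap (algebraMap R (Localization.AtPrime p)))) = p := by
      rw [Ideal.comap_map_of_surjective _ Ideal.Quotient.mk_surjective, ← RingHom.ker_eq_comap_bot,
        Ideal.mk_ker, sup_eq_left.mpr hqp]
    obtain ⟨e⟩ := nonempty_quotLocEquiv R (Q.comap (algebraMap R (Localization.AtPrime p))) p
      (p.map (Ideal.Quotient.mk (Q.comap (algebraMap R (Localization.AtPrime p))))) hP
    haveI := isNoetherianRing_cpl (Localization.AtPrime
      (p.map (Ideal.Quotient.mk (Q.comap (algebraMap R (Localization.AtPrime p))))))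
    have h3 : FF (Localization.AtPrime
        (p.map (Ideal.Quotient.mk (Q.comap (algebraMap R (Localization.AtPrime p)))))) ⊥ :=
      ⟨Groth.Agent.Lib.helper20.FiberLoc.fiber_isNoetherianRing _ _ _,
        h (Q.comap (algebraMap R (Localization.AtPrime p)))
          (p.map (Ideal.Quotient.mk (Q.comap (algebraMap R (Localization.AtPrime p)))))⟩
    have h2 := ff_of_ringEquiv e.symm ⊥ ⊥ (bot_eq_comap_of_ringEquiv e.symm) h3
    have h1 := (ff_quotient_iff (Localization.AtPrime p)
      ((Q.comap (algebraMap R (Localization.AtPrime p))).map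
        (algebraMap R (Localization.AtPrime p))) ⊥ Q
      (by rw [← RingHom.ker_eq_comap_bot]; exact (hIQ.symm.trans (Ideal.mk_ker).symm))).2 h2
    exact h1

end Main

end Groth.Agent.Lib.helper17.GRingGeneric
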