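import Mathlib
import Groth.Prelude.Def_EGA4b
import Groth.Prelude.Def_Hensel
import Groth.Agent.S0507
import Groth.Agent.S0509
import Groth.Agent.S0510
import Groth.Agent.S0511
import Groth.Agent.S13598
import Groth.Agent.S2736
import Groth.Agent.Lib.helper17.CplBaseChange
import Groth.Agent.Lib.helper17.CplTransport
import Groth.Agent.Lib.helper17.FormEquidim
import Groth.Agent.Lib.helper17.FlatEquidimCat
import Groth.Agent.Lib.helper17.FlatSk

/-!
# The henselization of a Noetherian local ring: completion and formal catenarity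
-/

set_option autoImplicit false
set_option linter.style.haveILetI false
set_option linter.unusedSectionVars false

namespace Groth.Agent.Lib.helper17.HensCpl

open IsLocalRing TensorProduct Groth.Agent.Lib.helper6.CplMap
  Groth.Agent.Lib.helper17.FormEquidim

universe u

section Basic

variable (R S : Type u) [CommRing R] [IsLocalRing R] [CommRing S] [IsLocalRing S]
  [Algebra R S] [IsLocalHom (algebraMap R S)] [Hensel.IsHenselization R S]

theorem maximalIdeal_pow_eq (n : ℕ) :
    (maximalIdeal S) ^ n = ((maximalIdeal R) ^ n).map (algebraMap R S) := by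
  rw [Ideal.map_pow, Groth.Agent.S0507.result R S]

/-- the completion of the henselization is the completion. -/
theorem cplMap_bijective : Function.Bijective (cplMap R S) := by
  apply Groth.Agent.Lib.helper17.CplBaseChange.cplMap_bijective
  · intro n x hx
    rw [Ideal.mem_comap, maximalIdeal_pow_eq R S n] at hx
    have hinj := (Groth.Agent.S0510.result R S n).1
    have h0 : Ideal.quotientMap (Ideal.map (algebraMap R S) (maximalIdeal R ^ n)) (algebraMap R S)
        Ideal.le_comap_map (Ideal.Quotient.mk _ x) = 0 := by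
      rw [Ideal.quotientMap_mk]
      exact Ideal.Quotient.eq_zero_iff_mem.mpr hx
    have h1 := hinj (h0.trans (map_zero _).symm)
    exact Ideal.Quotient.eq_zero_iff_mem.mp h1
  · intro n y
    obtain ⟨xb, hxb⟩ := (Groth.Agent.S0510.result R S n).2 (Ideal.Quotient.mk _ y)
    obtain ⟨x, rfl⟩ := Ideal.Quotient.mk_surjective xb
    refine ⟨x, ?_⟩
    rw [Ideal.quotientMap_mk] at hxb
    rw [maximalIdeal_pow_eq R S n]
    exact Ideal.Quotient.eq.mp hxb

theorem nonempty_cplEquiv : Nonempty (EGA4.Cpl R ≃+* EGA4.Cpl S) :=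
  ⟨RingEquiv.ofBijective (cplMap R S) (cplMap_bijective R S)⟩

end Basic

section Fibre

variable (R S : Type u) [CommRing R] [IsLocalRing R] [IsNoetherianRing R] [CommRing S] [IsLocalRing S]
  [Algebra R S] [IsLocalHom (algebraMap R S)] [Hensel.IsHenselization R S]

/-- primes of the henselization over the same prime are incomparable. -/
theorem eq_of_le_of_comap_eq (P' P : Ideal S) [P'.IsPrime] [P.IsPrime] (hle : P' ≤ P)
    (h : P'.comap (algebraMap R S) = P.comap (algebraMap R S)) : P' = P := by
  set p := P.comap (algebraMap R S) with hp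
  obtain ⟨n, K, hF, hA, -, ⟨e⟩⟩ := Groth.Agent.S2736.result R S p
  haveI : IsArtinianRing (Π i, K i) := inferInstance
  haveI : IsArtinianRing (p.ResidueField ⊗[R] S) := e.symm.toRingEquiv.isArtinianRing
  haveI : P.LiesOver p := ⟨rfl⟩
  haveI : P'.LiesOver p := ⟨h.symm⟩
  let x : p.primesOver S := ⟨P, inferInstance, inferInstance⟩
  let x' : p.primesOver S := ⟨P', inferInstance, inferInstance⟩
  have hxx : x' ≤ x := hle
  have h1 := (PrimeSpectrum.primesOverOrderIsoFiber R S p).monotone hxx
  have h2 : (PrimeSpectrum.primesOverOrderIsoFiber R S p) x' =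
      (PrimeSpectrum.primesOverOrderIsoFiber R S p) x := by
    apply PrimeSpectrum.ext
    have hmax : ((PrimeSpectrum.primesOverOrderIsoFiber R S p) x').asIdeal.IsMaximal :=
      Ideal.IsPrime.isMaximal' ((PrimeSpectrum.primesOverOrderIsoFiber R S p) x').2
    exact hmax.eq_of_le ((PrimeSpectrum.primesOverOrderIsoFiber R S p) x).2.ne_top h1
  have h3 := (PrimeSpectrum.primesOverOrderIsoFiber R S p).injective h2
  exact congrArg Subtype.val h3

theorem mem_minimalPrimes_map (P : Ideal S) [P.IsPrime] :
    P ∈ ((P.comap (algebraMap R S)).map (algebraMap R S)).minimalPrimes := by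
  refine ⟨⟨inferInstance, Ideal.map_comap_le⟩, ?_⟩
  rintro P' ⟨hP', hle⟩ hP'P
  haveI := hP'
  have h1 : P'.comap (algebraMap R S) = P.comap (algebraMap R S) :=
    le_antisymm (Ideal.comap_mono hP'P) (Ideal.map_le_iff_le_comap.1 hle)
  exact (eq_of_le_of_comap_eq R S P' P hP'P h1).ge

end Fibre

section Catenary

variable (R S : Type u) [CommRing R] [IsLocalRing R] [IsNoetherianRing R] [CommRing S] [IsLocalRing S]
  [Algebra R S] [IsLocalHom (algebraMap R S)] [Hensel.IsHenselization R S]

theorem map_mk_mem_minimalPrimes (P : Ideal S) [P.IsPrime] :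
    P.map (Ideal.Quotient.mk ((P.comap (algebraMap R S)).map (algebraMap R S))) ∈
      minimalPrimes (S ⧸ (P.comap (algebraMap R S)).map (algebraMap R S)) := by
  have h := mem_minimalPrimes_map R S P
  rw [Ideal.minimalPrimes_eq_comap] at h
  obtain ⟨Q, hQ, hQP⟩ := h
  have h2 := Ideal.map_comap_of_surjective
    (Ideal.Quotient.mk ((P.comap (algebraMap R S)).map (algebraMap R S)))
    Ideal.Quotient.mk_surjective Q
  rw [hQP] at h2
  rw [h2]
  exact hQ

theorem isFormallyCatenary (h : EGA4.IsFormallyCatenary R) : EGA4.IsFormallyCatenary S := by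
  haveI : IsNoetherianRing S := (Groth.Agent.S0511.result R S).1 inferInstance
  haveI : Module.FaithfullyFlat R S := Groth.Agent.S0509.result R S
  intro P _
  haveI : Hensel.IsHenselization (R ⧸ P.comap (algebraMap R S))
      (S ⧸ (P.comap (algebraMap R S)).map (algebraMap R S)) :=
    Groth.Agent.S13598.result (P.comap (algebraMap R S))
      (IsLocalRing.le_maximalIdeal (Ideal.IsPrime.ne_top inferInstance))
  obtain ⟨E⟩ := nonempty_cplEquiv (R ⧸ P.comap (algebraMap R S))
    (S ⧸ (P.comap (algebraMap R S)).map (algebraMap R S))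
  have h1 : EGA4.IsFormallyEquidim (S ⧸ (P.comap (algebraMap R S)).map (algebraMap R S)) :=
    isEquidim_of_ringEquiv E (h (P.comap (algebraMap R S)))
  have hmin := map_mk_mem_minimalPrimes R S P
  haveI : (P.map (Ideal.Quotient.mk ((P.comap (algebraMap R S)).map (algebraMap R S)))).IsPrime :=
    hmin.1.1
  have h2 := ((formallyEquidim_iff (S ⧸ (P.comap (algebraMap R S)).map (algebraMap R S))).1 h1).2
    _ hmin
  let e : ((S ⧸ (P.comap (algebraMap R S)).map (algebraMap R S)) ⧸
      P.map (Ideal.Quotient.mk ((P.comap (algebraMap R S)).map (algebraMap R S)))) ≃+* S ⧸ P :=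
    DoubleQuot.quotQuotEquivQuotOfLE Ideal.map_comap_le
  obtain ⟨e'⟩ := Groth.Agent.Lib.helper17.CplTransport.nonempty_cplEquiv e
  exact isEquidim_of_ringEquiv e' h2

end Catenary

section Strict

/-- associated primes of a ring transport along ring isomorphisms. -/
theorem comap_mem_associatedPrimes_of_ringEquiv {T T' : Type u} [CommRing T] [CommRing T']
    (e : T ≃+* T') {p' : Ideal T'} (hp' : p' ∈ associatedPrimes T' T') :
    p'.comap (e : T →+* T') ∈ associatedPrimes T T := by
  obtain ⟨hprime, x', hx'⟩ := hp'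
  haveI := hprime
  refine ⟨inferInstance, e.symm x', ?_⟩
  rw [hx', Ideal.comap_radical]
  congr 1
  ext r
  rw [Ideal.mem_comap, Submodule.mem_colon_singleton, Submodule.mem_colon_singleton,
    Submodule.mem_bot, Submodule.mem_bot, smul_eq_mul, smul_eq_mul]
  constructor
  · intro h
    have := congrArg e.symm h
    simpa using this
  · intro h
    have := congrArg e h
    simpa using this

theorem isStrictlyEquidim_of_ringEquiv {T T' : Type u} [CommRing T] [CommRing T']
    (e : T ≃+* T') (h : EGA4.IsStrictlyEquidim T) : EGA4.IsStrictlyEquidim T' := by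
  intro p' hp'
  have hp := comap_mem_associatedPrimes_of_ringEquiv e hp'
  have h1 := h _ hp
  have e' : (T ⧸ p'.comap (e : T →+* T')) ≃+* (T' ⧸ p') :=
    Ideal.quotientEquiv _ _ e
      (Ideal.map_comap_of_surjective (e : T →+* T') e.surjective p').symm
  rw [← ringKrullDim_eq_of_ringEquiv e, ← h1]
  exact (ringKrullDim_eq_of_ringEquiv e').symm

/-- associated primes of a module over a quotient ring pull back to associated primes. -/
theorem comap_mk_mem_associatedPrimes {T : Type u} [CommRing T] (J : Ideal T)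
    {Q : Ideal (T ⧸ J)} (hQ : Q ∈ associatedPrimes (T ⧸ J) (T ⧸ J)) :
    Q.comap (Ideal.Quotient.mk J) ∈ associatedPrimes T (T ⧸ J) := by
  obtain ⟨hprime, y, hy⟩ := hQ
  haveI := hprime
  refine ⟨inferInstance, y, ?_⟩
  rw [hy, Ideal.comap_radical]
  congr 1

variable (A : Type u) [CommRing A] [IsNoetherianRing A] [IsLocalRing A]

/-- if `Â` is strictly equidimensional and `P` is an associated prime of `A`, then the completion
of `A/P` is strictly equidimensional. -/
theorem isStrictlyEquidim_cpl_quot (h : EGA4.IsStrictlyEquidim (EGA4.Cpl A)) (P : Ideal A)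
    [P.IsPrime] (hP : P ∈ associatedPrimes A A) : EGA4.IsStrictlyEquidim (EGA4.Cpl (A ⧸ P)) := by
  haveI : Module.Flat A (EGA4.Cpl A) := AdicCompletion.flat_of_isNoetherian _
  apply isStrictlyEquidim_of_ringEquiv (Groth.Agent.Lib.helper6.CplQuot.quotEquiv A P)
  obtain ⟨-, x, hx⟩ := isAssociatedPrime_iff.mp hP
  -- the embedding `A/P → A`
  have hker : P ≤ LinearMap.ker (LinearMap.toSpanSingleton A A x) := by
    intro a ha
    rw [hx, Submodule.mem_colon_singleton, Submodule.mem_bot] at ha
    rw [LinearMap.mem_ker, LinearMap.toSpanSingleton_apply]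
    exact ha
  let ι : A ⧸ P →ₗ[A] A := Submodule.liftQ P (LinearMap.toSpanSingleton A A x) hker
  have hι : Function.Injective ι := by
    rw [← LinearMap.ker_eq_bot]
    apply Submodule.ker_liftQ_eq_bot
    intro a ha
    rw [LinearMap.mem_ker, LinearMap.toSpanSingleton_apply] at ha
    rw [hx, Submodule.mem_colon_singleton, Submodule.mem_bot]
    exact ha
  have hιT : Function.Injective (ι.baseChange (EGA4.Cpl A)) := by
    rw [LinearMap.baseChange_eq_ltensor]
    exact Module.Flat.lTensor_preserves_injective_linearMap ι hι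
  let f : (EGA4.Cpl A ⧸ P.map (algebraMap A (EGA4.Cpl A))) →ₗ[EGA4.Cpl A] EGA4.Cpl A :=
    ((TensorProduct.AlgebraTensorModule.rid A (EGA4.Cpl A) (EGA4.Cpl A)).toLinearMap.comp
      (ι.baseChange (EGA4.Cpl A))).comp
      (Algebra.TensorProduct.quotIdealMapEquivTensorQuot (EGA4.Cpl A) P).toLinearEquiv.toLinearMap
  have hf : Function.Injective f := by
    intro a b hab
    have h1 := (TensorProduct.AlgebraTensorModule.rid A (EGA4.Cpl A) (EGA4.Cpl A)).injective hab
    have h2 := hιT h1
    exact (Algebra.TensorProduct.quotIdealMapEquivTensorQuot (EGA4.Cpl A) P).injective h2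
  intro Q hQ
  haveI hQprime : Q.IsPrime := hQ.1
  have h1 := comap_mk_mem_associatedPrimes _ hQ
  have h2 := associatedPrimes.subset_of_injective hf h1
  have h3 := h _ h2
  have hle : P.map (algebraMap A (EGA4.Cpl A)) ≤ Q.comap (Ideal.Quotient.mk _) := by
    conv_lhs => rw [← Ideal.mk_ker (I := P.map (algebraMap A (EGA4.Cpl A))),
      RingHom.ker_eq_comap_bot]
    exact Ideal.comap_mono bot_le
  have h4 : ringKrullDim ((EGA4.Cpl A ⧸ P.map (algebraMap A (EGA4.Cpl A))) ⧸ Q) =
      ringKrullDim (EGA4.Cpl A) := by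
    rw [← h3]
    conv_lhs => rw [← Ideal.map_comap_of_surjective _ Ideal.Quotient.mk_surjective Q]
    exact ringKrullDim_quot_quot _ _ hle
  apply le_antisymm
  · exact ringKrullDim_quotient_le _
  · rw [h4]
    exact ringKrullDim_quotient_le _

end Strict

section StrictCat

variable (R S : Type u) [CommRing R] [IsLocalRing R] [IsNoetherianRing R] [CommRing S] [IsLocalRing S]
  [Algebra R S] [IsLocalHom (algebraMap R S)] [Hensel.IsHenselization R S]

theorem isFormallyStrictlyCatenary (h : EGA4.IsFormallyStrictlyCatenary R) :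
    EGA4.IsFormallyStrictlyCatenary S := by
  haveI : IsNoetherianRing S := (Groth.Agent.S0511.result R S).1 inferInstance
  haveI : Module.FaithfullyFlat R S := Groth.Agent.S0509.result R S
  intro P _
  haveI : Hensel.IsHenselization (R ⧸ P.comap (algebraMap R S))
      (S ⧸ (P.comap (algebraMap R S)).map (algebraMap R S)) :=
    Groth.Agent.S13598.result (P.comap (algebraMap R S))
      (IsLocalRing.le_maximalIdeal (Ideal.IsPrime.ne_top inferInstance))
  obtain ⟨E⟩ := nonempty_cplEquiv (R ⧸ P.comap (algebraMap R S))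
    (S ⧸ (P.comap (algebraMap R S)).map (algebraMap R S))
  have h1 : EGA4.IsStrictlyEquidim
      (EGA4.Cpl (S ⧸ (P.comap (algebraMap R S)).map (algebraMap R S))) :=
    isStrictlyEquidim_of_ringEquiv E (h (P.comap (algebraMap R S)))
  have hmin := map_mk_mem_minimalPrimes R S P
  haveI : (P.map (Ideal.Quotient.mk ((P.comap (algebraMap R S)).map (algebraMap R S)))).IsPrime :=
    hmin.1.1
  have hass : P.map (Ideal.Quotient.mk ((P.comap (algebraMap R S)).map (algebraMap R S))) ∈
      associatedPrimes (S ⧸ (P.comap (algebraMap R S)).map (algebraMap R S))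
        (S ⧸ (P.comap (algebraMap R S)).map (algebraMap R S)) := by
    apply Module.associatedPrimes.minimalPrimes_annihilator_subset_associatedPrimes
    have hann : Module.annihilator (S ⧸ (P.comap (algebraMap R S)).map (algebraMap R S))
        (S ⧸ (P.comap (algebraMap R S)).map (algebraMap R S)) = ⊥ := by
      rw [eq_bot_iff]
      intro b hb
      have := Module.mem_annihilator.mp hb 1
      simpa using this
    rw [hann]
    exact hmin
  have h2 := isStrictlyEquidim_cpl_quot (S ⧸ (P.comap (algebraMap R S)).map (algebraMap R S)) h1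
    _ hass
  let e : ((S ⧸ (P.comap (algebraMap R S)).map (algebraMap R S)) ⧸
      P.map (Ideal.Quotient.mk ((P.comap (algebraMap R S)).map (algebraMap R S)))) ≃+* S ⧸ P :=
    DoubleQuot.quotQuotEquivQuotOfLE Ideal.map_comap_le
  obtain ⟨e'⟩ := Groth.Agent.Lib.helper17.CplTransport.nonempty_cplEquiv e
  exact isStrictlyEquidim_of_ringEquiv e' h2

end StrictCat

section MinimalPrimes

variable (A S : Type u) [CommRing A] [IsLocalRing A] [IsNoetherianRing A] [CommRing S] [IsLocalRing S]
  [Algebra A S] [IsLocalHom (algebraMap A S)] [Hensel.IsHenselization A S]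

/-- the completion of a Noetherian local ring is henselian. -/
theorem henselianLocalRing_cpl : HenselianLocalRing (EGA4.Cpl A) := by
  have hmtop : maximalIdeal A ≠ ⊤ := Ideal.IsPrime.ne_top inferInstance
  haveI : IsLocalRing (EGA4.Cpl A) :=
    Groth.Agent.Lib.helper24.AdicLocal.isLocalRing A (maximalIdeal A) hmtop
  have fg : (maximalIdeal A).FG := (isNoetherianRing_iff_ideal_fg A).mp inferInstance _
  haveI h1 : IsAdicComplete ((maximalIdeal A).map (algebraMap A (EGA4.Cpl A))) (EGA4.Cpl A) :=
    AdicCompletion.isAdicComplete_self (maximalIdeal A) fg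
  have hmax : maximalIdeal (EGA4.Cpl A) = (maximalIdeal A).map (algebraMap A (EGA4.Cpl A)) :=
    Groth.Agent.Lib.helper24.AdicLocal.maximalIdeal_eq_map A (maximalIdeal A) hmtop
  haveI h2 : HenselianRing (EGA4.Cpl A) ((maximalIdeal A).map (algebraMap A (EGA4.Cpl A))) :=
    inferInstance
  refine { is_henselian := ?_ }
  intro f hf a₀ ha₀ hu
  rw [hmax] at ha₀
  obtain ⟨a, ha, haa⟩ := h2.is_henselian f hf a₀ ha₀ (hu.map _)
  refine ⟨a, ha, ?_⟩
  rw [hmax]
  exact haa

theorem psi_eq [IsNoetherianRing S] (ψ : S →+* EGA4.Cpl A)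
    (hψ : ψ.comp (algebraMap A S) = algebraMap A (EGA4.Cpl A)) :
    haveI : IsScalarTower A S (EGA4.Cpl S) := isScalarTower_cpl A S
    ∀ s : S, cplMap A S (ψ s) = algebraMap S (EGA4.Cpl S) s := by
  haveI : IsScalarTower A S (EGA4.Cpl S) := isScalarTower_cpl A S
  have hmtop : maximalIdeal A ≠ ⊤ := Ideal.IsPrime.ne_top inferInstance
  haveI : IsLocalRing (EGA4.Cpl A) :=
    Groth.Agent.Lib.helper24.AdicLocal.isLocalRing A (maximalIdeal A) hmtop
  haveI := henselianLocalRing_cpl A
  haveI : IsLocalHom (algebraMap A (EGA4.Cpl A)) :=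
    Groth.Agent.Lib.helper24.AdicLocal.isLocalHom A (maximalIdeal A) hmtop
  let E : EGA4.Cpl A ≃+* EGA4.Cpl S := RingEquiv.ofBijective (cplMap A S) (cplMap_bijective A S)
  let g₀ : S →+* EGA4.Cpl A := (E.symm : EGA4.Cpl S →+* EGA4.Cpl A).comp (algebraMap S (EGA4.Cpl S))
  have hg₀ : g₀.comp (algebraMap A S) = algebraMap A (EGA4.Cpl A) := by
    refine RingHom.ext fun a => ?_
    change E.symm (algebraMap S (EGA4.Cpl S) (algebraMap A S a)) = algebraMap A (EGA4.Cpl A) a
    rw [E.symm_apply_eq]
    change _ = cplMap A S (algebraMap A (EGA4.Cpl A) a)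
    rw [AlgHom.commutes, ← IsScalarTower.algebraMap_apply]
  obtain ⟨g, -, huniq⟩ := Hensel.IsHenselization.universal (R := A) (S := S) (EGA4.Cpl A)
    (algebraMap A (EGA4.Cpl A)) inferInstance
  have h1 : ψ = g := huniq ψ hψ
  have h2 : g₀ = g := huniq g₀ hg₀
  intro s
  rw [h1, ← h2]
  change E (E.symm (algebraMap S (EGA4.Cpl S) s)) = _
  rw [E.apply_symm_apply]

theorem minimalPrimes_comap (ψ : S →+* EGA4.Cpl A)
    (hψ : ψ.comp (algebraMap A S) = algebraMap A (EGA4.Cpl A)) :
    Set.MapsTo (Ideal.comap ψ) (minimalPrimes (EGA4.Cpl A)) (minimalPrimes S) ∧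
      Set.SurjOn (Ideal.comap ψ) (minimalPrimes (EGA4.Cpl A)) (minimalPrimes S) := by
  haveI : IsNoetherianRing S := (Groth.Agent.S0511.result A S).1 inferInstance
  haveI : IsScalarTower A S (EGA4.Cpl S) := isScalarTower_cpl A S
  have hmtop : maximalIdeal A ≠ ⊤ := Ideal.IsPrime.ne_top inferInstance
  haveI : IsLocalRing (EGA4.Cpl A) :=
    Groth.Agent.Lib.helper24.AdicLocal.isLocalRing A (maximalIdeal A) hmtop
  have hpsi := psi_eq A S ψ hψ
  letI : Algebra S (EGA4.Cpl A) := ψ.toAlgebra
  let E : EGA4.Cpl A ≃+* EGA4.Cpl S := RingEquiv.ofBijective (cplMap A S) (cplMap_bijective A S)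
  let El : EGA4.Cpl A ≃ₗ[S] EGA4.Cpl S :=
    { E.toAddEquiv with
      map_smul' := by
        intro s x
        change E (ψ s * x) = algebraMap S (EGA4.Cpl S) s * E x
        rw [map_mul]
        congr 1
        exact hpsi s }
  haveI : Module.Flat S (EGA4.Cpl S) := AdicCompletion.flat_of_isNoetherian _
  haveI : Module.Flat S (EGA4.Cpl A) := Module.Flat.of_linearEquiv El
  constructor
  · intro Q hQ
    exact comap_mem_minimalPrimes (R := S) (S := EGA4.Cpl A) hQ
  · intro P hP
    haveI : P.IsPrime := hP.1.1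
    have hne : P.map (algebraMap S (EGA4.Cpl A)) ≠ ⊤ := by
      intro htop
      have hloc : IsLocalHom ψ := by
        constructor
        intro s hs
        have h1 : IsUnit (algebraMap S (EGA4.Cpl S) s) := by
          rw [← hpsi s]
          exact hs.map (cplMap A S)
        haveI : IsLocalRing (EGA4.Cpl S) :=
          Groth.Agent.Lib.helper24.AdicLocal.isLocalRing S (maximalIdeal S)
            (Ideal.IsPrime.ne_top inferInstance)
        haveI : IsLocalHom (algebraMap S (EGA4.Cpl S)) :=
          Groth.Agent.Lib.helper24.AdicLocal.isLocalHom S (maximalIdeal S)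
            (Ideal.IsPrime.ne_top inferInstance)
        exact isUnit_of_map_unit (algebraMap S (EGA4.Cpl S)) s h1
      have h1 : P.map (algebraMap S (EGA4.Cpl A)) ≤ maximalIdeal (EGA4.Cpl A) :=
        (Ideal.map_mono (IsLocalRing.le_maximalIdeal (Ideal.IsPrime.ne_top inferInstance))).trans
          (IsLocalRing.map_maximalIdeal_le ψ)
      exact (Ideal.IsPrime.ne_top (inferInstance : (maximalIdeal (EGA4.Cpl A)).IsPrime))
        (top_le_iff.mp (htop ▸ h1))
    obtain ⟨⟨Q, hQ⟩⟩ := Ideal.nonempty_minimalPrimes hne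
    exact ⟨Q, mem_minimalPrimes_of_mem_minimalPrimes_map hP hQ,
      comap_eq_of_mem_minimalPrimes_map hQ⟩

end MinimalPrimes

end Groth.Agent.Lib.helper17.HensCpl
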