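import Mathlib

/-!
# Factorization of a morphism of complexes as a homotopy equivalence followed by a termwise
split surjection (helper17)
-/

namespace Groth.Agent.Lib.helper17.HtpyFact

open CategoryTheory Limits CochainComplex HomologicalComplex

set_option linter.unusedSectionVars false
set_option linter.unusedVariables false

universe v u

variable {V : Type u} [Category.{v} V] [Preadditive V] [HasBinaryBiproducts V] [HasZeroObject V]

/-- General splitting lemma. -/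
lemma exists_iso_biprod_of_split {X Y C : V} (q : X ⟶ Y) (σ : Y ⟶ X) (r : X ⟶ C) (j : C ⟶ X)
    (h1 : σ ≫ q = 𝟙 Y) (h2 : j ≫ r = 𝟙 C) (h3 : j ≫ q = 0) (h4 : σ ≫ r = 0)
    (h5 : r ≫ j + q ≫ σ = 𝟙 X) :
    ∃ e : X ≅ C ⊞ Y, e.inv ≫ q = biprod.snd := by
  refine ⟨⟨biprod.lift r q, biprod.desc j σ, ?_, ?_⟩, ?_⟩
  · rw [biprod.lift_desc]; exact h5
  · apply biprod.hom_ext' <;> apply biprod.hom_ext <;> simp [h1, h2, h3, h4]
  · apply biprod.hom_ext' <;> simp [h1, h3]

lemma isZero_biprod' {X Y : V} (hX : IsZero X) (hY : IsZero Y) : IsZero (X ⊞ Y) := by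
  rw [IsZero.iff_id_eq_zero]
  apply biprod.hom_ext
  · exact hX.eq_of_tgt _ _
  · exact hY.eq_of_tgt _ _

/-- The contractible complex with a termwise split surjection onto `L`. -/
noncomputable abbrev CL (L : CochainComplex V ℤ) : CochainComplex V ℤ := mappingCocone (𝟙 L)

noncomputable def contr (L : CochainComplex V ℤ) : Homotopy (𝟙 (CL L)) 0 := by
  have h := (mappingCone.homotopyToZeroOfId L).shift (-1)
  refine (Homotopy.ofEq ?_).trans (h.trans (Homotopy.ofEq ?_))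
  · exact (CategoryTheory.Functor.map_id _ _).symm
  · exact CategoryTheory.Functor.map_zero _ _ _

lemma isZero_CL_X (L : CochainComplex V ℤ) (n : ℤ) (h1 : IsZero (L.X n))
    (h2 : IsZero (L.X (n - 1))) : IsZero ((CL L).X n) := by
  rw [IsZero.iff_id_eq_zero, ← mappingCocone.id_X (𝟙 L) n (n - 1) (by lia)]
  rw [h1.eq_of_tgt ((mappingCocone.fst (𝟙 L)).f n) 0,
    h2.eq_of_tgt ((mappingCocone.snd (𝟙 L)).v n (n - 1) (by lia)) 0]
  simp

theorem exists_factorization (K L : CochainComplex V ℤ) (α : K ⟶ L) :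
    ∃ (K' : CochainComplex V ℤ) (i : K ⟶ K') (α' : K' ⟶ L) (s : K' ⟶ K),
      i ≫ α' = α ∧ i ≫ s = 𝟙 K ∧ Nonempty (Homotopy (s ≫ i) (𝟙 K')) ∧
      (∀ n : ℤ, ∃ (C : V) (e : K'.X n ≅ C ⊞ L.X n), e.inv ≫ α'.f n = biprod.snd) ∧
      (∀ a : ℤ, K.IsStrictlyGE a → L.IsStrictlyGE a → ∃ a' : ℤ, K'.IsStrictlyGE a') ∧
      (∀ a : ℤ, K.IsStrictlyLE a → L.IsStrictlyLE a → ∃ a' : ℤ, K'.IsStrictlyLE a') := by
  let p : CL L ⟶ L := mappingCocone.fst (𝟙 L)
  refine ⟨K ⊞ CL L, biprod.inl, biprod.desc α p, biprod.fst, biprod.inl_desc _ _,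
    biprod.inl_fst, ⟨?_⟩, ?_, ?_, ?_⟩
  · -- homotopy
    have h0 : Homotopy ((biprod.snd : K ⊞ CL L ⟶ CL L) ≫ (biprod.inr : CL L ⟶ K ⊞ CL L)) 0 := by
      have h1 := ((contr L).compLeft (biprod.snd : K ⊞ CL L ⟶ CL L)).compRight
        (biprod.inr : CL L ⟶ K ⊞ CL L)
      refine (Homotopy.ofEq ?_).trans (h1.trans (Homotopy.ofEq ?_))
      · simp
      · simp
    have h2 := (Homotopy.refl ((biprod.fst : K ⊞ CL L ⟶ K) ≫ biprod.inl)).add h0.symm
    refine (Homotopy.ofEq ?_).trans (h2.trans (Homotopy.ofEq ?_))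
    · simp
    · exact biprod.total
  · intro n
    let fstK := (biprod.fst : K ⊞ CL L ⟶ K).f n
    let sndC := (biprod.snd : K ⊞ CL L ⟶ CL L).f n
    let inlK := (biprod.inl : K ⟶ K ⊞ CL L).f n
    let inrC := (biprod.inr : CL L ⟶ K ⊞ CL L).f n
    let a := α.f n
    let i₁ := (mappingCocone.inl (𝟙 L)).v n n (add_zero n)
    let i₂ := (mappingCocone.inr (𝟙 L)).1.v (n - 1) n (by lia)
    let p₁ := (mappingCocone.fst (𝟙 L)).f n
    let p₂ := (mappingCocone.snd (𝟙 L)).v n (n - 1) (by lia)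
    have e11 : i₁ ≫ p₁ = 𝟙 _ := mappingCocone.inl_v_fst_f (𝟙 L) n
    have e12 : i₁ ≫ p₂ = 0 := mappingCocone.inl_v_snd_v (𝟙 L) n (n - 1) (by lia)
    have e21 : i₂ ≫ p₁ = 0 := mappingCocone.inr_v_fst_f (𝟙 L) (n - 1) n (by lia)
    have e22 : i₂ ≫ p₂ = 𝟙 _ := mappingCocone.inr_v_snd_v (𝟙 L) (n - 1) n (by lia)
    have etot : p₁ ≫ i₁ + p₂ ≫ i₂ = 𝟙 _ := mappingCocone.id_X (𝟙 L) n (n - 1) (by lia)
    have b1 : inlK ≫ fstK = 𝟙 _ := biprod_inl_fst_f K (CL L) n
    have b2 : inlK ≫ sndC = 0 := biprod_inl_snd_f K (CL L) n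
    have b3 : inrC ≫ fstK = 0 := biprod_inr_fst_f K (CL L) n
    have b4 : inrC ≫ sndC = 𝟙 _ := biprod_inr_snd_f K (CL L) n
    have btot : fstK ≫ inlK + sndC ≫ inrC = 𝟙 _ := by
      have := congr_hom (biprod.total : (biprod.fst : K ⊞ CL L ⟶ K) ≫ biprod.inl +
        biprod.snd ≫ biprod.inr = 𝟙 (K ⊞ CL L)) n
      exact this
    have hq : (biprod.desc α p : K ⊞ CL L ⟶ L).f n = fstK ≫ a + sndC ≫ p₁ := by
      have h : (biprod.desc α p : K ⊞ CL L ⟶ L) =
          (biprod.fst : K ⊞ CL L ⟶ K) ≫ α + (biprod.snd : K ⊞ CL L ⟶ CL L) ≫ p := by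
        apply biprod.hom_ext' <;> simp
      rw [h]
      rfl
    rw [hq]
    refine ⟨K.X n ⊞ L.X (n - 1), ?_⟩
    refine exists_iso_biprod_of_split (fstK ≫ a + sndC ≫ p₁) (i₁ ≫ inrC)
      (biprod.lift fstK (sndC ≫ p₂)) (biprod.desc (inlK - a ≫ i₁ ≫ inrC) (i₂ ≫ inrC))
      ?_ ?_ ?_ ?_ ?_
    · simp only [Preadditive.comp_add, Category.assoc]
      rw [reassoc_of% b3, reassoc_of% b4, e11]
      simp
    · apply biprod.hom_ext' <;> apply biprod.hom_ext <;>
        simp only [Category.assoc, biprod.inl_desc_assoc, biprod.inr_desc_assoc, biprod.lift_fst,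
          biprod.lift_snd, Preadditive.sub_comp, Category.comp_id, biprod.inl_fst, biprod.inl_snd,
          biprod.inr_fst, biprod.inr_snd, b1, b2, b3, b4, reassoc_of% b1, reassoc_of% b2,
          reassoc_of% b3, reassoc_of% b4, e11, e12, e21, e22, zero_comp, comp_zero, sub_zero,
          sub_self, Category.id_comp]
    · apply biprod.hom_ext' <;>
        simp only [Category.assoc, biprod.inl_desc_assoc, biprod.inr_desc_assoc,
          Preadditive.sub_comp, Preadditive.comp_add, Category.comp_id, b1, b2, b3, b4,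
          reassoc_of% b1, reassoc_of% b2, reassoc_of% b3, reassoc_of% b4, e11, e12, e21, e22,
          zero_comp, comp_zero, sub_zero, sub_self, Category.id_comp, add_zero, zero_add] <;>
        (try abel)
    · apply biprod.hom_ext <;>
        simp only [Category.assoc, biprod.lift_fst, biprod.lift_snd, b1, b2, b3, b4,
          reassoc_of% b1, reassoc_of% b2, reassoc_of% b3, reassoc_of% b4, e11, e12, e21, e22,
          zero_comp, comp_zero]
    · simp only [biprod.lift_desc, Preadditive.comp_sub, Preadditive.add_comp, Category.assoc]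
      have : sndC ≫ p₂ ≫ i₂ ≫ inrC + sndC ≫ p₁ ≫ i₁ ≫ inrC = sndC ≫ inrC := by
        rw [← Preadditive.comp_add, ← Category.assoc p₂, ← Category.assoc p₁,
          ← Preadditive.add_comp, add_comm, etot, Category.id_comp]
      rw [← btot]
      rw [← this]
      abel
  · intro a hK hL
    refine ⟨a, ?_⟩
    rw [CochainComplex.isStrictlyGE_iff]
    intro n hn
    have h1 : IsZero ((CL L).X n) := isZero_CL_X L n (L.isZero_of_isStrictlyGE a n hn)
      (L.isZero_of_isStrictlyGE a (n - 1) (by lia))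
    exact (isZero_biprod' (K.isZero_of_isStrictlyGE a n hn) h1).of_iso (biprodXIso K (CL L) n)
  · intro a hK hL
    refine ⟨a + 1, ?_⟩
    rw [CochainComplex.isStrictlyLE_iff]
    intro n hn
    have h1 : IsZero ((CL L).X n) := isZero_CL_X L n (L.isZero_of_isStrictlyLE a n (by lia))
      (L.isZero_of_isStrictlyLE a (n - 1) (by lia))
    exact (isZero_biprod' (K.isZero_of_isStrictlyLE a n (by lia)) h1).of_iso
      (biprodXIso K (CL L) n)

end Groth.Agent.Lib.helper17.HtpyFact
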