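import Mathlib
import Groth.Agent.Lib.helper17.HtpyFact

/-!
# Replacing a sequence of complexes by termwise split injections (helper17)
-/

namespace Groth.Agent.Lib.helper17.HtpySeq

open CategoryTheory Limits CochainComplex HomologicalComplex
open Groth.Agent.Lib.helper17.HtpyFact

set_option linter.unusedSectionVars false
set_option linter.unusedVariables false

universe v u

variable {V : Type u} [Category.{v} V] [Preadditive V] [HasBinaryBiproducts V] [HasZeroObject V]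

/-- Dual splitting lemma. -/
lemma exists_iso_biprod_of_split_mono {X Y C : V} (q : Y ⟶ X) (ρ : X ⟶ Y) (r : X ⟶ C) (j : C ⟶ X)
    (h1 : q ≫ ρ = 𝟙 Y) (h2 : j ≫ r = 𝟙 C) (h3 : q ≫ r = 0) (h4 : j ≫ ρ = 0)
    (h5 : ρ ≫ q + r ≫ j = 𝟙 X) :
    ∃ e : X ≅ Y ⊞ C, q ≫ e.hom = biprod.inl := by
  refine ⟨⟨biprod.lift ρ r, biprod.desc q j, ?_, ?_⟩, ?_⟩
  · rw [biprod.lift_desc]; exact h5
  · apply biprod.hom_ext' <;> apply biprod.hom_ext <;> simp [h1, h2, h3, h4]
  · apply biprod.hom_ext <;> simp [h1, h3]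

/-- One step: the new complex. -/
noncomputable abbrev stepObj (B X' : CochainComplex V ℤ) : CochainComplex V ℤ :=
  X' ⊞ mappingCone (𝟙 B)

/-- One step: the map. -/
noncomputable abbrev stepMap {B X' : CochainComplex V ℤ} (g : B ⟶ X') : B ⟶ stepObj B X' :=
  biprod.lift g (mappingCone.inr (𝟙 B))

/-- One step: the homotopy equivalence. -/
noncomputable def stepEquiv (B X' : CochainComplex V ℤ) : HomotopyEquiv (stepObj B X') X' where
  hom := biprod.fst
  inv := biprod.inl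
  homotopyHomInvId := by
    have h0 : Homotopy ((biprod.snd : stepObj B X' ⟶ mappingCone (𝟙 B)) ≫
        (biprod.inr : mappingCone (𝟙 B) ⟶ stepObj B X')) 0 := by
      have h1 := ((mappingCone.homotopyToZeroOfId B).compLeft
        (biprod.snd : stepObj B X' ⟶ mappingCone (𝟙 B))).compRight
        (biprod.inr : mappingCone (𝟙 B) ⟶ stepObj B X')
      refine (Homotopy.ofEq ?_).trans (h1.trans (Homotopy.ofEq ?_))
      · simp
      · simp
    have h2 := (Homotopy.refl ((biprod.fst : stepObj B X' ⟶ X') ≫ biprod.inl)).add h0.symm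
    refine (Homotopy.ofEq ?_).trans (h2.trans (Homotopy.ofEq ?_))
    · simp
    · exact biprod.total
  homotopyInvHomId := Homotopy.ofEq biprod.inl_fst

lemma stepMap_fst {B X' : CochainComplex V ℤ} (g : B ⟶ X') :
    stepMap g ≫ (stepEquiv B X').hom = g := biprod.lift_fst _ _

lemma isZero_cone_X (B : CochainComplex V ℤ) (n : ℤ) (h1 : IsZero (B.X n))
    (h2 : IsZero (B.X (n + 1))) : IsZero ((mappingCone (𝟙 B)).X n) := by
  rw [IsZero.iff_id_eq_zero, ← mappingCone.id_X (𝟙 B) n (n + 1) rfl]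
  rw [h2.eq_of_tgt ((mappingCone.fst (𝟙 B)).1.v n (n + 1) rfl) 0,
    h1.eq_of_tgt ((mappingCone.snd (𝟙 B)).v n n (add_zero n)) 0]
  simp

lemma step_split {B X' : CochainComplex V ℤ} (g : B ⟶ X') (n : ℤ) :
    ∃ (C : V) (ε : (stepObj B X').X n ≅ B.X n ⊞ C), (stepMap g).f n ≫ ε.hom = biprod.inl := by
  let Cone := mappingCone (𝟙 B)
  let fstX := (biprod.fst : X' ⊞ Cone ⟶ X').f n
  let sndC := (biprod.snd : X' ⊞ Cone ⟶ Cone).f n
  let inlX := (biprod.inl : X' ⟶ X' ⊞ Cone).f n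
  let inrC := (biprod.inr : Cone ⟶ X' ⊞ Cone).f n
  let gn := g.f n
  let c₁ := (mappingCone.inl (𝟙 B)).v (n + 1) n (by lia)
  let c₂ := (mappingCone.inr (𝟙 B)).f n
  let π₁ := (mappingCone.fst (𝟙 B)).1.v n (n + 1) rfl
  let π₂ := (mappingCone.snd (𝟙 B)).v n n (add_zero n)
  have e11 : c₁ ≫ π₁ = 𝟙 _ := mappingCone.inl_v_fst_v (𝟙 B) (n + 1) n rfl
  have e12 : c₁ ≫ π₂ = 0 := mappingCone.inl_v_snd_v (𝟙 B) (n + 1) n (by lia)
  have e21 : c₂ ≫ π₁ = 0 := mappingCone.inr_f_fst_v (𝟙 B) n (n + 1) rfl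
  have e22 : c₂ ≫ π₂ = 𝟙 _ := mappingCone.inr_f_snd_v (𝟙 B) n
  have etot : π₁ ≫ c₁ + π₂ ≫ c₂ = 𝟙 _ := mappingCone.id_X (𝟙 B) n (n + 1) rfl
  have b1 : inlX ≫ fstX = 𝟙 _ := biprod_inl_fst_f X' Cone n
  have b2 : inlX ≫ sndC = 0 := biprod_inl_snd_f X' Cone n
  have b3 : inrC ≫ fstX = 0 := biprod_inr_fst_f X' Cone n
  have b4 : inrC ≫ sndC = 𝟙 _ := biprod_inr_snd_f X' Cone n
  have btot : fstX ≫ inlX + sndC ≫ inrC = 𝟙 _ := by
    have := congr_hom (biprod.total : (biprod.fst : X' ⊞ Cone ⟶ X') ≫ biprod.inl +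
      biprod.snd ≫ biprod.inr = 𝟙 (X' ⊞ Cone)) n
    exact this
  have hq : (stepMap g).f n = gn ≫ inlX + c₂ ≫ inrC := by
    have h : (stepMap g : B ⟶ X' ⊞ Cone) =
        g ≫ (biprod.inl : X' ⟶ X' ⊞ Cone) +
          mappingCone.inr (𝟙 B) ≫ (biprod.inr : Cone ⟶ X' ⊞ Cone) := biprod.lift_eq
    rw [h]
    rfl
  rw [hq]
  refine ⟨X'.X n ⊞ B.X (n + 1), ?_⟩
  refine exists_iso_biprod_of_split_mono (gn ≫ inlX + c₂ ≫ inrC) (sndC ≫ π₂)
    (biprod.lift (fstX - sndC ≫ π₂ ≫ gn) (sndC ≫ π₁)) (biprod.desc inlX (c₁ ≫ inrC))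
    ?_ ?_ ?_ ?_ ?_
  · simp only [Preadditive.add_comp, Category.assoc]
    rw [reassoc_of% b2, reassoc_of% b4, e22]
    simp
  · apply biprod.hom_ext' <;> apply biprod.hom_ext <;>
      simp only [Category.assoc, biprod.inl_desc_assoc, biprod.inr_desc_assoc, biprod.lift_fst,
        biprod.lift_snd, Preadditive.comp_sub, Category.comp_id, biprod.inl_fst, biprod.inl_snd,
        biprod.inr_fst, biprod.inr_snd, b1, b2, b3, b4, reassoc_of% b1, reassoc_of% b2,
        reassoc_of% b3, reassoc_of% b4, e11, e12, e21, e22, reassoc_of% e12, zero_comp, comp_zero,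
        sub_zero, sub_self, Category.id_comp] <;> (try abel)
  · apply biprod.hom_ext <;>
      simp only [Category.assoc, biprod.lift_fst, biprod.lift_snd, Preadditive.add_comp,
        Preadditive.comp_sub, Category.comp_id, b1, b2, b3, b4,
        reassoc_of% b1, reassoc_of% b2, reassoc_of% b3, reassoc_of% b4, e11, e12, e21, e22,
        reassoc_of% e22, zero_comp, comp_zero, sub_zero, sub_self, Category.id_comp, add_zero,
        zero_add] <;> (try abel)
  · apply biprod.hom_ext' <;>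
      simp only [Category.assoc, biprod.inl_desc_assoc, biprod.inr_desc_assoc, b1, b2, b3, b4,
        reassoc_of% b1, reassoc_of% b2, reassoc_of% b3, reassoc_of% b4, e11, e12, e21, e22,
        zero_comp, comp_zero]
  · simp only [biprod.lift_desc, Preadditive.comp_add, Preadditive.sub_comp, Category.assoc]
    have : sndC ≫ π₂ ≫ c₂ ≫ inrC + sndC ≫ π₁ ≫ c₁ ≫ inrC = sndC ≫ inrC := by
      rw [← Preadditive.comp_add, ← Category.assoc π₂, ← Category.assoc π₁,
        ← Preadditive.add_comp, add_comm, etot, Category.id_comp]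
    rw [← btot]
    rw [← this]
    abel

/-- The stages of the construction. -/
structure Stage (X : ℕ → CochainComplex V ℤ) (i : ℕ) where
  B : CochainComplex V ℤ
  e : HomotopyEquiv B (X i)

noncomputable def stage (X : ℕ → CochainComplex V ℤ) (a : ∀ i, X i ⟶ X (i + 1)) :
    ∀ i, Stage X i
  | 0 => ⟨X 0, HomotopyEquiv.refl _⟩
  | i + 1 => ⟨stepObj (stage X a i).B (X (i + 1)), stepEquiv _ _⟩

theorem exists_sequence (X : ℕ → CochainComplex V ℤ) (a : ∀ i, X i ⟶ X (i + 1)) :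
    ∃ (B : ℕ → CochainComplex V ℤ) (b : ∀ i, B i ⟶ B (i + 1))
      (e : ∀ i, HomotopyEquiv (B i) (X i)),
      (∀ i, b i ≫ (e (i + 1)).hom = (e i).hom ≫ a i) ∧
      (∀ (i : ℕ) (n : ℤ), ∃ (C : V) (ε : (B (i + 1)).X n ≅ (B i).X n ⊞ C),
        (b i).f n ≫ ε.hom = biprod.inl) ∧
      ((∀ i, ∃ m : ℤ, (X i).IsStrictlyGE m) → ∀ i, ∃ m : ℤ, (B i).IsStrictlyGE m) ∧
      ((∀ i, ∃ m : ℤ, (X i).IsStrictlyLE m) → ∀ i, ∃ m : ℤ, (B i).IsStrictlyLE m) := by
  refine ⟨fun i => (stage X a i).B,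
    fun i => stepMap ((stage X a i).e.hom ≫ a i),
    fun i => (stage X a i).e, ?_, ?_, ?_, ?_⟩
  · intro i
    exact stepMap_fst _
  · intro i n
    exact step_split ((stage X a i).e.hom ≫ a i) n
  · intro h i
    induction i with
    | zero => exact h 0
    | succ i ih =>
      obtain ⟨m₁, hm₁⟩ := ih
      obtain ⟨m₂, hm₂⟩ := h (i + 1)
      refine ⟨min m₁ m₂ - 1, ?_⟩
      show (stepObj (stage X a i).B (X (i + 1))).IsStrictlyGE _
      rw [CochainComplex.isStrictlyGE_iff]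
      intro n hn
      have h1 : IsZero ((mappingCone (𝟙 (stage X a i).B)).X n) :=
        isZero_cone_X _ n
          ((stage X a i).B.isZero_of_isStrictlyGE m₁ n (by have := min_le_left m₁ m₂; lia))
          ((stage X a i).B.isZero_of_isStrictlyGE m₁ (n + 1) (by have := min_le_left m₁ m₂; lia))
      exact (isZero_biprod' ((X (i + 1)).isZero_of_isStrictlyGE m₂ n
        (by have := min_le_right m₁ m₂; lia)) h1).of_iso (biprodXIso _ _ n)
  · intro h i
    induction i with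
    | zero => exact h 0
    | succ i ih =>
      obtain ⟨m₁, hm₁⟩ := ih
      obtain ⟨m₂, hm₂⟩ := h (i + 1)
      refine ⟨max m₁ m₂, ?_⟩
      show (stepObj (stage X a i).B (X (i + 1))).IsStrictlyLE _
      rw [CochainComplex.isStrictlyLE_iff]
      intro n hn
      have h1 : IsZero ((mappingCone (𝟙 (stage X a i).B)).X n) :=
        isZero_cone_X _ n
          ((stage X a i).B.isZero_of_isStrictlyLE m₁ n (by have := le_max_left m₁ m₂; lia))
          ((stage X a i).B.isZero_of_isStrictlyLE m₁ (n + 1) (by have := le_max_left m₁ m₂; lia))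
      exact (isZero_biprod' ((X (i + 1)).isZero_of_isStrictlyLE m₂ n
        (by have := le_max_right m₁ m₂; lia)) h1).of_iso (biprodXIso _ _ n)

end Groth.Agent.Lib.helper17.HtpySeq
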