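import Mathlib
import Groth.Prelude.Def_LCI2
import Groth.Agent.Lib.helper2.KosGen

/-! Quotient by a Koszul-regular sequence is a perfect module. -/

set_option autoImplicit false

open CategoryTheory Limits DerivedCategory

namespace Groth.Agent.Lib.helper17.LCIPerf1

universe u

attribute [local instance] HasDerivedCategory.standard

variable (R : Type u) [CommRing R]

lemma isPerfect_of_iso {K L : DerivedCategory (ModuleCat.{u} R)} (e : K ≅ L)
    (h : DRing.IsPerfect R K) : DRing.IsPerfect R L := by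
  obtain ⟨E, a, b, h1, h2, ⟨e'⟩⟩ := h
  exact ⟨E, a, b, h1, h2, ⟨e' ≪≫ e⟩⟩

open Groth.Agent.Lib.helper2 in
theorem koszul_iso_single' (fs : List R) (hz : LCI.IsKoszulRegularSeq R fs) :
    Nonempty (DRing.toD (Koszul.koszul R fs) ≅
      (DerivedCategory.singleFunctor (ModuleCat.{u} R) 0).obj
        (ModuleCat.of R (R ⧸ Ideal.ofList fs))) := by
  have h0 : Nonempty ((Koszul.koszul R fs).homology 0 ≅ ModuleCat.of R (R ⧸ Ideal.ofList fs)) := by
    rw [KosGen.koszul_eq]
    obtain ⟨e⟩ := Groth.Agent.H21.Kos.h0_equiv R fs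
    have e2 : (R ⧸ (Ideal.ofList fs • (⊤ : Submodule R R))) ≃ₗ[R] (R ⧸ Ideal.ofList fs) :=
      Submodule.quotEquivOfEq _ _ (by simp)
    exact ⟨(e ≪≫ₗ e2).toModuleIso⟩
  obtain ⟨e0⟩ := h0
  have hGE : (DRing.toD (Koszul.koszul R fs)).IsGE 0 := by
    rw [DerivedCategory.isGE_Q_obj_iff, CochainComplex.isGE_iff]
    intro i hi
    rw [HomologicalComplex.exactAt_iff_isZero_homology]
    exact hz i (by lia)
  have hLE : (DRing.toD (Koszul.koszul R fs)).IsLE 0 := by
    rw [DerivedCategory.isLE_Q_obj_iff, CochainComplex.isLE_iff]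
    intro i hi
    rw [HomologicalComplex.exactAt_iff_isZero_homology]
    exact hz i (by lia)
  obtain ⟨e⟩ := DerTrunc.exists_iso_single_homology (DRing.toD (Koszul.koszul R fs)) 0
  refine ⟨e ≪≫ (DerivedCategory.singleFunctor (ModuleCat.{u} R) 0).mapIso
    ((DerivedCategory.homologyFunctorFactors (ModuleCat.{u} R) 0).app _ ≪≫ e0)⟩

open Groth.Agent.Lib.helper2 in
theorem isPerfect_quot_of_koszulRegular (fs : List R) (hz : LCI.IsKoszulRegularSeq R fs) :
    DRing.IsPerfect R ((DerivedCategory.singleFunctor (ModuleCat.{u} R) 0).obj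
        (ModuleCat.of R (R ⧸ Ideal.ofList fs))) := by
  obtain ⟨e⟩ := koszul_iso_single' R fs hz
  exact isPerfect_of_iso R e (KZeroPerf.perf_of_bfp (KosGen.bfp_koszul R fs))

end Groth.Agent.Lib.helper17.LCIPerf1
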