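import Mathlib
import Groth.Prelude.Def_LCI2
import Groth.Agent.Lib.helper17.LCIPerf1
import Groth.Agent.Lib.helper17.DRingCover

/-! Quotient by a Koszul-regular ideal is a perfect module. -/

set_option autoImplicit false

open CategoryTheory Limits DerivedCategory TensorProduct

namespace Groth.Agent.Lib.helper17.LCIPerf2

universe u

attribute [local instance] HasDerivedCategory.standard

open Groth.Agent.Lib.helper17.DRingBC Groth.Agent.Lib.helper17.DRingCover
open Groth.Agent.Lib.helper17.LCIPerf1

variable {P : Type u} [CommRing P] (I : Ideal P)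

/-- the complex `(P/I)[0]` -/
noncomputable abbrev K0 : CochainComplex (ModuleCat.{u} P) ℤ :=
  (CochainComplex.singleFunctor (ModuleCat.{u} P) 0).obj (ModuleCat.of P (P ⧸ I))

noncomputable def locIso (R' : Type u) [CommRing R'] [Algebra P R'] [Module.Flat P R'] :
    Q.obj ((bcC P R').obj (K0 I)) ≅
      (DerivedCategory.singleFunctor (ModuleCat.{u} R') 0).obj
        (ModuleCat.of R' (R' ⧸ I.map (algebraMap P R'))) :=
  (bcDQ (K0 I)).symm ≪≫
    (bcD P R').mapIso ((DerivedCategory.singleFunctorIsoCompQ (ModuleCat.{u} P) 0).app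
      (ModuleCat.of P (P ⧸ I))).symm ≪≫
    bcDSingle (ModuleCat.of P (P ⧸ I)) ≪≫
    (DerivedCategory.singleFunctor (ModuleCat.{u} R') 0).mapIso
      (Algebra.TensorProduct.quotIdealMapEquivTensorQuot R' I).symm.toLinearEquiv.toModuleIso


lemma isPerfect_quot_congr {R : Type u} [CommRing R] {J J' : Ideal R} (h : J = J')
    (hp : DRing.IsPerfect R ((DerivedCategory.singleFunctor (ModuleCat.{u} R) 0).obj
      (ModuleCat.of R (R ⧸ J')))) :
    DRing.IsPerfect R ((DerivedCategory.singleFunctor (ModuleCat.{u} R) 0).obj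
      (ModuleCat.of R (R ⧸ J))) := by
  subst h; exact hp

theorem isPerfect_loc_koszul (g : P) (l : List (Localization.Away g))
    (hl : LCI.IsKoszulRegularSeq (Localization.Away g) l)
    (hI : I.map (algebraMap P (Localization.Away g)) = Ideal.span {x | x ∈ l}) :
    DRing.IsPerfect (Localization.Away g)
      (Q.obj ((bcC P (Localization.Away g)).obj (K0 I))) := by
  refine isPerfect_of_iso _ (locIso I (Localization.Away g)).symm ?_
  exact isPerfect_quot_congr hI (isPerfect_quot_of_koszulRegular _ l hl)

open Groth.Agent.Lib.helper2 in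
theorem isPerfect_loc_zero (g : P) (hg : g ∈ I) :
    DRing.IsPerfect (Localization.Away g)
      (Q.obj ((bcC P (Localization.Away g)).obj (K0 I))) := by
  refine isPerfect_of_iso _ (locIso I (Localization.Away g)).symm ?_
  have htop : I.map (algebraMap P (Localization.Away g)) = ⊤ := by
    apply Ideal.eq_top_of_isUnit_mem _ (Ideal.mem_map_of_mem _ hg)
    exact IsLocalization.Away.algebraMap_isUnit g
  have hsub : Subsingleton (Localization.Away g ⧸ I.map (algebraMap P (Localization.Away g))) := by
    exact Ideal.Quotient.subsingleton_iff.mpr htop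
  exact KZeroPerf.perf_single _ ⟨inferInstance, Module.Projective.of_free⟩ 0

theorem isPerfect_quot (hI : LCI.IsKoszulRegularIdeal I) : DRing.IsPerfect P (Q.obj (K0 I)) := by
  classical
  let S : Set P := {g | g ∈ I ∨ ∃ l : List (Localization.Away g),
    LCI.IsKoszulRegularSeq (Localization.Away g) l ∧
      I.map (algebraMap P (Localization.Away g)) = Ideal.span {x | x ∈ l}}
  have hS : Ideal.span S = ⊤ := by
    by_contra hne
    obtain ⟨m, hm, hle⟩ := Ideal.exists_le_maximal _ hne
    have hSm : S ⊆ m := fun g hg => hle (Ideal.subset_span hg)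
    by_cases hIm : I ≤ m
    · obtain ⟨g, hgm, l, hl, hIl⟩ := hI ⟨m, hm.isPrime⟩ hIm
      exact hgm (hSm (Or.inr ⟨l, hl, hIl⟩))
    · obtain ⟨g, hgI, hgm⟩ := Set.not_subset.mp hIm
      exact hgm (hSm (Or.inl hgI))
  obtain ⟨s', hs'S, hs'⟩ := (Ideal.span_eq_top_iff_finite S).mp hS
  let f : Fin s'.card → P := fun i => (s'.equivFin.symm i).1
  have hrange : Set.range f = (s' : Set P) := by
    ext x
    constructor
    · rintro ⟨i, rfl⟩
      exact (s'.equivFin.symm i).2
    · intro hx
      exact ⟨s'.equivFin ⟨x, hx⟩, by simp [f]⟩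
  have hf : Ideal.span (Set.range f) = ⊤ := by rw [hrange]; exact hs'
  have hc := isCov_away f hf
  refine isPerfect_of_cover hc (K0 I) (fun i => ?_)
  have hfi : f i ∈ S := hs'S (s'.equivFin.symm i).2
  rcases hfi with hfi | ⟨l, hl, hIl⟩
  · exact isPerfect_loc_zero I (f i) hfi
  · exact isPerfect_loc_koszul I (f i) l hl hIl

end Groth.Agent.Lib.helper17.LCIPerf2
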