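import Mathlib
import Groth.Prelude.Def_MoreMor
import Groth.Agent.Lib.helper17.DRingPC

/-! Pseudo-coherent ring maps are of finite presentation; pseudo-coherent morphisms are locally of
finite presentation. -/

set_option autoImplicit false

open AlgebraicGeometry CategoryTheory

namespace Groth.Agent.Lib.helper17.PCMorFP

universe u

attribute [local instance] HasDerivedCategory.standard

theorem finitePresentation_of_pcHom (A B : Type u) [CommRing A] [CommRing B] [Algebra A B]
    (h : MoreMor.IsPseudoCoherentHom A B) : Algebra.FinitePresentation A B := by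
  obtain ⟨n, φ, hφ, hpc⟩ := h
  letI : Algebra (MvPolynomial (Fin n) A) B := φ.toRingHom.toAlgebra
  have h1 : Module.FinitePresentation (MvPolynomial (Fin n) A) B := by
    rw [DRing.IsPseudoCoherentModule', DRingPC.isPseudoCoherent'_iff_isPC] at hpc
    exact (DRingPC.NPC_single_negOne_iff_finitePresentation _
      (ModuleCat.of (MvPolynomial (Fin n) A) B)).1 (hpc (-1))
  have hker : (RingHom.ker φ.toRingHom).FG := by
    have h2 := Module.FinitePresentation.fg_ker (Algebra.linearMap (MvPolynomial (Fin n) A) B) hφ
    exact h2
  exact Algebra.FinitePresentation.of_surjective hφ hker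

theorem lfp_of_pcMor {X S : Scheme.{u}} (f : X ⟶ S) (hf : MoreMor.IsPseudoCoherentMor f) :
    LocallyOfFinitePresentation f := by
  rw [HasRingHomProperty.iff_appLE (P := @LocallyOfFinitePresentation)]
  intro V U e
  have h := hf U.1 V.1 U.2 V.2 e
  letI := (f.appLE V.1 U.1 e).hom.toAlgebra
  exact finitePresentation_of_pcHom _ _ h

end Groth.Agent.Lib.helper17.PCMorFP
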