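import Mathlib

/-!
# The standard resolution `0 → M[X] → M[X] → M → 0` of an `R[X]`-module (helper17)
-/

namespace Groth.Agent.Lib.helper17.PolySES

open Polynomial TensorProduct

set_option linter.unusedSectionVars false
set_option linter.unusedVariables false

universe u

variable {R : Type u} [CommRing R] {M : Type u} [AddCommGroup M] [Module R M] [Module R[X] M]
  [IsScalarTower R R[X] M]

/-- multiplication by `X` on `M`, as an `R`-linear map. -/
noncomputable def ξ : M →ₗ[R] M where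
  toFun m := (X : R[X]) • m
  map_add' := smul_add _
  map_smul' r m := by
    simp only [RingHom.id_apply]
    rw [smul_comm]

/-- The multiplication map `R[X] ⊗ M → M`. -/
noncomputable def μ : R[X] ⊗[R] M →ₗ[R[X]] M :=
  LinearMap.liftBaseChange R[X] (LinearMap.id : M →ₗ[R] M)

@[simp] lemma μ_tmul (p : R[X]) (m : M) : μ (p ⊗ₜ[R] m) = p • m := by
  simp [μ]

/-- The map `p ⊗ m ↦ Xp ⊗ m - p ⊗ Xm`. -/
noncomputable def δ : R[X] ⊗[R] M →ₗ[R[X]] R[X] ⊗[R] M :=
  (X : R[X]) • LinearMap.id -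
    TensorProduct.AlgebraTensorModule.map (LinearMap.id : R[X] →ₗ[R[X]] R[X]) (ξ : M →ₗ[R] M)

@[simp] lemma δ_tmul (p : R[X]) (m : M) :
    δ (p ⊗ₜ[R] m) = (X * p) ⊗ₜ[R] m - p ⊗ₜ[R] ((X : R[X]) • m) := by
  simp [δ, ξ, TensorProduct.smul_tmul']

lemma μ_surjective : Function.Surjective (μ : R[X] ⊗[R] M →ₗ[R[X]] M) := fun m =>
  ⟨1 ⊗ₜ m, by simp⟩

lemma μ_comp_δ : (μ : R[X] ⊗[R] M →ₗ[R[X]] M) ∘ₗ δ = 0 := by
  apply TensorProduct.AlgebraTensorModule.ext
  intro p m
  simp only [LinearMap.comp_apply, δ_tmul, map_sub, μ_tmul, LinearMap.zero_apply]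
  rw [mul_comm, mul_smul, sub_self]

lemma pow_tmul_sub_mem (n : ℕ) : ∀ m : M,
    ((X : R[X]) ^ n) ⊗ₜ[R] m - (1 : R[X]) ⊗ₜ[R] (((X : R[X]) ^ n) • m) ∈
      LinearMap.range (δ : R[X] ⊗[R] M →ₗ[R[X]] R[X] ⊗[R] M) := by
  induction n with
  | zero => intro m; simp
  | succ n ih =>
    intro m
    have h1 : ((X : R[X]) ^ (n + 1)) ⊗ₜ[R] m - (1 : R[X]) ⊗ₜ[R] (((X : R[X]) ^ (n + 1)) • m) =
        δ (((X : R[X]) ^ n) ⊗ₜ[R] m) +
          (((X : R[X]) ^ n) ⊗ₜ[R] ((X : R[X]) • m) -
            (1 : R[X]) ⊗ₜ[R] (((X : R[X]) ^ n) • ((X : R[X]) • m))) := by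
      rw [δ_tmul, pow_succ, mul_smul, mul_comm]
      abel
    rw [h1]
    exact Submodule.add_mem _ ⟨_, rfl⟩ (ih _)

lemma tmul_sub_mem (p : R[X]) (m : M) :
    p ⊗ₜ[R] m - (1 : R[X]) ⊗ₜ[R] (p • m) ∈
      LinearMap.range (δ : R[X] ⊗[R] M →ₗ[R[X]] R[X] ⊗[R] M) := by
  induction p using Polynomial.induction_on' with
  | add p q hp hq =>
    have : (p + q) ⊗ₜ[R] m - (1 : R[X]) ⊗ₜ[R] ((p + q) • m) =
        (p ⊗ₜ[R] m - (1 : R[X]) ⊗ₜ[R] (p • m)) + (q ⊗ₜ[R] m - (1 : R[X]) ⊗ₜ[R] (q • m)) := by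
      rw [TensorProduct.add_tmul, add_smul, TensorProduct.tmul_add]
      abel
    rw [this]
    exact Submodule.add_mem _ hp hq
  | monomial n a =>
    have h0 : (monomial n a : R[X]) = a • (X : R[X]) ^ n := by
      rw [← Polynomial.C_mul_X_pow_eq_monomial, Polynomial.smul_eq_C_mul]
    have : (monomial n a : R[X]) ⊗ₜ[R] m - (1 : R[X]) ⊗ₜ[R] ((monomial n a : R[X]) • m) =
        ((X : R[X]) ^ n) ⊗ₜ[R] (a • m) -
          (1 : R[X]) ⊗ₜ[R] (((X : R[X]) ^ n) • (a • m)) := by
      rw [h0, TensorProduct.smul_tmul, smul_assoc, smul_comm]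
    rw [this]
    exact pow_tmul_sub_mem n _

lemma sub_mem (t : R[X] ⊗[R] M) :
    t - (1 : R[X]) ⊗ₜ[R] (μ t) ∈ LinearMap.range (δ : R[X] ⊗[R] M →ₗ[R[X]] R[X] ⊗[R] M) := by
  induction t using TensorProduct.induction_on with
  | zero => simp
  | tmul p m => rw [μ_tmul]; exact tmul_sub_mem p m
  | add x y hx hy =>
    have : x + y - (1 : R[X]) ⊗ₜ[R] (μ (x + y)) =
        (x - (1 : R[X]) ⊗ₜ[R] (μ x)) + (y - (1 : R[X]) ⊗ₜ[R] (μ y)) := by
      rw [map_add, TensorProduct.tmul_add]; abel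
    rw [this]
    exact Submodule.add_mem _ hx hy

lemma exact_δ_μ : Function.Exact (δ : R[X] ⊗[R] M →ₗ[R[X]] R[X] ⊗[R] M)
    (μ : R[X] ⊗[R] M →ₗ[R[X]] M) := by
  intro t
  constructor
  · intro ht
    have := sub_mem t
    rw [ht, TensorProduct.tmul_zero, sub_zero] at this
    exact this
  · rintro ⟨s, rfl⟩
    exact LinearMap.congr_fun μ_comp_δ s

section Inj

open PolynomialModule

lemma ε_tmul (p : R[X]) (m : M) :
    polynomialTensorProductLEquivPolynomialModule R M (p ⊗ₜ[R] m) = p • single R 0 m := by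
  change (LinearMap.liftBaseChange R[X] (lsingle R (M := M) 0)) (p ⊗ₜ[R] m) = _
  rw [LinearMap.liftBaseChange_tmul]
  rfl

lemma coeff_X_smul (g : PolynomialModule R M) (n : ℕ) :
    ((X : R[X]) • g).coeff (n + 1) = g.coeff n := by
  have := PolynomialModule.monomial_smul_apply 1 (1 : R) g (n + 1)
  rw [Polynomial.monomial_one_one_eq_X] at this
  simpa using this

lemma coeff_map (f : M →ₗ[R] M) (g : PolynomialModule R M) (n : ℕ) :
    (PolynomialModule.map R f g).coeff n = f (g.coeff n) := by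
  induction g using PolynomialModule.induction_linear with
  | zero => simp
  | add p q hp hq => simp [hp, hq]
  | single i m =>
    rw [PolynomialModule.map_single]
    simp only [coeff_single, Finsupp.single_apply]
    split_ifs <;> simp

lemma ε_δ (t : R[X] ⊗[R] M) :
    polynomialTensorProductLEquivPolynomialModule R M (δ t) =
      (X : R[X]) • polynomialTensorProductLEquivPolynomialModule R M t -
        PolynomialModule.map R (ξ : M →ₗ[R] M)
          (polynomialTensorProductLEquivPolynomialModule R M t) := by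
  induction t using TensorProduct.induction_on with
  | zero => simp
  | tmul p m =>
    rw [δ_tmul, map_sub, ε_tmul, ε_tmul, ε_tmul, mul_smul]
    congr 1
    rw [PolynomialModule.map_smul, PolynomialModule.map_single]
    simp [ξ]
  | add x y hx hy =>
    simp only [map_add, smul_add, hx, hy]
    abel

lemma δ_injective : Function.Injective (δ : R[X] ⊗[R] M →ₗ[R[X]] R[X] ⊗[R] M) := by
  rw [injective_iff_map_eq_zero]
  intro t ht
  have h1 : polynomialTensorProductLEquivPolynomialModule R M (δ t) = 0 := by rw [ht, map_zero]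
  rw [ε_δ, sub_eq_zero] at h1
  generalize hg : polynomialTensorProductLEquivPolynomialModule R M t = g at h1
  have h2 : ∀ n, g.coeff n = (X : R[X]) • g.coeff (n + 1) := by
    intro n
    have := congrArg (fun h : PolynomialModule R M => h.coeff (n + 1)) h1
    simp only [coeff_X_smul, coeff_map] at this
    exact this
  have h3 : ∀ k n, g.coeff n = (X : R[X]) ^ k • g.coeff (n + k) := by
    intro k
    induction k with
    | zero => intro n; simp
    | succ k ih =>
      intro n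
      rw [ih n, h2 (n + k), pow_succ, mul_smul]
      rfl
  have h4 : g = 0 := by
    rw [← PolynomialModule.coeff_eq_zero]
    ext n
    obtain ⟨K, hK⟩ : ∃ K, ∀ i, K ≤ i → g.coeff i = 0 := by
      refine ⟨g.coeff.support.sup id + 1, fun i hi => ?_⟩
      by_contra h
      have := Finset.le_sup (f := id) (Finsupp.mem_support_iff.mpr h)
      simp only [id] at this
      omega
    rw [h3 K n, hK (n + K) (by omega), smul_zero]
    rfl
  rw [h4] at hg
  exact (LinearEquiv.map_eq_zero_iff _).mp hg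

end Inj

end Groth.Agent.Lib.helper17.PolySES
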