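import Mathlib
import Groth.Prelude.Def_DRing2
import Groth.Agent.Lib.helper17.DRingTA
import Groth.Agent.Lib.helper21.TorLib

/-!
# Tor dimension of a module (via Mathlib's `Tor`) vs tor amplitude of `M[0]` (helper17)
-/

namespace Groth.Agent.Lib.helper17.TorAmpTor

open CategoryTheory Limits Pretriangulated DerivedCategory
open Groth.Agent.Lib.helper17.PCohBasic Groth.Agent.Lib.helper17.PCohLES
open Groth.Agent.Lib.helper17.DRingTor
open Groth.Agent.Lib.helper17.DRingTA Groth.Agent.Lib.helper17.PCohD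
open Groth.Agent.H21.TorLib

set_option linter.unusedSectionVars false
set_option linter.unusedVariables false

attribute [local instance] HasDerivedCategory.standard

universe u

variable {R : Type u} [CommRing R]

/-- Tor-dimension `≤ d` in `ModuleCat` terms. -/
def TD (d : ℕ) (M : ModuleCat.{u} R) : Prop :=
  ∀ (N : ModuleCat.{u} R) (p : ℕ), d < p → IsZero (T p M N)

lemma hasTorDimLE_iff (d : ℕ) (M : Type u) [AddCommGroup M] [Module R M] :
    DRing.HasTorDimLE R d M ↔ TD d (ModuleCat.of R M) := by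
  constructor
  · intro h N p hp
    have h1 : Subsingleton (T p (ModuleCat.of R M) N) := h N p hp
    exact ModuleCat.isZero_of_subsingleton _
  · intro h N _ _ p hp
    exact ModuleCat.subsingleton_of_isZero (h (ModuleCat.of R N) p hp)

theorem TD_zero_iff_flat (M : ModuleCat.{u} R) : TD 0 M ↔ Module.Flat R M := by
  constructor
  · intro h
    rw [Module.Flat.iff_lTensor_injective']
    intro I
    have hS := quotSES_shortExact I
    exact injective_lTensor_of_isZero M (quotSES I) hS (h _ 1 one_pos)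
  · intro h N p hp
    obtain ⟨n, rfl⟩ : ∃ n, p = n + 1 := ⟨p - 1, by lia⟩
    exact isZero_of_flat_left M N n

theorem TD_succ_iff (d : ℕ) (S : ShortComplex (ModuleCat.{u} R)) (hS : S.ShortExact)
    (hF : Module.Flat R S.X₂) : TD (d + 1) S.X₃ ↔ TD d S.X₁ := by
  constructor
  · intro h N p hp
    obtain ⟨q, rfl⟩ : ∃ q, p = q + 1 := ⟨p - 1, by lia⟩
    obtain ⟨e⟩ := nonempty_iso_shift₁ S hS N q (isZero_of_flat_left S.X₂ N q)
      (isZero_of_flat_left S.X₂ N (q + 1))
    exact (h N (q + 2) (by lia)).of_iso e.symm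
  · intro h N p hp
    obtain ⟨q, rfl⟩ : ∃ q, p = q + 2 := ⟨p - 2, by lia⟩
    obtain ⟨e⟩ := nonempty_iso_shift₁ S hS N q (isZero_of_flat_left S.X₂ N q)
      (isZero_of_flat_left S.X₂ N (q + 1))
    exact (h N (q + 1) (by lia)).of_iso e

/-- Shrinking the upper bound of the tor amplitude when the cohomology vanishes. -/
theorem torAmp_shrink {K : DerivedCategory (ModuleCat.{u} R)} {a c c' : ℤ}
    (h : DRing.HasTorAmplitudeIn R a c K)
    (hz : ∀ i, c' < i → IsZero ((DerivedCategory.homologyFunctor _ i).obj K)) :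
    DRing.HasTorAmplitudeIn R a c' K := by
  have hzK := isZero_homology_of_torAmp h
  obtain ⟨P, ⟨⟨b, hb⟩, hP⟩, ⟨e⟩⟩ := exists_free_resolution R K c (fun i hi => hzK i (Or.inr hi))
  have hPfl : ∀ i, Fl R (P.X i) := fun i => Fr_le_Fl R _ (hP i)
  have h1 := (torAmp_iff P b hb hPfl a c).1 (torAmp_of_iso h e.symm)
  refine torAmp_of_iso ((torAmp_iff P b hb hPfl a c').2 ⟨fun i hi => ?_, h1.2⟩) e
  rcases hi with hi | hi
  · exact h1.1 i (Or.inl hi)
  · exact ((hz i hi).of_iso ((DerivedCategory.homologyFunctor _ i).mapIso e)).of_iso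
      (homologyQIso P i).symm

theorem torAmp_zero_iff_flat (M : ModuleCat.{u} R) :
    DRing.HasTorAmplitudeIn R 0 0 ((DerivedCategory.singleFunctor (ModuleCat.{u} R) 0).obj M) ↔
      Module.Flat R M := by
  constructor
  · rintro ⟨F, hFz, hFfl, ⟨eF⟩⟩
    have hd1 : F.d 0 1 = 0 := (hFz 1 (Or.inr one_pos)).eq_of_tgt _ _
    have hd0 : F.d (-1) 0 = 0 := (hFz (-1) (Or.inl (by lia))).eq_of_src _ _
    have i1 : IsIso (F.homologyι 0) := F.isIso_homologyι 0 1 (by simp) hd1
    have i2 : IsIso (F.pOpcycles 0) := F.isIso_pOpcycles (-1) 0 (by simp) hd0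
    have e : M ≅ F.X 0 :=
      (homologySingleIso M 0).symm ≪≫ (DerivedCategory.homologyFunctor _ 0).mapIso eF.symm ≪≫
        homologyQIso F 0 ≪≫ asIso (F.homologyι 0) ≪≫ (asIso (F.pOpcycles 0)).symm
    exact ((Fl R).prop_of_iso e.symm (hFfl 0) : Fl R M)
  · intro h
    exact torAmp_single_of_flat M h

theorem TD_iff_torAmp : ∀ (d : ℕ) (M : ModuleCat.{u} R),
    TD d M ↔ DRing.HasTorAmplitudeIn R (-(d : ℤ)) 0
      ((DerivedCategory.singleFunctor (ModuleCat.{u} R) 0).obj M) := by
  intro d
  induction d with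
  | zero =>
    intro M
    rw [TD_zero_iff_flat]
    simpa using (torAmp_zero_iff_flat M).symm
  | succ d ih =>
    intro M
    obtain ⟨F, π, hF, hπ⟩ := isOfFiniteType_Fr R M
    have hS := shortExact_of_surjective' π hπ
    have hFl : Module.Flat R F := Fr_le_Fl R F hF
    have h0 : TD (d + 1) M ↔ TD d (kernel π) := TD_succ_iff d _ hS hFl
    rw [h0, ih (kernel π)]
    have h2 : DRing.HasTorAmplitudeIn R 0 0
        ((DerivedCategory.singleFunctor (ModuleCat.{u} R) 0).obj F) :=
      torAmp_single_of_flat F hFl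
    have hT := hS.singleTriangle_distinguished
    constructor
    · intro h1
      exact cone_torAmp hS.singleTriangle hT (-((d + 1 : ℕ) : ℤ)) 0
        (torAmp_of_le h1 (by push_cast; lia) (by lia))
        (torAmp_of_le h2 (by push_cast; lia) (by lia))
    · intro h3
      have hK := (torAmp_triangle (-((d + 1 : ℕ) : ℤ)) 0 hS.singleTriangle hT).2.2
        (torAmp_of_le h2 (by push_cast; lia) (by lia)) h3
      have hK' : DRing.HasTorAmplitudeIn R (-(d : ℤ)) 1
          ((DerivedCategory.singleFunctor (ModuleCat.{u} R) 0).obj (kernel π)) :=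
        torAmp_of_le hK (by push_cast; lia) (by lia)
      exact torAmp_shrink hK' (fun i hi => isZero_homology_single (kernel π) 0 i (by lia))

end Groth.Agent.Lib.helper17.TorAmpTor
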