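import Mathlib
import Groth.Prelude.Def_DRing2
import Groth.Agent.Lib.helper17.DRingBC
import Groth.Agent.Lib.helper17.DRingRes
import Groth.Agent.Lib.helper17.TorAmpTor
import Groth.Agent.Lib.helper17.PolySES

/-!
# Tor dimension over polynomial rings (helper17)

`TD_A d (M|_A) → TD_{A[x_1..x_n]} (d + n) M`.
-/

namespace Groth.Agent.Lib.helper17.PolyTD

open CategoryTheory Limits Pretriangulated DerivedCategory
open Groth.Agent.Lib.helper17.DRingTor Groth.Agent.Lib.helper17.DRingTA
open Groth.Agent.Lib.helper17.DRingBC Groth.Agent.Lib.helper17.DRingRes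
open Groth.Agent.Lib.helper17.TorAmpTor

set_option linter.unusedSectionVars false
set_option linter.unusedVariables false

attribute [local instance] HasDerivedCategory.standard

universe u

section General

variable {A B C : Type u} [CommRing A] [CommRing B] [CommRing C]

lemma TD.of_iso {M N : ModuleCat.{u} A} (e : M ≅ N) {d : ℕ} (h : TD d M) : TD d N :=
  (TD_iff_torAmp d N).mpr (torAmp_of_iso ((TD_iff_torAmp d M).mp h)
    ((DerivedCategory.singleFunctor (ModuleCat.{u} A) 0).mapIso e))

lemma TD.of_le {M : ModuleCat.{u} A} {d d' : ℕ} (hd : d ≤ d') (h : TD d M) : TD d' M :=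
  fun N p hp => h N p (lt_of_le_of_lt hd hp)

lemma flat_restrictScalars (φ : A →+* B) (hφ : φ.Flat) (M : ModuleCat.{u} B)
    (h : Module.Flat B M) : Module.Flat A ((ModuleCat.restrictScalars φ).obj M) := by
  let _ := φ.toAlgebra
  let _ : Module A M := Module.compHom M φ
  have : IsScalarTower A B M := IsScalarTower.of_algebraMap_smul (fun r m => rfl)
  have : Module.Flat A B := hφ
  exact (Module.Flat.trans A B M : Module.Flat A M)

theorem torAmp_resD_of_flat (φ : A →+* B) (hφ : φ.Flat) {K : DerivedCategory (ModuleCat.{u} B)}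
    {a b : ℤ} (h : DRing.HasTorAmplitudeIn B a b K) :
    DRing.HasTorAmplitudeIn A a b ((resD φ).obj K) := by
  obtain ⟨F, hFz, hFfl, ⟨eF⟩⟩ := h
  exact ⟨(resC φ).obj F, fun i hi => (resF φ).map_isZero (hFz i hi),
    fun i => flat_restrictScalars φ hφ (F.X i) (hFfl i),
    ⟨(resDQ φ F).symm ≪≫ (resD φ).mapIso eF⟩⟩

theorem TD_resF_of_flat (φ : A →+* B) (hφ : φ.Flat) {N : ModuleCat.{u} B} {d : ℕ}
    (h : TD d N) : TD d ((resF φ).obj N) := by
  rw [TD_iff_torAmp] at h ⊢
  exact torAmp_of_iso (torAmp_resD_of_flat φ hφ h) (resDSingle φ N)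

/-- Tor dimension over `B` is at most tor dimension over `A` plus `k`. -/
def TDshift (φ : A →+* B) (k : ℕ) : Prop :=
  ∀ (M : ModuleCat.{u} B) (d : ℕ), TD d ((resF φ).obj M) → TD (d + k) M

lemma TDshift_comp (φ : A →+* B) (ψ : B →+* C) {k l : ℕ} (h1 : TDshift φ k) (h2 : TDshift ψ l) :
    TDshift (ψ.comp φ) (k + l) := by
  intro M d h
  have h3 : TD d ((resF φ).obj ((resF ψ).obj M)) :=
    TD.of_iso (ModuleCat.restrictScalarsComp'App φ ψ (ψ.comp φ) rfl M) h
  have := h2 M (d + k) (h1 _ d h3)
  rwa [add_assoc] at this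

lemma TDshift_equiv (e : B ≃+* C) : TDshift (e : B →+* C) 0 := by
  intro M d h
  have h2 : TD d ((resF (e.symm : C →+* B)).obj ((resF (e : B →+* C)).obj M)) :=
    TD_resF_of_flat (e.symm : C →+* B) (RingHom.Flat.of_bijective e.symm.bijective) h
  have e1 : (resF (e.symm : C →+* B)).obj ((resF (e : B →+* C)).obj M) ≅ M :=
    (ModuleCat.restrictScalarsComp'App (e.symm : C →+* B) (e : B →+* C) (RingHom.id C)
      (by ext x; simp) M).symm ≪≫ ModuleCat.restrictScalarsId'App (RingHom.id C) rfl M
  exact TD.of_iso e1 h2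

end General

section Poly

open Polynomial TensorProduct PolySES

variable {R : Type u} [CommRing R]

set_option maxHeartbeats 800000 in
theorem TDshift_polynomial : TDshift (Polynomial.C : R →+* R[X]) 1 := by
  intro M d h
  -- the `R`-module structure on `M`
  let _ : Module R M := Module.compHom M (Polynomial.C : R →+* R[X])
  have : IsScalarTower R R[X] M := IsScalarTower.of_algebraMap_smul (fun r m => rfl)
  -- the short exact sequence
  let S : ShortComplex (ModuleCat.{u} R[X]) :=
    ShortComplex.mk (ModuleCat.ofHom (δ : R[X] ⊗[R] M →ₗ[R[X]] R[X] ⊗[R] M))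
      (ModuleCat.ofHom (μ : R[X] ⊗[R] M →ₗ[R[X]] M) : ModuleCat.of R[X] (R[X] ⊗[R] M) ⟶ M) (by
        apply ModuleCat.hom_ext
        exact μ_comp_δ)
  have hS : S.ShortExact := by
    have hex : S.Exact := by
      rw [CategoryTheory.ShortComplex.ShortExact.moduleCat_exact_iff_function_exact]
      exact exact_δ_μ
    refine ShortComplex.ShortExact.mk' hex ?_ ?_
    · exact (ModuleCat.mono_iff_injective _).mpr δ_injective
    · exact (ModuleCat.epi_iff_surjective _).mpr μ_surjective
  -- tor amplitude of the base change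
  have hBC : DRing.HasTorAmplitudeIn R[X] (-(d : ℤ)) 0
      ((DerivedCategory.singleFunctor (ModuleCat.{u} R[X]) 0).obj
        (ModuleCat.of R[X] (R[X] ⊗[R] M))) := by
    have h1 := (TD_iff_torAmp d _).mp h
    have h2 := torAmp_bcD (A := R) (B := R[X]) h1
    exact torAmp_of_iso h2 (bcDSingle ((resF (Polynomial.C : R →+* R[X])).obj M))
  rw [TD_iff_torAmp]
  have hT := hS.singleTriangle_distinguished
  have := cone_torAmp hS.singleTriangle hT (-((d + 1 : ℕ) : ℤ)) 0
    (torAmp_of_le hBC (by push_cast; omega) (by omega))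
    (torAmp_of_le hBC (by push_cast; omega) (by omega))
  exact this

lemma TDshift_congr {A B : Type u} [CommRing A] [CommRing B] {φ ψ : A →+* B} {k l : ℕ}
    (h : φ = ψ) (hk : k = l) (H : TDshift φ k) : TDshift ψ l := by
  subst h; subst hk; exact H

theorem TDshift_mvPolynomial (A : Type u) [CommRing A] :
    ∀ n : ℕ, TDshift (algebraMap A (MvPolynomial (Fin n) A)) n
  | 0 => by
    have := TDshift_equiv ((MvPolynomial.isEmptyAlgEquiv A (Fin 0)).symm.toRingEquiv)
    refine TDshift_congr ?_ rfl this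
    ext a
    simp
  | n + 1 => by
    have h1 := TDshift_mvPolynomial A n
    have h2 : TDshift (Polynomial.C : MvPolynomial (Fin n) A →+* (MvPolynomial (Fin n) A)[X]) 1 :=
      TDshift_polynomial
    have h3 := TDshift_comp _ _ h1 h2
    have h4 := TDshift_equiv ((MvPolynomial.finSuccEquiv A n).symm.toRingEquiv)
    have h5 := TDshift_comp _ _ h3 h4
    refine TDshift_congr ?_ (by omega) h5
    ext a
    have := (MvPolynomial.finSuccEquiv A n).symm.commutes a
    simp only [RingHom.comp_apply]
    rw [← this]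
    rfl

end Poly

section Assembly

open Groth.Agent.Lib.helper17.PCohLES

variable {A B : Type u} [CommRing A] [CommRing B] [Algebra A B]

/-- `B` as a module over the polynomial ring, restricted to `A`, is `B`. -/
noncomputable def resOfIso (n : ℕ) (φ : MvPolynomial (Fin n) A →ₐ[A] B) :
    letI := φ.toRingHom.toAlgebra
    (resF (algebraMap A (MvPolynomial (Fin n) A))).obj (ModuleCat.of (MvPolynomial (Fin n) A) B) ≅
      ModuleCat.of A B :=
  letI := φ.toRingHom.toAlgebra
  (AddEquiv.toLinearEquiv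
    (M := ↑((resF (algebraMap A (MvPolynomial (Fin n) A))).obj
      (ModuleCat.of (MvPolynomial (Fin n) A) B)))
    (M₂ := ↑(ModuleCat.of A B))
    (by rfl)
    (fun a b => by
      change φ (algebraMap A (MvPolynomial (Fin n) A) a) * (show B from b) = a • (show B from b)
      rw [φ.commutes, Algebra.smul_def])).toModuleIso

theorem torAmp_of_hasTorDimLE (n : ℕ) (φ : MvPolynomial (Fin n) A →ₐ[A] B) (d : ℕ)
    (hd : DRing.HasTorDimLE A d B) :
    letI := φ.toRingHom.toAlgebra
    DRing.HasTorAmplitudeIn (MvPolynomial (Fin n) A) (-((d + n : ℕ) : ℤ)) 0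
      (Dual.inD (MvPolynomial (Fin n) A) B) := by
  letI := φ.toRingHom.toAlgebra
  have h0 : TD d (ModuleCat.of A B) := (hasTorDimLE_iff d B).mp hd
  have h1 := TD.of_iso (resOfIso n φ).symm h0
  have h2 := TDshift_mvPolynomial A n _ d h1
  exact (TD_iff_torAmp _ _).mp h2

theorem hasFiniteTorDim_of_torAmp (n : ℕ) (φ : MvPolynomial (Fin n) A →ₐ[A] B) (a b : ℤ)
    (hab : letI := φ.toRingHom.toAlgebra
      DRing.HasTorAmplitudeIn (MvPolynomial (Fin n) A) a b (Dual.inD (MvPolynomial (Fin n) A) B)) :
    DRing.HasFiniteTorDim A B := by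
  letI := φ.toRingHom.toAlgebra
  have hflat : (algebraMap A (MvPolynomial (Fin n) A)).Flat :=
    RingHom.flat_algebraMap_iff.mpr inferInstance
  have h1 := torAmp_resD_of_flat (algebraMap A (MvPolynomial (Fin n) A)) hflat hab
  have h2 := torAmp_of_iso h1 (resDSingle _ (ModuleCat.of (MvPolynomial (Fin n) A) B))
  have h3 := torAmp_of_iso h2
    ((DerivedCategory.singleFunctor (ModuleCat.{u} A) 0).mapIso (resOfIso n φ))
  have h4 : DRing.HasTorAmplitudeIn A (-(((-a).toNat : ℕ) : ℤ)) (max b 0)
      ((DerivedCategory.singleFunctor (ModuleCat.{u} A) 0).obj (ModuleCat.of A B)) :=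
    torAmp_of_le h3 (by have := Int.self_le_toNat (-a); omega) (le_max_left _ _)
  have h5 := torAmp_shrink (c' := 0) h4
    (fun i hi => isZero_homology_single (ModuleCat.of A B) 0 i (by omega))
  exact ⟨(-a).toNat, (hasTorDimLE_iff _ B).mpr ((TD_iff_torAmp _ _).mpr h5)⟩

end Assembly

end Groth.Agent.Lib.helper17.PolyTD
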