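import Mathlib
import Groth.Prelude.Def_LCI2
import Groth.Prelude.Def_MoreMor
import Groth.Agent.S6954
import Groth.Agent.Lib.helper17.LCIPerf2
import Groth.Agent.Lib.helper17.PolyTD
import Groth.Agent.Lib.helper17.PCMorFP

/-! Local complete intersection ring maps are perfect. -/

set_option autoImplicit false

open CategoryTheory Limits DerivedCategory TensorProduct AlgebraicGeometry

namespace Groth.Agent.Lib.helper17.LCIPerf3

universe u

attribute [local instance] HasDerivedCategory.standard

open Groth.Agent.Lib.helper17.LCIPerf1 Groth.Agent.Lib.helper17.LCIPerf2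

lemma isPerfect_K0_congr {P : Type u} [CommRing P] {I J : Ideal P} (h : I = J)
    (hp : DRing.IsPerfect P (Q.obj (K0 I))) : DRing.IsPerfect P (Q.obj (K0 J)) := by
  subst h; exact hp

theorem isPerfect_of_surjective {P B : Type u} [CommRing P] [CommRing B] [Algebra P B]
    (hsurj : Function.Surjective (algebraMap P B))
    (hI : LCI.IsKoszulRegularIdeal (RingHom.ker (algebraMap P B))) :
    DRing.IsPerfect P (Dual.inD P B) := by
  have hker : RingHom.ker (algebraMap P B) = LinearMap.ker (Algebra.linearMap P B) := by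
    ext x
    rw [RingHom.mem_ker, LinearMap.mem_ker]
    rfl
  have h1 := isPerfect_K0_congr hker (isPerfect_quot _ hI)
  let e : (P ⧸ LinearMap.ker (Algebra.linearMap P B)) ≃ₗ[P] B :=
    LinearMap.quotKerEquivOfSurjective (Algebra.linearMap P B) hsurj
  exact isPerfect_of_iso P
    ((DerivedCategory.singleFunctor (ModuleCat.{u} P) 0).mapIso e.toModuleIso) h1

theorem perfectHom_of_lci (A B : Type u) [CommRing A] [CommRing B] [Algebra A B]
    (h : LCI.IsLCI A B) : MoreMor.IsPerfectHom A B := by
  obtain ⟨_, n, φ, hφ, hI⟩ := h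
  letI : Algebra (MvPolynomial (Fin n) A) B := φ.toRingHom.toAlgebra
  have hperf : DRing.IsPerfect (MvPolynomial (Fin n) A) (Dual.inD (MvPolynomial (Fin n) A) B) :=
    isPerfect_of_surjective hφ hI
  obtain ⟨hpc, a, b, hab⟩ := (Groth.Agent.S6954.result _ _).mp hperf
  exact ⟨⟨n, φ, hφ, hpc⟩, PolyTD.hasFiniteTorDim_of_torAmp n φ a b hab⟩

theorem lci_mor {X S : Scheme.{u}} (f : X ⟶ S)
    (hf : (∀ (U : X.Opens) (V : S.Opens) (hU : IsAffineOpen U) (hV : IsAffineOpen V)
        (hUV : U ≤ f ⁻¹ᵁ V),
        letI := (f.appLE V U hUV).hom.toAlgebra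
        LCI.IsLCI Γ(S, V) Γ(X, U))) :
    LocallyOfFinitePresentation f ∧ MoreMor.IsPseudoCoherentMor f ∧ MoreMor.IsPerfectMor f := by
  have hperf : MoreMor.IsPerfectMor f := by
    intro U V hU hV e
    letI := (f.appLE V U e).hom.toAlgebra
    exact perfectHom_of_lci _ _ (hf U V hU hV e)
  have hpc : MoreMor.IsPseudoCoherentMor f := fun U V hU hV e => (hperf U V hU hV e).1
  exact ⟨PCMorFP.lfp_of_pcMor f hpc, hpc, hperf⟩

end Groth.Agent.Lib.helper17.LCIPerf3
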