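import Mathlib
import Groth.Prelude.Def_PCoh
import Groth.Prelude.Def_DRing2
import Groth.Agent.Lib.helper17.DRingRes

/-!
# Pseudo-coherence over a (noncommutative) finite free algebra, via restriction of scalars (helper17)
-/

namespace Groth.Agent.Lib.helper17.NCRes

open CategoryTheory Limits Pretriangulated DerivedCategory
open Groth.Agent.Lib.helper17.PCohBasic Groth.Agent.Lib.helper17.PCohLES
open Groth.Agent.Lib.helper17.DRingPC Groth.Agent.Lib.helper17.DRingTor
open Groth.Agent.Lib.helper17.DRingTA Groth.Agent.Lib.helper17.PCohD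
open Groth.Agent.Lib.helper17.PCohTri Groth.Agent.Lib.helper17.PCohT1 Groth.Agent.Lib.helper17.PCohCore
open Groth.Agent.Lib.helper17.PCohAll Groth.Agent.Lib.helper17.PCohTrunc
open Groth.Agent.Lib.helper17.PCohFT Groth.Agent.Lib.helper17.PerfLift

set_option linter.unusedSectionVars false
set_option linter.unusedVariables false

attribute [local instance] HasDerivedCategory.standard

universe u

section NC

variable (R : Type u) [Ring R]

/-- Finite free modules over a ring. -/
def FFn : ObjectProperty (ModuleCat.{u} R) := fun M => Module.Finite R M ∧ Module.Free R M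

/-- Finite projective modules over a ring. -/
def FPn : ObjectProperty (ModuleCat.{u} R) := fun M => Module.Finite R M ∧ Module.Projective R M

lemma FFn_le_FPn : ∀ M, FFn R M → FPn R M := fun M ⟨h1, h2⟩ => ⟨h1, Module.Projective.of_free⟩

instance : (FFn R).IsClosedUnderIsomorphisms where
  of_iso {X Y} e := fun ⟨h1, h2⟩ =>
    ⟨Module.Finite.equiv e.toLinearEquiv, Module.Free.of_equiv e.toLinearEquiv⟩

instance : (FPn R).IsClosedUnderIsomorphisms where
  of_iso {X Y} e := fun ⟨h1, h2⟩ =>
    ⟨Module.Finite.equiv e.toLinearEquiv, Module.Projective.of_equiv e.toLinearEquiv⟩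

instance : (FFn R).ContainsZero where
  exists_zero := ⟨ModuleCat.of R PUnit, ModuleCat.isZero_of_subsingleton _,
    ⟨inferInstance, inferInstance⟩⟩

instance : (FPn R).ContainsZero where
  exists_zero := ⟨ModuleCat.of R PUnit, ModuleCat.isZero_of_subsingleton _,
    ⟨inferInstance, inferInstance⟩⟩

lemma FFn_biprod {X Y : ModuleCat.{u} R} (hX : FFn R X) (hY : FFn R Y) : FFn R (X ⊞ Y) := by
  obtain ⟨h1, h2⟩ := hX
  obtain ⟨h3, h4⟩ := hY
  have e := (ModuleCat.biprodIsoProd X Y).toLinearEquiv
  exact ⟨Module.Finite.equiv e.symm, Module.Free.of_equiv e.symm⟩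

lemma FPn_biprod {X Y : ModuleCat.{u} R} (hX : FPn R X) (hY : FPn R Y) : FPn R (X ⊞ Y) := by
  obtain ⟨h1, h2⟩ := hX
  obtain ⟨h3, h4⟩ := hY
  have e := (ModuleCat.biprodIsoProd X Y).toLinearEquiv
  exact ⟨Module.Finite.equiv e.symm, Module.Projective.of_equiv e.symm⟩

lemma FFn_prod : ∀ X Y : ModuleCat.{u} R, FFn R X → FFn R Y → FFn R (X ⨯ Y) := fun X Y hX hY =>
  (FFn R).prop_of_iso (biprod.isoProd X Y) (FFn_biprod R hX hY)

lemma FPn_prod : ∀ X Y : ModuleCat.{u} R, FPn R X → FPn R Y → FPn R (X ⨯ Y) := fun X Y hX hY =>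
  (FPn R).prop_of_iso (biprod.isoProd X Y) (FPn_biprod R hX hY)

lemma FPn_lift : ∀ (E F : ModuleCat.{u} R) (u : E ⟶ F), Epi u → FPn R F → IsSplitEpi u := by
  intro E F u hu ⟨_, hF⟩
  have : Projective F := (IsProjective.iff_projective F).1 hF
  exact ⟨⟨⟨Projective.factorThru (𝟙 F) u, Projective.factorThru_comp _ _⟩⟩⟩

lemma FPn_of_biprod : ∀ (E' E'' : ModuleCat.{u} R) [HasBinaryBiproduct E' E''],
    FPn R (E' ⊞ E'') → FPn R E' ∧ FPn R E'' := by
  intro E' E'' _ ⟨h1, h2⟩
  have e := (ModuleCat.biprodIsoProd E' E'').toLinearEquiv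
  have : Module.Finite R (E' × E'') := Module.Finite.equiv e
  have : Module.Projective R (E' × E'') := Module.Projective.of_equiv e
  refine ⟨⟨Module.Finite.of_surjective (LinearMap.fst R E' E'') LinearMap.fst_surjective,
    Module.Projective.of_split (LinearMap.inl R E' E'') (LinearMap.fst R E' E'') (by ext; simp)⟩,
    ⟨Module.Finite.of_surjective (LinearMap.snd R E' E'') LinearMap.snd_surjective,
    Module.Projective.of_split (LinearMap.inr R E' E'') (LinearMap.snd R E' E'') (by ext; simp)⟩⟩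

lemma FPn_stable : ∀ (E F : ModuleCat.{u} R) (u : E ⟶ F), Epi u → FPn R E → FPn R F →
    FPn R (kernel u) := by
  intro E F u hu hE hF
  have hs := FPn_lift R E F u hu hF
  have hb := isBilimitBinaryBiconeOfIsSplitEpiOfKernel (kernelIsKernel u)
  have e : E ≅ kernel u ⊞ F := biprod.uniqueUpToIso (kernel u) F hb
  exact (FPn_of_biprod R _ _ ((FPn R).prop_of_iso e hE)).1

lemma isOfFiniteType_of_finite_n (M : ModuleCat.{u} R) [Module.Finite R M] :
    PCoh.IsOfFiniteType (FFn R) M := by
  obtain ⟨n, f, hf⟩ := Module.Finite.exists_fin' R M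
  refine ⟨ModuleCat.of R (Fin n → R), ModuleCat.ofHom f, ⟨inferInstance, inferInstance⟩, ?_⟩
  rw [ModuleCat.epi_iff_surjective]
  exact hf

lemma finite_of_isOfFiniteType_n {P : ObjectProperty (ModuleCat.{u} R)}
    (hP : ∀ M, P M → Module.Finite R M) (M : ModuleCat.{u} R)
    (h : PCoh.IsOfFiniteType P M) : Module.Finite R M := by
  obtain ⟨E, π, hE, hπ⟩ := h
  have := hP E hE
  rw [ModuleCat.epi_iff_surjective] at hπ
  exact Module.Finite.of_surjective π.hom hπ

lemma isOfFiniteType_FFn_iff (M : ModuleCat.{u} R) :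
    PCoh.IsOfFiniteType (FFn R) M ↔ Module.Finite R M :=
  ⟨finite_of_isOfFiniteType_n R (fun _ h => h.1) M, fun _ => isOfFiniteType_of_finite_n R M⟩

lemma FFn_hql : PCoh.IsQuasiLiftable (FFn R) := by
  intro E F u hu hF
  have := FPn_lift R E F u hu (FFn_le_FPn R F hF)
  refine ⟨F, section_ u, hF, ?_⟩
  rw [IsSplitEpi.id]
  infer_instance

lemma FPn_hqs : PCoh.IsQuasiStableUnderKernels (FPn R) :=
  PCohAmp.isQuasiStableUnderKernels_of_stable (FPn R) (FPn_stable R)

lemma FFn_hqs : PCoh.IsQuasiStableUnderKernels (FFn R) := by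
  intro K hex hb hK
  have h := FPn_hqs R K hex hb (fun i hi => FFn_le_FPn R _ (hK i hi))
  have := finite_of_isOfFiniteType_n R (fun _ h => h.1) _ h
  exact isOfFiniteType_of_finite_n R _

end NC

section Res

variable (A : Type u) [CommRing A] (R : Type u) [Ring R] [Algebra A R]

/-- Restriction of scalars. -/
noncomputable abbrev rF : ModuleCat.{u} R ⥤ ModuleCat.{u} A :=
  ModuleCat.restrictScalars.{u} (algebraMap A R)

noncomputable abbrev rC : CochainComplex (ModuleCat.{u} R) ℤ ⥤ CochainComplex (ModuleCat.{u} A) ℤ :=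
  (rF A R).mapHomologicalComplex (ComplexShape.up ℤ)

lemma isZero_of_isZero_rF (M : ModuleCat.{u} R) (h : IsZero ((rF A R).obj M)) : IsZero M := by
  have h2 : Subsingleton ((rF A R).obj M) := ModuleCat.subsingleton_of_isZero h
  have h3 : Subsingleton M := h2
  exact ModuleCat.isZero_of_subsingleton M

lemma finite_of_finite_rF (M : ModuleCat.{u} R) (h : Module.Finite A ((rF A R).obj M)) :
    Module.Finite R M := by
  obtain ⟨S, hS⟩ := h
  let S' : Finset M := S
  refine ⟨S', ?_⟩
  rw [eq_top_iff]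
  have key : ∀ y : (rF A R).obj M, y ∈ Submodule.span A (S : Set ((rF A R).obj M)) →
      (show M from y) ∈ Submodule.span R (S' : Set M) := by
    intro y hy
    induction hy using Submodule.span_induction with
    | mem y hy => exact Submodule.subset_span hy
    | zero => exact Submodule.zero_mem _
    | add y z _ _ hy hz => exact Submodule.add_mem _ hy hz
    | smul a y _ hy => exact Submodule.smul_mem _ (algebraMap A R a) hy
  intro x _
  exact key x (by rw [hS]; trivial)

variable [Module.Finite A R] [Module.Free A R]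

/-- The restriction of a finite free `R`-module is finite free over `A`. -/
lemma FF_rF (L : ModuleCat.{u} R) (hL : FFn R L) : FF A ((rF A R).obj L) := by
  obtain ⟨h1, h2⟩ := hL
  letI : Module A L := Module.compHom L (algebraMap A R)
  haveI : IsScalarTower A R L := ⟨fun a r x => by
    show (a • r) • x = algebraMap A R a • (r • x)
    rw [Algebra.smul_def, mul_smul]⟩
  have hfin : Module.Finite A L := Module.Finite.trans R L
  have hfree : Module.Free A L :=
    Module.Free.of_basis ((Module.Free.chooseBasis A R).smulTower (Module.Free.chooseBasis R L))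
  exact ⟨hfin, hfree⟩

variable [PreservesFiniteLimits (ModuleCat.restrictScalars.{u} (algebraMap A R))]
  [PreservesFiniteColimits (ModuleCat.restrictScalars.{u} (algebraMap A R))]

noncomputable abbrev rD : DerivedCategory (ModuleCat.{u} R) ⥤ DerivedCategory (ModuleCat.{u} A) :=
  (rF A R).mapDerivedCategory

noncomputable def rDQ (E : CochainComplex (ModuleCat.{u} R) ℤ) :
    (rD A R).obj (Q.obj E) ≅ Q.obj ((rC A R).obj E) :=
  (rF A R).mapDerivedCategoryFactors.app E

noncomputable def rC_homologyIso (K : CochainComplex (ModuleCat.{u} R) ℤ) (i : ℤ) :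
    ((rC A R).obj K).homology i ≅ (rF A R).obj (K.homology i) :=
  (K.sc i).mapHomologyIso (rF A R)

lemma NPC_rC_single (L : ModuleCat.{u} R) (hL : FFn R L) (b k : ℤ) :
    NPC (FF A) k (Q.obj ((rC A R).obj
      ((HomologicalComplex.single _ (ComplexShape.up ℤ) b).obj L))) := by
  have e : (rC A R).obj ((HomologicalComplex.single _ (ComplexShape.up ℤ) b).obj L) ≅
      (HomologicalComplex.single _ (ComplexShape.up ℤ) b).obj ((rF A R).obj L) :=
    (HomologicalComplex.singleMapHomologicalComplex (rF A R) (ComplexShape.up ℤ) b).app L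
  exact ⟨_, isStrictPC_single (FF A) b k (FF_rF A R L hL), ⟨Q.mapIso e.symm⟩⟩

/-- Descent of `m`-pseudo-coherence along restriction. -/
theorem NPC_of_rC (m : ℤ) : ∀ (j : ℕ) (K : CochainComplex (ModuleCat.{u} R) ℤ) (b : ℤ), b - m < j →
    (∀ i, b < i → IsZero (K.homology i)) →
    NPC (FF A) m (Q.obj ((rC A R).obj K)) → NPC (FFn R) m (Q.obj K) := by
  intro j
  induction j with
  | zero =>
    intro K b hbm hb _
    exact NPC_of_isLE (FFn R) _ b m (by simpa using hbm)
      (fun i hi => (hb i hi).of_iso (homologyQIso K i))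
  | succ j ih =>
    intro K b hbm hb hK
    by_cases hbm' : b < m
    · exact NPC_of_isLE (FFn R) _ b m hbm'
        (fun i hi => (hb i hi).of_iso (homologyQIso K i))
    · have hb' : ∀ i, b < i → IsZero ((DerivedCategory.homologyFunctor _ i).obj
          (Q.obj ((rC A R).obj K))) := fun i hi =>
        (((rF A R).map_isZero (hb i hi)).of_iso (rC_homologyIso A R K i)).of_iso
          (homologyQIso _ i)
      have hft' : PCoh.IsOfFiniteType (FF A) ((DerivedCategory.homologyFunctor _ b).obj
          (Q.obj ((rC A R).obj K))) :=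
        (NPC_iff_isOfFiniteType (FF A) (FF_hqs A) (FF_hql A) b _ hb').1
          (NPC.of_le (FF A) (by lia) hK)
      have hfin' : Module.Finite A ((rF A R).obj (K.homology b)) := by
        have h1 := (isOfFiniteType_FF_iff A _).1 hft'
        exact Module.Finite.equiv
          ((homologyQIso _ b) ≪≫ rC_homologyIso A R K b).toLinearEquiv
      have hfin : Module.Finite R (K.homology b) := finite_of_finite_rF A R _ hfin'
      have hft : PCoh.IsOfFiniteType (FFn R) (K.homology b) := (isOfFiniteType_FFn_iff R _).2 hfin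
      obtain ⟨L, hL, θ, hθ⟩ := exists_single_map (FFn R) (FFn_hql R) K b hft
      let K' := CochainComplex.mappingCone θ
      have hT := mappingCone_triangle_distinguished θ
      have hLpc : ∀ k : ℤ, NPC (FFn R) k
          (Q.obj ((HomologicalComplex.single _ (ComplexShape.up ℤ) b).obj L)) := fun k =>
        ⟨_, isStrictPC_single (FFn R) b k hL, ⟨Iso.refl _⟩⟩
      have hLpc' : ∀ k : ℤ, NPC (FF A) k (Q.obj ((rC A R).obj
          ((HomologicalComplex.single _ (ComplexShape.up ℤ) b).obj L))) := fun k =>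
        NPC_rC_single A R L hL b k
      have hK'z : ∀ i, b - 1 < i → IsZero (K'.homology i) := by
        intro i hi
        have hsrc : ∀ k, k ≠ b → IsZero
            (((HomologicalComplex.single (ModuleCat.{u} R) (ComplexShape.up ℤ) b).obj L).homology k) :=
          fun k hk => HomologicalComplex.isZero_single_obj_homology _ _ _ _ hk
        refine isZero_homology_mappingCone θ i ?_ ?_
        · rcases (show b = i ∨ b < i by lia) with rfl | hi'
          · exact hθ
          · exact ⟨fun g h _ => (hb i hi').eq_of_src g h⟩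
        · exact ⟨fun g h _ => (hsrc (i + 1) (by lia)).eq_of_tgt g h⟩
      have hT' := (rD A R).map_distinguished _ hT
      have h1' : NPC (FF A) (m + 1) ((rD A R).mapTriangle.obj
          (Q.mapTriangle.obj (CochainComplex.mappingCone.triangle θ))).obj₁ :=
        NPC.of_iso (FF A) (hLpc' (m + 1)) (rDQ A R _).symm
      have h2' : NPC (FF A) m ((rD A R).mapTriangle.obj
          (Q.mapTriangle.obj (CochainComplex.mappingCone.triangle θ))).obj₂ :=
        NPC.of_iso (FF A) hK (rDQ A R K).symm
      have h3' := (NPC_triangle (FF A) (FF_prod A) (FF_hqs A) (FF_hql A) m _ hT').1 h1' h2'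
      have h3'' : NPC (FF A) m (Q.obj ((rC A R).obj K')) := NPC.of_iso (FF A) h3' (rDQ A R K')
      have h3 : NPC (FFn R) m (Q.obj K') :=
        ih K' (b - 1) (by push_cast at hbm; lia) hK'z h3''
      exact (NPC_triangle (FFn R) (FFn_prod R) (FFn_hqs R) (FFn_hql R) m _ hT).2.1 (hLpc m) h3

theorem NPC_of_rD (m : ℤ) (K : DerivedCategory (ModuleCat.{u} R))
    (h : NPC (FF A) m ((rD A R).obj K)) : NPC (FFn R) m K := by
  obtain ⟨K₀, ⟨e₀⟩⟩ : ∃ K₀ : CochainComplex (ModuleCat.{u} R) ℤ, Nonempty (Q.obj K₀ ≅ K) :=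
    ⟨_, ⟨Q.objObjPreimageIso K⟩⟩
  have h1 : NPC (FF A) m (Q.obj ((rC A R).obj K₀)) :=
    NPC.of_iso (FF A) h ((rD A R).mapIso e₀.symm ≪≫ rDQ A R K₀)
  obtain ⟨E', ⟨⟨b, hb⟩, hE'⟩, ⟨e⟩⟩ := h1
  have hz : ∀ i, b < i → IsZero (K₀.homology i) := by
    intro i hi
    apply isZero_of_isZero_rF A R
    exact ((isZero_homology_of_NPC_bound e b hb i hi).of_iso
      (homologyQIso _ i).symm).of_iso (rC_homologyIso A R K₀ i).symm
  exact NPC.of_iso (FFn R) (NPC_of_rC A R m (b - m + 1).toNat K₀ b
    (by have := Int.self_le_toNat (b - m + 1); lia) hz ⟨E', ⟨⟨b, hb⟩, hE'⟩, ⟨e⟩⟩) e₀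

/-- Main theorem. -/
theorem exists_finite_free_of_res (M : DerivedCategory (ModuleCat.{u} R))
    (hM : DRing.IsPseudoCoherent' A ((rD A R).obj M)) :
    ∃ (F : CochainComplex (ModuleCat.{u} R) ℤ) (b : ℤ), (∀ i : ℤ, b < i → IsZero (F.X i)) ∧
      (∀ i : ℤ, Module.Finite R (F.X i) ∧ Module.Free R (F.X i)) ∧
        Nonempty (DerivedCategory.Q.obj F ≅ M) := by
  have h1 : PCoh.IsPC (FF A) ((rD A R).obj M) := (isPseudoCoherent'_iff_isPC A _).1 hM
  have h2 : PCoh.IsPC (FFn R) M := fun n => NPC_of_rD A R n M (h1 n)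
  obtain ⟨E, ⟨⟨b, hb⟩, hE⟩, he⟩ :=
    exists_strictPCAll (FFn R) (FFn_prod R) (FFn_hqs R) (FFn_hql R) M h2
  exact ⟨E, b, hb, hE, he⟩

end Res

end Groth.Agent.Lib.helper17.NCRes
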