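import Mathlib
import Groth.Prelude.Def_EGA4b
import Groth.Agent.Lib.helper17.FlatNormal
import Groth.Agent.Lib.helper20.FiberLoc
import Groth.Agent.Lib.helper20.NormalDescent
import Groth.Agent.Lib.helper20.SmoothNormalHom
import Groth.Agent.Lib.helper6.CMFib
import Groth.Agent.Lib.helper6.CplMap
import Groth.Prelude.Def_Found

/-!
# Composition of normal ring homomorphisms (adapted from helper20's `RegHomComp`)
-/

set_option autoImplicit false
set_option linter.style.haveILetI false
set_option linter.unusedSectionVars false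

universe u
open TensorProduct

namespace Groth.Agent.Lib.helper17.NormalHomComp

open Groth.Agent.Lib.helper20.FiberLoc in
/-- If `A → B` and `B → C` are normal and `B`, `C` are Noetherian, then `A → C` is normal. -/
theorem normalHom_comp (A B C : Type u) [CommRing A] [CommRing B] [CommRing C]
    [IsNoetherianRing B] [IsNoetherianRing C]
    [Algebra A B] [Algebra B C] [Algebra A C] [IsScalarTower A B C]
    (hAB : EGA4.IsNormalHom A B) (hBC : EGA4.IsNormalHom B C) :
    EGA4.IsNormalHom A C := by
  obtain ⟨hflatAB, hfibAB⟩ := hAB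
  obtain ⟨hflatBC, hfibBC⟩ := hBC
  haveI := hflatAB
  haveI := hflatBC
  refine ⟨Module.Flat.trans A B C, fun p hp => ?_⟩
  intro k' _ _ hfin
  letI : Algebra A k' := ((algebraMap p.ResidueField k').comp (algebraMap A p.ResidueField)).toAlgebra
  haveI : IsScalarTower A p.ResidueField k' := IsScalarTower.of_algebraMap_eq (fun _ => rfl)
  haveI : Module.Finite p.ResidueField k' := hfin
  -- normality of `B ⊗[A] k'`
  have hB0 : EGA4.IsNormalRing (k' ⊗[p.ResidueField] (p.Fiber B)) := hfibAB p k' hfin
  let eB : k' ⊗[p.ResidueField] (p.Fiber B) ≃+* B ⊗[A] k' :=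
    ((Algebra.TensorProduct.cancelBaseChange A p.ResidueField p.ResidueField k' B).toRingEquiv).trans
      (Algebra.TensorProduct.comm A k' B).toRingEquiv
  have hB1 : EGA4.IsNormalRing (B ⊗[A] k') := normal_of_ringEquiv eB hB0
  -- Noetherianity of `B ⊗[A] k'`
  haveI : IsNoetherianRing (p.Fiber B) := fiber_isNoetherianRing A B p
  haveI : Module.Finite (p.Fiber B) ((p.Fiber B) ⊗[p.ResidueField] k') :=
    Module.Finite.base_change p.ResidueField (p.Fiber B) k'
  haveI : IsNoetherianRing ((p.Fiber B) ⊗[p.ResidueField] k') :=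
    IsNoetherianRing.of_finite (p.Fiber B) _
  haveI : IsNoetherianRing (k' ⊗[p.ResidueField] (p.Fiber B)) :=
    isNoetherianRing_of_ringEquiv ((p.Fiber B) ⊗[p.ResidueField] k')
      (Algebra.TensorProduct.comm p.ResidueField (p.Fiber B) k').toRingEquiv
  haveI : IsNoetherianRing (B ⊗[A] k') := isNoetherianRing_of_ringEquiv _ eB
  -- the comparison for `C`
  let eC : (B ⊗[A] k') ⊗[B] C ≃+* k' ⊗[p.ResidueField] (p.Fiber C) :=
    (Algebra.TensorProduct.comm B (B ⊗[A] k') C).toRingEquiv.trans <|
    (Algebra.TensorProduct.cancelBaseChange A B B C k').toRingEquiv.trans <|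
    (Algebra.TensorProduct.comm A C k').toRingEquiv.trans
    (Algebra.TensorProduct.cancelBaseChange A p.ResidueField p.ResidueField k' C).toRingEquiv.symm
  haveI : IsNoetherianRing (p.Fiber C) := fiber_isNoetherianRing A C p
  haveI : Module.Finite (p.Fiber C) ((p.Fiber C) ⊗[p.ResidueField] k') :=
    Module.Finite.base_change p.ResidueField (p.Fiber C) k'
  haveI : IsNoetherianRing ((p.Fiber C) ⊗[p.ResidueField] k') :=
    IsNoetherianRing.of_finite (p.Fiber C) _
  haveI : IsNoetherianRing (k' ⊗[p.ResidueField] (p.Fiber C)) :=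
    isNoetherianRing_of_ringEquiv ((p.Fiber C) ⊗[p.ResidueField] k')
      (Algebra.TensorProduct.comm p.ResidueField (p.Fiber C) k').toRingEquiv
  haveI : IsNoetherianRing ((B ⊗[A] k') ⊗[B] C) :=
    isNoetherianRing_of_ringEquiv _ eC.symm
  suffices h : EGA4.IsNormalRing ((B ⊗[A] k') ⊗[B] C) from normal_of_ringEquiv eC h
  haveI : Algebra.QuasiFinite A p.ResidueField := inferInstance
  haveI : Algebra.QuasiFinite A k' := Algebra.QuasiFinite.trans A p.ResidueField k'
  haveI : Algebra.QuasiFinite B (B ⊗[A] k') := inferInstance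
  refine Groth.Agent.Lib.helper17.FlatNormal.isNormalRing_of_flat (A := B ⊗[A] k')
    (B := (B ⊗[A] k') ⊗[B] C) hB1 ?_
  intro P hP
  let Q := P.comap (algebraMap B (B ⊗[A] k'))
  haveI : P.LiesOver Q := ⟨rfl⟩
  letI := Localization.AtPrime.algebraOfLiesOver Q P
  haveI hfinQP : Module.Finite Q.ResidueField P.ResidueField := inferInstance
  haveI : IsScalarTower B Q.ResidueField P.ResidueField := inferInstance
  have hreg : EGA4.IsNormalRing (P.ResidueField ⊗[Q.ResidueField] (Q.Fiber C)) :=
    hfibBC Q P.ResidueField hfinQP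
  let e1 : P.ResidueField ⊗[Q.ResidueField] (Q.Fiber C) ≃+* P.ResidueField ⊗[B] C :=
    (Algebra.TensorProduct.cancelBaseChange B Q.ResidueField Q.ResidueField
      P.ResidueField C).toRingEquiv
  let e2 : P.Fiber ((B ⊗[A] k') ⊗[B] C) ≃+* P.ResidueField ⊗[B] C :=
    (Algebra.TensorProduct.cancelBaseChange B (B ⊗[A] k') (B ⊗[A] k')
      P.ResidueField C).toRingEquiv
  exact normal_of_ringEquiv (e1.trans e2.symm) hreg

open Groth.Agent.Lib.helper20.FiberLoc in
/-- descent of normal homomorphisms: if `B → C` is faithfully flat and `A → C` is normal, then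
`A → B` is normal. -/
theorem normalHom_descent (A B C : Type u) [CommRing A] [CommRing B] [CommRing C]
    [Algebra A B] [Algebra B C] [Algebra A C] [IsScalarTower A B C]
    [Module.FaithfullyFlat B C] (hAC : EGA4.IsNormalHom A C) : EGA4.IsNormalHom A B := by
  obtain ⟨hflatAC, hfibAC⟩ := hAC
  haveI := hflatAC
  refine ⟨Groth.Agent.Lib.helper6.CMFib.flat_of_faithfullyFlat_comp A B C, fun p hp => ?_⟩
  intro k' _ _ hfin
  letI : Algebra A k' := ((algebraMap p.ResidueField k').comp (algebraMap A p.ResidueField)).toAlgebra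
  haveI : IsScalarTower A p.ResidueField k' := IsScalarTower.of_algebraMap_eq (fun _ => rfl)
  have hC0 : EGA4.IsNormalRing (k' ⊗[p.ResidueField] (p.Fiber C)) := hfibAC p k' hfin
  let eB : k' ⊗[p.ResidueField] (p.Fiber B) ≃+* B ⊗[A] k' :=
    ((Algebra.TensorProduct.cancelBaseChange A p.ResidueField p.ResidueField k' B).toRingEquiv).trans
      (Algebra.TensorProduct.comm A k' B).toRingEquiv
  let eC : (B ⊗[A] k') ⊗[B] C ≃+* k' ⊗[p.ResidueField] (p.Fiber C) :=
    (Algebra.TensorProduct.comm B (B ⊗[A] k') C).toRingEquiv.trans <|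
    (Algebra.TensorProduct.cancelBaseChange A B B C k').toRingEquiv.trans <|
    (Algebra.TensorProduct.comm A C k').toRingEquiv.trans
    (Algebra.TensorProduct.cancelBaseChange A p.ResidueField p.ResidueField k' C).toRingEquiv.symm
  have hC1 : EGA4.IsNormalRing ((B ⊗[A] k') ⊗[B] C) := normal_of_ringEquiv eC.symm hC0
  haveI : Module.FaithfullyFlat (B ⊗[A] k') ((B ⊗[A] k') ⊗[B] C) := inferInstance
  have hB1 : EGA4.IsNormalRing (B ⊗[A] k') :=
    Groth.Agent.Lib.helper20.NormalDescent.normal_of_faithfullyFlat (B ⊗[A] k')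
      ((B ⊗[A] k') ⊗[B] C) hC1
  exact normal_of_ringEquiv eB.symm hB1

/-- a regular homomorphism is normal. -/
theorem normalHom_of_regularHom (A B : Type u) [CommRing A] [CommRing B] [Algebra A B]
    (h : CAlg.IsRegularHom A B) : EGA4.IsNormalHom A B := by
  refine ⟨h.1, fun p hp k' _ _ hfin => ?_⟩
  haveI : IsRegularRing (k' ⊗[p.ResidueField] (p.Fiber B)) := (h.2 p).2 k' hfin
  exact Groth.Agent.Lib.helper20.SmoothReg.isNormalRing_of_isRegularRing _

open Groth.Agent.Lib.helper6.CplMap IsLocalRing in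
/-- if `A → A'` is a normal local homomorphism and `A' → Â'` is regular, the formal fibres of `A`
are geometrically normal. -/
theorem hasGeomNormalFormalFibres_of_normalHom (A A' : Type u) [CommRing A] [CommRing A']
    [IsNoetherianRing A] [IsNoetherianRing A'] [IsLocalRing A] [IsLocalRing A'] [Algebra A A']
    [IsLocalHom (algebraMap A A')] (hf : EGA4.IsNormalHom A A')
    (hA' : CAlg.IsRegularHom A' (EGA4.Cpl A')) : EGA4.HasGeomNormalFormalFibres A := by
  haveI := hf.1
  letI := algCpl A A'
  haveI := isNoetherianRing_cpl A'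
  haveI := isScalarTower_cplMap A A'
  haveI := isScalarTower_cpl A A'
  haveI := faithfullyFlat_cplMap A A'
  have h1 : EGA4.IsNormalHom A' (AdicCompletion (maximalIdeal A') A') :=
    normalHom_of_regularHom _ _ hA'
  have h2 : EGA4.IsNormalHom A (AdicCompletion (maximalIdeal A') A') :=
    normalHom_comp A A' (AdicCompletion (maximalIdeal A') A') hf h1
  have h3 : EGA4.IsNormalHom A (AdicCompletion (maximalIdeal A) A) :=
    normalHom_descent A (AdicCompletion (maximalIdeal A) A) (AdicCompletion (maximalIdeal A') A') h2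
  exact fun p hp => h3.2 p

end Groth.Agent.Lib.helper17.NormalHomComp
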