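import Mathlib
import Groth.Prelude
import Groth.Agent.S0543
import Groth.Agent.Lib.helper17.FlatSk
import Groth.Agent.Lib.helper9.Serre1
import Groth.Agent.Lib.helper9.Serre2
import Groth.Agent.Lib.helper14.Connected

/-!
# Normal rings vs `R₁ + S₂`; the localization at `1 + J` and the `J`-adic completion
-/

set_option autoImplicit false
set_option linter.style.haveILetI false
set_option linter.unusedSectionVars false

namespace Groth.Agent.Lib.helper17.OnePlusJ

open LocCoh

universe u

section Normal

variable (R : Type u) [CommRing R] [IsNoetherianRing R]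

theorem hasRk_one_of_isNormalRing (h : EGA4.IsNormalRing R) : HasRk 1 R := by
  intro p hp hht
  obtain ⟨hdom, hic⟩ := h p
  haveI := hdom
  haveI := hic
  apply Groth.Agent.Lib.helper9.Serre.isRegularLocalRing_of_normal_of_dim_le_one
  rw [IsLocalization.AtPrime.ringKrullDim_eq_height p]
  exact_mod_cast hht

theorem hasSk_two_of_isNormalRing (h : EGA4.IsNormalRing R) : HasSk 2 R R := by
  rw [Groth.Agent.Lib.helper17.FlatSk.hasSk_self_iff]
  intro p hp
  obtain ⟨hdom, hic⟩ := h p
  haveI := hdom
  haveI := hic
  have h1 := Groth.Agent.Lib.helper9.Serre.min_two_dim_le_depth_of_normal (Localization.AtPrime p)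
  rw [IsLocalization.AtPrime.ringKrullDim_eq_height p] at h1
  have h2 : min (((2 : ℕ) : ℕ∞) : WithBot ℕ∞) ((p.height : ℕ∞) : WithBot ℕ∞) ≤
      ((depth (Localization.AtPrime p) (Localization.AtPrime p) : ℕ∞) : WithBot ℕ∞) := h1
  rw [← WithBot.coe_min, WithBot.coe_le_coe] at h2
  exact h2

theorem isNormalRing_of_isIntegrallyClosed (S : Type u) [CommRing S] [IsDomain S]
    [IsIntegrallyClosed S] : EGA4.IsNormalRing S := by
  intro p hp
  haveI : IsDomain (Localization.AtPrime p) :=
    IsLocalization.isDomain_localization p.primeCompl_le_nonZeroDivisors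
  exact ⟨inferInstance, isIntegrallyClosed_of_isLocalization (Localization.AtPrime p)
    p.primeCompl p.primeCompl_le_nonZeroDivisors⟩

theorem isDomain_of_isNormalRing [Nontrivial R] [ConnectedSpace (PrimeSpectrum R)]
    (h : EGA4.IsNormalRing R) : IsDomain R :=
  Groth.Agent.Lib.helper9.Serre.isDomain_of_R1_S2 R (hasRk_one_of_isNormalRing R h)
    (hasSk_two_of_isNormalRing R h)

theorem isIntegrallyClosed_of_isNormalRing [IsDomain R] (h : EGA4.IsNormalRing R) :
    IsIntegrallyClosed R :=
  Groth.Agent.Lib.helper9.Serre.isIntegrallyClosed_of_R1_S2 R (hasRk_one_of_isNormalRing R h)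
    (hasSk_two_of_isNormalRing R h)

end Normal

section Idem

/-- an idempotent in the Jacobson radical is zero. -/
lemma idem_eq_zero_of_mem_jacobson {R : Type*} [CommRing R] {e : R} (he : IsIdempotentElem e)
    (hj : e ∈ Ideal.jacobson (⊥ : Ideal R)) : e = 0 := by
  have h1 := (Ideal.mem_jacobson_bot.mp hj) (-1)
  have h2 : e * (e * -1 + 1) = 0 := by
    have : e * e = e := he
    linear_combination -this
  exact (h1.mul_left_eq_zero).mp h2

end Idem

section Completion

variable (A : Type u) [CommRing A] [IsNoetherianRing A] (J : Ideal A)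

lemma mem_mker_iff (t : A) : t ∈ MonoidHom.mker (Ideal.Quotient.mk J) ↔ t - 1 ∈ J := by
  rw [MonoidHom.mem_mker, ← Ideal.Quotient.eq_zero_iff_mem, map_sub, map_one, sub_eq_zero]

lemma map_le_jacobson :
    J.map (algebraMap A (AdicCompletion J A)) ≤ Ideal.jacobson ⊥ := by
  have fg : J.FG := (isNoetherianRing_iff_ideal_fg A).mp inferInstance J
  haveI := AdicCompletion.isAdicComplete_self J fg
  exact IsAdicComplete.le_jacobson_bot _

lemma isUnit_algebraMap (t : MonoidHom.mker (Ideal.Quotient.mk J)) :
    IsUnit (algebraMap A (AdicCompletion J A) t) := by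
  obtain ⟨t, ht⟩ := t
  have h1 : t - 1 ∈ J := (mem_mker_iff A J t).mp ht
  have h2 : algebraMap A (AdicCompletion J A) (t - 1) ∈ Ideal.jacobson ⊥ :=
    map_le_jacobson A J (Ideal.mem_map_of_mem _ h1)
  have h3 := (Ideal.mem_jacobson_bot.mp h2) 1
  simpa using h3

lemma ker_evalOne : RingHom.ker (AdicCompletion.evalOneₐ J).toRingHom =
    J.map (algebraMap A (AdicCompletion J A)) :=
  AdicCompletion.ker_evalOneₐ_eq_map J ((isNoetherianRing_iff_ideal_fg A).mp inferInstance J)

lemma evalOne_algebraMap (a : A) :
    AdicCompletion.evalOneₐ J (algebraMap A (AdicCompletion J A) a) = Ideal.Quotient.mk J a := by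
  change AdicCompletion.evalOneₐ J (AdicCompletion.of J A a) = _
  rw [AdicCompletion.evalOneₐ_of]

/-- faithful flatness of `A_{1+J} → Â`. -/
theorem faithfullyFlat (T : Submonoid A) (hT : T = MonoidHom.mker (Ideal.Quotient.mk J))
    [Algebra (Localization T) (AdicCompletion J A)]
    [IsScalarTower A (Localization T) (AdicCompletion J A)]
    [Module.Flat (Localization T) (AdicCompletion J A)] :
    Module.FaithfullyFlat (Localization T) (AdicCompletion J A) := by
  refine ⟨fun m hm => ?_⟩
  set p := m.comap (algebraMap A (Localization T)) with hp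
  have hpm : p.map (algebraMap A (Localization T)) = m := IsLocalization.map_under T _ m
  have hdisj : Disjoint (T : Set A) p :=
    ((IsLocalization.isPrime_iff_isPrime_disjoint T (Localization T) m).mp hm.isPrime).2
  have hJp : J ≤ p := by
    intro j hj
    by_contra hjp
    have hjm : algebraMap A (Localization T) j ∉ m := hjp
    obtain ⟨y, i, hi, hyi⟩ := hm.exists_inv hjm
    obtain ⟨a, t, rfl⟩ := IsLocalization.exists_mk'_eq T y
    have h1 : algebraMap A (Localization T) ((t : A) - a * j) =
        algebraMap A (Localization T) t * i := by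
      have h2 : algebraMap A (Localization T) t * (IsLocalization.mk' (Localization T) a t *
          algebraMap A (Localization T) j + i) = algebraMap A (Localization T) t := by
        rw [hyi, mul_one]
      rw [mul_add, ← mul_assoc, IsLocalization.mul_mk'_eq_mk'_of_mul,
        IsLocalization.mk'_mul_cancel_left] at h2
      rw [map_sub, map_mul]; linear_combination -h2
    have h3 : (t : A) - a * j ∈ p := by
      rw [hp, Ideal.mem_comap, h1]
      exact Ideal.mul_mem_left _ _ hi
    have hmemT : ∀ x : A, x ∈ T ↔ x - 1 ∈ J := fun x => by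
      rw [← mem_mker_iff A J x, ← hT]
    have h4 : (t : A) - a * j ∈ T := by
      rw [hmemT]
      have := (hmemT t).mp t.2
      have h5 : (t : A) - a * j - 1 = ((t : A) - 1) - a * j := by ring
      rw [h5]
      exact J.sub_mem this (J.mul_mem_left _ hj)
    exact Set.disjoint_left.mp hdisj h4 h3
  let φ : AdicCompletion J A →+* A ⧸ p :=
    (Ideal.Quotient.factor hJp).comp (AdicCompletion.evalOneₐ J).toRingHom
  have hφ : ∀ a : A, φ (algebraMap A (AdicCompletion J A) a) = Ideal.Quotient.mk p a := by
    intro a
    change Ideal.Quotient.factor hJp (AdicCompletion.evalOneₐ J (algebraMap A (AdicCompletion J A) a)) = _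
    rw [evalOne_algebraMap]
    rfl
  intro htop
  rw [Ideal.smul_top_eq_map] at htop
  have h1 : (1 : AdicCompletion J A) ∈ m.map (algebraMap (Localization T) (AdicCompletion J A)) := by
    have : (1 : AdicCompletion J A) ∈ ((m.map (algebraMap (Localization T) (AdicCompletion J A))).restrictScalars
        (Localization T)) := by
      rw [htop]; trivial
    exact this
  rw [← hpm, Ideal.map_map, ← IsScalarTower.algebraMap_eq] at h1
  have h2 : p.map (algebraMap A (AdicCompletion J A)) ≤ RingHom.ker φ := by
    rw [Ideal.map_le_iff_le_comap]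
    intro a ha
    rw [Ideal.mem_comap, RingHom.mem_ker, hφ, Ideal.Quotient.eq_zero_iff_mem]
    exact ha
  have h3 := h2 h1
  rw [RingHom.mem_ker, map_one] at h3
  haveI : p.IsPrime := Ideal.comap_isPrime _ m
  haveI : Nontrivial (A ⧸ p) := Ideal.Quotient.nontrivial_iff.mpr (Ideal.IsPrime.ne_top ‹_›)
  exact one_ne_zero h3

/-- `Spec Â` is connected iff `Spec (A/J)` is. -/
theorem connectedSpace_iff :
    ConnectedSpace (PrimeSpectrum (AdicCompletion J A)) ↔ ConnectedSpace (PrimeSpectrum (A ⧸ J)) := by
  have fg : J.FG := (isNoetherianRing_iff_ideal_fg A).mp inferInstance J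
  haveI := AdicCompletion.isAdicComplete_self J fg
  set Ah := AdicCompletion J A with hAh
  set ev : Ah →+* A ⧸ J := (AdicCompletion.evalOneₐ J).toRingHom with hev
  have hevs : Function.Surjective ev := AdicCompletion.evalOneₐ_surjective J
  have hker : RingHom.ker ev = J.map (algebraMap A Ah) := ker_evalOne A J
  rw [Groth.Agent.H14.connectedSpace_primeSpectrum_iff,
    Groth.Agent.H14.connectedSpace_primeSpectrum_iff]
  constructor
  · rintro ⟨hnt, hid⟩
    haveI := hnt
    refine ⟨?_, ?_⟩
    · -- A/J nontrivial: otherwise 1 ∈ ker ev ⊆ jacobson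
      by_contra hcon
      rw [not_nontrivial_iff_subsingleton] at hcon
      have h1 : (1 : Ah) ∈ RingHom.ker ev := by
        rw [RingHom.mem_ker]; exact Subsingleton.elim _ _
      rw [hker] at h1
      have h2 := map_le_jacobson A J h1
      have h3 := (Ideal.mem_jacobson_bot.mp h2) (-1)
      simp at h3
    · intro e he
      obtain ⟨a₀, rfl⟩ := hevs e
      -- Hensel lifting for X^2 - X
      have hH : HenselianRing Ah (J.map (algebraMap A Ah)) := inferInstance
      have hf : (Polynomial.X ^ 2 - Polynomial.X : Polynomial Ah).Monic := by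
        apply Polynomial.monic_X_pow_sub
        simp
      have h1 : (Polynomial.X ^ 2 - Polynomial.X : Polynomial Ah).eval a₀ ∈
          J.map (algebraMap A Ah) := by
        rw [← hker, RingHom.mem_ker]
        simp only [Polynomial.eval_sub, Polynomial.eval_pow, Polynomial.eval_X, map_sub, map_pow]
        have : ev a₀ * ev a₀ = ev a₀ := he
        rw [pow_two, this, sub_self]
      have h2 : IsUnit (Ideal.Quotient.mk (J.map (algebraMap A Ah))
          ((Polynomial.X ^ 2 - Polynomial.X : Polynomial Ah).derivative.eval a₀)) := by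
        have hd : (Polynomial.X ^ 2 - Polynomial.X : Polynomial Ah).derivative.eval a₀ =
            2 * a₀ - 1 := by
          simp
          ring
        rw [hd]
        have hsq : Ideal.Quotient.mk (J.map (algebraMap A Ah)) (2 * a₀ - 1) *
            Ideal.Quotient.mk (J.map (algebraMap A Ah)) (2 * a₀ - 1) = 1 := by
          rw [← map_mul, ← map_one (Ideal.Quotient.mk (J.map (algebraMap A Ah))),
            Ideal.Quotient.eq]
          have : (2 * a₀ - 1) * (2 * a₀ - 1) - 1 = 4 * (a₀ ^ 2 - a₀) := by ring
          rw [this]
          apply Ideal.mul_mem_left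
          simpa using h1
        exact IsUnit.of_mul_eq_one _ hsq
      obtain ⟨a, ha, haa⟩ := hH.is_henselian _ hf a₀ h1 h2
      have hidem : IsIdempotentElem a := by
        have : a ^ 2 - a = 0 := by simpa [Polynomial.IsRoot] using ha
        change a * a = a
        linear_combination this
      have hev : ev a = ev a₀ := by
        have : a - a₀ ∈ RingHom.ker ev := by rw [hker]; exact haa
        rw [RingHom.mem_ker, map_sub, sub_eq_zero] at this
        exact this
      rcases hid a hidem with h | h
      · left; rw [← hev, h, map_zero]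
      · right; rw [← hev, h, map_one]
  · rintro ⟨hnt, hid⟩
    haveI := hnt
    refine ⟨ev.domain_nontrivial, ?_⟩
    intro e he
    rcases hid (ev e) (he.map ev) with h | h
    · left
      have h1 : e ∈ RingHom.ker ev := h
      rw [hker] at h1
      exact idem_eq_zero_of_mem_jacobson he (map_le_jacobson A J h1)
    · right
      have h1 : (1 - e) ∈ RingHom.ker ev := by
        rw [RingHom.mem_ker, map_sub, map_one, h, sub_self]
      rw [hker] at h1
      have := idem_eq_zero_of_mem_jacobson he.one_sub (map_le_jacobson A J h1)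
      exact (sub_eq_zero.mp this).symm

end Completion

end Groth.Agent.Lib.helper17.OnePlusJ
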