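import Mathlib

/-!
# Localization of slice categories under a right calculus of fractions (helper17)
-/

namespace Groth.Agent.Lib.helper17.OverLoc

open CategoryTheory

universe v₁ v₂ v₃ u₁ u₂ u₃

section General

variable {A : Type*} [Category A] {E : Type*} [Category E] {F : Type*} [Category F]

lemma faithful_of_essSurj (L' : A ⥤ E) [L'.EssSurj] (Φ : E ⥤ F)
    (h : ∀ (X Y : A) (φ₁ φ₂ : L'.obj X ⟶ L'.obj Y), Φ.map φ₁ = Φ.map φ₂ → φ₁ = φ₂) :
    Φ.Faithful := by
  refine ⟨fun {a b} φ₁ φ₂ hφ => ?_⟩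
  let eA := L'.objObjPreimageIso a
  let eB := L'.objObjPreimageIso b
  have := h _ _ (eA.hom ≫ φ₁ ≫ eB.inv) (eA.hom ≫ φ₂ ≫ eB.inv) (by simp [hφ])
  simpa using this

lemma full_of_essSurj (L' : A ⥤ E) [L'.EssSurj] (Φ : E ⥤ F)
    (h : ∀ (X Y : A) (ψ : Φ.obj (L'.obj X) ⟶ Φ.obj (L'.obj Y)), ∃ φ, Φ.map φ = ψ) :
    Φ.Full := by
  refine ⟨fun {a b} ψ => ?_⟩
  let eA := L'.objObjPreimageIso a
  let eB := L'.objObjPreimageIso b
  obtain ⟨φ, hφ⟩ := h _ _ (Φ.map eA.hom ≫ ψ ≫ Φ.map eB.inv)
  refine ⟨eA.inv ≫ φ ≫ eB.hom, ?_⟩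
  rw [Φ.map_comp, Φ.map_comp, hφ]
  simp [← Φ.map_comp_assoc, ← Φ.map_comp]

end General

variable {C : Type u₁} [Category.{v₁} C] (W : MorphismProperty C) (S : C)

/-- The class of morphisms of `Over S` whose underlying morphism is in `W`. -/
abbrev WS : MorphismProperty (Over S) := W.inverseImage (Over.forget S)

variable [W.HasRightCalculusOfFractions]

instance : (WS W S).HasRightCalculusOfFractions where
  exists_rightFraction X Y φ := by
    obtain ⟨ψ, hψ⟩ := (MorphismProperty.LeftFraction.mk φ.f.left φ.s.left φ.hs :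
      W.LeftFraction X.left Y.left).exists_rightFraction
    dsimp at hψ
    refine ⟨{ X' := Over.mk (ψ.s ≫ X.hom), s := Over.homMk ψ.s rfl, hs := ψ.hs,
              f := Over.homMk ψ.f ?_ }, ?_⟩
    · dsimp
      rw [← Over.w φ.s, ← reassoc_of% hψ, Over.w φ.f]
    · ext
      exact hψ
  ext X Y Y' f₁ f₂ s hs h := by
    obtain ⟨X', t, ht, fac⟩ := MorphismProperty.HasRightCalculusOfFractions.ext f₁.left f₂.left
      s.left hs (by rw [← Over.comp_left, h, Over.comp_left])
    exact ⟨Over.mk (t ≫ X.hom), Over.homMk t rfl, ht, by ext; exact fac⟩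


section Main

variable {D : Type u₂} [Category.{v₂} D] (L : C ⥤ D) [L.IsLocalization W]

variable {W S} in
/-- The underlying right fraction in `C` of a right fraction in `Over S`. -/
def toC {A B : Over S} (z : (WS W S).RightFraction A B) : W.RightFraction A.left B.left :=
  ⟨z.s.left, z.hs, z.f.left⟩

/-- Every morphism `G A ⟶ G B` (for `G = Over.post L`) is a right fraction. -/
lemma post_exists_fraction (A B : Over S) (g : L.obj A.left ⟶ L.obj B.left)
    (hg : g ≫ L.map B.hom = L.map A.hom) :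
    ∃ (z : (WS W S).RightFraction A B), g = (toC z).map L (Localization.inverts L W) := by
  obtain ⟨φ, hφ⟩ := Localization.exists_rightFraction L W g
  have h1 : L.map (φ.f ≫ B.hom) = L.map (φ.s ≫ A.hom) := by
    rw [L.map_comp, L.map_comp, ← hg, hφ, MorphismProperty.RightFraction.map_s_comp_map_assoc]
  obtain ⟨Z, t, ht, fac⟩ := (MorphismProperty.map_eq_iff_precomp L W _ _).1 h1
  let z : (WS W S).RightFraction A B :=
    { X' := Over.mk (t ≫ φ.s ≫ A.hom), s := Over.homMk (t ≫ φ.s) (by simp),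
      hs := W.comp_mem _ _ ht φ.hs,
      f := Over.homMk (t ≫ φ.f) (by simpa using fac) }
  refine ⟨z, ?_⟩
  have hs : IsIso (L.map (toC z).s) := Localization.inverts L W _ (toC z).hs
  rw [← cancel_epi (L.map (toC z).s), MorphismProperty.RightFraction.map_s_comp_map]
  change L.map (t ≫ φ.s) ≫ g = L.map (t ≫ φ.f)
  rw [hφ, L.map_comp, L.map_comp, Category.assoc,
    MorphismProperty.RightFraction.map_s_comp_map]

lemma post_fraction_rel (A B : Over S) (z₁ z₂ : (WS W S).RightFraction A B)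
    (h : (toC z₁).map L (Localization.inverts L W) = (toC z₂).map L (Localization.inverts L W)) :
    MorphismProperty.RightFractionRel z₁ z₂ := by
  rw [MorphismProperty.RightFraction.map_eq_iff] at h
  obtain ⟨Z, t₁, t₂, hst, hft, ht⟩ := h
  dsimp [toC] at t₁ t₂ hst hft ht
  refine ⟨Over.mk (t₁ ≫ z₁.X'.hom), Over.homMk t₁ rfl, Over.homMk t₂ ?_, ?_, ?_, ?_⟩
  · dsimp
    rw [← Over.w z₂.s, ← reassoc_of% hst, Over.w z₁.s]
  · ext; exact hst
  · ext; exact hft
  · exact ht

variable {E : Type u₃} [Category.{v₃} E] (L' : Over S ⥤ E) [L'.IsLocalization (WS W S)]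
  (Φ : E ⥤ Over (L.obj S)) (e : L' ⋙ Φ ≅ Over.post L)

include W L' e in
lemma essSurj : Φ.EssSurj := by
  refine ⟨fun Y => ?_⟩
  have := Localization.essSurj L W
  let eX : L.obj (L.objPreimage Y.left) ≅ Y.left := L.objObjPreimageIso Y.left
  obtain ⟨φ, hφ⟩ := Localization.exists_rightFraction L W (eX.hom ≫ Y.hom)
  have h : (Localization.isoOfHom L W φ.s φ.hs ≪≫ eX).hom ≫ Y.hom = L.map φ.f := by
    rw [Iso.trans_hom, Category.assoc, hφ, Localization.isoOfHom_hom,
      MorphismProperty.RightFraction.map_s_comp_map]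
  exact ⟨L'.obj (Over.mk φ.f), ⟨e.app _ ≪≫
    Over.isoMk ((Localization.isoOfHom L W φ.s φ.hs) ≪≫ eX) h⟩⟩

/-- the underlying isomorphism in `D` of `e.app A` -/
noncomputable def eL (A : Over S) : (Φ.obj (L'.obj A)).left ≅ L.obj A.left :=
  (Over.forget _).mapIso (e.app A)

lemma eL_naturality {A B : Over S} (f : A ⟶ B) :
    (Φ.map (L'.map f)).left ≫ (eL S L L' Φ e B).hom = (eL S L L' Φ e A).hom ≫ L.map f.left := by
  have n := e.hom.naturality f
  exact congrArg CommaMorphism.left n

lemma map_fraction_left {A B : Over S} (z : (WS W S).RightFraction A B) :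
    (Φ.map (z.map L' (Localization.inverts L' (WS W S)))).left =
      (eL S L L' Φ e A).hom ≫ (toC z).map L (Localization.inverts L W) ≫
        (eL S L L' Φ e B).inv := by
  have hs : IsIso (L'.map z.s) := Localization.inverts L' (WS W S) _ z.hs
  have hΦs : IsIso (Φ.map (L'.map z.s)).left :=
    inferInstanceAs (IsIso ((Over.forget _).map (Φ.map (L'.map z.s))))
  have h3 : (Φ.map (L'.map z.s)).left ≫
      (Φ.map (z.map L' (Localization.inverts L' (WS W S)))).left =
      (Φ.map (L'.map z.f)).left := by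
    rw [← Over.comp_left, ← Φ.map_comp, MorphismProperty.RightFraction.map_s_comp_map]
  rw [← cancel_epi (Φ.map (L'.map z.s)).left, h3, ← cancel_mono (eL S L L' Φ e B).hom,
    eL_naturality]
  simp only [Category.assoc, Iso.inv_hom_id, Category.comp_id]
  rw [reassoc_of% (eL_naturality S L L' Φ e z.s)]
  congr 1
  exact ((toC z).map_s_comp_map L (Localization.inverts L W)).symm

include W L e in
lemma faithful : Φ.Faithful := by
  have := Localization.essSurj L' (WS W S)
  refine faithful_of_essSurj L' Φ (fun A B φ₁ φ₂ h => ?_)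
  obtain ⟨z₁, h₁⟩ := Localization.exists_rightFraction L' (WS W S) φ₁
  obtain ⟨z₂, h₂⟩ := Localization.exists_rightFraction L' (WS W S) φ₂
  rw [h₁, h₂, MorphismProperty.RightFraction.map_eq_iff]
  apply post_fraction_rel W S L
  have e₁ := map_fraction_left W S L L' Φ e z₁
  have e₂ := map_fraction_left W S L L' Φ e z₂
  rw [← h₁, h, h₂, e₂] at e₁
  rw [Iso.cancel_iso_hom_left, Iso.cancel_iso_inv_right] at e₁
  exact e₁.symm

include W L e in
lemma full : Φ.Full := by
  have := Localization.essSurj L' (WS W S)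
  refine full_of_essSurj L' Φ (fun A B ψ => ?_)
  let g : L.obj A.left ⟶ L.obj B.left :=
    (eL S L L' Φ e A).inv ≫ ψ.left ≫ (eL S L L' Φ e B).hom
  have hg : g ≫ L.map B.hom = L.map A.hom := by
    have hA : (eL S L L' Φ e A).hom ≫ L.map A.hom = (Φ.obj (L'.obj A)).hom :=
      Over.w (e.hom.app A)
    have hB : (eL S L L' Φ e B).hom ≫ L.map B.hom = (Φ.obj (L'.obj B)).hom :=
      Over.w (e.hom.app B)
    dsimp [g]
    rw [Category.assoc, Category.assoc, hB, Over.w ψ, ← hA, Iso.inv_hom_id_assoc]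
  obtain ⟨z, hz⟩ := post_exists_fraction W S L A B g hg
  refine ⟨z.map L' (Localization.inverts L' (WS W S)), ?_⟩
  ext
  rw [map_fraction_left W S L L' Φ e z, ← hz]
  simp [g]

include W L e in
theorem isEquivalence : Φ.IsEquivalence := by
  have := essSurj W S L L' Φ e
  have := faithful W S L L' Φ e
  have := full W S L L' Φ e
  exact { }

end Main

end Groth.Agent.Lib.helper17.OverLoc
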