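import Mathlib
import Groth.Prelude.Def_MoreMor
import Groth.Agent.Lib.helper17.DRingPC
import Groth.Agent.Lib.helper17.PCMorFP

/-! Over a locally Noetherian base, pseudo-coherent morphisms = morphisms locally of finite type. -/

set_option autoImplicit false

open AlgebraicGeometry CategoryTheory

namespace Groth.Agent.Lib.helper17.PCMorNoeth

universe u

attribute [local instance] HasDerivedCategory.standard

theorem pcHom_of_finiteType (A B : Type u) [CommRing A] [CommRing B] [Algebra A B]
    [IsNoetherianRing A] (h : Algebra.FiniteType A B) : MoreMor.IsPseudoCoherentHom A B := by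
  obtain ⟨n, φ, hφ⟩ := Algebra.FiniteType.iff_quotient_mvPolynomial''.1 h
  refine ⟨n, φ, hφ, ?_⟩
  letI : Algebra (MvPolynomial (Fin n) A) B := φ.toRingHom.toAlgebra
  haveI : Module.Finite (MvPolynomial (Fin n) A) B :=
    Module.Finite.of_surjective (Algebra.linearMap (MvPolynomial (Fin n) A) B) hφ
  rw [DRing.IsPseudoCoherentModule', DRingPC.isPseudoCoherent'_iff_isPC]
  intro m
  exact DRingPC.NPC_single_of_finite_noetherian _ (ModuleCat.of (MvPolynomial (Fin n) A) B) m

theorem pcMor_iff_lft {X S : Scheme.{u}} (f : X ⟶ S) [IsLocallyNoetherian S] :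
    MoreMor.IsPseudoCoherentMor f ↔ LocallyOfFiniteType f := by
  constructor
  · intro hf
    haveI := PCMorFP.lfp_of_pcMor f hf
    infer_instance
  · intro hf U V hU hV e
    haveI : IsNoetherianRing Γ(S, V) := IsLocallyNoetherian.component_noetherian ⟨V, hV⟩
    have h := (HasRingHomProperty.iff_appLE (P := @LocallyOfFiniteType)).1 hf ⟨V, hV⟩ ⟨U, hU⟩ e
    letI := (f.appLE V U e).hom.toAlgebra
    exact pcHom_of_finiteType _ _ h

end Groth.Agent.Lib.helper17.PCMorNoeth
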