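import Mathlib
import Groth.Prelude.Def_PCoh
import Groth.Agent.Lib.helper17.PCohLES
import Groth.Agent.Lib.helper17.PCohT1

/-!
# `n`-finite presentation vs `(-n)`-pseudo-coherence of `F[0]` (helper17)
-/

namespace Groth.Agent.Lib.helper17.PCohFP

open CategoryTheory Limits Pretriangulated DerivedCategory ZeroObject
open Groth.Agent.Lib.helper17.PCohBasic Groth.Agent.Lib.helper17.PCohLES
open Groth.Agent.Lib.helper17.PCohD Groth.Agent.Lib.helper17.PCohT1

set_option linter.unusedSectionVars false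
set_option linter.unusedVariables false

universe w v u

variable {C : Type u} [Category.{v} C] [Abelian C]
variable (P : ObjectProperty C) [P.IsClosedUnderIsomorphisms] [P.ContainsZero]

/-- `F` is of `n`-`P`-finite presentation. -/
def FPC (n : ℕ) (F : C) : Prop :=
  ∃ K : ChainComplex C ℕ, Nonempty (K.X 0 ≅ F) ∧ (∀ j : ℕ, j ≤ n → K.ExactAt j) ∧
    (∀ j : ℕ, n + 1 < j → IsZero (K.X j)) ∧ (∀ j : ℕ, 1 ≤ j → j ≤ n + 1 → P (K.X j))

lemma exactAt_zero_iff (K : ChainComplex C ℕ) : K.ExactAt 0 ↔ Epi (K.d 1 0) := by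
  rw [HomologicalComplex.exactAt_iff' K 1 0 0 (by simp) (by simp)]
  exact ShortComplex.exact_iff_epi _ (K.shape 0 0 (by simp))

lemma exactAt_succ_iff (K : ChainComplex C ℕ) (j : ℕ) :
    K.ExactAt (j + 1) ↔ (K.sc' (j + 2) (j + 1) j).Exact :=
  HomologicalComplex.exactAt_iff' K (j + 2) (j + 1) j (by simp) (by simp)

lemma exact_epi_kernel {A E F : C} (π : E ⟶ F) (p : A ⟶ kernel π) (hp : Epi p)
    (w : (p ≫ kernel.ι π) ≫ π = 0) : (ShortComplex.mk (p ≫ kernel.ι π) π w).Exact := by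
  let S₂ : ShortComplex C := ShortComplex.mk (kernel.ι π) π (kernel.condition π)
  have hS₂ : S₂.Exact := ShortComplex.exact_of_f_is_kernel _ (kernelIsKernel π)
  let φ : ShortComplex.mk (p ≫ kernel.ι π) π w ⟶ S₂ :=
    { τ₁ := p
      τ₂ := 𝟙 E
      τ₃ := 𝟙 F
      comm₁₂ := (Category.comp_id _).symm
      comm₂₃ := (Category.id_comp _).trans (Category.comp_id _).symm }
  have h1 : Epi φ.τ₁ := hp
  have h2 : IsIso φ.τ₂ := (inferInstance : IsIso (𝟙 E))
  have h3 : Mono φ.τ₃ := (inferInstance : Mono (𝟙 F))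
  exact (ShortComplex.exact_iff_of_epi_of_isIso_of_mono φ).2 hS₂

lemma exact_comp_mono {A B B' E : C} (a : A ⟶ B) (b : B ⟶ B') (m : B' ⟶ E) (hm : Mono m)
    (w : a ≫ b = 0) (h : (ShortComplex.mk a b w).Exact) (g : B ⟶ E) (hg : g = b ≫ m)
    (w' : a ≫ g = 0) : (ShortComplex.mk a g w').Exact := by
  subst hg
  let φ : ShortComplex.mk a b w ⟶ ShortComplex.mk a (b ≫ m) w' :=
    { τ₁ := 𝟙 A
      τ₂ := 𝟙 B
      τ₃ := m
      comm₁₂ := (Category.id_comp _).trans (Category.comp_id _).symm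
      comm₂₃ := (Category.id_comp _).trans rfl }
  have h1 : Epi φ.τ₁ := (inferInstance : Epi (𝟙 A))
  have h2 : IsIso φ.τ₂ := (inferInstance : IsIso (𝟙 B))
  have h3 : Mono φ.τ₃ := hm
  exact (ShortComplex.exact_iff_of_epi_of_isIso_of_mono φ).1 h

/-- Base case. -/
lemma FPC_zero_of_epi {E F : C} (π : E ⟶ F) (hπ : Epi π) (hE : P E) : FPC P 0 F := by
  let X : ℕ → C := fun j => match j with
    | 0 => F
    | 1 => E
    | _ + 2 => (0 : C)
  let d : ∀ j, X (j + 1) ⟶ X j := fun j => match j with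
    | 0 => π
    | _ + 1 => 0
  have sq : ∀ j, d (j + 1) ≫ d j = 0 := fun j => zero_comp
  refine ⟨ChainComplex.of X d sq, ⟨Iso.refl _⟩, ?_, ?_, ?_⟩
  · intro j hj
    obtain rfl : j = 0 := by lia
    rw [exactAt_zero_iff]
    have : (ChainComplex.of X d sq).d 1 0 = π := ChainComplex.of_d X d 0
    rw [this]
    exact hπ
  · intro j hj
    obtain ⟨k, rfl⟩ : ∃ k, j = k + 2 := ⟨j - 2, by lia⟩
    show IsZero (0 : C)
    exact isZero_zero C
  · intro j h1 h2
    obtain rfl : j = 1 := by lia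
    exact hE

/-- Splicing. -/
lemma FPC_succ_of_kernel {E F : C} (π : E ⟶ F) (hπ : Epi π) (hE : P E) (n : ℕ)
    (h : FPC P n (kernel π)) : FPC P (n + 1) F := by
  obtain ⟨K', ⟨e⟩, hex, hz, hP⟩ := h
  let K₁ := ChainComplex.truncate.obj K'
  let f : K₁.X 0 ⟶ E := (K'.d 1 0 ≫ e.hom) ≫ kernel.ι π
  have w₁ : K₁.d 1 0 ≫ f = 0 := by
    change K'.d 2 1 ≫ (K'.d 1 0 ≫ e.hom) ≫ kernel.ι π = 0
    rw [← Category.assoc, ← Category.assoc, K'.d_comp_d, zero_comp, zero_comp]
  let K₂ := ChainComplex.augment K₁ f w₁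
  have w₂ : K₂.d 1 0 ≫ π = 0 := by
    change ((K'.d 1 0 ≫ e.hom) ≫ kernel.ι π) ≫ π = 0
    rw [Category.assoc, kernel.condition, comp_zero]
  let K := ChainComplex.augment K₂ π w₂
  have hepi : Epi (K'.d 1 0) := (exactAt_zero_iff K').1 (hex 0 (Nat.zero_le _))
  refine ⟨K, ⟨Iso.refl _⟩, ?_, ?_, ?_⟩
  · intro j hj
    rcases j with _ | _ | _ | j
    · rw [exactAt_zero_iff]
      exact hπ
    · rw [exactAt_succ_iff]
      exact exact_epi_kernel π (K'.d 1 0 ≫ e.hom) (epi_comp _ _) w₂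
    · rw [exactAt_succ_iff]
      have h1 : (K'.sc' 2 1 0).Exact := (exactAt_succ_iff K' 0).1 (hex 1 (by lia))
      exact exact_comp_mono (K'.d 2 1) (K'.d 1 0) (e.hom ≫ kernel.ι π) (mono_comp _ _)
        (K'.d_comp_d 2 1 0) h1 f (Category.assoc _ _ _) w₁
    · rw [exactAt_succ_iff]
      have h1 : (K'.sc' (j + 3) (j + 2) (j + 1)).Exact :=
        (exactAt_succ_iff K' (j + 1)).1 (hex (j + 2) (by lia))
      exact h1
  · intro j hj
    obtain ⟨k, rfl⟩ : ∃ k, j = k + 2 := ⟨j - 2, by lia⟩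
    exact hz (k + 1) (by lia)
  · intro j h1 h2
    rcases j with _ | _ | j
    · lia
    · exact hE
    · exact hP (j + 1) (by lia) (by lia)

variable [HasDerivedCategory.{w} C]

lemma NPC_single_of_prop {E : C} (hE : P E) (k : ℤ) :
    NPC P k ((DerivedCategory.singleFunctor C 0).obj E) :=
  ⟨_, isStrictPC_single P 0 k hE, ⟨QSingleIso E 0⟩⟩

variable (hsum : ∀ X Y : C, P X → P Y → P (X ⨯ Y))
  (hqs : PCoh.IsQuasiStableUnderKernels P) (hql : PCoh.IsQuasiLiftable P)

include hsum hqs hql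

theorem NPC_of_FPC (n : ℕ) (F : C) (h : FPC P n F) :
    NPC P (-(n : ℤ)) ((DerivedCategory.singleFunctor C 0).obj F) := by
  obtain ⟨K, ⟨e⟩, hex, hz, hP⟩ := h
  have key : ∀ t : ℕ, t ≤ n + 1 →
      NPC P (1 - (t : ℤ)) ((DerivedCategory.singleFunctor C 0).obj (K.cycles (n + 1 - t))) := by
    intro t
    induction t with
    | zero =>
      intro _
      exact NPC_of_isLE P _ 0 _ (by simp) (fun i hi => isZero_homology_single _ 0 i (by lia))
    | succ t ih =>
      intro ht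
      have h1 := ih (by lia)
      have hrel : (ComplexShape.down ℕ).Rel (n + 1 - t) (n + 1 - (t + 1)) := by
        simp only [ComplexShape.down_Rel]; lia
      have h2 := NPC_cycles_next P K hsum hqs hql (n + 1 - t) (n + 1 - (t + 1)) hrel
        (hex _ (by lia)) (-(t : ℤ)) (by
          have : (1 : ℤ) - t = -(t : ℤ) + 1 := by ring
          rw [← this]; exact h1)
        (NPC_single_of_prop P (hP _ (by lia) (by lia)) _)
      have : (1 : ℤ) - ((t + 1 : ℕ) : ℤ) = -(t : ℤ) := by push_cast; ring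
      rw [this]
      exact h2
  have h0 := key (n + 1) le_rfl
  have e1 : (1 : ℤ) - ((n + 1 : ℕ) : ℤ) = -(n : ℤ) := by push_cast; ring
  rw [e1] at h0
  have e2 : n + 1 - (n + 1) = 0 := by lia
  rw [e2] at h0
  have hi : IsIso (K.iCycles 0) := K.isIso_iCycles 0 0 (by simp) (K.shape 0 0 (by simp))
  exact NPC.of_iso P h0
    ((DerivedCategory.singleFunctor C 0).mapIso (asIso (K.iCycles 0) ≪≫ e))

theorem FPC_of_NPC : ∀ (n : ℕ) (F : C),
    NPC P (-(n : ℤ)) ((DerivedCategory.singleFunctor C 0).obj F) → FPC P n F := by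
  intro n
  induction n with
  | zero =>
    intro F h
    have h0 : PCoh.IsOfFiniteType P F :=
      (NPC_single_zero_iff_isOfFiniteType P hqs hql F).1 (by simpa using h)
    obtain ⟨E, π, hE, hπ⟩ := h0
    exact FPC_zero_of_epi P π hπ hE
  | succ n ih =>
    intro F h
    have h0 : PCoh.IsOfFiniteType P F :=
      (NPC_single_zero_iff_isOfFiniteType P hqs hql F).1
        (NPC.of_le P (by push_cast; lia) h)
    obtain ⟨E, π, hE, hπ⟩ := h0
    have hS : (ShortComplex.mk (kernel.ι π) π (kernel.condition π)).ShortExact :=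
      { exact := ShortComplex.exact_of_f_is_kernel _ (kernelIsKernel _)
        mono_f := inferInstanceAs (Mono (kernel.ι π))
        epi_g := hπ }
    have h1 := (NPC_shortExact P hsum hqs hql hS (-((n + 1 : ℕ) : ℤ))).2.2
      (NPC_single_of_prop P hE _) h
    have e1 : -((n + 1 : ℕ) : ℤ) + 1 = -(n : ℤ) := by push_cast; ring
    rw [e1] at h1
    exact FPC_succ_of_kernel P π hπ hE n (ih _ h1)

end Groth.Agent.Lib.helper17.PCohFP
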