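import Mathlib
import Groth.Prelude.Def_PCoh
import Groth.Agent.Lib.helper17.PCohTrunc

/-!
# Pseudo-coherence and triangulated functors of finite cohomological dimension (helper17)
-/

namespace Groth.Agent.Lib.helper17.PCohFunctor

open CategoryTheory Limits Pretriangulated CochainComplex HomologicalComplex DerivedCategory
open Groth.Agent.Lib.helper17.PCohCore Groth.Agent.Lib.helper17.PCohFT
open Groth.Agent.Lib.helper17.PerfLift Groth.Agent.Lib.helper17.PCohT1
open Groth.Agent.Lib.helper17.PCohBasic Groth.Agent.Lib.helper17.PCohTri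
open Groth.Agent.Lib.helper17.PCohD Groth.Agent.Lib.helper17.PCohLES
open Groth.Agent.Lib.helper17.PCohTrunc

set_option linter.unusedSectionVars false

universe w v u w' v' u'

variable {C : Type u} [Category.{v} C] [Abelian C] [HasDerivedCategory.{w} C]
variable (P : ObjectProperty C) [P.IsClosedUnderIsomorphisms] [P.ContainsZero]
variable {C' : Type u'} [Category.{v'} C'] [Abelian C'] [HasDerivedCategory.{w'} C']
variable (P' : ObjectProperty C') [P'.IsClosedUnderIsomorphisms] [P'.ContainsZero]

/-- `Hᵃ(X[n]) ≅ Hᵃ⁺ⁿ(X)`. -/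
noncomputable def homologyShiftIso (X : DerivedCategory C) (n a a' : ℤ) (h : n + a = a') :
    (DerivedCategory.homologyFunctor C a).obj (X⟦n⟧) ≅
      (DerivedCategory.homologyFunctor C a').obj X :=
  ((DerivedCategory.homologyFunctor C 0).shiftIso n a a' h).app X

variable (u : DerivedCategory C ⥤ DerivedCategory C') [u.CommShift ℤ] [u.IsTriangulated]
  (b : ℤ)
  (hii : ∀ F : DerivedCategory C,
    (∀ i : ℤ, 0 < i → IsZero ((DerivedCategory.homologyFunctor C i).obj F)) →
      ∀ i : ℤ, b < i → IsZero ((DerivedCategory.homologyFunctor C' i).obj (u.obj F)))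

include hii

lemma isZero_homology_map (F : DerivedCategory C) (t : ℤ)
    (hF : ∀ i : ℤ, t < i → IsZero ((DerivedCategory.homologyFunctor C i).obj F)) :
    ∀ i : ℤ, t + b < i → IsZero ((DerivedCategory.homologyFunctor C' i).obj (u.obj F)) := by
  intro i hi
  have h1 : ∀ j : ℤ, 0 < j → IsZero ((DerivedCategory.homologyFunctor C j).obj (F⟦t⟧)) :=
    fun j hj => (hF (t + j) (by lia)).of_iso (homologyShiftIso F t j (t + j) rfl)
  have h2 := hii (F⟦t⟧) h1 (i - t) (by lia)
  have e : (DerivedCategory.homologyFunctor C' (i - t)).obj (u.obj (F⟦t⟧)) ≅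
      (DerivedCategory.homologyFunctor C' i).obj (u.obj F) :=
    (DerivedCategory.homologyFunctor C' (i - t)).mapIso ((u.commShiftIso t).app F) ≪≫
      homologyShiftIso (u.obj F) t (i - t) i (by ring)
  exact h2.of_iso e.symm

variable (hsum' : ∀ X Y : C', P' X → P' Y → P' (X ⨯ Y))
  (hqs' : PCoh.IsQuasiStableUnderKernels P') (hql' : PCoh.IsQuasiLiftable P')
  (a : ℤ)
  (hi : ∀ E : C, P E → NPC P' a (u.obj ((DerivedCategory.singleFunctor C 0).obj E)))

include hsum' hqs' hql' hi

theorem NPC_map_of_terms (m n k : ℤ) (hk₁ : m + b ≤ k) (hk₂ : n + a ≤ k) :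
    ∀ (j : ℕ) (E : CochainComplex C ℤ) (t : ℤ), t ≤ n → t - m < j →
      (∀ i, t < i → IsZero (E.X i)) → (∀ i, m ≤ i → P (E.X i)) →
      NPC P' k (u.obj (Q.obj E)) := by
  intro j
  induction j with
  | zero =>
    intro E t htn htm hE _
    refine NPC_of_isLE P' _ (t + b) k (by simp at htm; lia) ?_
    exact isZero_homology_map u b hii _ t
      (fun i hi => isZero_homology_of_NPC_bound (Iso.refl _) t hE i hi)
  | succ j ih =>
    intro E t htn htm hE hEP
    by_cases htm' : t < m
    · refine NPC_of_isLE P' _ (t + b) k (by lia) ?_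
      exact isZero_homology_map u b hii _ t
        (fun i hi => isZero_homology_of_NPC_bound (Iso.refl _) t hE i hi)
    · obtain ⟨G, φ, π, w, hS, hG0, hGi⟩ := exists_brutal_truncation E t hE
      have hT := u.map_distinguished _ (DerivedCategory.triangleOfSES_distinguished hS)
      have h3 : NPC P' k (u.obj (Q.obj G)) := by
        refine ih G (t - 1) (by lia) (by push_cast at htm; lia) (fun i hi => hG0 i (by lia))
          (fun i hi => ?_)
        by_cases hit : i < t
        · obtain ⟨e⟩ := hGi i hit
          exact P.prop_of_iso e (hEP i hi)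
        · exact P.prop_of_isZero (hG0 i (by lia))
      have h1 : NPC P' k (u.obj (Q.obj
          ((HomologicalComplex.single C (ComplexShape.up ℤ) t).obj (E.X t)))) := by
        have h0 := NPC.shift P' (hi (E.X t) (hEP t (by lia))) (-t)
        have e : (u.obj ((DerivedCategory.singleFunctor C 0).obj (E.X t)))⟦-t⟧ ≅
            u.obj (Q.obj ((HomologicalComplex.single C (ComplexShape.up ℤ) t).obj (E.X t))) :=
          ((u.commShiftIso (-t)).app _).symm ≪≫
            u.mapIso ((((DerivedCategory.singleFunctors C).shiftIso (-t) t 0 (by simp)).app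
              (E.X t)) ≪≫ (QSingleIso (E.X t) t).symm)
        exact NPC.of_le P' (by lia) (NPC.of_iso P' h0 e)
      exact (NPC_triangle P' hsum' hqs' hql' k _ hT).2.1 h1 h3

end Groth.Agent.Lib.helper17.PCohFunctor
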