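import Mathlib

/-!
# Enough injectives for `ℕ`-indexed projective systems
-/

open CategoryTheory CategoryTheory.Limits Opposite

namespace Groth.Agent.Lib.helper17.PSInj

universe w v u

variable {A : Type u} [Category.{v} A]

/-- A family of objects which are terminal outside a finite set has a product, provided finite
products exist. -/
lemma hasProduct_of_terminal_off_finset [HasFiniteProducts A] {ι : Type w} (Z : ι → A)
    (S : Finset ι) (hZ : ∀ i, i ∉ S → Nonempty (IsTerminal (Z i))) : HasProduct Z := by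
  classical
  let P : A := ∏ᶜ (fun i : S => Z i.1)
  let π : ∀ i, P ⟶ Z i := fun i =>
    if h : i ∈ S then Pi.π (fun i : S => Z i.1) ⟨i, h⟩ else (hZ i h).some.from P
  have hπ : ∀ (i : ι) (h : i ∈ S), π i = Pi.π (fun i : S => Z i.1) ⟨i, h⟩ := by
    intro i h
    simp only [π, dif_pos h]
  refine ⟨⟨⟨Fan.mk P π, Fan.IsLimit.mk _ (fun s => Pi.lift (fun i : S => s.proj i.1)) ?_ ?_⟩⟩⟩
  · intro s i
    by_cases h : i ∈ S
    · change Pi.lift (fun i : S => s.proj i.1) ≫ π i = _
      rw [hπ i h, Pi.lift_π]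
    · exact (hZ i h).some.hom_ext _ _
  · intro s m hm
    refine Pi.hom_ext (f := fun i : S => Z i.1) _ _ ?_
    intro i
    rw [Pi.lift_π]
    have := hm i.1
    change m ≫ π i.1 = _ at this
    rw [hπ i.1 i.2] at this
    exact this

/-- An empty product is terminal. -/
noncomputable def isTerminalPiOfIsEmpty {ι : Type w} [IsEmpty ι] (f : ι → A) [HasProduct f] :
    IsTerminal (∏ᶜ f) :=
  IsTerminal.ofUniqueHom (fun _ => Pi.lift (fun i => isEmptyElim i))
    (fun _ _ => Pi.hom_ext _ _ (fun i => isEmptyElim i))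

section Abelian

variable [Abelian A]

theorem enoughInjectives_PS [EnoughInjectives A] : EnoughInjectives (ℕᵒᵖ ⥤ A) := by
  constructor
  intro X
  let I : ℕ → A := fun n => Injective.under (X.obj (op n))
  let Rn : ℕ → (ℕᵒᵖ ⥤ A) := fun n => (evaluationRightAdjoint A (op n)).obj (I n)
  have : ∀ n, Injective (Rn n) := fun n =>
    (evaluationAdjunctionLeft A (op n)).map_injective _ inferInstance
  haveI : ∀ k : ℕᵒᵖ, HasLimit ((Discrete.functor Rn).flip.obj k) := by
    rintro ⟨t⟩
    have h1 : HasProduct (fun n => (Rn n).obj (op t)) := by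
      apply hasProduct_of_terminal_off_finset _ (Finset.range (t + 1))
      intro n hn
      haveI : IsEmpty (op t ⟶ op n) := ⟨fun g => hn (by
        have h2 : n ≤ t := leOfHom g.unop
        simp only [Finset.mem_range]
        omega)⟩
      exact ⟨isTerminalPiOfIsEmpty _⟩
    exact @hasLimit_of_iso _ _ _ _ _ _ h1
      (Discrete.natIsoFunctor (F := (Discrete.functor Rn).flip.obj (op t))).symm
  haveI : HasProduct Rn := functorCategoryHasLimit _
  let φ : ∀ n, X ⟶ Rn n := fun n =>
    (evaluationAdjunctionLeft A (op n)).homEquiv X (I n) (Injective.ι (X.obj (op n)))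
  have hφ : ∀ n, (φ n).app (op n) ≫
      (Pi.π (fun _ : (op n ⟶ op n) => I n) (𝟙 (op n)) : (Rn n).obj (op n) ⟶ I n) =
      Injective.ι (X.obj (op n)) := by
    intro n
    have := ((evaluationAdjunctionLeft A (op n)).homEquiv X (I n)).symm_apply_apply
      (Injective.ι (X.obj (op n)))
    rw [Adjunction.homEquiv_counit] at this
    simpa using this
  refine ⟨⟨∏ᶜ Rn, inferInstance, Pi.lift φ, ?_⟩⟩
  rw [NatTrans.mono_iff_mono_app]
  rintro ⟨t⟩
  have e1 : (Pi.lift φ).app (op t) ≫ (Pi.π Rn t).app (op t) = (φ t).app (op t) := by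
    rw [← NatTrans.comp_app, Pi.lift_π]
  have e2 : ((Pi.lift φ).app (op t) ≫ (Pi.π Rn t).app (op t)) ≫
      (Pi.π (fun _ : (op t ⟶ op t) => I t) (𝟙 (op t)) : (Rn t).obj (op t) ⟶ I t) =
      Injective.ι (X.obj (op t)) := by
    rw [e1]
    exact hφ t
  haveI := mono_of_mono_fac e2
  exact mono_of_mono _ ((Pi.π Rn t).app (op t))

lemma evalLeft_map_app_of_unique {a b : A} (f : a ⟶ b) (c t : ℕᵒᵖ) [Unique (c ⟶ t)] :
    (((evaluationLeftAdjoint A c).map f).app t :
        (∐ fun _ : c ⟶ t => a) ⟶ (∐ fun _ : c ⟶ t => b)) =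
      (coproductUniqueIso (fun _ : c ⟶ t => a)).hom ≫ f ≫
        (coproductUniqueIso (fun _ : c ⟶ t => b)).inv := by
  have key : (Sigma.desc fun h : c ⟶ t => f ≫ Sigma.ι (fun _ : c ⟶ t => b) h) =
      (coproductUniqueIso (fun _ : c ⟶ t => a)).hom ≫ f ≫
        (coproductUniqueIso (fun _ : c ⟶ t => b)).inv := by
    apply Sigma.hom_ext
    intro i
    obtain rfl : i = default := Subsingleton.elim _ _
    rw [Sigma.ι_desc, ι_coproductUniqueIso_hom_assoc, coproductUniqueIso_inv]
    simp
  exact key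

lemma mono_of_mono_conj {a b a' b' : A} (f : a ⟶ b) (ea : a' ≅ a) (eb : b ≅ b')
    (h : Mono (ea.hom ≫ f ≫ eb.hom)) : Mono f := by
  have : f = ea.inv ≫ (ea.hom ≫ f ≫ eb.hom) ≫ eb.inv := by simp
  rw [this]
  infer_instance

instance evalLeft_preservesMono (c : ℕᵒᵖ) : (evaluationLeftAdjoint A c).PreservesMonomorphisms where
  preserves {a b} f hf := by
    rw [NatTrans.mono_iff_mono_app]
    intro t
    by_cases h : Nonempty (c ⟶ t)
    · haveI : Unique (c ⟶ t) := ⟨⟨h.some⟩, fun _ => Subsingleton.elim _ _⟩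
      have e := evalLeft_map_app_of_unique f c t
      have hm : Mono ((coproductUniqueIso (fun _ : c ⟶ t => a)).hom ≫ f ≫
        (coproductUniqueIso (fun _ : c ⟶ t => b)).inv) := inferInstance
      rw [← e] at hm
      exact hm
    · haveI : IsEmpty (c ⟶ t) := not_nonempty_iff.1 h
      have hz : IsZero (∐ fun _ : c ⟶ t => a) := by
        rw [IsZero.iff_id_eq_zero]
        apply Sigma.hom_ext
        intro i
        exact isEmptyElim i
      exact IsZero.mono (X := ((evaluationLeftAdjoint A c).obj a).obj t) hz _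

instance evalLeft_reflectsMono (c : ℕᵒᵖ) : (evaluationLeftAdjoint A c).ReflectsMonomorphisms where
  reflects {a b} f hf := by
    rw [NatTrans.mono_iff_mono_app] at hf
    have h := hf c
    haveI : Unique (c ⟶ c) := ⟨⟨𝟙 c⟩, fun _ => Subsingleton.elim _ _⟩
    have e := evalLeft_map_app_of_unique f c c
    have h' : Mono ((coproductUniqueIso (fun _ : c ⟶ c => a)).hom ≫ f ≫
        (coproductUniqueIso (fun _ : c ⟶ c => b)).inv) := by
      rw [← e]
      exact h
    exact mono_of_mono_conj f (coproductUniqueIso (fun _ : c ⟶ c => a))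
      (coproductUniqueIso (fun _ : c ⟶ c => b)).symm h'

theorem enoughInjectives_of_PS [EnoughInjectives (ℕᵒᵖ ⥤ A)] : EnoughInjectives A :=
  EnoughInjectives.of_adjunction (evaluationAdjunctionRight A (op (0 : ℕ)))

end Abelian

end Groth.Agent.Lib.helper17.PSInj
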