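import Mathlib
import Groth.Prelude.Def_MoreMor
import Groth.Agent.Lib.helper17.PCMorNoeth
import Groth.Agent.Lib.helper17.PolyTD
import Groth.Agent.Lib.helper17.TorAmpTor
import Groth.Agent.Lib.helper2.RegPd
import Groth.Agent.Lib.helper6.TorDim
import Groth.Agent.Lib.helper21.TorLib

/-! Finite type algebras over regular rings are perfect ring maps. -/

set_option autoImplicit false

open AlgebraicGeometry CategoryTheory

namespace Groth.Agent.Lib.helper17.PerfHomReg

universe u

attribute [local instance] HasDerivedCategory.standard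

open Groth.Agent.Lib.helper17.TorAmpTor

theorem TD_of_pd {R : Type u} [CommRing R] (M : ModuleCat.{u} R) (d : ℕ)
    [HasProjectiveDimensionLT M (d + 1)] : TD d M := by
  intro N p hp
  obtain ⟨e⟩ := Groth.Agent.H21.TorLib.nonempty_iso_flip p M N
  exact (Groth.Agent.Lib.helper6.TorDim.isZero_tor_of_hasProjectiveDimensionLT N d M p hp).of_iso e

theorem perfectHom_of_regular (A B : Type u) [CommRing A] [CommRing B] [Algebra A B]
    [IsRegularRing A] (h : Algebra.FiniteType A B) : MoreMor.IsPerfectHom A B := by
  refine ⟨PCMorNoeth.pcHom_of_finiteType A B h, ?_⟩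
  obtain ⟨n, φ, hφ⟩ := Algebra.FiniteType.iff_quotient_mvPolynomial''.1 h
  letI : Algebra (MvPolynomial (Fin n) A) B := φ.toRingHom.toAlgebra
  haveI : Module.Finite (MvPolynomial (Fin n) A) B :=
    Module.Finite.of_surjective (Algebra.linearMap (MvPolynomial (Fin n) A) B) hφ
  haveI : IsRegularRing (MvPolynomial (Fin n) A) := inferInstance
  have hreg : ∀ p : PrimeSpectrum (MvPolynomial (Fin n) A),
      IsRegularLocalRing (Localization.AtPrime p.asIdeal) := fun p => inferInstance
  obtain ⟨d, hd⟩ := Groth.Agent.Lib.helper2.RegPd.exists_hasProjectiveDimensionLT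
    (MvPolynomial (Fin n) A) hreg B
  have hTD : TD d (ModuleCat.of (MvPolynomial (Fin n) A) B) := TD_of_pd _ d
  have hTA := (TD_iff_torAmp d _).mp hTD
  exact PolyTD.hasFiniteTorDim_of_torAmp n φ _ _ hTA

end Groth.Agent.Lib.helper17.PerfHomReg
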