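import Mathlib
import Groth.Prelude.Def_MoreMor
import Groth.Agent.Lib.helper17.PerfHomReg

/-! Morphisms locally of finite type to a regular scheme are perfect. -/

set_option autoImplicit false

open AlgebraicGeometry CategoryTheory

namespace Groth.Agent.Lib.helper17.PerfMorReg

universe u

attribute [local instance] HasDerivedCategory.standard

theorem isRegularRing_sections {S : Scheme.{u}} [IsLocallyNoetherian S]
    (hreg : ∀ s : S, IsRegularLocalRing (S.presheaf.stalk s)) (V : S.Opens) (hV : IsAffineOpen V) :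
    IsRegularRing Γ(S, V) := by
  haveI : IsNoetherianRing Γ(S, V) := IsLocallyNoetherian.component_noetherian ⟨V, hV⟩
  refine { isRegularLocalRing_localization := fun p hp => ?_ }
  let q : PrimeSpectrum Γ(S, V) := ⟨p, hp⟩
  have hq : hV.fromSpec q ∈ V := by
    have : hV.fromSpec q ∈ hV.fromSpec.opensRange := ⟨q, rfl⟩
    rwa [hV.opensRange_fromSpec] at this
  letI : Algebra Γ(S, V) (S.presheaf.stalk (hV.fromSpec q)) :=
    TopCat.Presheaf.algebra_section_stalk S.presheaf ⟨hV.fromSpec q, hq⟩
  haveI : IsLocalization.AtPrime (S.presheaf.stalk (hV.fromSpec q)) p :=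
    hV.isLocalization_stalk' q hq
  have e : Localization.AtPrime p ≃ₐ[Γ(S, V)] S.presheaf.stalk (hV.fromSpec q) :=
    IsLocalization.algEquiv p.primeCompl _ _
  haveI := hreg (hV.fromSpec q)
  exact IsRegularLocalRing.of_ringEquiv e.symm.toRingEquiv

theorem perfectMor_of_regular {X S : Scheme.{u}} (f : X ⟶ S) [LocallyOfFiniteType f]
    [IsLocallyNoetherian S] (hreg : ∀ s : S, IsRegularLocalRing (S.presheaf.stalk s)) :
    MoreMor.IsPerfectMor f := by
  intro U V hU hV e
  haveI := isRegularRing_sections hreg V hV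
  have h := (HasRingHomProperty.iff_appLE (P := @LocallyOfFiniteType)).1 inferInstance
    ⟨V, hV⟩ ⟨U, hU⟩ e
  letI := (f.appLE V U e).hom.toAlgebra
  exact PerfHomReg.perfectHom_of_regular _ _ h

end Groth.Agent.Lib.helper17.PerfMorReg
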