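import Mathlib
import Groth.Prelude.Def_DRing2
import Groth.Agent.Lib.helper17.DRingTor
import Groth.Agent.Lib.helper17.TorAmpTor
import Groth.Agent.Lib.helper17.PCohFP

/-!
# Perfect modules and finite projective resolutions (helper17)
-/

namespace Groth.Agent.Lib.helper17.PerfRes

open CategoryTheory Limits Pretriangulated DerivedCategory
open Groth.Agent.Lib.helper17.PCohBasic Groth.Agent.Lib.helper17.PCohLES
open Groth.Agent.Lib.helper17.DRingPC Groth.Agent.Lib.helper17.DRingTor
open Groth.Agent.Lib.helper17.DRingTA Groth.Agent.Lib.helper17.PCohD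
open Groth.Agent.Lib.helper17.PCohFP

set_option linter.unusedSectionVars false
set_option linter.unusedVariables false

attribute [local instance] HasDerivedCategory.standard

universe u

variable {R : Type u} [CommRing R]

theorem exists_projectiveResolution (M : ModuleCat.{u} R) (E : CochainComplex (ModuleCat.{u} R) ℤ)
    (d : ℕ) (hz : ∀ i : ℤ, i < -(d : ℤ) ∨ 0 < i → IsZero (E.X i)) (hP : ∀ i, FP R (E.X i))
    (e : Q.obj E ≅ (DerivedCategory.singleFunctor _ 0).obj M) :
    ∃ P : ProjectiveResolution M, (∀ i : ℕ, d < i → IsZero (P.complex.X i)) ∧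
      ∀ i : ℕ, Module.Finite R (P.complex.X i) := by
  let emb := ComplexShape.embeddingDownNat
  let K : ChainComplex (ModuleCat.{u} R) ℕ := E.restriction emb
  have hd1 : E.d 0 1 = 0 := (hz 1 (Or.inr one_pos)).eq_of_tgt _ _
  have hι : IsIso (E.homologyι 0) := E.isIso_homologyι 0 1 (by simp) hd1
  let θ : E.homology 0 ≅ M := (homologyQIso E 0).symm ≪≫
    (DerivedCategory.homologyFunctor _ 0).mapIso e ≪≫ homologySingleIso M 0
  let m : E.opcycles 0 ⟶ M := inv (E.homologyι 0) ≫ θ.hom
  have hm : IsIso m := inferInstance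
  let π₀ : K.X 0 ⟶ M := E.pOpcycles 0 ≫ m
  have w : K.d 1 0 ≫ π₀ = 0 := by
    change E.d (-1) 0 ≫ E.pOpcycles 0 ≫ m = 0
    rw [← Category.assoc, E.d_pOpcycles, zero_comp]
  let π : K ⟶ (ChainComplex.single₀ _).obj M := (ChainComplex.toSingle₀Equiv K M).symm ⟨π₀, w⟩
  have hπ0 : π.f 0 = π₀ := by simp [π]
  have hexE : ∀ i : ℤ, i ≠ 0 → E.ExactAt i := fun i hi => by
    rw [HomologicalComplex.exactAt_iff_isZero_homology]
    exact ((isZero_homology_single M 0 i hi).of_iso
      ((DerivedCategory.homologyFunctor _ i).mapIso e)).of_iso (homologyQIso E i).symm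
  have hq : QuasiIso π := ⟨fun n => by
    cases n with
    | zero =>
      rw [ChainComplex.quasiIsoAt₀_iff,
        ShortComplex.quasiIso_iff_of_zeros' _ (K.shape 0 0 (by simp)) rfl rfl]
      have hcok : (ShortComplex.mk (E.d (-1) 0) (E.pOpcycles 0) (E.d_pOpcycles _ _)).Exact :=
        ShortComplex.exact_of_g_is_cokernel _ (E.opcyclesIsCokernel (-1) 0 (by simp))
      constructor
      · exact exact_comp_mono (E.d (-1) 0) (E.pOpcycles 0) m inferInstance (E.d_pOpcycles _ _)
          hcok (π.f 0) hπ0 _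
      · change Epi (π.f 0)
        rw [hπ0]
        exact epi_comp (E.pOpcycles 0) m
    | succ k =>
      rw [quasiIsoAt_iff_exactAt' (hL := ChainComplex.exactAt_succ_single_obj ..),
        HomologicalComplex.exactAt_iff' _ (k + 2) (k + 1) k (by simp) (by simp)]
      have h1 := hexE (emb.f (k + 1)) (by simp [emb]; lia)
      rw [HomologicalComplex.exactAt_iff' E (emb.f (k + 2)) (emb.f (k + 1)) (emb.f k)
        (by simp [emb]; lia) (by simp [emb])] at h1
      exact h1⟩
  refine ⟨{ complex := K
            projective := fun n => ?_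
            π := π
            quasiIso := hq }, fun i hi => ?_, fun i => ?_⟩
  · have := (hP (emb.f n)).2
    exact (IsProjective.iff_projective _).1 this
  · exact hz (emb.f i) (Or.inl (by simp [emb]; lia))
  · exact (hP (emb.f i)).1

theorem perfect_of_projectiveResolution (M : ModuleCat.{u} R) (P : ProjectiveResolution M) (d : ℕ)
    (hz : ∀ i : ℕ, d < i → IsZero (P.complex.X i))
    (hfin : ∀ i : ℕ, Module.Finite R (P.complex.X i)) :
    DRing.IsPerfect R ((DerivedCategory.singleFunctor (ModuleCat.{u} R) 0).obj M) := by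
  refine ⟨P.cochainComplex, -(d : ℤ), 0, ?_, ?_,
    ⟨asIso (Q.map P.π') ≪≫ ((DerivedCategory.singleFunctorIsoCompQ _ 0).app M).symm⟩⟩
  · rintro i (hi | hi)
    · obtain ⟨k, rfl⟩ := Int.exists_eq_neg_ofNat (show i ≤ 0 by lia)
      exact (hz k (by lia)).of_iso (P.cochainComplexXIso (-(k : ℤ)) k rfl)
    · exact CochainComplex.isZero_of_isStrictlyLE _ 0 _ hi
  · intro i
    by_cases hi : i ≤ 0
    · obtain ⟨k, rfl⟩ := Int.exists_eq_neg_ofNat hi
      have h1 : FP R (P.complex.X k) :=
        ⟨hfin k, (IsProjective.iff_projective _).2 (P.projective k)⟩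
      exact (FP R).prop_of_iso (P.cochainComplexXIso (-(k : ℤ)) k rfl).symm h1
    · exact (FP R).prop_of_isZero (CochainComplex.isZero_of_isStrictlyLE _ 0 _ (by lia))

end Groth.Agent.Lib.helper17.PerfRes
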