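import Mathlib
import Groth.Agent.Lib.helper9.FlatLocal
import Groth.Agent.Lib.helper9.Depth21

/-!
# Depth along flat local homomorphisms with `m_R S = m_S`
-/

set_option autoImplicit false

namespace Groth.Agent.Lib.helper17.UnramDepth

open LocCoh

universe u

variable {R S : Type u} [CommRing R] [CommRing S] [IsLocalRing R] [IsLocalRing S]
  [IsNoetherianRing R] [IsNoetherianRing S] [Algebra R S] [IsLocalHom (algebraMap R S)]
  [Module.Flat R S]

theorem depth_eq_of_map_maximalIdeal
    (h : (IsLocalRing.maximalIdeal R).map (algebraMap R S) = IsLocalRing.maximalIdeal S) :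
    depth S S = depth R R := by
  haveI : IsLocalRing (S ⧸ IsLocalRing.maximalIdeal S) :=
    IsLocalRing.of_surjective' (Ideal.Quotient.mk (IsLocalRing.maximalIdeal S))
      Ideal.Quotient.mk_surjective
  have h1 := Groth.Agent.Lib.helper9.FlatLocal.depth_eq_add (R := R) (S := S)
    (IsLocalRing.maximalIdeal S) h.symm
  rw [h1]
  have h2 : depth (S ⧸ IsLocalRing.maximalIdeal S) (S ⧸ IsLocalRing.maximalIdeal S) = 0 := by
    have hm : IsLocalRing.maximalIdeal (S ⧸ IsLocalRing.maximalIdeal S) = ⊥ := by
      letI : Field (S ⧸ IsLocalRing.maximalIdeal S) := Ideal.Quotient.field _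
      exact IsLocalRing.isField_iff_maximalIdeal_eq.1 (Field.toIsField _)
    unfold depth
    rw [hm]
    exact Groth.Agent.Lib.helper9.Depth.idealDepth_bot _
  rw [h2, add_zero]

end Groth.Agent.Lib.helper17.UnramDepth
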