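import Mathlib
import Groth.Agent.Lib.helper17.WELocal

/-!
# Regularity at a rational point is insensitive to base field extension
-/

set_option autoImplicit false
set_option linter.style.haveILetI false
set_option linter.unusedSectionVars false

namespace Groth.Agent.Lib.helper17.RatPtBaseChange

open IsLocalRing TensorProduct

universe u

variable (k K A : Type u) [Field k] [Field K] [Algebra k K] [CommRing A] [Algebra k A]
  [IsLocalRing A] [IsNoetherianRing A]

/-- `A`-module structure on `K ⊗[k] A` through the right factor -/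
@[instance_reducible]
noncomputable def algRight : Algebra A (K ⊗[k] A) :=
  (Algebra.TensorProduct.includeRight : A →ₐ[k] K ⊗[k] A).toRingHom.toAlgebra

lemma flat_right :
    letI := algRight k K A
    Module.Flat A (K ⊗[k] A) := by
  letI := algRight k K A
  let e : (A ⊗[k] K) ≃ₗ[A] (K ⊗[k] A) :=
    { (Algebra.TensorProduct.comm k A K).toLinearEquiv with
      map_smul' := by
        intro a t
        change (Algebra.TensorProduct.comm k A K) (a • t) =
          (Algebra.TensorProduct.includeRight : A →ₐ[k] K ⊗[k] A) a *
            (Algebra.TensorProduct.comm k A K) t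
        rw [Algebra.smul_def, map_mul]
        congr 1 }
  exact Module.Flat.of_linearEquiv e.symm

theorem regular_iff (π : A →ₐ[k] k) (hπ : RingHom.ker π = maximalIdeal A)
    (φ : K ⊗[k] A →ₐ[K] K)
    (hφ : φ = (Algebra.TensorProduct.rid k K K).toAlgHom.comp
      (Algebra.TensorProduct.map (AlgHom.id K K) π))
    (m' : Ideal (K ⊗[k] A)) [m'.IsPrime] (hm' : m' = RingHom.ker φ)
    [IsNoetherianRing (Localization.AtPrime m')] :
    IsRegularLocalRing A ↔ IsRegularLocalRing (Localization.AtPrime m') := by
  letI := algRight k K A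
  haveI := flat_right k K A
  have hφt : ∀ (x : K) (a : A), φ (x ⊗ₜ a) = π a • x := by
    intro x a
    rw [hφ]
    simp
  have hinc : ∀ a : A, algebraMap A (K ⊗[k] A) a = (1 : K) ⊗ₜ[k] a := fun a => rfl
  -- `m' = m_A T`
  have hle : (maximalIdeal A).map (algebraMap A (K ⊗[k] A)) ≤ m' := by
    rw [Ideal.map_le_iff_le_comap]
    intro a ha
    rw [Ideal.mem_comap, hm', RingHom.mem_ker, hinc, hφt]
    rw [← hπ, RingHom.mem_ker] at ha
    rw [ha, zero_smul]
  have hkey : ∀ t : K ⊗[k] A,
      t - φ t ⊗ₜ[k] (1 : A) ∈ (maximalIdeal A).map (algebraMap A (K ⊗[k] A)) := by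
    intro t
    induction t using TensorProduct.induction_on with
    | zero => simp
    | tmul x a =>
      rw [hφt]
      have h1 : (π a • x) ⊗ₜ[k] (1 : A) = x ⊗ₜ[k] (algebraMap k A (π a)) := by
        rw [TensorProduct.smul_tmul, Algebra.algebraMap_eq_smul_one]
      rw [h1, ← TensorProduct.tmul_sub]
      have h2 : x ⊗ₜ[k] (a - algebraMap k A (π a)) =
          (x ⊗ₜ[k] (1 : A)) * algebraMap A (K ⊗[k] A) (a - algebraMap k A (π a)) := by
        rw [hinc, Algebra.TensorProduct.tmul_mul_tmul, mul_one, one_mul]
      rw [h2]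
      apply Ideal.mul_mem_left
      apply Ideal.mem_map_of_mem
      rw [← hπ, RingHom.mem_ker, map_sub, AlgHom.commutes]
      simp
    | add x y hx hy =>
      have : x + y - φ (x + y) ⊗ₜ[k] (1 : A) =
          (x - φ x ⊗ₜ[k] (1 : A)) + (y - φ y ⊗ₜ[k] (1 : A)) := by
        rw [map_add, TensorProduct.add_tmul]
        ring
      rw [this]
      exact add_mem hx hy
  have hmap : (maximalIdeal A).map (algebraMap A (K ⊗[k] A)) = m' := by
    apply le_antisymm hle
    intro t ht
    rw [hm', RingHom.mem_ker] at ht
    have := hkey t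
    rwa [ht, TensorProduct.zero_tmul, sub_zero] at this
  -- the algebra structure on the localization
  haveI : IsScalarTower A (K ⊗[k] A) (Localization.AtPrime m') := inferInstance
  haveI : Module.Flat A (Localization.AtPrime m') :=
    Module.Flat.trans A (K ⊗[k] A) (Localization.AtPrime m')
  have hmax : (maximalIdeal A).map (algebraMap A (Localization.AtPrime m')) =
      maximalIdeal (Localization.AtPrime m') := by
    rw [IsScalarTower.algebraMap_eq A (K ⊗[k] A) (Localization.AtPrime m'), ← Ideal.map_map, hmap]
    exact Localization.AtPrime.map_eq_maximalIdeal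
  haveI : IsLocalHom (algebraMap A (Localization.AtPrime m')) := by
    apply ((IsLocalRing.local_hom_TFAE _).out 0 2).mpr
    rw [hmax]
  exact (Groth.Agent.Lib.helper17.WELocal.isRegularLocalRing_iff_of_map_maximalIdeal hmax).symm

end Groth.Agent.Lib.helper17.RatPtBaseChange
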