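import Mathlib
import Groth.Agent.Lib.helper20.RegAscent
import Groth.Agent.Lib.helper6.SerreConvE
import Groth.Agent.Lib.helper6.SkFib
import Groth.Agent.Lib.helper17.FlatCM
import Groth.Agent.S2082

/-!
# Local homomorphisms of Noetherian local rings: dimension and embedding-dimension inequalities,
and the characterization of "regular" local homomorphisms (EGA 0_IV 17.3.3).
-/

set_option autoImplicit false
set_option linter.style.haveILetI false
set_option linter.unusedSectionVars false

namespace Groth.Agent.Lib.helper17.RegLocalHom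

open IsLocalRing

universe u

variable {A B : Type u} [CommRing A] [IsLocalRing A] [IsNoetherianRing A] [CommRing B]
  [IsLocalRing B] [IsNoetherianRing B] [Algebra A B] [IsLocalHom (algebraMap A B)]
  [IsLocalRing (B ⧸ (maximalIdeal A).map (algebraMap A B))]

lemma map_mk_maximalIdeal :
    (maximalIdeal B).map (Ideal.Quotient.mk ((maximalIdeal A).map (algebraMap A B))) =
      maximalIdeal (B ⧸ (maximalIdeal A).map (algebraMap A B)) :=
  IsLocalRing.map_maximalIdeal_of_surjective _ Ideal.Quotient.mk_surjective

instance liesOver_maximalIdeal : (maximalIdeal B).LiesOver (maximalIdeal A) :=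
  ⟨(IsLocalRing.maximalIdeal_comap (algebraMap A B)).symm⟩

/-- `dim B ≤ dim A + dim B/𝔪_A B`. -/
theorem dim_le :
    ringKrullDim B ≤ ringKrullDim A + ringKrullDim (B ⧸ (maximalIdeal A).map (algebraMap A B)) := by
  have h := Ideal.height_le_height_add_of_liesOver (maximalIdeal A) (maximalIdeal B)
  rw [map_mk_maximalIdeal] at h
  rw [← IsLocalRing.maximalIdeal_height_eq_ringKrullDim,
    ← IsLocalRing.maximalIdeal_height_eq_ringKrullDim,
    ← IsLocalRing.maximalIdeal_height_eq_ringKrullDim]
  exact_mod_cast h

/-- `dim B = dim A + dim B/𝔪_A B` for flat local homomorphisms. -/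
theorem dim_eq_of_flat [Module.Flat A B] :
    ringKrullDim B = ringKrullDim A + ringKrullDim (B ⧸ (maximalIdeal A).map (algebraMap A B)) := by
  have h := Ideal.height_eq_height_add_of_liesOver_of_hasGoingDown (maximalIdeal A) (maximalIdeal B)
  rw [map_mk_maximalIdeal] at h
  rw [← IsLocalRing.maximalIdeal_height_eq_ringKrullDim,
    ← IsLocalRing.maximalIdeal_height_eq_ringKrullDim,
    ← IsLocalRing.maximalIdeal_height_eq_ringKrullDim]
  exact_mod_cast congrArg (fun x : ℕ∞ => (x : WithBot ℕ∞)) h

/-- embedding dimensions: `e(B) ≤ e(A) + e(B/𝔪_A B)`. -/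
theorem spanFinrank_le :
    (maximalIdeal B).spanFinrank ≤ (maximalIdeal A).spanFinrank +
      (maximalIdeal (B ⧸ (maximalIdeal A).map (algebraMap A B))).spanFinrank := by
  classical
  set I := (maximalIdeal A).map (algebraMap A B) with hI
  obtain ⟨sA, hsA, hspanA⟩ :=
    Submodule.FG.exists_span_finset_card_eq_spanFinrank (maximalIdeal A).fg_of_isNoetherianRing
  obtain ⟨s0, hs0, hspan0⟩ :=
    Submodule.FG.exists_span_finset_card_eq_spanFinrank
      (maximalIdeal (B ⧸ I)).fg_of_isNoetherianRing
  have hsurj : Function.Surjective (Ideal.Quotient.mk I) := Ideal.Quotient.mk_surjective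
  let t : Finset B := s0.image (Function.surjInv hsurj)
  have hmkt : (Ideal.Quotient.mk I) '' (t : Set B) = (s0 : Set (B ⧸ I)) := by
    ext x
    simp only [t, Finset.coe_image, Set.mem_image, Finset.mem_coe]
    constructor
    · rintro ⟨_, ⟨y, hy, rfl⟩, rfl⟩
      rwa [Function.surjInv_eq hsurj]
    · intro hx
      exact ⟨_, ⟨x, hx, rfl⟩, Function.surjInv_eq hsurj x⟩
  let S : Set B := (algebraMap A B) '' (sA : Set A) ∪ (t : Set B)
  have hSfin : S.Finite := (sA.finite_toSet.image _).union t.finite_toSet
  have hIspan : I = Ideal.span ((algebraMap A B) '' (sA : Set A)) := by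
    rw [hI, ← Ideal.map_span]
    congr 1
    exact hspanA.symm
  have hspanS : Ideal.span S = maximalIdeal B := by
    apply le_antisymm
    · rw [Ideal.span_le]
      rintro x (⟨a, ha, rfl⟩ | hx)
      · have : a ∈ maximalIdeal A := by
          rw [← hspanA]; exact Submodule.subset_span ha
        have h2 : (maximalIdeal A).map (algebraMap A B) ≤ maximalIdeal B :=
          IsLocalRing.map_maximalIdeal_le _
        exact h2 (Ideal.mem_map_of_mem _ this)
      · have h1 : Ideal.Quotient.mk I x ∈ maximalIdeal (B ⧸ I) := by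
          rw [← hspan0]
          apply Submodule.subset_span
          rw [← hmkt]
          exact ⟨x, hx, rfl⟩
        rw [← map_mk_maximalIdeal] at h1
        have h2 := Ideal.mem_comap.2 h1
        rw [Ideal.comap_map_of_surjective _ hsurj] at h2
        have h3 : Ideal.comap (Ideal.Quotient.mk I) ⊥ ≤ maximalIdeal B := by
          rw [← RingHom.ker_eq_comap_bot, Ideal.mk_ker]
          exact IsLocalRing.map_maximalIdeal_le _
        exact (sup_le le_rfl h3) h2
    · intro b hb
      have h1 : Ideal.Quotient.mk I b ∈ maximalIdeal (B ⧸ I) := by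
        rw [← map_mk_maximalIdeal]
        exact Ideal.mem_map_of_mem _ hb
      have h1' : Ideal.Quotient.mk I b ∈ Submodule.span (B ⧸ I) (s0 : Set (B ⧸ I)) := by
        rw [hspan0]; exact h1
      have h1'' : Ideal.Quotient.mk I b ∈ Ideal.span (s0 : Set (B ⧸ I)) := h1'
      rw [← hmkt, ← Ideal.map_span] at h1''
      have h2 := Ideal.mem_comap.2 h1''
      rw [Ideal.comap_map_of_surjective _ hsurj, ← RingHom.ker_eq_comap_bot, Ideal.mk_ker] at h2
      have h3 : Ideal.span (t : Set B) ⊔ I ≤ Ideal.span S := by
        apply sup_le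
        · exact Ideal.span_mono Set.subset_union_right
        · rw [hIspan]
          exact Ideal.span_mono Set.subset_union_left
      exact h3 h2
  have h1 : (maximalIdeal B).spanFinrank ≤ S.ncard := by
    have := Submodule.spanFinrank_span_le_ncard_of_finite (R := B) hSfin
    have h2 : Submodule.span B S = maximalIdeal B := hspanS
    rwa [h2] at this
  have h2 : S.ncard ≤ sA.card + s0.card := by
    refine (Set.ncard_union_le _ _).trans ?_
    have ha : ((algebraMap A B) '' (sA : Set A)).ncard ≤ sA.card := by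
      refine (Set.ncard_image_le sA.finite_toSet).trans ?_
      rw [Set.ncard_coe_finset]
    have hb : (t : Set B).ncard ≤ s0.card := by
      rw [Set.ncard_coe_finset]
      exact Finset.card_image_le
    omega
  rw [hsA, hs0] at h2
  exact h1.trans h2

theorem regular_iff_nat (R : Type u) [CommRing R] [IsLocalRing R] [IsNoetherianRing R] (d : ℕ)
    (hd : ringKrullDim R = d) : IsRegularLocalRing R ↔ (maximalIdeal R).spanFinrank = d := by
  rw [isRegularLocalRing_iff, hd]
  exact_mod_cast Iff.rfl

theorem dim_le_nat (R : Type u) [CommRing R] [IsLocalRing R] [IsNoetherianRing R] (d : ℕ)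
    (hd : ringKrullDim R = d) : d ≤ (maximalIdeal R).spanFinrank := by
  have := ringKrullDim_le_spanFinrank_maximalIdeal R
  rw [hd] at this
  exact_mod_cast this

variable (A B)

/-- (a) ⇒ (e) -/
theorem one_imp_four (h1 : IsRegularLocalRing B)
    (h2 : (maximalIdeal B).spanFinrank = (maximalIdeal A).spanFinrank +
      (maximalIdeal (B ⧸ (maximalIdeal A).map (algebraMap A B))).spanFinrank) :
    IsRegularLocalRing A ∧ IsRegularLocalRing (B ⧸ (maximalIdeal A).map (algebraMap A B)) ∧
      ringKrullDim B = ringKrullDim A +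
        ringKrullDim (B ⧸ (maximalIdeal A).map (algebraMap A B)) := by
  obtain ⟨a, ha⟩ := Groth.Agent.Lib.helper6.SkFib.exists_nat_dim A
  obtain ⟨b, hb⟩ := Groth.Agent.Lib.helper6.SkFib.exists_nat_dim B
  obtain ⟨c, hc⟩ := Groth.Agent.Lib.helper6.SkFib.exists_nat_dim
    (B ⧸ (maximalIdeal A).map (algebraMap A B))
  have hle := dim_le (A := A) (B := B)
  rw [ha, hb, hc] at hle
  have hle' : b ≤ a + c := by exact_mod_cast hle
  have hA := dim_le_nat A a ha
  have h0 := dim_le_nat _ c hc
  have hB := (regular_iff_nat B b hb).1 h1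
  refine ⟨(regular_iff_nat A a ha).2 (by omega), (regular_iff_nat _ c hc).2 (by omega), ?_⟩
  rw [ha, hb, hc]
  exact_mod_cast (by omega : b = a + c)

/-- (e) ⇒ `B` regular and flat -/
theorem four_imp (hA : IsRegularLocalRing A)
    (h0 : IsRegularLocalRing (B ⧸ (maximalIdeal A).map (algebraMap A B)))
    (hdim : ringKrullDim B = ringKrullDim A +
        ringKrullDim (B ⧸ (maximalIdeal A).map (algebraMap A B))) :
    IsRegularLocalRing B ∧ Module.Flat A B := by
  obtain ⟨a, ha⟩ := Groth.Agent.Lib.helper6.SkFib.exists_nat_dim A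
  obtain ⟨b, hb⟩ := Groth.Agent.Lib.helper6.SkFib.exists_nat_dim B
  obtain ⟨c, hc⟩ := Groth.Agent.Lib.helper6.SkFib.exists_nat_dim
    (B ⧸ (maximalIdeal A).map (algebraMap A B))
  have hdim' := hdim
  rw [ha, hb, hc] at hdim'
  have hdim'' : b = a + c := by exact_mod_cast hdim'
  have hA' := (regular_iff_nat A a ha).1 hA
  have h0' := (regular_iff_nat _ c hc).1 h0
  have hle := spanFinrank_le (A := A) (B := B)
  have hB' := dim_le_nat B b hb
  have hB : IsRegularLocalRing B := (regular_iff_nat B b hb).2 (by omega)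
  refine ⟨hB, ?_⟩
  haveI := hA
  haveI : LocCoh.IsCohenMacaulayLocalRing B := Groth.Agent.Lib.helper17.FlatCM.isCM_of_regular B
  exact Groth.Agent.S2082.result hdim

/-- (d) ⇒ `B` regular -/
theorem three_imp (hA : IsRegularLocalRing A)
    (h0 : IsRegularLocalRing (B ⧸ (maximalIdeal A).map (algebraMap A B)))
    (hflat : Module.Flat A B) : IsRegularLocalRing B := by
  haveI := hA
  exact Groth.Agent.Lib.helper20.RegAscent.regular_of_flat_of_regular_fiber A B h0

/-- (c) ⇒ `A` regular -/
theorem two_imp (hB : IsRegularLocalRing B) (hflat : Module.Flat A B) : IsRegularLocalRing A := by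
  haveI := hB
  exact Groth.Agent.Lib.helper6.SerreConvE.regular_of_flat_local A B

/-- (d) ⇒ (a) -/
theorem three_imp_one (hA : IsRegularLocalRing A)
    (h0 : IsRegularLocalRing (B ⧸ (maximalIdeal A).map (algebraMap A B)))
    (hflat : Module.Flat A B) :
    (maximalIdeal B).spanFinrank = (maximalIdeal A).spanFinrank +
      (maximalIdeal (B ⧸ (maximalIdeal A).map (algebraMap A B))).spanFinrank := by
  have hB := three_imp A B hA h0 hflat
  obtain ⟨a, ha⟩ := Groth.Agent.Lib.helper6.SkFib.exists_nat_dim A
  obtain ⟨b, hb⟩ := Groth.Agent.Lib.helper6.SkFib.exists_nat_dim B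
  obtain ⟨c, hc⟩ := Groth.Agent.Lib.helper6.SkFib.exists_nat_dim
    (B ⧸ (maximalIdeal A).map (algebraMap A B))
  have hdim' := dim_eq_of_flat (A := A) (B := B)
  rw [ha, hb, hc] at hdim'
  have hdim'' : b = a + c := by exact_mod_cast hdim'
  have hA' := (regular_iff_nat A a ha).1 hA
  have h0' := (regular_iff_nat _ c hc).1 h0
  have hB' := (regular_iff_nat B b hb).1 hB
  omega

end Groth.Agent.Lib.helper17.RegLocalHom
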