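import Mathlib
import Groth.Agent.Lib.helper17.NoethObj

/-!
# The lattice of subobjects in an abelian category

* `exists_refinement_of_sup_factors`: generalized elements of `x ⊔ y` are sums, up to refinement
* `instIsModularLatticeSubobject`: `Subobject X` is a modular lattice
* `secondIso`: `(x ⊔ y)/x ≅ y/(x ⊓ y)`
* `covBy_iff_simple_cokernel`
-/

open CategoryTheory CategoryTheory.Limits
open Groth.Agent.Lib.helper17.NoethObj

namespace Groth.Agent.Lib.helper17.SubobjLattice

universe v u

variable {C : Type u} [Category.{v} C] [Abelian C]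

/-- A generalized element of `x ⊔ y` is, up to refinement, the sum of an element of `x` and
an element of `y`. -/
lemma exists_refinement_of_sup_factors {X W : C} (x y : Subobject X) (f : W ⟶ X)
    (hf : (x ⊔ y).Factors f) :
    ∃ (W' : C) (π : W' ⟶ W) (_ : Epi π) (u : W' ⟶ (x : C)) (v : W' ⟶ (y : C)),
      π ≫ f = u ≫ x.arrow + v ≫ y.arrow := by
  obtain ⟨d, hd⟩ : ∃ d : (x : C) ⊞ (y : C) ⟶ X, d = biprod.desc x.arrow y.arrow := ⟨_, rfl⟩
  have hx : x ≤ imageSubobject d := by
    apply le_of_factors_arrow
    have : x.arrow = biprod.inl ≫ d := by rw [hd]; simp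
    rw [this]
    exact Subobject.factors_of_factors_right _
      ((Subobject.factors_iff _ _).2 ⟨factorThruImageSubobject d, imageSubobject_arrow_comp d⟩)
  have hy : y ≤ imageSubobject d := by
    apply le_of_factors_arrow
    have : y.arrow = biprod.inr ≫ d := by rw [hd]; simp
    rw [this]
    exact Subobject.factors_of_factors_right _
      ((Subobject.factors_iff _ _).2 ⟨factorThruImageSubobject d, imageSubobject_arrow_comp d⟩)
  have hf' : (imageSubobject d).Factors f := Subobject.factors_of_le f (sup_le hx hy) hf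
  obtain ⟨W', π, hπ, g, hg⟩ := surjective_up_to_refinements_of_epi
    (factorThruImageSubobject d) ((imageSubobject d).factorThru f hf')
  refine ⟨W', π, hπ, g ≫ biprod.fst, g ≫ biprod.snd, ?_⟩
  have h1 : π ≫ f = g ≫ d := by
    have := congrArg (fun k => k ≫ (imageSubobject d).arrow) hg
    simpa using this
  rw [h1, hd]
  simp only [Category.assoc, ← Preadditive.comp_add]
  congr 1
  apply biprod.hom_ext' <;> simp

instance instIsModularLatticeSubobject (X : C) : IsModularLattice (Subobject X) where
  sup_inf_le_assoc_of_le := by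
    intro x y z hxz
    apply le_of_factors_arrow
    obtain ⟨T, hT⟩ : ∃ T, T = (x ⊔ y) ⊓ z := ⟨_, rfl⟩
    rw [← hT]
    have hT1 : T ≤ x ⊔ y := hT ▸ inf_le_left
    have hT2 : T ≤ z := hT ▸ inf_le_right
    obtain ⟨W', π, hπ, u, v, huv⟩ := exists_refinement_of_sup_factors x y T.arrow
      (factors_arrow_of_le hT1)
    have := hπ
    apply factors_of_epi_comp _ π
    rw [huv]
    apply Subobject.factors_add
    · exact Subobject.factors_of_le _ le_sup_left (Subobject.factors_comp_arrow _)
    · apply Subobject.factors_of_le _ le_sup_right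
      rw [Subobject.inf_factors]
      refine ⟨Subobject.factors_comp_arrow _, ?_⟩
      have h2 : v ≫ y.arrow = π ≫ T.arrow - u ≫ x.arrow := by rw [huv]; abel
      have h3 : π ≫ T.arrow - u ≫ x.arrow
          = (π ≫ Subobject.ofLE T z hT2 - u ≫ Subobject.ofLE x z hxz) ≫ z.arrow := by
        simp [Preadditive.sub_comp]
      rw [h2, h3]
      exact Subobject.factors_comp_arrow _

/-- A morphism to `b` killed by the cokernel projection of `a ≤ b` factors through `a`. -/
lemma exists_lift_of_comp_cokernel_π_eq_zero {X W : C} {a b : Subobject X} (h : a ≤ b)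
    (g : W ⟶ (b : C)) (hg : g ≫ cokernel.π (Subobject.ofLE a b h) = 0) :
    ∃ l : W ⟶ (a : C), l ≫ Subobject.ofLE a b h = g :=
  ⟨Abelian.monoLift (Subobject.ofLE a b h) g hg, Abelian.monoLift_comp _ _ _⟩

/-- The comparison map `y/(x ⊓ y) ⟶ (x ⊔ y)/x`. -/
noncomputable def secondIsoHom {X : C} (x y : Subobject X) :
    cokernel (Subobject.ofLE (x ⊓ y) y inf_le_right) ⟶
      cokernel (Subobject.ofLE x (x ⊔ y) le_sup_left) :=
  cokernel.map _ _ (Subobject.ofLE (x ⊓ y) x inf_le_left) (Subobject.ofLE y (x ⊔ y) le_sup_right)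
    (by rw [Subobject.ofLE_comp_ofLE, Subobject.ofLE_comp_ofLE])

lemma epi_ofLE_comp_cokernel_π {X : C} (x y : Subobject X) :
    Epi (Subobject.ofLE y (x ⊔ y) le_sup_right ≫
      cokernel.π (Subobject.ofLE x (x ⊔ y) le_sup_left)) := by
  rw [epi_iff_surjective_up_to_refinements]
  intro W g
  obtain ⟨W₁, π₁, hπ₁, g₁, hg₁⟩ := surjective_up_to_refinements_of_epi
    (cokernel.π (Subobject.ofLE x (x ⊔ y) le_sup_left)) g
  obtain ⟨W₂, π₂, hπ₂, u, v, huv⟩ := exists_refinement_of_sup_factors x y
    (g₁ ≫ (x ⊔ y).arrow) (Subobject.factors_comp_arrow _)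
  have := hπ₁
  have := hπ₂
  refine ⟨W₂, π₂ ≫ π₁, inferInstance, v, ?_⟩
  have h1 : π₂ ≫ g₁ = u ≫ Subobject.ofLE x (x ⊔ y) le_sup_left +
      v ≫ Subobject.ofLE y (x ⊔ y) le_sup_right := by
    rw [← cancel_mono (x ⊔ y).arrow]
    simp only [Category.assoc, Preadditive.add_comp, Subobject.ofLE_arrow]
    exact huv
  rw [Category.assoc, hg₁, ← Category.assoc, h1, Preadditive.add_comp, Category.assoc,
    cokernel.condition, comp_zero, zero_add, Category.assoc]

instance {X : C} (x y : Subobject X) : Epi (secondIsoHom x y) := by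
  have h : cokernel.π (Subobject.ofLE (x ⊓ y) y inf_le_right) ≫ secondIsoHom x y
      = Subobject.ofLE y (x ⊔ y) le_sup_right ≫
        cokernel.π (Subobject.ofLE x (x ⊔ y) le_sup_left) := by
    simp [secondIsoHom]
  have := epi_ofLE_comp_cokernel_π x y
  rw [← h] at this
  exact epi_of_epi (cokernel.π (Subobject.ofLE (x ⊓ y) y inf_le_right)) _

instance {X : C} (x y : Subobject X) : Mono (secondIsoHom x y) := by
  apply Preadditive.mono_of_cancel_zero
  intro W g hg
  obtain ⟨W₁, π₁, hπ₁, g₁, hg₁⟩ := surjective_up_to_refinements_of_epi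
    (cokernel.π (Subobject.ofLE (x ⊓ y) y inf_le_right)) g
  have := hπ₁
  rw [← cancel_epi π₁, comp_zero, hg₁]
  have h : cokernel.π (Subobject.ofLE (x ⊓ y) y inf_le_right) ≫ secondIsoHom x y
      = Subobject.ofLE y (x ⊔ y) le_sup_right ≫
        cokernel.π (Subobject.ofLE x (x ⊔ y) le_sup_left) := by
    simp [secondIsoHom]
  have h1 : (g₁ ≫ Subobject.ofLE y (x ⊔ y) le_sup_right) ≫
      cokernel.π (Subobject.ofLE x (x ⊔ y) le_sup_left) = 0 := by
    rw [Category.assoc, ← h, ← Category.assoc, ← hg₁, Category.assoc, hg, comp_zero]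
  obtain ⟨l, hl⟩ := exists_lift_of_comp_cokernel_π_eq_zero _ _ h1
  have h2 : l ≫ x.arrow = g₁ ≫ y.arrow := by
    have := congrArg (fun k => k ≫ (x ⊔ y).arrow) hl
    simpa using this
  have h3 : (x ⊓ y).Factors (g₁ ≫ y.arrow) := by
    rw [Subobject.inf_factors]
    exact ⟨h2 ▸ Subobject.factors_comp_arrow _, Subobject.factors_comp_arrow _⟩
  have h4 : (x ⊓ y).factorThru _ h3 ≫ Subobject.ofLE (x ⊓ y) y inf_le_right = g₁ := by
    rw [← cancel_mono y.arrow, Category.assoc, Subobject.ofLE_arrow, Subobject.factorThru_arrow]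
  rw [← h4, Category.assoc, cokernel.condition, comp_zero]

/-- The second isomorphism theorem for subobjects in an abelian category. -/
noncomputable def secondIso {X : C} (x y : Subobject X) :
    cokernel (Subobject.ofLE (x ⊓ y) y inf_le_right) ≅
      cokernel (Subobject.ofLE x (x ⊔ y) le_sup_left) :=
  have : IsIso (secondIsoHom x y) := isIso_of_mono_of_epi _
  asIso (secondIsoHom x y)

/-- If the quotient `b/a` is simple then `a ⋖ b`. -/
lemma covBy_of_simple_cokernel {X : C} {a b : Subobject X} (h : a ≤ b)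
    [Simple (cokernel (Subobject.ofLE a b h))] : a ⋖ b := by
  obtain ⟨q, hq⟩ : ∃ q, q = cokernel.π (Subobject.ofLE a b h) := ⟨_, rfl⟩
  have hqepi : Epi q := hq ▸ inferInstance
  have hne : a ≠ b := by
    rintro rfl
    have h1 : IsIso (Subobject.ofLE a a h) := by
      have : Subobject.ofLE a a h = 𝟙 _ := by
        rw [← cancel_mono a.arrow, Subobject.ofLE_arrow, Category.id_comp]
      rw [this]; infer_instance
    have h2 : q = 0 := by
      rw [← cancel_epi (Subobject.ofLE a a h), comp_zero, hq, cokernel.condition]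
    have h3 : 𝟙 (cokernel (Subobject.ofLE a a h)) = 0 := by
      rw [← cancel_epi q, comp_zero, Category.comp_id, h2]
    exact id_nonzero _ h3
  refine ⟨lt_of_le_of_ne h hne, ?_⟩
  intro c hac hcb
  have hS := eq_bot_or_eq_top (imageSubobject (Subobject.ofLE c b hcb.le ≫ q))
  rcases hS with hS | hS
  · -- the image is zero: `c ≤ a`
    have h0 : Subobject.ofLE c b hcb.le ≫ q = 0 := by
      have hz : ∀ S : Subobject (cokernel (Subobject.ofLE a b h)), S = ⊥ → S.arrow = 0 := by
        rintro S rfl; exact Subobject.bot_arrow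
      rw [← imageSubobject_arrow_comp (Subobject.ofLE c b hcb.le ≫ q), hz _ hS, comp_zero]
    obtain ⟨l, hl⟩ := exists_lift_of_comp_cokernel_π_eq_zero h _ (hq ▸ h0)
    have : c ≤ a := Subobject.le_of_comm l (by
      have := congrArg (fun k => k ≫ b.arrow) hl
      simpa using this)
    exact not_le_of_gt hac this
  · -- the image is everything: `b ≤ c`
    have hepi : Epi (Subobject.ofLE c b hcb.le ≫ q) := by
      have h1 : IsIso (imageSubobject (Subobject.ofLE c b hcb.le ≫ q)).arrow := by
        rw [hS]; infer_instance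
      rw [← imageSubobject_arrow_comp (Subobject.ofLE c b hcb.le ≫ q)]
      infer_instance
    obtain ⟨W, π, hπ, g, hg⟩ := surjective_up_to_refinements_of_epi
      (Subobject.ofLE c b hcb.le ≫ q) q
    have := hπ
    have h1 : (π - g ≫ Subobject.ofLE c b hcb.le) ≫ q = 0 := by
      rw [Preadditive.sub_comp, Category.assoc, ← hg, sub_self]
    obtain ⟨l, hl⟩ := exists_lift_of_comp_cokernel_π_eq_zero h _ (hq ▸ h1)
    have h2 : π ≫ b.arrow = (g + l ≫ Subobject.ofLE a c hac.le) ≫ c.arrow := by
      have : π = g ≫ Subobject.ofLE c b hcb.le + l ≫ Subobject.ofLE a b h := by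
        rw [hl]; abel
      rw [this]
      simp [Preadditive.add_comp]
    have h3 : c.Factors b.arrow := by
      apply factors_of_epi_comp c π
      rw [h2]
      exact Subobject.factors_comp_arrow _
    exact not_le_of_gt hcb (le_of_factors_arrow h3)

/-- If `a ⋖ b` then the quotient `b/a` is simple. -/
lemma simple_cokernel_of_covBy {X : C} {a b : Subobject X} (hab : a ⋖ b) :
    Simple (cokernel (Subobject.ofLE a b hab.le)) := by
  obtain ⟨q, hq⟩ : ∃ q, q = cokernel.π (Subobject.ofLE a b hab.le) := ⟨_, rfl⟩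
  have hqepi : Epi q := hq ▸ inferInstance
  have hcond : Subobject.ofLE a b hab.le ≫ q = 0 := hq ▸ cokernel.condition _
  have key : ∀ S : Subobject (cokernel (Subobject.ofLE a b hab.le)), S = ⊥ ∨ S = ⊤ := by
    intro S
    have hpb := Subobject.isPullback q S
    have hπepi : Epi (Subobject.pullbackπ q S) :=
      Abelian.epi_fst_of_isLimit S.arrow q hpb.isLimit
    obtain ⟨c, hc⟩ : ∃ c, c = Subobject.mk (((Subobject.pullback q).obj S).arrow ≫ b.arrow) :=
      ⟨_, rfl⟩
    have hcb : c ≤ b := by
      rw [hc]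
      exact Subobject.mk_le_of_comm ((Subobject.pullback q).obj S).arrow rfl
    have hac : a ≤ c := by
      have h1 : ((Subobject.pullback q).obj S).Factors (Subobject.ofLE a b hab.le) := by
        rw [pullback_factors_iff, hcond]
        exact Subobject.factors_zero
      rw [hc]
      refine Subobject.le_mk_of_comm (((Subobject.pullback q).obj S).factorThru _ h1) ?_
      rw [← Category.assoc, Subobject.factorThru_arrow, Subobject.ofLE_arrow]
    rcases hab.eq_or_eq hac hcb with h | h
    · -- `c = a`: `S = ⊥`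
      left
      have hle : Subobject.mk (((Subobject.pullback q).obj S).arrow ≫ b.arrow)
          ≤ Subobject.mk a.arrow := by rw [Subobject.mk_arrow, ← hc, h]
      have h2 : ((Subobject.pullback q).obj S).arrow ≫ q = 0 := by
        have : ((Subobject.pullback q).obj S).arrow
            = Subobject.ofMkLEMk _ _ hle ≫ Subobject.ofLE a b hab.le := by
          rw [← cancel_mono b.arrow, Category.assoc, Subobject.ofLE_arrow,
            Subobject.ofMkLEMk_comp]
        rw [this, Category.assoc, hcond, comp_zero]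
      have h3 : S.arrow = 0 := by
        rw [← cancel_epi (Subobject.pullbackπ q S), comp_zero, hpb.w, h2]
      rw [← Subobject.mk_arrow S, Subobject.mk_eq_bot_iff_zero]
      exact h3
    · -- `c = b`: `S = ⊤`
      right
      have hle : Subobject.mk b.arrow
          ≤ Subobject.mk (((Subobject.pullback q).obj S).arrow ≫ b.arrow) := by
        rw [Subobject.mk_arrow, ← hc, h]
      have h1 : Subobject.ofMkLEMk _ _ hle ≫ ((Subobject.pullback q).obj S).arrow = 𝟙 _ := by
        rw [← cancel_mono b.arrow, Category.assoc, Subobject.ofMkLEMk_comp, Category.id_comp]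
      have h2 : S.Factors q := by
        have : q = (Subobject.ofMkLEMk _ _ hle ≫ Subobject.pullbackπ q S) ≫ S.arrow := by
          rw [Category.assoc, hpb.w, ← Category.assoc, h1, Category.id_comp]
        rw [this]
        exact Subobject.factors_comp_arrow _
      have h3 : Epi S.arrow := by
        have : Epi (S.factorThru q h2 ≫ S.arrow) := by
          rw [Subobject.factorThru_arrow]; exact hqepi
        exact epi_of_epi (S.factorThru q h2) _
      have : IsIso S.arrow := isIso_of_mono_of_epi _
      exact Subobject.eq_top_of_isIso_arrow _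
  have hnt : Nontrivial (Subobject (cokernel (Subobject.ofLE a b hab.le))) := by
    refine ⟨⟨⊥, ⊤, ?_⟩⟩
    intro hbt
    have h1 : (⊤ : Subobject (cokernel (Subobject.ofLE a b hab.le))).arrow = 0 := by
      rw [← hbt]; exact Subobject.bot_arrow
    have h2 : q = 0 := by
      have h3 := Subobject.factorThru_arrow ⊤ q (Subobject.top_factors q)
      rw [h1, comp_zero] at h3
      exact h3.symm
    obtain ⟨l, hl⟩ := exists_lift_of_comp_cokernel_π_eq_zero hab.le (𝟙 _)
      (by rw [Category.id_comp, ← hq, h2])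
    have : b ≤ a := Subobject.le_of_comm l (by
      have := congrArg (fun k => k ≫ b.arrow) hl
      simpa using this)
    exact not_le_of_gt hab.lt this
  have : IsSimpleOrder (Subobject (cokernel (Subobject.ofLE a b hab.le))) :=
    { eq_bot_or_eq_top := key }
  exact simple_of_isSimpleOrder_subobject _

/-- Transport of quotients along equalities of subobjects. -/
noncomputable def cokernelOfLEIsoOfEq {X : C} {a a' b b' : Subobject X} (ha : a = a')
    (hb : b = b') (h : a ≤ b) (h' : a' ≤ b') :
    cokernel (Subobject.ofLE a b h) ≅ cokernel (Subobject.ofLE a' b' h') := by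
  subst ha hb
  exact Iso.refl _

/-- The "isomorphic quotients" relation on pairs of subobjects (total version). -/
def QuotIso {X : C} (p q : Subobject X × Subobject X) : Prop :=
  Nonempty (cokernel (Subobject.ofLE (p.1 ⊓ p.2) p.2 inf_le_right) ≅
    cokernel (Subobject.ofLE (q.1 ⊓ q.2) q.2 inf_le_right))

lemma quotIso_iff_of_le {X : C} {a b c d : Subobject X} (h₁ : a ≤ b) (h₂ : c ≤ d) :
    QuotIso (a, b) (c, d) ↔
      Nonempty (cokernel (Subobject.ofLE a b h₁) ≅ cokernel (Subobject.ofLE c d h₂)) := by
  constructor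
  · rintro ⟨e⟩
    exact ⟨(cokernelOfLEIsoOfEq (inf_eq_left.2 h₁) rfl _ _).symm ≪≫ e ≪≫
      cokernelOfLEIsoOfEq (inf_eq_left.2 h₂) rfl _ _⟩
  · rintro ⟨e⟩
    exact ⟨cokernelOfLEIsoOfEq (inf_eq_left.2 h₁) rfl _ _ ≪≫ e ≪≫
      (cokernelOfLEIsoOfEq (inf_eq_left.2 h₂) rfl _ _).symm⟩

/-- The Jordan–Hölder equivalence on pairs implies isomorphic quotients. -/
lemma quotIso_of_iso {X : C} {p q : Subobject X × Subobject X}
    (h : JordanHolderLattice.Iso p q) : QuotIso p q := by
  refine JordanHolderLattice.Iso.rel QuotIso ⟨Iso.refl _⟩ (fun ⟨e⟩ => ⟨e.symm⟩)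
    (fun ⟨e⟩ ⟨e'⟩ => ⟨e ≪≫ e'⟩) ?_ h
  intro x y _
  rw [quotIso_iff_of_le (le_sup_left : x ≤ x ⊔ y) (inf_le_right : x ⊓ y ≤ y)]
  exact ⟨(secondIso x y).symm⟩

open scoped IsSimpleOrder in
lemma isNoetherianObject_of_simple (Y : C) [Simple Y] : IsNoetherianObject Y := by
  rw [isNoetherianObject_iff_wellFoundedGT]
  infer_instance

open scoped IsSimpleOrder in
lemma isArtinianObject_of_simple (Y : C) [Simple Y] : IsArtinianObject Y := by
  rw [isArtinianObject_iff_wellFoundedLT]
  infer_instance

/-- If `a ≤ b`, `a` is noetherian and `b/a` is simple then `b` is noetherian. -/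
lemma isNoetherianObject_of_simple_cokernel {X : C} {a b : Subobject X} (h : a ≤ b)
    [IsNoetherianObject (a : C)] [Simple (cokernel (Subobject.ofLE a b h))] :
    IsNoetherianObject (b : C) := by
  have := isNoetherianObject_of_simple (cokernel (Subobject.ofLE a b h))
  exact isNoetherianObject_of_exact (Subobject.ofLE a b h) (cokernel.π _)
    (fun d hd => exists_lift_of_comp_cokernel_π_eq_zero h d hd)

/-- If `a ≤ b`, `a` is artinian and `b/a` is simple then `b` is artinian. -/
lemma isArtinianObject_of_simple_cokernel {X : C} {a b : Subobject X} (h : a ≤ b)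
    [IsArtinianObject (a : C)] [Simple (cokernel (Subobject.ofLE a b h))] :
    IsArtinianObject (b : C) := by
  have := isArtinianObject_of_simple (cokernel (Subobject.ofLE a b h))
  exact isArtinianObject_of_exact (Subobject.ofLE a b h) (cokernel.π _)
    (fun d hd => exists_lift_of_comp_cokernel_π_eq_zero h d hd)

lemma isZero_of_eq_bot {X : C} (S : Subobject X) (h : S = ⊥) : IsZero (S : C) := by
  subst h
  exact IsZero.of_iso (isZero_zero C) Subobject.botCoeIsoZero

end Groth.Agent.Lib.helper17.SubobjLattice
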