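import Mathlib

/-!
# The heart of a t-structure is abelian (helper17)
-/

namespace Groth.Agent.Lib.helper17.THeart

open CategoryTheory Limits Pretriangulated Triangulated ZeroObject

universe v u v' u'

variable {C : Type u} [Category.{v} C] [Preadditive C] [HasZeroObject C] [HasShift C ℤ]
  [∀ n : ℤ, (shiftFunctor C n).Additive] [Pretriangulated C] (t : TStructure C)
  {H : Type u'} [Category.{v'} H] [Preadditive H] [t.Heart H]

lemma hι ⦃X Y : H⦄ ⦃n : ℤ⦄ (f : t.ιHeart.obj X ⟶ (t.ιHeart.obj Y)⟦n⟧) (hn : n < 0) : f = 0 := by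
  have : t.IsGE ((t.ιHeart.obj Y)⟦n⟧) (-n) := t.isGE_shift _ 0 n (-n)
  exact t.zero f 0 (-n)

lemma exists_obj_iso (Z : C) (hZ : t.heart Z) : ∃ (X : H), Nonempty (t.ιHeart.obj X ≅ Z) := by
  rw [← t.essImage_ιHeart H] at hZ
  obtain ⟨X, ⟨e⟩⟩ := hZ
  exact ⟨X, ⟨e⟩⟩

lemma heart_of_isZero {Z : C} (hZ : IsZero Z) : t.heart Z := by
  rw [t.mem_heart_iff]
  exact ⟨t.isLE_of_isZero hZ 0, t.isGE_of_isZero hZ 0⟩

include t in
lemma hasZeroObject : HasZeroObject H := by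
  obtain ⟨X, ⟨e⟩⟩ := exists_obj_iso (H := H) t (0 : C) (heart_of_isZero t (isZero_zero C))
  refine ⟨X, ?_⟩
  rw [IsZero.iff_id_eq_zero]
  apply t.ιHeart.map_injective
  rw [CategoryTheory.Functor.map_id, CategoryTheory.Functor.map_zero]
  exact (IsZero.of_iso (isZero_zero C) e).eq_of_src _ _

lemma heart_biprod (X Y : C) (hX : t.heart X) (hY : t.heart Y) : t.heart (X ⊞ Y) := by
  rw [t.mem_heart_iff] at hX hY ⊢
  obtain ⟨hX1, hX2⟩ := hX
  obtain ⟨hY1, hY2⟩ := hY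
  exact ⟨t.isLE₂ _ (binaryBiproductTriangle_distinguished X Y) 0 hX1 hY1,
    t.isGE₂ _ (binaryBiproductTriangle_distinguished X Y) 0 hX2 hY2⟩

include t in
lemma hasBinaryBiproducts : HasBinaryBiproducts H := by
  refine ⟨fun X Y => ?_⟩
  obtain ⟨Z, ⟨e⟩⟩ := exists_obj_iso (H := H) t (t.ιHeart.obj X ⊞ t.ιHeart.obj Y)
    (heart_biprod t _ _ (t.ιHeart_obj_mem X) (t.ιHeart_obj_mem Y))
  let b : BinaryBicone X Y :=
    { pt := Z
      fst := t.ιHeart.preimage (e.hom ≫ biprod.fst)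
      snd := t.ιHeart.preimage (e.hom ≫ biprod.snd)
      inl := t.ιHeart.preimage (biprod.inl ≫ e.inv)
      inr := t.ιHeart.preimage (biprod.inr ≫ e.inv)
      inl_fst := t.ιHeart.map_injective (by simp)
      inl_snd := t.ιHeart.map_injective (by simp)
      inr_fst := t.ιHeart.map_injective (by simp)
      inr_snd := t.ιHeart.map_injective (by simp) }
  refine HasBinaryBiproduct.mk ⟨b, isBinaryBilimitOfTotal b ?_⟩
  apply t.ιHeart.map_injective
  simp only [b, Functor.map_add, Functor.map_comp, Functor.map_preimage, CategoryTheory.Functor.map_id]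
  rw [← cancel_epi e.inv, ← cancel_mono e.hom]
  simp only [Preadditive.comp_add, Preadditive.add_comp, Category.assoc, Iso.inv_hom_id,
    Iso.inv_hom_id_assoc, Category.comp_id, Category.id_comp]
  simp

include t in
lemma hasFiniteProducts : HasFiniteProducts H := by
  have := hasZeroObject (H := H) t
  have := hasBinaryBiproducts (H := H) t
  exact hasFiniteProducts_of_has_binary_and_terminal


section Admissible

variable [IsTriangulated C]

/-- the cone of a morphism in the heart lies in `[-1, 0]`. -/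
lemma cone_isLE {X₁ X₂ : H} (f₁ : X₁ ⟶ X₂) {X₃ : C} (f₂ : t.ιHeart.obj X₂ ⟶ X₃)
    (f₃ : X₃ ⟶ (t.ιHeart.obj X₁)⟦(1 : ℤ)⟧)
    (hT : Triangle.mk (t.ιHeart.map f₁) f₂ f₃ ∈ distTriang C) : t.IsLE X₃ 0 := by
  have h1 : t.IsLE ((t.ιHeart.obj X₁)⟦(1 : ℤ)⟧) (-1) := t.isLE_shift _ 0 1 (-1)
  have h2 : t.IsLE ((t.ιHeart.obj X₁)⟦(1 : ℤ)⟧) 0 := t.isLE_of_le _ (-1) 0
  exact t.isLE₂ _ (rot_of_distTriang _ hT) 0 (by change t.IsLE (t.ιHeart.obj X₂) 0; infer_instance) h2

lemma cone_isGE {X₁ X₂ : H} (f₁ : X₁ ⟶ X₂) {X₃ : C} (f₂ : t.ιHeart.obj X₂ ⟶ X₃)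
    (f₃ : X₃ ⟶ (t.ιHeart.obj X₁)⟦(1 : ℤ)⟧)
    (hT : Triangle.mk (t.ιHeart.map f₁) f₂ f₃ ∈ distTriang C) : t.IsGE X₃ (-1) := by
  have h1 : t.IsGE ((t.ιHeart.obj X₁)⟦(1 : ℤ)⟧) (-1) := t.isGE_shift _ 0 1 (-1)
  have h2 : t.IsGE (t.ιHeart.obj X₂) (-1) := t.isGE_of_ge _ (-1) 0
  exact t.isGE₂ _ (rot_of_distTriang _ hT) (-1) h2 h1

set_option backward.defeqAttrib.useBackward true in
set_option backward.isDefEq.respectTransparency false in
/-- An object in `[-1,0]` sits in a distinguished triangle `(ι K)⟦1⟧ ⟶ X ⟶ ι Q ⟶`. -/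
lemma exists_KQ (X₃ : C) [t.IsLE X₃ 0] [t.IsGE X₃ (-1)] :
    ∃ (K Q : H) (α : (t.ιHeart.obj K)⟦(1 : ℤ)⟧ ⟶ X₃) (β : X₃ ⟶ t.ιHeart.obj Q)
      (γ : t.ιHeart.obj Q ⟶ (t.ιHeart.obj K)⟦(1 : ℤ)⟧⟦(1 : ℤ)⟧),
      Triangle.mk α β γ ∈ distTriang C := by
  have hT' := t.triangleLEGE_distinguished (-1) 0 (by lia) X₃
  have hK : t.heart (((t.truncLE (-1)).obj X₃)⟦(-1 : ℤ)⟧) := by
    rw [t.mem_heart_iff]
    exact ⟨t.isLE_shift _ (-1) (-1) 0, t.isGE_shift _ (-1) (-1) 0⟩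
  have hQ : t.heart ((t.truncGE 0).obj X₃) := by
    rw [t.mem_heart_iff]
    exact ⟨inferInstance, inferInstance⟩
  obtain ⟨K, ⟨eK⟩⟩ := exists_obj_iso (H := H) t _ hK
  obtain ⟨Q, ⟨eQ⟩⟩ := exists_obj_iso (H := H) t _ hQ
  let eK' : (t.ιHeart.obj K)⟦(1 : ℤ)⟧ ≅ (t.truncLE (-1)).obj X₃ :=
    (shiftFunctor C (1 : ℤ)).mapIso eK ≪≫ (shiftEquiv C (1 : ℤ)).counitIso.app _
  refine ⟨K, Q, eK'.hom ≫ (t.truncLEι (-1)).app X₃, (t.truncGEπ 0).app X₃ ≫ eQ.inv,
    eQ.hom ≫ (t.truncGEδLE (-1) 0 (by lia)).app X₃ ≫ (eK'.inv)⟦(1 : ℤ)⟧', ?_⟩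
  refine isomorphic_distinguished _ hT' _ ?_
  refine Triangle.isoMk _ _ eK' (Iso.refl _) eQ ?_ ?_ ?_
  · dsimp; simp
  · dsimp; simp
  · dsimp; simp

lemma admissible :
    AbelianSubcategory.admissibleMorphism (t.ιHeart (H := H)) = ⊤ := by
  ext X₁ X₂ f₁
  simp only [MorphismProperty.top_apply, iff_true]
  intro X₃ f₂ f₃ hT
  have := cone_isLE t f₁ f₂ f₃ hT
  have := cone_isGE t f₁ f₂ f₃ hT
  exact exists_KQ t X₃

/-- The heart of a t-structure is abelian. -/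
noncomputable def abelian : Abelian H := by
  have := hasFiniteProducts (H := H) t
  exact AbelianSubcategory.abelian (t.ιHeart (H := H)) (hι t) (admissible t)

end Admissible


section ShortExact

variable {C : Type u} [Category.{v} C] [Preadditive C] [HasZeroObject C] [HasShift C ℤ]
  [∀ n : ℤ, (shiftFunctor C n).Additive] [Pretriangulated C] [IsTriangulated C] (t : TStructure C)
  {H : Type u'} [Category.{v'} H] [Abelian H] [t.Heart H]

set_option backward.defeqAttrib.useBackward true in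
set_option backward.isDefEq.respectTransparency false in
lemma exists_distinguished_of_shortExact {X Y Z : H} (u : X ⟶ Y) (v : Y ⟶ Z) (huv : u ≫ v = 0)
    (hS : (ShortComplex.mk u v huv).ShortExact) :
    ∃ (w : t.ιHeart.obj Z ⟶ (t.ιHeart.obj X)⟦(1 : ℤ)⟧),
        Triangle.mk (t.ιHeart.map u) (t.ιHeart.map v) w ∈ distTriang C := by
  have hA := admissible (H := H) t
  have hι := hι (H := H) t
  have : Epi v := hS.epi_g
  obtain ⟨X₁, i, δ, hT⟩ := AbelianSubcategory.exists_distinguished_triangle_of_epi hι hA v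
  have hi := AbelianSubcategory.isLimitKernelForkOfDistTriang hι i v δ hT
  have hu : IsLimit (KernelFork.ofι u huv) := hS.fIsKernel
  let e : X ≅ X₁ := IsLimit.conePointUniqueUpToIso hu hi
  have he : e.hom ≫ i = u := IsLimit.conePointUniqueUpToIso_hom_comp hu hi WalkingParallelPair.zero
  refine ⟨δ ≫ (t.ιHeart.map e.inv)⟦(1 : ℤ)⟧', ?_⟩
  refine isomorphic_distinguished _ hT _ ?_
  refine Triangle.isoMk _ _ (t.ιHeart.mapIso e) (Iso.refl _) (Iso.refl _) ?_ ?_ ?_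
  · dsimp
    rw [← Functor.map_comp, he, Category.comp_id]
  · dsimp
    simp
  · dsimp
    rw [Category.id_comp, Category.assoc, ← Functor.map_comp, ← Functor.map_comp, e.inv_hom_id]
    simp

set_option backward.defeqAttrib.useBackward true in
set_option backward.isDefEq.respectTransparency false in
lemma shortExact_of_distinguished {X Y Z : H} (u : X ⟶ Y) (v : Y ⟶ Z)
    (w : t.ιHeart.obj Z ⟶ (t.ιHeart.obj X)⟦(1 : ℤ)⟧)
    (hT : Triangle.mk (t.ιHeart.map u) (t.ιHeart.map v) w ∈ distTriang C) :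
    ∃ huv : u ≫ v = 0, (ShortComplex.mk u v huv).ShortExact := by
  have hι := hι (H := H) t
  have hi := AbelianSubcategory.isLimitKernelForkOfDistTriang hι u v w hT
  have hc := AbelianSubcategory.isColimitCokernelCoforkOfDistTriang hι u v w hT
  have huv : u ≫ v = 0 := t.ιHeart.map_injective (by
    have := comp_distTriang_mor_zero₁₂ _ hT
    dsimp at this
    rw [Functor.map_comp, this, Functor.map_zero])
  refine ⟨huv, ?_⟩
  have hex : (ShortComplex.mk u v huv).Exact := ShortComplex.exact_of_f_is_kernel _ hi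
  have : Mono u := mono_of_isLimit_fork hi
  have : Epi v := epi_of_isColimit_cofork hc
  exact { exact := hex }

end ShortExact

end Groth.Agent.Lib.helper17.THeart
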