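import Mathlib
import Groth.Agent.Lib.helper17.THeart

/-!
# A triangulated category with a bounded t-structure is idempotent complete (helper17)
-/

namespace Groth.Agent.Lib.helper17.TKaroubi

open CategoryTheory Limits Pretriangulated Triangulated Preadditive

universe v u

lemma ring_conj {R : Type*} [Ring R] (e f : R) (he : e * e = e) (hf : f * f = f)
    (hd : (e - f) * (e - f) = 0) : ∃ u v : R, u * v = 1 ∧ v * u = 1 ∧ u * e = f * u := by
  have hs : e * f + f * e = e + f := by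
    have : (e - f) * (e - f) = e * e - e * f - f * e + f * f := by noncomm_ring
    rw [this, he, hf] at hd
    have h2 : e * f + f * e = e + f - (e - e * f - f * e + f) := by abel
    rw [h2, hd, sub_zero]
  have hef : e * f = e + f - f * e := by rw [← hs]; abel
  have he' : ∀ x, e * (e * x) = e * x := fun x => by rw [← mul_assoc, he]
  have hf' : ∀ x, f * (f * x) = f * x := fun x => by rw [← mul_assoc, hf]
  have hfef : f * (e * f) = f := by
    rw [hef]; simp only [mul_add, mul_sub, hf, hf']; abel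
  have hefe : e * (f * e) = e := by
    rw [← mul_assoc, hef]; simp only [add_mul, sub_mul, he, mul_assoc]; abel
  have hfef' : ∀ x, f * (e * (f * x)) = f * x := fun x => by
    rw [← mul_assoc e, ← mul_assoc f, hfef]
  have hefe' : ∀ x, e * (f * (e * x)) = e * x := fun x => by
    rw [← mul_assoc f, ← mul_assoc e, hefe]
  refine ⟨f * e + (1 - f) * (1 - e), e * f + (1 - e) * (1 - f), ?_, ?_, ?_⟩
  · simp only [mul_add, add_mul, mul_sub, sub_mul, mul_one, one_mul, mul_assoc, he, hf, he', hf',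
      hfef, hefe, hfef', hefe']
    rw [hef]
    abel
  · simp only [mul_add, add_mul, mul_sub, sub_mul, mul_one, one_mul, mul_assoc, he, hf, he', hf',
      hfef, hefe, hfef', hefe']
    rw [hef]
    abel
  · simp only [mul_add, add_mul, mul_sub, sub_mul, mul_one, one_mul, mul_assoc, he, hf, he', hf',
      hfef, hefe, hfef', hefe']
    abel

section

variable {C : Type u} [Category.{v} C] [Preadditive C]

/-- `Splits e`: the endomorphism `e` factors as a retraction followed by a section. -/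
def Splits {X : C} (e : X ⟶ X) : Prop :=
  ∃ (Y : C) (i : Y ⟶ X) (r : X ⟶ Y), i ≫ r = 𝟙 Y ∧ r ≫ i = e

lemma splits_of_sq_zero {X : C} (e e₀ : X ⟶ X) (he : e ≫ e = e) (he₀ : e₀ ≫ e₀ = e₀)
    (hd : (e - e₀) ≫ (e - e₀) = 0) (h₀ : Splits e₀) : Splits e := by
  obtain ⟨Y, j, q, hjq, hqj⟩ := h₀
  obtain ⟨u, v, huv, hvu, hue⟩ := ring_conj (R := End X) e e₀ he he₀ hd
  have huv' : (v : X ⟶ X) ≫ u = 𝟙 X := huv
  have hvu' : (u : X ⟶ X) ≫ v = 𝟙 X := hvu
  have hue' : (e : X ⟶ X) ≫ u = u ≫ e₀ := hue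
  refine ⟨Y, j ≫ v, u ≫ q, ?_, ?_⟩
  · rw [Category.assoc, ← Category.assoc v, huv', Category.id_comp, hjq]
  · rw [Category.assoc, ← Category.assoc q, hqj, ← Category.assoc, ← hue', Category.assoc, hvu',
      Category.comp_id]

variable [HasZeroObject C] [HasShift C ℤ] [∀ n : ℤ, (shiftFunctor C n).Additive] [Pretriangulated C]

set_option backward.defeqAttrib.useBackward true in
set_option backward.isDefEq.respectTransparency false in
lemma splits_of_triangle (T : Triangle C) (hT : T ∈ distTriang C) (φ : T ⟶ T)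
    (h₂ : φ.hom₂ ≫ φ.hom₂ = φ.hom₂)
    (h₁ : Splits φ.hom₁) (h₃ : Splits φ.hom₃) : Splits φ.hom₂ := by
  obtain ⟨A₁, iA, rA, hA1, hA2⟩ := h₁
  obtain ⟨B₁, iB, rB, hB1, hB2⟩ := h₃
  let w₁ : B₁ ⟶ A₁⟦(1 : ℤ)⟧ := iB ≫ T.mor₃ ≫ rA⟦(1 : ℤ)⟧'
  obtain ⟨X₁, i₁, p₁, hT₁⟩ := distinguished_cocone_triangle₂ w₁
  have c3 := φ.comm₃
  have commj : w₁ ≫ iA⟦(1 : ℤ)⟧' = iB ≫ T.mor₃ := by
    dsimp [w₁]
    rw [Category.assoc, Category.assoc, ← Functor.map_comp, hA2, c3, ← hB2, Category.assoc,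
      reassoc_of% hB1]
  have commq : T.mor₃ ≫ rA⟦(1 : ℤ)⟧' = rB ≫ w₁ := by
    dsimp [w₁]
    rw [reassoc_of% hB2, ← reassoc_of% c3, ← Functor.map_comp, ← hA2, Category.assoc, hA1,
      Category.comp_id]
  obtain ⟨j, hj1, hj2⟩ : ∃ j : X₁ ⟶ T.obj₂, i₁ ≫ j = iA ≫ T.mor₁ ∧ p₁ ≫ iB = j ≫ T.mor₂ :=
    complete_distinguished_triangle_morphism₂ _ T hT₁ hT iA iB commj
  obtain ⟨q, hq1, hq2⟩ : ∃ q : T.obj₂ ⟶ X₁, T.mor₁ ≫ q = rA ≫ i₁ ∧ T.mor₂ ≫ rB = q ≫ p₁ :=
    complete_distinguished_triangle_morphism₂ T _ hT hT₁ rA rB commq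
  have hi₁θ : i₁ ≫ (j ≫ q) = i₁ := by
    rw [reassoc_of% hj1, hq1, reassoc_of% hA1]
  have hθp₁ : (j ≫ q) ≫ p₁ = p₁ := by
    rw [Category.assoc, ← hq2, ← reassoc_of% hj2, hB1, Category.comp_id]
  let ψ : Triangle.mk i₁ p₁ w₁ ⟶ Triangle.mk i₁ p₁ w₁ :=
    { hom₁ := 𝟙 _
      hom₂ := j ≫ q
      hom₃ := 𝟙 _
      comm₁ := by
        dsimp
        rw [hi₁θ, Category.id_comp]
      comm₂ := by
        dsimp
        rw [hθp₁, Category.comp_id]
      comm₃ := by simp }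
  have hθ : IsIso (j ≫ q) := isIso₂_of_isIso₁₃ ψ hT₁ hT₁ (by dsimp [ψ]; infer_instance)
    (by dsimp [ψ]; infer_instance)
  have hi₁θ' : i₁ ≫ inv (j ≫ q) = i₁ := by
    rw [IsIso.comp_inv_eq, hi₁θ]
  have hθp₁' : inv (j ≫ q) ≫ p₁ = p₁ := by
    rw [IsIso.inv_comp_eq, hθp₁]
  let q' : T.obj₂ ⟶ X₁ := q ≫ inv (j ≫ q)
  have hjq' : j ≫ q' = 𝟙 X₁ := by
    dsimp [q']
    rw [← Category.assoc, IsIso.hom_inv_id]
  let e₀ : T.obj₂ ⟶ T.obj₂ := q' ≫ j
  have he₀ : e₀ ≫ e₀ = e₀ := by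
    dsimp [e₀]
    rw [Category.assoc, reassoc_of% hjq']
  have h1 : T.mor₁ ≫ e₀ = φ.hom₁ ≫ T.mor₁ := by
    dsimp [e₀, q']
    simp only [Category.assoc]
    rw [reassoc_of% hq1, reassoc_of% hi₁θ', hj1, reassoc_of% hA2]
  have h2 : e₀ ≫ T.mor₂ = T.mor₂ ≫ φ.hom₃ := by
    dsimp [e₀, q']
    simp only [Category.assoc]
    rw [← hj2, reassoc_of% hθp₁', ← reassoc_of% hq2, hB2]
  have hd1 : T.mor₁ ≫ (φ.hom₂ - e₀) = 0 := by
    rw [comp_sub, h1, φ.comm₁, sub_self]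
  have hd2 : (φ.hom₂ - e₀) ≫ T.mor₂ = 0 := by
    rw [sub_comp, h2, ← φ.comm₂, sub_self]
  obtain ⟨d', hd'⟩ := Triangle.coyoneda_exact₂ T hT _ hd2
  have hd : (φ.hom₂ - e₀) ≫ (φ.hom₂ - e₀) = 0 := by
    calc (φ.hom₂ - e₀) ≫ (φ.hom₂ - e₀) = (d' ≫ T.mor₁) ≫ (φ.hom₂ - e₀) := by rw [← hd']
      _ = 0 := by rw [Category.assoc, hd1, comp_zero]
  exact splits_of_sq_zero φ.hom₂ e₀ h₂ he₀ hd ⟨X₁, j, q', hjq', rfl⟩

end


section FF

variable {C : Type u} [Category.{v} C] [Preadditive C] {D : Type*} [Category D]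

lemma splits_of_fullyFaithful (F : C ⥤ D) [F.Full] [F.Faithful] {X : C} (e : X ⟶ X)
    (Y₀ : C) (Y : D) (φ : F.obj Y₀ ≅ Y) (i : Y ⟶ F.obj X) (r : F.obj X ⟶ Y)
    (hir : i ≫ r = 𝟙 Y) (hri : r ≫ i = F.map e) : Splits e := by
  refine ⟨Y₀, F.preimage (φ.hom ≫ i), F.preimage (r ≫ φ.inv), ?_, ?_⟩
  · apply F.map_injective
    simp [reassoc_of% hir]
  · apply F.map_injective
    simp [hri]

end FF

section Bounded

variable {C : Type u} [Category.{v} C] [Preadditive C] [HasZeroObject C] [HasShift C ℤ]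
  [∀ n : ℤ, (shiftFunctor C n).Additive] [Pretriangulated C] [IsTriangulated C] (t : TStructure C)

lemma splits_of_heart_shift (a : ℤ) (X : C) [t.IsGE X a] [t.IsLE X a] (e : X ⟶ X)
    (he : e ≫ e = e) : Splits e := by
  have hX : t.heart (X⟦a⟧) := by
    rw [t.mem_heart_iff]
    exact ⟨t.isLE_shift X a a 0, t.isGE_shift X a a 0⟩
  letI : t.Heart t.heart.FullSubcategory := t.hasHeartFullSubcategory
  letI : Abelian t.heart.FullSubcategory := THeart.abelian t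
  let X' : t.heart.FullSubcategory := ⟨X⟦a⟧, hX⟩
  let e' : X' ⟶ X' := ObjectProperty.homMk (e⟦a⟧')
  have he' : e' ≫ e' = e' := by
    ext
    change e⟦a⟧' ≫ e⟦a⟧' = e⟦a⟧'
    rw [← Functor.map_comp, he]
  obtain ⟨Y, i, r, hir, hri⟩ := IsIdempotentComplete.idempotents_split X' e' he'
  refine splits_of_fullyFaithful (shiftFunctor C a) e (Y.obj⟦-a⟧) Y.obj
    ((shiftEquiv C a).counitIso.app Y.obj) i.hom r.hom ?_ ?_
  · have := congrArg (fun f => f.hom) hir
    exact this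
  · have := congrArg (fun f => f.hom) hri
    exact this

lemma splits_aux (n : ℕ) : ∀ (a : ℤ) (X : C) [t.IsGE X a] [t.IsLE X (a + n)] (e : X ⟶ X),
    e ≫ e = e → Splits e := by
  induction n with
  | zero =>
    intro a X _ hle e he
    have : t.IsLE X a := by simpa using hle
    exact splits_of_heart_shift t a X e he
  | succ n ih =>
    intro a X hge hle e he
    have hT : (t.triangleLEGE a (a+1) rfl).obj X ∈ distTriang C :=
      t.triangleLEGE_distinguished a (a+1) rfl X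
    have hle' : t.IsLE X (a + 1 + n) := by
      have h := hle
      rw [show a + ((n + 1 : ℕ) : ℤ) = a + 1 + n by push_cast; ring] at h
      exact h
    have h1 : Splits ((t.truncLE a).map e) :=
      splits_of_heart_shift t a ((t.truncLE a).obj X) _ (by rw [← Functor.map_comp, he])
    have h3 : Splits ((t.truncGE (a + 1)).map e) :=
      ih (a+1) ((t.truncGE (a+1)).obj X) _ (by rw [← Functor.map_comp, he])
    exact splits_of_triangle _ hT ((t.triangleLEGE a (a+1) rfl).map e) he h1 h3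

theorem isIdempotentComplete (hb : ∀ X : C, t.bounded X) : IsIdempotentComplete C := by
  refine ⟨fun X p hp => ?_⟩
  obtain ⟨⟨a, ha⟩, ⟨b, hb'⟩⟩ := hb X
  have : t.IsLE X (a + ((b - a).toNat : ℤ)) := t.isLE_of_le X b _ (by omega)
  exact splits_aux t (b - a).toNat a X p hp

end Bounded

end Groth.Agent.Lib.helper17.TKaroubi
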