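import Mathlib.RingTheory.NoetherNormalization
import Mathlib.RingTheory.Ideal.GoingUp
import Mathlib.RingTheory.Spectrum.Maximal.Basic
import Mathlib.RingTheory.FiniteType
import Mathlib.Algebra.MvPolynomial.Equiv
import Mathlib.RingTheory.Nilpotent.Lemmas
import Mathlib.Data.Set.Countable

/-! Over an uncountable field `k`, a finitely generated `k`-algebra with prime nilradical has,
for any countable family of non-nilpotent elements, a maximal ideal avoiding all of them. -/

set_option autoImplicit false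

namespace Groth.Agent.Lib.helper17.UncountableCoverRing

lemma exists_forall_eval_ne_zero_poly {k : Type*} [Field k] [Uncountable k]
    (p : ℕ → Polynomial k) (hp : ∀ n, p n ≠ 0) : ∃ t : k, ∀ n, (p n).eval t ≠ 0 := by
  by_contra h
  have h' : ∀ t : k, ∃ n, (p n).eval t = 0 := by
    intro t
    by_contra h2
    exact h ⟨t, fun n hn => h2 ⟨n, hn⟩⟩
  have hcov : (Set.univ : Set k) ⊆ ⋃ n, {t : k | (p n).IsRoot t} := by
    intro t _
    obtain ⟨n, hn⟩ := h' t
    exact Set.mem_iUnion.2 ⟨n, hn⟩
  have hc : (Set.univ : Set k).Countable :=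
    (Set.countable_iUnion fun n => (Polynomial.finite_setOf_isRoot (hp n)).countable).mono hcov
  exact not_countable (Set.countable_univ_iff.1 hc)

lemma exists_forall_eval_ne_zero {k : Type*} [Field k] [Uncountable k] :
    ∀ (s : ℕ) (N : ℕ → MvPolynomial (Fin s) k), (∀ n, N n ≠ 0) →
      ∃ v : Fin s → k, ∀ n, MvPolynomial.eval v (N n) ≠ 0 := by
  intro s
  induction s with
  | zero =>
    intro N hN
    refine ⟨Fin.elim0, fun n h => hN n ?_⟩
    rw [MvPolynomial.eq_C_of_isEmpty (N n)] at h ⊢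
    rw [MvPolynomial.eval_C] at h
    rw [h, map_zero]
  | succ s ih =>
    intro N hN
    let q : ℕ → Polynomial (MvPolynomial (Fin s) k) :=
      fun n => MvPolynomial.finSuccEquiv k s (N n)
    have hq : ∀ n, q n ≠ 0 := fun n =>
      (EmbeddingLike.map_ne_zero_iff (f := MvPolynomial.finSuccEquiv k s)).2 (hN n)
    obtain ⟨w, hw⟩ := ih (fun n => (q n).leadingCoeff)
      (fun n => Polynomial.leadingCoeff_ne_zero.2 (hq n))
    let r : ℕ → Polynomial k := fun n => (q n).map (MvPolynomial.eval w)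
    have hr : ∀ n, r n ≠ 0 := by
      intro n h
      apply hw n
      have h1 := congrArg (fun f => Polynomial.coeff f (q n).natDegree) h
      simpa [r, Polynomial.coeff_map] using h1
    obtain ⟨t, ht⟩ := exists_forall_eval_ne_zero_poly r hr
    refine ⟨Fin.cons t w, fun n => ?_⟩
    rw [MvPolynomial.eval_eq_eval_mv_eval']
    exact ht n

theorem exists_maximal_of_domain {k A : Type*} [Field k] [Uncountable k] [CommRing A]
    [IsDomain A] [Algebra k A] [Algebra.FiniteType k A] (g : ℕ → A) (hg : ∀ n, g n ≠ 0) :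
    ∃ m : Ideal A, m.IsMaximal ∧ ∀ n, g n ∉ m := by
  obtain ⟨s, φ, hinj, hint⟩ := exists_integral_inj_algHom_of_fg k A
  letI : Algebra (MvPolynomial (Fin s) k) A := φ.toRingHom.toAlgebra
  haveI : Algebra.IsIntegral (MvPolynomial (Fin s) k) A := ⟨hint⟩
  have key : ∀ n, ∃ N : MvPolynomial (Fin s) k, N ≠ 0 ∧
      algebraMap (MvPolynomial (Fin s) k) A N ∈ Ideal.span {g n} := by
    intro n
    have h1 : (Ideal.span {g n}).comap (algebraMap (MvPolynomial (Fin s) k) A) ≠ ⊥ :=
      Ideal.comap_ne_bot_of_integral_mem (hg n) (Ideal.subset_span rfl)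
        (Algebra.IsIntegral.isIntegral _)
    obtain ⟨N, hN, hN0⟩ := Submodule.exists_mem_ne_zero_of_ne_bot h1
    exact ⟨N, hN0, hN⟩
  choose N hN0 hNmem using key
  obtain ⟨v, hv⟩ := exists_forall_eval_ne_zero s N hN0
  let P : Ideal (MvPolynomial (Fin s) k) := RingHom.ker (MvPolynomial.eval v)
  haveI hPmax : P.IsMaximal :=
    RingHom.ker_isMaximal_of_surjective _ (fun a => ⟨MvPolynomial.C a, by simp⟩)
  have hker : RingHom.ker (algebraMap (MvPolynomial (Fin s) k) A) ≤ P := by
    have : RingHom.ker (algebraMap (MvPolynomial (Fin s) k) A) = ⊥ :=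
      (RingHom.injective_iff_ker_eq_bot _).1 hinj
    rw [this]
    exact bot_le
  obtain ⟨Q, hQmax, hQcomap⟩ := Ideal.exists_ideal_over_maximal_of_isIntegral P hker
  refine ⟨Q, hQmax, fun n hn => hv n ?_⟩
  have h1 : Ideal.span {g n} ≤ Q := (Ideal.span_singleton_le_iff_mem _).2 hn
  have h2 : N n ∈ Q.comap (algebraMap (MvPolynomial (Fin s) k) A) := h1 (hNmem n)
  rw [hQcomap] at h2
  exact h2

theorem exists_maximal {k A : Type*} [Field k] [Uncountable k] [CommRing A]
    [Algebra k A] [Algebra.FiniteType k A] (hnil : (nilradical A).IsPrime)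
    (g : ℕ → A) (hg : ∀ n, ¬ IsNilpotent (g n)) :
    ∃ m : Ideal A, m.IsMaximal ∧ ∀ n, g n ∉ m := by
  haveI := hnil
  haveI : Algebra.FiniteType k (A ⧸ nilradical A) :=
    Algebra.FiniteType.of_surjective (Ideal.Quotient.mkₐ k (nilradical A))
      (Ideal.Quotient.mkₐ_surjective k (nilradical A))
  obtain ⟨M, hMmax, hM⟩ := exists_maximal_of_domain (k := k)
    (fun n => Ideal.Quotient.mk (nilradical A) (g n))
    (fun n h => hg n ((mem_nilradical).1 (Ideal.Quotient.eq_zero_iff_mem.1 h)))
  refine ⟨M.comap (Ideal.Quotient.mk (nilradical A)),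
    @Ideal.comap_isMaximal_of_surjective _ _ _ _ _ _ _ (Ideal.Quotient.mk (nilradical A))
      Ideal.Quotient.mk_surjective M hMmax, fun n hn => hM n hn⟩

end Groth.Agent.Lib.helper17.UncountableCoverRing
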