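import Mathlib.AlgebraicGeometry.Morphisms.FiniteType
import Mathlib.AlgebraicGeometry.AffineScheme
import Mathlib.Topology.JacobsonSpace
import Groth.Agent.Lib.helper17.UncountableCoverRing

/-! Closed points of an irreducible scheme locally of finite type over an uncountable field
are not covered by countably many proper closed subsets. -/

set_option autoImplicit false

open AlgebraicGeometry CategoryTheory TopologicalSpace

namespace Groth.Agent.Lib.helper17.UncountableCover

universe u

theorem main (k : Type u) [Field k] [Uncountable k]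
    (X : Scheme.{u}) (sX : X ⟶ Spec (CommRingCat.of k)) [IrreducibleSpace X]
    [LocallyOfFiniteType sX]
    (Z : ℕ → TopologicalSpace.Closeds X) (hZ : ∀ n, (Z n : Set X) ≠ Set.univ) :
    ∃ x : X, IsClosed ({x} : Set X) ∧ ∀ n, x ∉ Z n := by
  haveI : JacobsonSpace X := LocallyOfFiniteType.jacobsonSpace sX
  obtain ⟨x0⟩ : Nonempty X := inferInstance
  obtain ⟨_, ⟨(U : X.Opens), (hU : IsAffineOpen U), rfl⟩, hx0U, -⟩ :=
    X.isBasis_affineOpens.exists_subset_of_mem_open (Set.mem_univ x0) isOpen_univ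
  have hι : Topology.IsOpenEmbedding hU.fromSpec.base := hU.fromSpec.isOpenEmbedding
  have hrange : Set.range hU.fromSpec.base = (U : Set X) := hU.range_fromSpec
  -- algebra structure
  let ψ : k →+* Γ(X, U) :=
    (sX.appLE ⊤ U le_top).hom.comp (Scheme.ΓSpecIso (CommRingCat.of k)).inv.hom
  letI : Algebra k Γ(X, U) := ψ.toAlgebra
  haveI : Algebra.FiniteType k Γ(X, U) := by
    have h1 : (sX.appLE ⊤ U le_top).hom.FiniteType :=
      sX.finiteType_appLE (isAffineOpen_top _) hU _
    exact h1.comp (RingHom.FiniteType.of_surjective _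
      (ConcreteCategory.bijective_of_isIso (Scheme.ΓSpecIso (CommRingCat.of k)).inv).surjective)
  -- irreducibility
  have hUdense : Dense (U : Set X) := U.2.dense ⟨x0, hx0U⟩
  have hne : (Set.univ : Set (PrimeSpectrum Γ(X, U))).Nonempty := by
    have : x0 ∈ Set.range hU.fromSpec.base := hrange ▸ hx0U
    obtain ⟨y, -⟩ := this
    exact ⟨y, trivial⟩
  have hpre : IsPreirreducible (Set.univ : Set (PrimeSpectrum Γ(X, U))) := by
    have := (IrreducibleSpace.isIrreducible_univ X).isPreirreducible.preimage hι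
    rwa [Set.preimage_univ] at this
  have hnil : (nilradical Γ(X, U)).IsPrime := by
    have := (PrimeSpectrum.isIrreducible_iff_vanishingIdeal_isPrime
      (s := (Set.univ : Set (PrimeSpectrum Γ(X, U))))).1 ⟨hne, hpre⟩
    rwa [PrimeSpectrum.vanishingIdeal_univ] at this
  -- closed subsets
  let C : ℕ → Set (PrimeSpectrum Γ(X, U)) := fun n => hU.fromSpec.base ⁻¹' (Z n : Set X)
  have hCclosed : ∀ n, IsClosed (C n) := fun n => (Z n).2.preimage hι.continuous
  have hCne : ∀ n, C n ≠ Set.univ := by
    intro n h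
    apply hZ n
    have h1 : (U : Set X) ⊆ (Z n : Set X) := by
      rw [← hrange]
      rintro _ ⟨y, rfl⟩
      have : y ∈ C n := h ▸ trivial
      exact this
    have h2 : closure (U : Set X) ⊆ (Z n : Set X) := (Z n).2.closure_subset_iff.2 h1
    rw [hUdense.closure_eq] at h2
    exact Set.eq_univ_of_univ_subset h2
  have hg : ∀ n, ∃ g : Γ(X, U), g ∈ PrimeSpectrum.vanishingIdeal (C n) ∧ ¬ IsNilpotent g := by
    intro n
    by_contra h
    apply hCne n
    have hle : PrimeSpectrum.vanishingIdeal (C n) ≤ nilradical Γ(X, U) := by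
      intro g hg
      by_contra h2
      exact h ⟨g, hg, fun h3 => h2 (mem_nilradical.2 h3)⟩
    have h1 : PrimeSpectrum.zeroLocus (nilradical Γ(X, U) : Set Γ(X, U)) ⊆
        PrimeSpectrum.zeroLocus (PrimeSpectrum.vanishingIdeal (C n) : Set Γ(X, U)) :=
      PrimeSpectrum.zeroLocus_anti_mono_ideal hle
    rw [PrimeSpectrum.zeroLocus_vanishingIdeal_eq_closure, (hCclosed n).closure_eq] at h1
    apply Set.eq_univ_of_univ_subset
    intro y _
    apply h1
    intro f hf
    exact nilradical_le_prime y.asIdeal hf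
  choose g hgmem hgnil using hg
  obtain ⟨m, hmmax, hm⟩ := UncountableCoverRing.exists_maximal (k := k) hnil g hgnil
  let y : PrimeSpectrum Γ(X, U) := ⟨m, hmmax.isPrime⟩
  have hy : IsClosed ({y} : Set (PrimeSpectrum Γ(X, U))) :=
    (PrimeSpectrum.isClosed_singleton_iff_isMaximal y).2 hmmax
  refine ⟨hU.fromSpec.base y, ?_, fun n hn => hm n ?_⟩
  · have h1 : y ∈ hU.fromSpec.base ⁻¹' closedPoints X := by
      rw [hι.preimage_closedPoints]
      exact hy
    exact h1
  · have h1 : y ∈ C n := hn
    exact (PrimeSpectrum.mem_vanishingIdeal _ _).1 (hgmem n) y h1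

end Groth.Agent.Lib.helper17.UncountableCover

namespace Groth.Agent.Lib.helper17.UncountableCover

universe u

theorem dense_main (k : Type u) [Field k] [Uncountable k]
    (V : Scheme.{u}) (sV : V ⟶ Spec (CommRingCat.of k)) [IrreducibleSpace V]
    [LocallyOfFiniteType sV] (Z : ℕ → TopologicalSpace.Closeds V)
    (hZ : ∀ n, (Z n : Set V) ≠ Set.univ) :
    Dense {x : V | IsClosed ({x} : Set V) ∧ ∀ n, x ∉ Z n} := by
  rw [dense_iff_inter_open]
  intro W hW hWne
  let Z' : ℕ → TopologicalSpace.Closeds V := fun n =>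
    Nat.casesOn n ⟨Wᶜ, hW.isClosed_compl⟩ (fun m => Z m)
  have hZ' : ∀ n, SetLike.coe (Z' n) ≠ (Set.univ : Set V) := by
    intro n
    cases n with
    | zero =>
      change Wᶜ ≠ Set.univ
      intro h
      obtain ⟨w, hw⟩ := hWne
      have : w ∈ Wᶜ := h ▸ Set.mem_univ w
      exact this hw
    | succ m => exact hZ m
  obtain ⟨x, hxc, hx⟩ := main k V sV Z' hZ'
  refine ⟨x, ?_, hxc, fun n => hx (n + 1)⟩
  have h0 : x ∉ Z' 0 := hx 0
  have h1 : x ∉ Wᶜ := h0
  by_contra h2
  exact h1 h2

end Groth.Agent.Lib.helper17.UncountableCover
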