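import Mathlib
import Groth.Agent.Lib.helper17.PolyTD
import Groth.Agent.Lib.helper2.ExactHomology

/-!
# Tor amplitude along flat ring maps which reflect flatness of modules (e.g. weakly étale maps)
-/

set_option autoImplicit false

namespace Groth.Agent.Lib.helper17.WETorAmp

open CategoryTheory CategoryTheory.Limits DerivedCategory TensorProduct
open Groth.Agent.Lib.helper17 Groth.Agent.Lib.helper17.DRingRes
open Groth.Agent.Lib.helper17.DRingTA Groth.Agent.Lib.helper17.DRingTor
open Groth.Agent.Lib.helper17.PolyTD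

attribute [local instance] HasDerivedCategory.standard

universe u

variable {A B : Type u} [CommRing A] [CommRing B]

theorem torAmp_resD_iff (φ : A →+* B) (hφ : φ.Flat)
    (H : ∀ M : ModuleCat.{u} B, Module.Flat A ((resF φ).obj M) → Module.Flat B M)
    (K : DerivedCategory (ModuleCat.{u} B)) (a b : ℤ) :
    DRing.HasTorAmplitudeIn A a b ((resD φ).obj K) ↔ DRing.HasTorAmplitudeIn B a b K := by
  refine ⟨fun h => ?_, fun h => torAmp_resD_of_flat φ hφ h⟩
  have hb : ∀ i : ℤ, b < i → IsZero ((DerivedCategory.homologyFunctor _ i).obj K) := by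
    intro i hi
    apply isZero_of_isZero_resF φ
    exact (isZero_homology_of_torAmp h i (Or.inr hi)).of_iso
      (Groth.Agent.Lib.helper2.ExactHomology.homologyIso (resF φ) K i).symm
  obtain ⟨P, ⟨⟨bP, hbP⟩, hPfr⟩, ⟨eP⟩⟩ := exists_free_resolution B K b hb
  have hPfl : ∀ i, Fl B (P.X i) := fun i => Fr_le_Fl B _ (hPfr i)
  have h' : DRing.HasTorAmplitudeIn A a b (Q.obj ((resC φ).obj P)) :=
    torAmp_of_iso h ((resD φ).mapIso eP.symm ≪≫ resDQ φ P)
  obtain ⟨hz, hop⟩ := (torAmp_iff ((resC φ).obj P) bP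
    (fun i hi => (resF φ).map_isZero (hbP i hi))
    (fun i => flat_restrictScalars φ hφ (P.X i) (hPfl i)) a b).1 h'
  refine torAmp_of_iso ((torAmp_iff P bP hbP hPfl a b).2 ⟨fun i hi => ?_, ?_⟩) eP
  · apply isZero_of_isZero_resF φ
    exact (hz i hi).of_iso (resC_homologyIso φ P i).symm
  · apply H
    exact (Fl A).prop_of_iso ((P.sc a).mapOpcyclesIso (resF φ)) hop

end Groth.Agent.Lib.helper17.WETorAmp
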